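import Cfsg.Agent.Lib.Components.FFPlane

/-!
# The group `[Q,A]A` of a minimal offender
-/

set_option autoImplicit false
set_option linter.unusedSectionVars false
set_option linter.style.haveILetI false

namespace Cfsg.Agent.Components

open scoped commutatorElement MatrixGroups
open Subgroup Cfsg Cfsg.Agent.Transfer Matrix

variable {G : Type*} [Group G] [Finite G] {p : ℕ} [hp : Fact p.Prime]

theorem card_sl2_zmod : Nat.card SL(2, ZMod p) = p * (p * p - 1) := by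
  rw [InvChar.card_sl2, ZMod.card]

namespace FFT

variable {V H Q : Subgroup G} {a : G}

theorem of_minimal (h : FFSetup p V H Q) {A : Subgroup G} (hAH : A ≤ H)
    (hA : IsBestOffenderOn p V A) (hAV : ⁅V, A⁆ ≠ ⊥)
    (hmin : ∀ B : Subgroup G, B ≤ A → IsBestOffenderOn p V B → ⁅V, B⁆ ≠ ⊥ → B = A) :
    ∃ a : G, A = zpowers a ∧ FFT p V H a := by
  have hc := h.card_eq_p_of_minimal hAH hA hAV hmin
  obtain ⟨a, ha, ha1, rfl⟩ := exists_eq_zpowers_of_card_eq_prime hc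
  exact ⟨a, rfl, hAH ha, (h.ea_of_isBestOffenderOn hAH hA).2 a ha, ha1,
    ⟨h.le (hAH ha), hA.2.2 a ha, h.relIndex_fixed_of_card_eq_p hc (h.offMeasure_eq_card hAH hA)⟩⟩

theorem exists_not_commute (h : FFSetup p V H Q) (ha : FFT p V H a) :
    ∃ x ∈ Q, ¬ Commute x a := by
  by_contra hne
  push Not at hne
  have h1 : a ∈ Q := h.Qself ⟨ha.mem, fun x hx => hne x hx⟩
  have h2 := orderOf_dvd_natCard (⟨a, h1⟩ : Q)
  rw [← Subgroup.orderOf_coe, ha.order_eq] at h2
  exact hp.out.ne_one (Nat.Coprime.eq_one_of_dvd h.Qcop.symm h2)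

theorem conj_mem_plane (h : FFSetup p V H Q) (ha : FFT p V H a) {L : Subgroup G} {e₁ e₂ : G}
    (P : SLPlane p V H Q a L e₁ e₂) {y : G} (hy : y ∈ Q) : y * a * y⁻¹ ∈ L := by
  by_cases hya : Commute y a
  · rw [hya.eq, mul_inv_cancel_right]; exact P.mem_a
  have hyH := h.Qle hy
  set c := y * a * y⁻¹ with hcdef
  have hc : FFT p V H c := ha.conj h.le hyH
  have hQn : a ∈ normalizer (Q : Set G) := h.Qnorm ha.mem
  have hdQ : c * a⁻¹ ∈ Q := by
    have e : c * a⁻¹ = y * (a * y⁻¹ * a⁻¹) := by rw [hcdef]; group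
    rw [e]
    exact mul_mem hy ((Basics.conj_mem_iff_of_mem_normalizer hQn).mpr (inv_mem hy))
  set z := y * e₁ * y⁻¹ with hz
  have hzc : ⁅V, zpowers c⁆ = zpowers z := by
    rw [hcdef, conj_center y (h.le hyH), P.center, MonoidHom.map_zpowers]
    rfl
  have hzC : z ∉ fixOf V a := by
    intro hm
    refine not_le_fixed h ha hc (mul_mem (subset_closure (Set.mem_insert_of_mem _ rfl))
      (inv_mem (subset_closure (Set.mem_insert _ _)))) hdQ (fun e => hya ?_)
      (hzc.le.trans (Subgroup.zpowers_le.mpr hm))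
    exact mul_inv_eq_iff_eq_mul.mp (mul_inv_eq_one.mp e)
  have hWV : zpowers e₁ ⊔ zpowers e₂ ≤ V := by
    rw [← P.comm]
    exact le_normalizer_iff_commutator_le_left.mp (P.leH.trans h.le)
  have hzV : z ∈ V := hc.tr.commutator_le (hzc.ge (mem_zpowers z))
  obtain ⟨w0, hw0, c0, hc0, he⟩ := (Basics.mem_sup_of_le_normalizer
    (inf_le_left.trans (ea_le_normalizer h.ea hWV))).mp (P.sup_top.ge hzV)
  have hw01 : w0 ≠ 1 := fun e => hzC (by
    rw [he, e, one_mul]
    exact IsTransv.mem_fixed hc0.1 (hc0.2 a P.mem_a))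
  obtain ⟨g, hg, hge⟩ := P.trans w0 hw0 hw01
  set t := g * a * g⁻¹ with htdef
  have ht : FFT p V H t := ha.conj h.le (P.leH hg)
  have htL : t ∈ L := mul_mem (mul_mem hg P.mem_a) (inv_mem hg)
  have htc : ⁅V, zpowers t⁆ = zpowers w0 := by
    rw [htdef, conj_center g (h.le (P.leH hg)), P.center, MonoidHom.map_zpowers, ← hge]
    rfl
  have hle : ⁅V, zpowers c⁆ ≤ fixOf V t := by
    rw [hzc, Subgroup.zpowers_le, he]
    exact mul_mem (ht.tr.commutator_le_fixed h.ea (htc.ge (mem_zpowers w0)))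
      (IsTransv.mem_fixed hc0.1 (hc0.2 t htL))
  have haQ : zpowers a ≤ normalizer (Q : Set G) := Subgroup.zpowers_le.mpr hQn
  obtain ⟨q, hq, s, hs, hgqs⟩ := (Basics.mem_sup_of_le_normalizer haQ).mp (P.le_sup hg)
  have htQ : t * a⁻¹ ∈ Q := by
    obtain ⟨i, rfl⟩ := mem_zpowers_iff.mp hs
    have e : t * a⁻¹ = q * (a * q⁻¹ * a⁻¹) := by rw [htdef, hgqs]; group
    rw [e]
    exact mul_mem hq ((Basics.conj_mem_iff_of_mem_normalizer hQn).mpr (inv_mem hq))
  have hQ : c * t⁻¹ ∈ Q := by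
    have e : c * t⁻¹ = (c * a⁻¹) * (t * a⁻¹)⁻¹ := by group
    rw [e]
    exact mul_mem hdQ (inv_mem htQ)
  exact eq_of_center_le h ht hc hQ hle ▸ htL

theorem closure_pair_eq (h : FFSetup p V H Q) (ha : FFT p V H a) {x : G} (hx : x ∈ Q)
    (hxa : ¬ Commute x a) :
    closure ({a, x * a * x⁻¹} : Set G) = ⁅Q, zpowers a⁆ ⊔ zpowers a := by
  obtain ⟨e₁, e₂, P⟩ := ha.pair_plane h hx hxa
  apply le_antisymm
  · rw [closure_le]
    rintro z (rfl | rfl)
    · exact mem_sup_right (mem_zpowers _)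
    · have e : x * a * x⁻¹ = ⁅x, a⁆ * a := by rw [commutatorElement_def]; group
      rw [SetLike.mem_coe, e]
      exact mul_mem (mem_sup_left (commutator_mem_commutator hx (mem_zpowers a)))
        (mem_sup_right (mem_zpowers a))
  · refine sup_le ?_ (Subgroup.zpowers_le.mpr P.mem_a)
    rw [Subgroup.commutator_le]
    intro y hy b hb
    obtain ⟨i, rfl⟩ := mem_zpowers_iff.mp hb
    have e : ⁅y, a ^ i⁆ = (y * a * y⁻¹) ^ i * (a ^ i)⁻¹ := by
      rw [conj_zpow, commutatorElement_def]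
    rw [e]
    exact mul_mem (zpow_mem (ha.conj_mem_plane h P hy) i) (inv_mem (zpow_mem P.mem_a i))

theorem exists_plane (h : FFSetup p V H Q) (ha : FFT p V H a) :
    ∃ e₁ e₂, SLPlane p V H Q a (⁅Q, zpowers a⁆ ⊔ zpowers a) e₁ e₂ ∧
      Nat.card ↥⁅Q, zpowers a⁆ = p * p - 1 := by
  obtain ⟨x, hx, hxa⟩ := ha.exists_not_commute h
  obtain ⟨e₁, e₂, P⟩ := ha.pair_plane h hx hxa
  rw [ha.closure_pair_eq h hx hxa] at P
  refine ⟨e₁, e₂, P, ?_⟩
  obtain ⟨ψ, hψ, -⟩ := P.hom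
  have hA : zpowers a ≤ normalizer ((⁅Q, zpowers a⁆ : Subgroup G) : Set G) := normalizer_commutator_ge_right _ _
  have hDQ : ⁅Q, zpowers a⁆ ≤ Q :=
    le_normalizer_iff_commutator_le_left.mp (Subgroup.zpowers_le.mpr (h.Qnorm ha.mem))
  have hinf : ⁅Q, zpowers a⁆ ⊓ zpowers a = ⊥ := by
    refine le_bot_iff.mp ?_
    rw [← eq_bot_of_coprime_isPGroup (A := zpowers a) (ea_isPGroup (ea_zpowers ha.pow_eq)) h.Qcop,
      inf_comm]
    exact inf_le_inf_left _ hDQ
  have h1 := Basics.card_mul_card_eq_card_sup_mul_card_inf hA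
  rw [hinf, card_bot, mul_one, Nat.card_congr (Equiv.ofBijective ψ hψ), card_sl2_zmod,
    Nat.card_zpowers, ha.order_eq, mul_comm] at h1
  exact Nat.eq_of_mul_eq_mul_left hp.out.pos h1

end FFT

end Cfsg.Agent.Components
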