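import Cfsg.Agent.Lib.Components.FFModule
import Cfsg.Agent.Lib.Basics.Cores

/-!
# `Ω₁` of the centres of the Sylow subgroups
-/

set_option autoImplicit false
set_option linter.unusedSectionVars false

namespace Cfsg.Agent.Components

open Subgroup Cfsg Cfsg.Agent.Transfer

variable {G : Type*} [Group G] {p : ℕ}

/-- `Ω₁(Z(S))`. -/
abbrev omegaZ (p : ℕ) (S : Subgroup G) : Subgroup G :=
  omegaOne p (S ⊓ centralizer (S : Set G))

theorem omegaZ_le (S : Subgroup G) : omegaZ p S ≤ S ⊓ centralizer (S : Set G) :=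
  (closure_le _).mpr fun _ hx => hx.1

theorem omegaZ_ea (S : Subgroup G) : IsElementaryAbelian p (omegaZ p S) := by
  have hc : ∀ x ∈ omegaZ p S, ∀ y ∈ omegaZ p S, Commute x y := fun x hx y hy =>
    ((omegaZ_le S hy).2 x (omegaZ_le S hx).1)
  refine ⟨⟨⟨fun x y => Subtype.ext (hc _ x.2 _ y.2).eq⟩⟩, fun x hx => ?_⟩
  induction hx using closure_induction with
  | mem x hx => exact hx.2
  | one => rw [one_pow]
  | mul x y hx hy hx' hy' => rw [(hc x hx y hy).mul_pow, hx', hy', one_mul]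
  | inv x hx hx' => rw [inv_pow, hx', inv_one]

theorem map_omegaZ {H : Type*} [Group H] (f : G →* H) (S : Subgroup G)
    (hf : Set.InjOn f (S : Set G)) : (omegaZ p S).map f = omegaZ p (S.map f) := by
  rw [omegaZ, omegaOne, MonoidHom.map_closure, omegaZ, omegaOne]
  congr 1
  ext y
  constructor
  · rintro ⟨x, ⟨⟨hxS, hxC⟩, hxp⟩, rfl⟩
    refine ⟨⟨mem_map_of_mem f hxS, ?_⟩, by rw [← map_pow, hxp, map_one]⟩
    rintro _ ⟨z, hz, rfl⟩
    rw [← map_mul, ← map_mul, hxC z hz]
  · rintro ⟨⟨⟨x, hxS, rfl⟩, hxC⟩, hxp⟩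
    refine ⟨x, ⟨⟨hxS, fun z hz => ?_⟩, ?_⟩, rfl⟩
    · refine hf (mul_mem hz hxS) (mul_mem hxS hz) ?_
      rw [map_mul, map_mul]
      exact hxC (f z) (mem_map_of_mem f hz)
    · refine hf (pow_mem hxS _) (one_mem _) ?_
      rw [map_pow, hxp, map_one]

variable [Finite G] [hp : Fact p.Prime]

/-- The subgroup generated by all `Ω₁(Z(S))`. -/
abbrev omegaJoin (p : ℕ) (G : Type*) [Group G] : Subgroup G :=
  ⨆ S : Sylow p G, omegaZ p (S : Subgroup G)

theorem map_conj_omegaJoin (g : G) :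
    (omegaJoin p G).map (MulAut.conj g).toMonoidHom = omegaJoin p G := by
  have h : ∀ g : G, (omegaJoin p G).map (MulAut.conj g).toMonoidHom ≤ omegaJoin p G := by
    intro g
    rw [omegaJoin, Subgroup.map_iSup]
    refine iSup_le fun S => ?_
    rw [map_omegaZ _ _ (MulAut.conj g).injective.injOn]
    exact le_iSup_of_le (g • S) le_rfl
  refine le_antisymm (h g) fun x hx => ?_
  exact ⟨g⁻¹ * x * g⁻¹⁻¹, h g⁻¹ ⟨x, hx, rfl⟩, by simp [mul_assoc]⟩

theorem omegaJoin_normal : (omegaJoin p G).Normal :=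
  ⟨fun x hx g => (map_conj_omegaJoin g).le ⟨x, hx, rfl⟩⟩

/-- The intersection of a Sylow subgroup with a normal subgroup is one of its Sylow subgroups. -/
theorem exists_sylow_inf_of_normal (S : Sylow p G) (C : Subgroup G) [C.Normal] :
    ∃ T : Sylow p ↥C, (T : Subgroup C).map C.subtype = C ⊓ (S : Subgroup G) := by
  set T0 : Subgroup C := (S : Subgroup G).subgroupOf C
  have hmap : T0.map C.subtype = C ⊓ (S : Subgroup G) := by
    rw [inf_comm]; exact subgroupOf_map_subtype _ _
  have hidx : ¬ p ∣ T0.index := by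
    refine fun h => S.not_dvd_index (h.trans ?_)
    have e1 := Basics.card_mul_card_eq_card_sup_mul_card_inf (N := C) (H := (S : Subgroup G))
      (fun x _ => by rw [normalizer_eq_top]; trivial)
    have e2 : Nat.card ↥(C ⊓ (S : Subgroup G) : Subgroup G) * T0.index = Nat.card C := by
      rw [← hmap, card_map_of_injective C.subtype_injective]
      exact card_mul_index T0
    have e3 := card_mul_index (C ⊔ (S : Subgroup G))
    have e4 := card_mul_index (S : Subgroup G)
    refine ⟨(C ⊔ (S : Subgroup G)).index, ?_⟩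
    refine Nat.eq_of_mul_eq_mul_left (card_pos' (S : Subgroup G)) ?_
    refine Nat.eq_of_mul_eq_mul_left (card_pos' (C ⊓ (S : Subgroup G))) ?_
    calc Nat.card ↥(C ⊓ (S : Subgroup G) : Subgroup G) * (Nat.card (S : Subgroup G) * (S : Subgroup G).index)
        = Nat.card ↥(C ⊓ (S : Subgroup G) : Subgroup G) *
          (Nat.card ↥(C ⊔ (S : Subgroup G) : Subgroup G) * (C ⊔ (S : Subgroup G)).index) := by rw [e3, e4]
      _ = (Nat.card C * Nat.card (S : Subgroup G)) * (C ⊔ (S : Subgroup G)).index := by rw [e1]; ring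
      _ = _ := by rw [← e2]; ring
  exact ⟨(S.isPGroup'.comap_subtype).toSylow hidx, hmap⟩

end Cfsg.Agent.Components
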