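import Cfsg.Agent.Lib.Components.PTimesQ

/-!
# p-local subgroups and quotients by normal subgroups of order prime to p
-/

set_option autoImplicit false
set_option linter.unusedSectionVars false
set_option linter.style.haveILetI false

namespace Cfsg.Agent.Components

open scoped commutatorElement
open Subgroup Cfsg

variable {G : Type*} [Group G] [Finite G] {p : ℕ} [hp : Fact p.Prime]
  {N : Subgroup G} [N.Normal]

theorem inf_eq_bot_of_coprime_isPGroup (hN : (Nat.card N).Coprime p) {P : Subgroup G}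
    (hP : IsPGroup p ↥P) : N ⊓ P = ⊥ := by
  refine eq_bot_of_card_eq _ (Nat.dvd_one.mp ?_)
  obtain ⟨k, hk⟩ := hP.exists_card_eq
  have h2 : Nat.card (N ⊓ P : Subgroup G) ∣ Nat.gcd (Nat.card N) (p ^ k) :=
    Nat.dvd_gcd (card_dvd_of_le inf_le_left) (hk ▸ card_dvd_of_le inf_le_right)
  rwa [Nat.Coprime.pow_right k hN] at h2

theorem map_normalizer_of_coprime (hN : (Nat.card N).Coprime p) {P : Subgroup G}
    (hP : IsPGroup p ↥P) :
    (normalizer (P : Set G)).map (QuotientGroup.mk' N) =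
      normalizer ((P.map (QuotientGroup.mk' N) : Subgroup (G ⧸ N)) : Set (G ⧸ N)) := by
  set π := QuotientGroup.mk' N
  refine le_antisymm (le_normalizer_map π) ?_
  intro y hy
  obtain ⟨g, rfl⟩ := QuotientGroup.mk'_surjective N y
  set M := P ⊔ N
  have hM : (P.map π).comap π = M := by rw [comap_map_eq, QuotientGroup.ker_mk']
  set K := P.map (MulAut.conj g).toMonoidHom
  have hPM : P ≤ M := le_sup_left
  have hKM : K ≤ M := by
    rintro _ ⟨x, hx, rfl⟩
    rw [← hM, mem_comap]
    simp only [MulEquiv.coe_toMonoidHom, MulAut.conj_apply, map_mul, map_inv]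
    exact (mem_normalizer_iff.mp hy _).mp (mem_map_of_mem π hx)
  have hidx : ¬ p ∣ P.relIndex M := fun h =>
    hp.out.coprime_iff_not_dvd.mp hN.symm (h.trans (relIndex_self_sup_dvd P N))
  let S : Sylow p ↥M := IsPGroup.toSylow (P := P.subgroupOf M)
    (hP.comap_of_injective M.subtype M.subtype_injective) hidx
  have hKp : IsPGroup p ↥(K.subgroupOf M) :=
    (hP.map _).comap_of_injective M.subtype M.subtype_injective
  obtain ⟨T, hT⟩ := hKp.exists_le_sylow
  obtain ⟨m, hm⟩ := MulAction.exists_smul_eq ↥M S T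
  have hmem : (m : G)⁻¹ * g ∈ normalizer (P : Set G) := by
    apply mem_normalizer_of_map_conj_eq
    refine eq_of_le_of_card_ge ?_ (card_map_of_injective (MulAut.conj ((m : G)⁻¹ * g)).injective).ge
    rintro _ ⟨x, hx, rfl⟩
    have h1 : (⟨g * x * g⁻¹, hKM ⟨x, hx, by simp⟩⟩ : ↥M) ∈ ((m • S : Sylow p ↥M) : Subgroup ↥M) := by
      rw [hm]
      exact hT ⟨x, hx, by simp⟩
    rw [Sylow.coe_subgroup_smul, Subgroup.mem_pointwise_smul_iff_inv_smul_mem] at h1
    have h2 : (m : G)⁻¹ * (g * x * g⁻¹) * (m : G) ∈ P := by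
      simp at h1
      exact h1
    simpa [mul_assoc] using h2
  have hm' : π (m : G) ∈ P.map π := by
    rw [← mem_comap, hM]
    exact m.2
  obtain ⟨x, hx, hxe⟩ := hm'
  refine ⟨x * ((m : G)⁻¹ * g), mul_mem (le_normalizer hx) hmem, ?_⟩
  rw [map_mul, hxe, map_mul, map_inv, mul_inv_cancel_left]

theorem map_centralizer_of_coprime (hN : (Nat.card N).Coprime p) {P : Subgroup G}
    (hP : IsPGroup p ↥P) :
    (centralizer (P : Set G)).map (QuotientGroup.mk' N) =
      centralizer ((P.map (QuotientGroup.mk' N) : Subgroup (G ⧸ N)) : Set (G ⧸ N)) := by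
  set π := QuotientGroup.mk' N
  apply le_antisymm
  · rintro _ ⟨g, hg, rfl⟩
    rw [mem_centralizer_iff]
    rintro _ ⟨x, hx, rfl⟩
    rw [← map_mul, ← map_mul, mem_centralizer_iff.mp hg x hx]
  · intro y hy
    have hy' := centralizer_le_normalizer _ hy
    rw [← map_normalizer_of_coprime hN hP] at hy'
    obtain ⟨g, hg, rfl⟩ := hy'
    refine ⟨g, mem_centralizer_iff.mpr fun x hx => ?_, rfl⟩
    have h1 : g * x * g⁻¹ * x⁻¹ ∈ N ⊓ P := by
      refine mem_inf.mpr ⟨?_, P.mul_mem ((mem_normalizer_iff.mp hg x).mp hx) (P.inv_mem hx)⟩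
      rw [← QuotientGroup.eq_one_iff (N := N)]
      change π _ = 1
      have h0 : π x * π g = π g * π x := mem_centralizer_iff.mp hy (π x) (mem_map_of_mem π hx)
      rw [map_mul, map_mul, map_mul, map_inv, map_inv, ← h0]
      group
    rw [inf_eq_bot_of_coprime_isPGroup hN hP, mem_bot, mul_inv_eq_one, mul_inv_eq_iff_eq_mul] at h1
    exact h1.symm

/-- For a p-constrained group, p-local subgroups have trivial p-layer and their `O_{p'}` lies in
`O_{p'}(G)`. -/
theorem pLocal_of_pLayer_eq_bot (hL : Cfsg.pLayer p G = ⊥) {P : Subgroup G} (hP : IsPGroup p ↥P) :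
    Cfsg.pLayer p ↥(normalizer (P : Set G)) = ⊥ ∧
      (Cfsg.pPrimeCore p ↥(normalizer (P : Set G))).map (normalizer (P : Set G)).subtype ≤
        Cfsg.pPrimeCore p G := by
  set O := Cfsg.pPrimeCore p G with hO
  set π := QuotientGroup.mk' O
  set H := normalizer (P : Set G)
  set H' := normalizer ((P.map π : Subgroup (G ⧸ O)) : Set (G ⧸ O)) with hH'
  have hQ : centralizer (Cfsg.pCore p (G ⧸ O) : Set (G ⧸ O)) ≤ Cfsg.pCore p (G ⧸ O) :=
    isPConstrained_iff.mp (isPConstrained_iff_pLayer_eq_bot.mpr hL)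
  have hH'P : centralizer (Cfsg.pCore p ↥H' : Set ↥H') ≤ Cfsg.pCore p ↥H' := by
    refine charP_normalizer_of_charP (M := ⊤) (hP.map π) le_top le_top ?_
    intro x hx
    have h1 : (x : G ⧸ O) ∈ Cfsg.pCore p (G ⧸ O) := by
      refine hQ (mem_centralizer_iff.mpr fun y hy => ?_)
      have hmem : (⟨y, mem_top y⟩ : (⊤ : Subgroup (G ⧸ O))) ∈ Cfsg.pCore p ↥(⊤ : Subgroup (G ⧸ O)) := by
        have := map_pCore_equiv (p := p) (topEquiv (G := G ⧸ O)).symm
        rw [← this]
        exact ⟨y, hy, rfl⟩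
      exact congrArg Subtype.val (mem_centralizer_iff.mp hx _ hmem)
    have := map_pCore_equiv (p := p) (topEquiv (G := G ⧸ O)).symm
    rw [← this]
    exact ⟨_, h1, rfl⟩
  obtain ⟨hE', hO'⟩ := charP_iff_layer_and_core.mp hH'P
  have hmap : H.map π = H' := map_normalizer_of_coprime pPrimeCore_coprime hP
  let f : ↥H →* ↥H' := ((MulEquiv.subgroupCongr hmap).toMonoidHom).comp (π.subgroupMap H)
  have hf : Function.Surjective f :=
    (MulEquiv.subgroupCongr hmap).surjective.comp (π.subgroupMap_surjective H)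
  have hle : (Cfsg.pPrimeCore p ↥H).map H.subtype ≤ O := by
    have h1 : (Cfsg.pPrimeCore p ↥H).map f ≤ Cfsg.pPrimeCore p ↥H' :=
      le_pPrimeCore ((inferInstance : (Cfsg.pPrimeCore p ↥H).Normal).map f hf)
        (pPrimeCore_coprime.coprime_dvd_left (card_map_dvd _ f))
    rw [hO', le_bot_iff, Subgroup.map_eq_bot_iff] at h1
    rintro _ ⟨x, hx, rfl⟩
    have h2 := congrArg (fun z : ↥H' => (z : G ⧸ O)) (MonoidHom.mem_ker.mp (h1 hx))
    exact (QuotientGroup.eq_one_iff _).mp h2
  refine ⟨?_, hle⟩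
  have hker : f.ker = Cfsg.pPrimeCore p ↥H := by
    apply le_antisymm
    · have : f.ker ≤ O.subgroupOf H := fun x hx =>
        (QuotientGroup.eq_one_iff (N := O) (x : G)).mp (congrArg (fun z : ↥H' => (z : G ⧸ O)) (MonoidHom.mem_ker.mp hx))
      refine this.trans (le_pPrimeCore inferInstance ?_)
      rw [← card_map_of_injective (K := O.subgroupOf H) H.subtype_injective, subgroupOf_map_subtype]
      exact pPrimeCore_coprime.coprime_dvd_left (card_dvd_of_le inf_le_left)
    · intro x hx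
      exact Subtype.ext ((QuotientGroup.eq_one_iff _).mpr (hle (mem_map_of_mem _ hx)))
  rw [pLayer_eq_bot_iff]
  have := map_layer_equiv ((QuotientGroup.quotientMulEquivOfEq hker.symm).trans
    (QuotientGroup.quotientKerEquivOfSurjective f hf))
  rw [hE', Subgroup.map_eq_bot_iff_of_injective _ (MulEquiv.injective _)] at this
  exact this

/-- If `F*(G) = O_p(G)` then every p-local subgroup has the same property. -/
theorem fStar_normalizer_eq_pCore (h : Cfsg.generalizedFittingSubgroup G = Cfsg.pCore p G)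
    {P : Subgroup G} (hP : IsPGroup p ↥P) :
    Cfsg.generalizedFittingSubgroup ↥(normalizer (P : Set G)) =
      Cfsg.pCore p ↥(normalizer (P : Set G)) := by
  refine fStar_eq_pCore_iff.mpr (charP_normalizer_of_charP (M := ⊤) hP le_top le_top ?_)
  have h' := fStar_eq_pCore_iff.mp h
  intro x hx
  have hm := map_pCore_equiv (p := p) (topEquiv (G := G)).symm
  have h1 : (x : G) ∈ Cfsg.pCore p G := by
    refine h' (mem_centralizer_iff.mpr fun y hy => ?_)
    have hmem : (⟨y, mem_top y⟩ : (⊤ : Subgroup G)) ∈ Cfsg.pCore p ↥(⊤ : Subgroup G) := by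
      rw [← hm]; exact ⟨y, hy, rfl⟩
    exact congrArg Subtype.val (mem_centralizer_iff.mp hx _ hmem)
  rw [← hm]
  exact ⟨_, h1, rfl⟩

end Cfsg.Agent.Components
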