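import Cfsg.Prelude.Def_PLocal
import Cfsg.Agent.Lib.Transfer.JSubgroup
import Cfsg.Agent.Lib.Basics.Tools
import Cfsg.Agent.Lib.Basics.CoprimeGen
import Mathlib.Tactic.Group
import Mathlib.GroupTheory.Sylow

/-!
# Offenders on elementary abelian subgroups

The measure `|B| * |C_V(B)|`, quadratic-chain lemmas and the replacement theorem of Thompson and
Timmesfeld.
-/

set_option autoImplicit false
set_option linter.unusedSectionVars false
set_option linter.style.haveILetI false

namespace Cfsg.Agent.Components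

open scoped commutatorElement
open Subgroup Cfsg Cfsg.Agent.Transfer

variable {G : Type*} [Group G] {p : ℕ}

/-- `|B| * |C_V(B)|`. -/
noncomputable def offMeasure (V B : Subgroup G) : ℕ :=
  Nat.card B * Nat.card ↥(V ⊓ centralizer (B : Set G))

theorem fixed_anti {V B B' : Subgroup G} (h : B ≤ B') :
    V ⊓ centralizer (B' : Set G) ≤ V ⊓ centralizer (B : Set G) :=
  inf_le_inf_left _ (centralizer_le h)

theorem fixed_bot (V : Subgroup G) : V ⊓ centralizer ((⊥ : Subgroup G) : Set G) = V :=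
  inf_eq_left.mpr fun v _ => by simp [mem_centralizer_iff]

theorem offMeasure_bot (V : Subgroup G) : offMeasure V ⊥ = Nat.card V := by
  rw [offMeasure, fixed_bot, card_bot, one_mul]

theorem le_centralizer_self_of_ea {V : Subgroup G} (hV : IsElementaryAbelian p V) :
    V ≤ centralizer (V : Set G) :=
  fun _ hv _ hw => ea_commute hV hw hv

/-- The commutator `[u, a]` only depends on `a` through the conjugate of `u`. -/
theorem commutatorElement_eq_mul_conj (u a : G) : ⁅u, a⁆ = u * (a * u⁻¹ * a⁻¹) := by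
  rw [commutatorElement_def]; group

theorem commutatorElement_mul_right' (u a b : G) :
    ⁅u, a * b⁆ = ⁅u, a⁆ * (a * ⁅u, b⁆ * a⁻¹) := by
  simp only [commutatorElement_def]; group

theorem commutatorElement_mul_left' (u v a : G) :
    ⁅u * v, a⁆ = u * ⁅v, a⁆ * u⁻¹ * ⁅u, a⁆ := by
  simp only [commutatorElement_def]; group

theorem commutatorElement_mem_of_mem_normalizer {V : Subgroup G} {v a : G} (hv : v ∈ V)
    (ha : a ∈ normalizer (V : Set G)) : ⁅v, a⁆ ∈ V := by
  rw [commutatorElement_eq_mul_conj]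
  exact mul_mem hv ((Basics.conj_mem_iff_of_mem_normalizer ha).mpr (inv_mem hv))

/-- An element stabilising a chain `V ≥ W ≥ 1` has its `p`-th power centralising `V`. -/
theorem pow_mem_centralizer_of_chain {V : Subgroup G} (hV : IsElementaryAbelian p V) {g : G}
    (hgV : g ∈ normalizer (V : Set G)) (h : ∀ v ∈ V, Commute g ⁅g, v⁆) :
    g ^ p ∈ centralizer (V : Set G) := by
  intro v hv
  have key : ∀ n : ℕ, g ^ n * v * (g ^ n)⁻¹ = ⁅g, v⁆ ^ n * v := by
    intro n
    induction n with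
    | zero => simp
    | succ n ih =>
      have hc : g * ⁅g, v⁆ ^ n * g⁻¹ = ⁅g, v⁆ ^ n := by
        rw [((h v hv).pow_right n).eq]; group
      calc g ^ (n + 1) * v * (g ^ (n + 1))⁻¹
          = g * (g ^ n * v * (g ^ n)⁻¹) * g⁻¹ := by rw [pow_succ']; group
        _ = (g * ⁅g, v⁆ ^ n * g⁻¹) * (g * v * g⁻¹) := by rw [ih]; group
        _ = ⁅g, v⁆ ^ n * (⁅g, v⁆ * v) := by rw [hc, commutatorElement_def]; group
        _ = ⁅g, v⁆ ^ (n + 1) * v := by rw [pow_succ, mul_assoc]
  have hm : ⁅g, v⁆ ∈ V := by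
    rw [commutatorElement_def]
    exact mul_mem ((Basics.conj_mem_iff_of_mem_normalizer hgV).mpr hv) (inv_mem hv)
  have h1 := key p
  rw [hV.2 _ hm, one_mul] at h1
  exact (mul_inv_eq_iff_eq_mul.mp h1).symm

/-- An abelian group normalises each of its subgroups. -/
theorem ea_le_normalizer {V W : Subgroup G} (hV : IsElementaryAbelian p V) (hW : W ≤ V) :
    V ≤ normalizer (W : Set G) := by
  intro v hv
  have e : ∀ x ∈ V, v * x * v⁻¹ = x := fun x hx => by
    rw [ea_commute hV hv hx, mul_inv_cancel_right]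
  refine mem_normalizer_iff.mpr fun x => ⟨fun hx => by rwa [e x (hW hx)], fun hx => ?_⟩
  have h1 : v * x * v⁻¹ ∈ V := hW hx
  have h2 : x ∈ V := by
    have := mul_mem (mul_mem (inv_mem hv) h1) hv
    simpa [mul_assoc] using this
  rwa [e x h2] at hx

variable [Finite G]

theorem card_pos' (B : Subgroup G) : 0 < Nat.card B := Nat.card_pos

/-- The inductive form of the replacement theorem. -/
theorem replacement_finset {V A : Subgroup G} (hV : IsElementaryAbelian p V)
    (hAV : A ≤ normalizer (V : Set G)) (hab : ⁅A, A⁆ ≤ centralizer (V : Set G))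
    (hmax : ∀ B : Subgroup G, B ≤ A → offMeasure V B ≤ offMeasure V A) (s : Finset G)
    (hs : ∀ u ∈ s, u ∈ V) :
    ∀ X : Subgroup G, X = closure {x | ∃ u ∈ s, ∃ a ∈ A, x = ⁅u, a⁆} →
      X ≤ V ∧ V ⊓ centralizer ((A ⊓ centralizer (X : Set G) : Subgroup G) : Set G) =
          X ⊔ (V ⊓ centralizer (A : Set G)) ∧
        offMeasure V (A ⊓ centralizer (X : Set G)) = offMeasure V A := by
  classical
  set C := V ⊓ centralizer (A : Set G) with hC
  have hbase : ∀ u ∈ V, ∀ X : Subgroup G, X = closure {x | ∃ a ∈ A, x = ⁅u, a⁆} →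
      X ≤ V ∧ V ⊓ centralizer ((A ⊓ centralizer (X : Set G) : Subgroup G) : Set G) = X ⊔ C ∧
        offMeasure V (A ⊓ centralizer (X : Set G)) = offMeasure V A := by
    intro u hu X hX
    set B := A ⊓ centralizer (X : Set G) with hB
    have hgen : ∀ a ∈ A, ⁅u, a⁆ ∈ X := fun a ha => hX ▸ subset_closure ⟨a, ha, rfl⟩
    have hXV : X ≤ V := by
      rw [hX, closure_le]
      rintro _ ⟨a, ha, rfl⟩
      exact commutatorElement_mem_of_mem_normalizer hu (hAV ha)
    have hle : X ⊔ C ≤ V ⊓ centralizer (B : Set G) := by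
      refine sup_le (le_inf hXV fun x hx b hb => ?_) (fixed_anti inf_le_left)
      exact (hb.2 x hx).symm
    have hfix : ∀ a ∈ A, ∀ d ∈ A, ⁅u, a⁆⁻¹ * ⁅u, a * d⁆ ∈ C → d ∈ B := by
      intro a ha d hd h
      have h1 : a * ⁅u, d⁆ * a⁻¹ ∈ C := by
        rw [commutatorElement_mul_right', inv_mul_cancel_left] at h
        exact h
      have h2 : ⁅u, d⁆ ∈ C := by
        have h3 : a * (a * ⁅u, d⁆ * a⁻¹) = (a * ⁅u, d⁆ * a⁻¹) * a := h1.2 a ha
        have h4 : a * ⁅u, d⁆ * a⁻¹ = ⁅u, d⁆ := by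
          calc a * ⁅u, d⁆ * a⁻¹ = a⁻¹ * (a * (a * ⁅u, d⁆ * a⁻¹)) := by group
            _ = a⁻¹ * ((a * ⁅u, d⁆ * a⁻¹) * a) := by rw [h3]
            _ = ⁅u, d⁆ := by group
        rwa [h4] at h1
      refine ⟨hd, ?_⟩
      have hgen' : X ≤ centralizer {d} := by
        rw [hX, closure_le]
        rintro _ ⟨c, hc, rfl⟩
        rw [SetLike.mem_coe, mem_centralizer_singleton_iff]
        have hz : ⁅d, c⁆ ∈ centralizer (V : Set G) := hab (commutator_mem_commutator hd hc)
        have e1 : d * c = ⁅d, c⁆ * (c * d) := by rw [commutatorElement_def]; group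
        have e2 : ⁅u, d * c⁆ = ⁅u, c * d⁆ := by
          rw [e1, commutatorElement_mul_right']
          have e3 : ⁅u, ⁅d, c⁆⁆ = 1 := commutatorElement_eq_one_iff_commute.mpr (hz u hu)
          have e4 : ⁅u, c * d⁆ ∈ V :=
            commutatorElement_mem_of_mem_normalizer hu (hAV (mul_mem hc hd))
          rw [e3, one_mul]
          exact mul_inv_eq_iff_eq_mul.mpr (hz _ e4).symm
        rw [commutatorElement_mul_right', commutatorElement_mul_right'] at e2
        have e5 : c * ⁅u, d⁆ * c⁻¹ = ⁅u, d⁆ := mul_inv_eq_iff_eq_mul.mpr (h2.2 c hc)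
        rw [e5, show ⁅u, c⁆ * ⁅u, d⁆ = ⁅u, d⁆ * ⁅u, c⁆ from
          ea_commute hV (commutatorElement_mem_of_mem_normalizer hu (hAV hc)) h2.1] at e2
        exact (mul_inv_eq_iff_eq_mul.mp (mul_left_cancel e2)).symm
      intro x hx
      exact (mem_centralizer_singleton_iff.mp (hgen' hx))
    have hcard : Nat.card A * Nat.card C ≤ Nat.card B * Nat.card ↥(X ⊔ C) := by
      let r : ↥A → ↥A := fun a => (QuotientGroup.mk a : ↥A ⧸ B.subgroupOf A).out
      have hr : ∀ a : ↥A, ((r a : G))⁻¹ * (a : G) ∈ B := fun a => by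
        have h := QuotientGroup.eq.mp
          (Quotient.out_eq (QuotientGroup.mk a : ↥A ⧸ B.subgroupOf A))
        exact h
      let F : ↥A × ↥C → ↥B × ↥(X ⊔ C) := fun q =>
        (⟨(r q.1 : G)⁻¹ * (q.1 : G), hr q.1⟩,
          ⟨⁅u, (r q.1 : G)⁆ * (q.2 : G),
            mul_mem (mem_sup_left (hgen _ (r q.1).2)) (mem_sup_right q.2.2)⟩)
      have hF : Function.Injective F := by
        rintro ⟨a, c⟩ ⟨a', c'⟩ h
        simp only [F, Prod.mk.injEq, Subtype.mk.injEq] at h
        obtain ⟨h1, h2⟩ := h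
        have hd : ((r a : G))⁻¹ * (r a' : G) ∈ B := by
          refine hfix _ (r a).2 _ (mul_mem (inv_mem (r a).2) (r a').2) ?_
          rw [mul_inv_cancel_left]
          have : ⁅u, (r a : G)⁆⁻¹ * ⁅u, (r a' : G)⁆ = (c : G) * (c' : G)⁻¹ := by
            have h3 := congrArg (fun x => ⁅u, (r a : G)⁆⁻¹ * x * (c' : G)⁻¹) h2
            calc ⁅u, (r a : G)⁆⁻¹ * ⁅u, (r a' : G)⁆
                = ⁅u, (r a : G)⁆⁻¹ * (⁅u, (r a' : G)⁆ * (c' : G)) * (c' : G)⁻¹ := by group
              _ = ⁅u, (r a : G)⁆⁻¹ * (⁅u, (r a : G)⁆ * (c : G)) * (c' : G)⁻¹ := h3.symm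
              _ = (c : G) * (c' : G)⁻¹ := by group
          rw [this]
          exact mul_mem c.2 (inv_mem c'.2)
        have hq : (QuotientGroup.mk a : ↥A ⧸ B.subgroupOf A) = QuotientGroup.mk a' := by
          rw [← Quotient.out_eq (QuotientGroup.mk a : ↥A ⧸ B.subgroupOf A),
            ← Quotient.out_eq (QuotientGroup.mk a' : ↥A ⧸ B.subgroupOf A)]
          exact QuotientGroup.eq.mpr hd
        have hra : r a = r a' := by simp only [r, hq]
        rw [hra] at h1 h2
        exact Prod.ext (Subtype.ext (mul_left_cancel h1)) (Subtype.ext (mul_left_cancel h2))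
      have := Nat.card_le_card_of_injective F hF
      rwa [Nat.card_prod, Nat.card_prod] at this
    have h5 := hmax B inf_le_left
    have h6 : Nat.card ↥(X ⊔ C) ≤ Nat.card ↥(V ⊓ centralizer (B : Set G)) := card_le_of_le hle
    have h7 : offMeasure V A ≤ Nat.card B * Nat.card ↥(X ⊔ C) := hcard
    refine ⟨hXV, (eq_of_le_of_card_ge hle ?_).symm,
      le_antisymm h5 (h7.trans (Nat.mul_le_mul_left _ h6))⟩
    exact Nat.le_of_mul_le_mul_left (h5.trans h7) (card_pos' B)
  induction s using Finset.induction with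
  | empty =>
    intro X hX
    have hX' : X = ⊥ := by
      rw [hX, ← le_bot_iff, closure_le]
      rintro _ ⟨u, hu, -⟩
      simp at hu
    have hA : A ⊓ centralizer (X : Set G) = A :=
      inf_eq_left.mpr fun a _ => by simp [hX', mem_centralizer_iff]
    rw [hA, hX', bot_sup_eq]
    exact ⟨bot_le, rfl, rfl⟩
  | insert u s _ ih =>
    intro X hX
    obtain ⟨hX1, e1, m1⟩ := hbase u (hs u (Finset.mem_insert_self u s)) _ rfl
    obtain ⟨hX2, e2, m2⟩ :=
      ih (fun v hv => hs v (Finset.mem_insert_of_mem hv)) _ rfl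
    set X1 := closure {x | ∃ a ∈ A, x = ⁅u, a⁆}
    set X2 := closure {x | ∃ u ∈ s, ∃ a ∈ A, x = ⁅u, a⁆}
    have hX' : X = X1 ⊔ X2 := by
      rw [hX, ← Subgroup.closure_union]
      congr 1
      ext x
      simp only [Set.mem_setOf_eq, Set.mem_union, Finset.mem_insert]
      constructor
      · rintro ⟨v, rfl | hv, a, ha, rfl⟩
        · exact Or.inl ⟨a, ha, rfl⟩
        · exact Or.inr ⟨v, hv, a, ha, rfl⟩
      · rintro (⟨a, ha, rfl⟩ | ⟨v, hv, a, ha, rfl⟩)
        · exact ⟨u, Or.inl rfl, a, ha, rfl⟩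
        · exact ⟨v, Or.inr hv, a, ha, rfl⟩
    set B1 := A ⊓ centralizer (X1 : Set G)
    set B2 := A ⊓ centralizer (X2 : Set G)
    set C1 := V ⊓ centralizer (B1 : Set G)
    set C2 := V ⊓ centralizer (B2 : Set G)
    have hB : A ⊓ centralizer (X : Set G) = B1 ⊓ B2 := by
      refine le_antisymm (le_inf (inf_le_inf_left _ (centralizer_le (show X1 ≤ X from hX' ▸ le_sup_left)))
        (inf_le_inf_left _ (centralizer_le (show X2 ≤ X from hX' ▸ le_sup_right)))) fun b hb => ⟨hb.1.1, ?_⟩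
      have : X ≤ centralizer {b} := by
        rw [hX', sup_le_iff]
        exact ⟨fun x hx => mem_centralizer_singleton_iff.mpr (hb.1.2 x hx),
          fun x hx => mem_centralizer_singleton_iff.mpr (hb.2.2 x hx)⟩
      exact fun x hx => mem_centralizer_singleton_iff.mp (this hx)
    have hXV : X ≤ V := hX' ▸ sup_le hX1 hX2
    have hn : B1 ≤ normalizer (B2 : Set G) := by
      refine le_trans inf_le_left (le_normalizer_iff_commutator_le_left.mpr ?_)
      have h1 : ⁅B2, A⁆ ≤ centralizer (V : Set G) :=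
        (commutator_mono inf_le_left le_rfl).trans hab
      have h2 : ⁅B2, A⁆ ≤ A :=
        (commutator_mono inf_le_left le_rfl).trans (commutator_le_self A)
      exact le_inf h2 (h1.trans (centralizer_le hX2))
    have hn' : C1 ≤ normalizer (C2 : Set G) := inf_le_left.trans (ea_le_normalizer hV inf_le_left)
    have hB12 : offMeasure V (B2 ⊔ B1) ≤ offMeasure V A :=
      hmax _ (sup_le inf_le_left inf_le_left)
    have hinf : Nat.card ↥(C2 ⊓ C1) ≤ Nat.card ↥(V ⊓ centralizer ((B2 ⊔ B1 : Subgroup G) : Set G)) :=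
      card_le_of_le fun w hw => ⟨hw.1.1, by
        have : B2 ⊔ B1 ≤ centralizer {w} :=
          sup_le (fun b hb => mem_centralizer_singleton_iff.mpr (hw.1.2 b hb).symm.symm)
            (fun b hb => mem_centralizer_singleton_iff.mpr (hw.2.2 b hb).symm.symm)
        exact fun b hb => (mem_centralizer_singleton_iff.mp (this hb))⟩
    have hsup : C2 ⊔ C1 ≤ V ⊓ centralizer ((B1 ⊓ B2 : Subgroup G) : Set G) :=
      sup_le (fixed_anti inf_le_right) (fixed_anti inf_le_left)
    have hprod : offMeasure V A * offMeasure V A ≤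
        (Nat.card ↥(B1 ⊓ B2) * Nat.card ↥(C2 ⊔ C1)) * offMeasure V A := by
      nth_rw 1 [← m2]
      nth_rw 1 [← m1]
      show Nat.card B2 * Nat.card C2 * (Nat.card B1 * Nat.card C1) ≤ _
      rw [mul_mul_mul_comm, Basics.card_mul_card_eq_card_sup_mul_card_inf hn,
        Basics.card_mul_card_eq_card_sup_mul_card_inf hn', inf_comm B2 B1]
      calc _ = (Nat.card ↥(B1 ⊓ B2) * Nat.card ↥(C2 ⊔ C1)) *
            (Nat.card ↥(B2 ⊔ B1) * Nat.card ↥(C2 ⊓ C1)) := by ring
        _ ≤ _ := Nat.mul_le_mul_left _ (le_trans (Nat.mul_le_mul_left _ hinf) hB12)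
    have hpos : 0 < offMeasure V A := Nat.mul_pos (card_pos' _) (card_pos' _)
    have h8 := Nat.le_of_mul_le_mul_right hprod hpos
    have h9 := hmax (B1 ⊓ B2) (inf_le_left.trans inf_le_left)
    have h10 : Nat.card ↥(C2 ⊔ C1) ≤ Nat.card ↥(V ⊓ centralizer ((B1 ⊓ B2 : Subgroup G) : Set G)) :=
      card_le_of_le hsup
    refine ⟨hXV, ?_, ?_⟩ <;> rw [hB]
    · rw [← eq_of_le_of_card_ge hsup (Nat.le_of_mul_le_mul_left (h9.trans h8) (card_pos' _)),
        e1, e2, hX']
      apply le_antisymm <;> simp [sup_le_iff, le_sup_left, le_sup_right, le_sup_of_le_left,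
        le_sup_of_le_right]
    · exact le_antisymm h9 (h8.trans (Nat.mul_le_mul_left _ h10))

/-- The replacement theorem: `C_A([U,A])` has the same measure as `A`. -/
theorem replacement {V A : Subgroup G} (hV : IsElementaryAbelian p V)
    (hAV : A ≤ normalizer (V : Set G)) (hab : ⁅A, A⁆ ≤ centralizer (V : Set G))
    (hmax : ∀ B : Subgroup G, B ≤ A → offMeasure V B ≤ offMeasure V A) {U : Subgroup G}
    (hU : U ≤ V) :
    V ⊓ centralizer ((A ⊓ centralizer ((⁅U, A⁆ : Subgroup G) : Set G) : Subgroup G) : Set G) =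
        ⁅U, A⁆ ⊔ (V ⊓ centralizer (A : Set G)) ∧
      offMeasure V (A ⊓ centralizer ((⁅U, A⁆ : Subgroup G) : Set G)) = offMeasure V A := by
  classical
  have h := replacement_finset hV hAV hab hmax (Set.toFinite (U : Set G)).toFinset
    (fun u hu => hU (by simpa using hu)) ⁅U, A⁆ (by
      refine le_antisymm (commutator_le.mpr fun u hu a ha =>
        subset_closure ⟨u, by simpa using hu, a, ha, rfl⟩) ?_
      rw [closure_le]
      rintro _ ⟨u, hu, a, ha, rfl⟩
      exact commutator_mem_commutator (by simpa using hu) ha)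
  exact h.2

/-- A `p`-group of operators is unipotent: `[X, A] = X` forces `X = 1`. -/
theorem eq_bot_of_commutator_eq_self [hp : Fact p.Prime] {V A X : Subgroup G}
    (hV : IsElementaryAbelian p V) (hAV : A ≤ normalizer (V : Set G))
    (hpow : ∀ a ∈ A, a ^ p ∈ centralizer (V : Set G)) (hX : X ≤ V) (h : ⁅X, A⁆ = X) : X = ⊥ := by
  by_contra hne
  haveI hN : ((centralizer (V : Set G)).subgroupOf A).Normal := by
    refine ⟨fun n hn a => ?_⟩
    simp only [mem_subgroupOf, coe_mul, coe_inv] at hn ⊢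
    intro v hv
    have h1 := hn _ ((Basics.conj_mem_iff_of_mem_normalizer (inv_mem (hAV a.2))).mpr hv)
    calc v * ((a : G) * n * (a : G)⁻¹)
        = (a : G) * (((a : G)⁻¹ * v * (a : G)⁻¹⁻¹) * n) * (a : G)⁻¹ := by group
      _ = (a : G) * ((n : G) * ((a : G)⁻¹ * v * (a : G)⁻¹⁻¹)) * (a : G)⁻¹ := by rw [h1]
      _ = (a : G) * n * (a : G)⁻¹ * v := by group
  set N := (centralizer (V : Set G)).subgroupOf A
  let P : Sylow p A := default
  have hQ : IsPGroup p (↥A ⧸ N) := by
    intro q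
    obtain ⟨a, rfl⟩ := QuotientGroup.mk'_surjective N q
    exact ⟨1, by rw [pow_one, ← map_pow]; exact (QuotientGroup.eq_one_iff _).mpr (hpow a a.2)⟩
  obtain ⟨k, hk⟩ := IsPGroup.iff_card.mp hQ
  have htop : (P : Subgroup A) ⊔ N = ⊤ := by
    rw [← index_eq_one]
    have h1 : ((P : Subgroup A) ⊔ N).index ∣ p ^ k := hk ▸ index_dvd_of_le le_sup_right
    obtain ⟨j, -, hj⟩ := (Nat.dvd_prime_pow hp.out).mp h1
    rcases j with _ | j
    · simpa using hj
    · exfalso
      refine P.not_dvd_index ?_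
      exact (hj ▸ dvd_pow_self p j.succ_ne_zero).trans (index_dvd_of_le le_sup_left)
  set P' := (P : Subgroup A).map A.subtype with hP'
  have hXP : ⁅X, P'⁆ = X := by
    refine le_antisymm ((commutator_mono le_rfl (map_subtype_le _)).trans h.le) (h.ge.trans ?_)
    rw [commutator_le]
    intro x hx a ha
    obtain ⟨c, hc, q, hq, e⟩ : ∃ c ∈ N, ∃ q ∈ (P : Subgroup A), (⟨a, ha⟩ : A) = c * q := by
      have hm : (⟨a, ha⟩ : A) ∈ N ⊔ (P : Subgroup A) := by
        rw [sup_comm, htop]; exact mem_top _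
      rw [← SetLike.mem_coe, normal_mul] at hm
      obtain ⟨c, hc, q, hq, e⟩ := hm
      exact ⟨c, hc, q, hq, e.symm⟩
    have e' : a = (c : G) * (q : G) := congrArg Subtype.val e
    rw [e', commutatorElement_mul_right',
      show ⁅x, (c : G)⁆ = 1 from commutatorElement_eq_one_iff_commute.mpr (hc x (hX hx)), one_mul,
      show (c : G) * ⁅x, (q : G)⁆ * (c : G)⁻¹ = ⁅x, (q : G)⁆ from mul_inv_eq_iff_eq_mul.mpr
        (hc _ (commutatorElement_mem_of_mem_normalizer (hX hx) (hAV q.2))).symm]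
    exact commutator_mem_commutator hx (mem_map_of_mem A.subtype hq)
  have hPp : IsPGroup p P' := P.isPGroup'.map _
  have hM : IsPGroup p ↥(P' ⊔ V) :=
    hPp.to_sup_of_normal_right' (ea_isPGroup hV) ((map_subtype_le _).trans hAV)
  exact Basics.commutator_ne_self_of_isNilpotent hM.isNilpotent (hX.trans le_sup_right) le_sup_left
    hne hXP

theorem offMeasure_le_of_isBestOffenderOn {V A : Subgroup G} (hA : IsBestOffenderOn p V A) :
    ∀ B : Subgroup G, B ≤ A → offMeasure V B ≤ offMeasure V A :=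
  hA.1

/-- The Timmesfeld replacement theorem. -/
theorem timmesfeld_replacement [Fact p.Prime] {V A : Subgroup G} (hV : IsElementaryAbelian p V)
    (hAV : A ≤ normalizer (V : Set G)) (hA : IsBestOffenderOn p V A) {U : Subgroup G}
    (hU : U ≤ V) :
    IsBestOffenderOn p V (A ⊓ centralizer ((⁅U, A⁆ : Subgroup G) : Set G)) ∧
      V ⊓ centralizer ((A ⊓ centralizer ((⁅U, A⁆ : Subgroup G) : Set G) : Subgroup G) : Set G) =
        ⁅U, A⁆ ⊔ (V ⊓ centralizer (A : Set G)) ∧
      (⁅V, A⁆ ≠ ⊥ → ⁅V, A ⊓ centralizer ((⁅U, A⁆ : Subgroup G) : Set G)⁆ ≠ ⊥) := by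
  obtain ⟨h1, h2⟩ := replacement hV hAV hA.2.1 (offMeasure_le_of_isBestOffenderOn hA) hU
  set B := A ⊓ centralizer ((⁅U, A⁆ : Subgroup G) : Set G)
  refine ⟨⟨fun D hD => (hA.1 D (hD.trans inf_le_left)).trans (le_of_eq h2.symm),
    (commutator_mono inf_le_left inf_le_left).trans hA.2.1, fun a ha => hA.2.2 a ha.1⟩, h1, ?_⟩
  intro hne hVB
  refine hne (eq_bot_of_commutator_eq_self hV hAV hA.2.2
    (le_normalizer_iff_commutator_le_left.mp hAV) ?_)
  have hVle : V ≤ ⁅U, A⁆ ⊔ (V ⊓ centralizer (A : Set G)) := by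
    rw [← h1]
    exact le_inf le_rfl (commutator_eq_bot_iff_le_centralizer.mp hVB)
  refine le_antisymm (commutator_mono (le_normalizer_iff_commutator_le_left.mp hAV) le_rfl) ?_
  rw [commutator_le]
  intro v hv a ha
  have hW : ⁅U, A⁆ ≤ V := (commutator_mono hU le_rfl).trans
    (le_normalizer_iff_commutator_le_left.mp hAV)
  have hn : V ⊓ centralizer (A : Set G) ≤ normalizer ((⁅U, A⁆ : Subgroup G) : Set G) :=
    inf_le_left.trans (ea_le_normalizer hV hW)
  obtain ⟨x, hx, c, hc, rfl⟩ := (Basics.mem_sup_of_le_normalizer hn).mp (hVle hv)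
  rw [commutatorElement_mul_left', commutatorElement_eq_one_iff_commute.mpr
    (show Commute c a from (hc.2 a ha).symm), mul_one, mul_inv_cancel, one_mul]
  exact commutator_mem_commutator ((commutator_mono hU le_rfl) hx) ha

end Cfsg.Agent.Components
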