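import Cfsg.Agent.Lib.Components.FFStructure
import Cfsg.Agent.Lib.Components.FFOmega
import Cfsg.Agent.Lib.Transfer.Constrained
import Mathlib.GroupTheory.SemidirectProduct
import Cfsg.Agent.S0600
import Cfsg.Agent.S0601
import Cfsg.Agent.S0606
import Cfsg.Agent.S0608

/-!
# Failure of Thompson factorization in `p`-separable groups
-/

set_option autoImplicit false
set_option linter.unusedSectionVars false
set_option linter.style.haveILetI false

namespace Cfsg.Agent.Components

open scoped commutatorElement MatrixGroups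
open Subgroup Cfsg Cfsg.Agent.Transfer

universe u

theorem isPSolvable_of_isSolvable {p : ℕ} [hp : Fact p.Prime] :
    ∀ (n : ℕ) (G : Type u) [Group G] [Finite G], Nat.card G ≤ n → Group.IsSolvable G →
      IsPSolvable p G := by
  intro n
  induction n with
  | zero => intro G _ _ h; have := Nat.card_pos (α := G); omega
  | succ n ih =>
    intro G _ _ hc hs
    rcases subsingleton_or_nontrivial G with hS | hN
    · exact ⟨0, fun _ => ⊥, rfl, Subsingleton.elim _ _, fun _ _ _ => le_rfl,
        fun _ => inferInstance, fun i => i.elim0⟩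
    haveI := hs
    obtain ⟨q, E, hq, hEn, hEne, hEp⟩ := Basics.exists_normal_pGroup (G := G)
    haveI := hEn
    have hlt := Basics.card_quotient_lt hEne
    haveI : Group.IsSolvable (G ⧸ E) :=
      Group.isSolvable_of_surjective (QuotientGroup.mk'_surjective E)
    obtain ⟨m, C, h0, h1, hmono, hn, hfac⟩ := ih (G ⧸ E) (by omega) inferInstance
    let π := QuotientGroup.mk' E
    refine ⟨m + 1, Fin.cons ⊥ (fun i => (C i).comap π), rfl, ?_, ?_, ?_, ?_⟩
    · show (Fin.cons ⊥ (fun i => (C i).comap π) : Fin (m + 2) → Subgroup G) (Fin.last m).succ = ⊤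
      rw [Fin.cons_succ, h1, comap_top]
    · refine Fin.monotone_iff_le_succ.mpr fun i => ?_
      induction i using Fin.cases with
      | zero => simp
      | succ j =>
        rw [← Fin.succ_castSucc, Fin.cons_succ, Fin.cons_succ]
        exact comap_mono (hmono (Fin.castSucc_lt_succ).le)
    · intro i
      induction i using Fin.cases with
      | zero => rw [Fin.cons_zero]; infer_instance
      | succ j => rw [Fin.cons_succ]; exact (hn j).comap π
    · intro i
      induction i using Fin.cases with
      | zero =>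
        rw [Fin.castSucc_zero, Fin.cons_zero, Fin.cons_succ, h0, relIndex_bot_left,
          MonoidHom.comap_bot, QuotientGroup.ker_mk']
        obtain ⟨k, hk⟩ := (haveI := Fact.mk hq; hEp.exists_card_eq)
        rcases eq_or_ne q p with rfl | hqp
        · exact Or.inl ⟨k, hk⟩
        · exact Or.inr (hk ▸ ((Nat.coprime_primes hq hp.out).mpr hqp).pow_left k)
      | succ j =>
        rw [← Fin.succ_castSucc, Fin.cons_succ, Fin.cons_succ, relIndex_comap,
          map_comap_eq_self_of_surjective (QuotientGroup.mk'_surjective E)]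
        exact hfac j

variable {p : ℕ} [hp : Fact p.Prime]

/-- Hall–Higman: a `p`-separable group without normal `p`-subgroups has self-centralising
`p'`-core. -/
theorem centralizer_pPrimeCore_le {X : Type u} [Group X] [Finite X] (hsep : IsPSolvable p X)
    (hO : pCore p X = ⊥) : centralizer (pPrimeCore p X : Set X) ≤ pPrimeCore p X := by
  set Q := pPrimeCore p X
  set C := centralizer (Q : Set X) with hCdef
  set Z := Q.subgroupOf C
  haveI : C.Normal := inferInstance
  haveI : Z.Normal := inferInstance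
  have hZc : ∀ z ∈ Z, ∀ c : C, Commute z c := fun z hz c => Subtype.ext (c.2 (z : X) hz)
  by_contra hne
  haveI : Nontrivial (C ⧸ Z) := by
    rw [QuotientGroup.nontrivial_iff]
    intro h
    exact hne fun c hc => (h ▸ mem_top (⟨c, hc⟩ : C) : (⟨c, hc⟩ : C) ∈ Z)
  have hZcop : (Nat.card Z).Coprime p := by
    refine (pPrimeCore_coprime (p := p) (G := X)).coprime_dvd_left ?_
    rw [← card_map_of_injective C.subtype_injective (K := Z)]
    refine card_dvd_of_le ?_
    rintro _ ⟨z, hz, rfl⟩
    exact hz
  have hsurj := QuotientGroup.mk'_surjective Z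
  have hsub : ∀ (M : Subgroup C), M.Normal → (M.map C.subtype).IsSubnormal := fun M hM => by
    haveI := hM
    exact (isSubnormal_map_subtype_iff (isSubnormal_of_normal C) M).mpr (isSubnormal_of_normal M)
  have hbot : ∀ N : Subgroup (C ⧸ Z), N.comap (QuotientGroup.mk' Z) ≤ Z → N = ⊥ := by
    intro N h
    rw [← le_bot_iff, ← map_comap_eq_self_of_surjective hsurj N]
    refine (map_mono h).trans ?_
    rw [le_bot_iff, Subgroup.map_eq_bot_iff, QuotientGroup.ker_mk']
  rcases Coprime23.exists_core_ne_bot (Coprime23.isPSolvable_map (QuotientGroup.mk' Z) hsurj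
      (isPSolvable_subgroup' hsep C)) with h | h <;> apply h <;> apply hbot
  · haveI := Basics.pCore_normal (G := C ⧸ Z) p
    set M := (pCore p (C ⧸ Z)).comap (QuotientGroup.mk' Z) with hM
    let T : Sylow p M := default
    have hZM : Z ≤ M := by
      rw [hM]; exact (QuotientGroup.ker_mk' Z).ge.trans (ker_le_comap _ _)
    set P := (T : Subgroup M).map M.subtype
    obtain ⟨k, hk⟩ := (Basics.pCore_isPGroup (G := C ⧸ Z) p).exists_card_eq
    have hcard : Nat.card M = p ^ k * Nat.card Z := by
      rw [hM, Basics.card_comap_mk', hk, mul_comm]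
    have hdvd : Nat.card P = p ^ k := by
      rw [card_map_of_injective M.subtype_injective, T.card_eq_multiplicity, hcard,
        Nat.factorization_mul (pow_ne_zero _ hp.out.ne_zero) Nat.card_pos.ne',
        Finsupp.add_apply, hp.out.factorization_pow, Finsupp.single_eq_same,
        Nat.factorization_eq_zero_of_not_dvd (hp.out.coprime_iff_not_dvd.mp hZcop.symm), add_zero]
    have hPn : P ≤ normalizer (Z : Set C) := fun x _ => by rw [normalizer_eq_top]; trivial
    have hPM : P ≤ M := map_subtype_le _
    have hinf : Z ⊓ P = ⊥ := by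
      refine eq_bot_of_card_eq _ (Nat.dvd_one.mp ?_)
      have h2 : Nat.card (Z ⊓ P : Subgroup C) ∣ Nat.gcd (Nat.card Z) (p ^ k) :=
        Nat.dvd_gcd (card_dvd_of_le inf_le_left) (hdvd ▸ card_dvd_of_le inf_le_right)
      rwa [hZcop.pow_right k] at h2
    have htop : Z ⊔ P = M := by
      refine eq_of_le_of_card_ge (sup_le hZM hPM) ?_
      have h1 := Basics.card_mul_card_eq_card_sup_mul_card_inf hPn
      rw [hinf, card_bot, mul_one, hdvd] at h1
      rw [hcard, ← h1, mul_comm]
    have hnorm : M ≤ normalizer (P : Set C) := by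
      rw [← htop]
      refine sup_le (fun z hz => ?_) le_normalizer
      refine mem_normalizer_iff.mpr fun x => ?_
      rw [(hZc z hz x).eq, mul_inv_cancel_right]
    have hsn : FGS.Subn.SN P ⊤ := FGS.Subn.sn_trans (FGS.Subn.sn_normal hPM hnorm)
      (FGS.Subn.sn_normal le_top fun x _ => by
        rw [normalizer_eq_top]; trivial)
    have hsnX : (P.map C.subtype).IsSubnormal :=
      (isSubnormal_map_subtype_iff (isSubnormal_of_normal C) P).mpr (FGS.Subn.sn_top.mp hsn)
    have hp' : IsPGroup p ↥(P.map C.subtype) := (IsPGroup.of_card hdvd).map _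
    have h3 := LocalEvenA.subnormal_le_pCore hsnX hp'
    rw [hO, le_bot_iff, map_eq_bot_iff_of_injective _ C.subtype_injective] at h3
    show M ≤ Z
    rw [← htop, h3, sup_bot_eq]
  · haveI : (pPrimeCore p (C ⧸ Z)).Normal := inferInstance
    set M := (pPrimeCore p (C ⧸ Z)).comap (QuotientGroup.mk' Z) with hM
    have hMc : (Nat.card M).Coprime p := by
      rw [hM, Basics.card_comap_mk']
      exact Nat.Coprime.mul_left hZcop (pPrimeCore_coprime (p := p) (G := C ⧸ Z))
    have h3 := subnormal_coprime_le_pPrimeCore (hsub M inferInstance)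
      (by rw [card_map_of_injective C.subtype_injective]; exact hMc)
    intro x hx
    exact h3 ⟨x, hx, rfl⟩

/-- Failure of factorization produces `SL(2,p)` in `J(G)` modulo the centraliser of the module. -/
theorem exists_sl2_of_not_factorizable {G : Type u} [Group G] [Finite G] (hsep : IsPSolvable p G)
    (hO : pPrimeCore p G = ⊥) (hnf : ¬ IsThompsonFactorizable p G) :
    (p = 2 ∨ p = 3) ∧ ∃ E : Subgroup G,
      centralizer (omegaJoin p G : Set G) ≤ E ∧
      E ≤ thompsonSubgroup p G ⊔ centralizer (omegaJoin p G : Set G) ∧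
      thompsonSubgroup p G ⊔ centralizer (omegaJoin p G : Set G) ≤ normalizer (E : Set G) ∧
      ∃ hn : ((centralizer (omegaJoin p G : Set G)).subgroupOf E).Normal,
        Nonempty ((↥E ⧸ (centralizer (omegaJoin p G : Set G)).subgroupOf E) ≃* SL(2, ZMod p)) := by
  set W := omegaJoin p G with hWdef
  haveI hWn : W.Normal := omegaJoin_normal
  have hcp := centralizer_pCore_le_of_pSolvable hO (isPSolvable_subgroup' hsep _)
  obtain ⟨-, hea, -⟩ := S0601.result hcp
  change IsElementaryAbelian p W at hea
  set C := centralizer (W : Set G) with hCdef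
  haveI hCn : C.Normal := inferInstance
  have hgen : W = ⨆ S : Sylow p G, W ⊓ centralizer ((S : Subgroup G) : Set G) :=
    le_antisymm (iSup_le fun S => le_iSup_of_le S (le_inf
      (le_iSup (fun S : Sylow p G => omegaZ p (S : Subgroup G)) S)
      ((omegaZ_le _).trans inf_le_right))) (iSup_le fun S => inf_le_left)
  have hOq : pCore p (G ⧸ C) = ⊥ := S0600.result W hea hgen
  have hJC : ¬ thompsonSubgroup p G ≤ C := fun h => hnf ((S0608.result hO).mpr h)
  -- the semidirect product
  let φ : (G ⧸ C) →* MulAut W :=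
    QuotientGroup.lift C (MulAut.conjNormal : G →* MulAut W) fun c hc => by
      refine MonoidHom.mem_ker.mpr (MulEquiv.ext fun w => Subtype.ext ?_)
      rw [MulAut.conjNormal_apply]
      show c * w * c⁻¹ = w
      rw [← hc w w.2, mul_inv_cancel_right]
  let q := QuotientGroup.mk' C
  have hq : Function.Surjective q := QuotientGroup.mk'_surjective C
  let V : Subgroup (↥W ⋊[φ] (G ⧸ C)) := (SemidirectProduct.inl : ↥W →* _).range
  haveI : Finite (↥W ⋊[φ] (G ⧸ C)) := Finite.of_equiv _ SemidirectProduct.equivProd.symm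
  have hinr : Function.Injective (SemidirectProduct.inr : (G ⧸ C) →* ↥W ⋊[φ] (G ⧸ C)) :=
    SemidirectProduct.inr_injective
  have hconj : ∀ (g : G) (w : W),
      (SemidirectProduct.inr (q g) : ↥W ⋊[φ] (G ⧸ C)) * SemidirectProduct.inl w *
        (SemidirectProduct.inr (q g))⁻¹ = SemidirectProduct.inl (MulAut.conjNormal g w) := by
    intro g w
    rw [← map_inv, ← SemidirectProduct.inl_aut]
    rfl
  have hVn : ∀ x : ↥W ⋊[φ] (G ⧸ C), x ∈ normalizer (V : Set (↥W ⋊[φ] (G ⧸ C))) := by
    intro x
    have : V.Normal := by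
      show ((SemidirectProduct.inl : ↥W →* _).range).Normal
      rw [SemidirectProduct.range_inl_eq_ker_rightHom]
      exact MonoidHom.normal_ker _
    rw [normalizer_eq_top]; trivial
  have hVea : IsElementaryAbelian p V := by
    have h1 := ea_map (p := p) (f := (SemidirectProduct.inl : ↥W →* ↥W ⋊[φ] (G ⧸ C)))
      (A := ⊤) (ea_of_map W.subtype W.subtype_injective.injOn
        (by rwa [← MonoidHom.range_eq_map, range_subtype]))
    rwa [← MonoidHom.range_eq_map] at h1
  have hfixmem : ∀ (B : Subgroup G) (w : W),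
      (SemidirectProduct.inl w : ↥W ⋊[φ] (G ⧸ C)) ∈
        centralizer ((((B.map q).map (SemidirectProduct.inr : (G ⧸ C) →* ↥W ⋊[φ] (G ⧸ C))) :
          Subgroup (↥W ⋊[φ] (G ⧸ C))) : Set (↥W ⋊[φ] (G ⧸ C))) ↔
      (w : G) ∈ centralizer (B : Set G) := by
    intro B w
    constructor
    · intro h b hb
      have h1 := h _ (mem_map_of_mem _ (mem_map_of_mem q hb))
      have h2 := hconj b w
      rw [h1, mul_inv_cancel_right] at h2
      have h3 := congrArg (Subtype.val) (SemidirectProduct.inl_injective h2)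
      rw [MulAut.conjNormal_apply] at h3
      exact (eq_mul_inv_iff_mul_eq.mp h3).symm
    · rintro h _ ⟨_, ⟨b, hb, rfl⟩, rfl⟩
      have h2 := hconj b w
      have h3 : MulAut.conjNormal b w = w := Subtype.ext (by
        rw [MulAut.conjNormal_apply]
        exact mul_inv_eq_iff_eq_mul.mpr (h b hb))
      rw [h3] at h2
      exact mul_inv_eq_iff_eq_mul.mp h2
  have hmeas : ∀ B : Subgroup G,
      offMeasure W B = Nat.card ↥(C ⊓ B : Subgroup G) *
        offMeasure V ((B.map q).map SemidirectProduct.inr) := by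
    intro B
    have e1 : Nat.card B = Nat.card ↥(C ⊓ B : Subgroup G) * Nat.card ↥(B.map q) := by
      have h1 := card_mul_index (C.subgroupOf B)
      have h2 : (C.subgroupOf B).index = Nat.card ↥(B.map q) := by
        show C.relIndex B = _
        have h3 : (QuotientGroup.mk' C).ker.relIndex B = Nat.card ↥(B.map q) := by
          rw [relIndex_ker]
        exact (congrArg (fun S : Subgroup G => S.relIndex B) (QuotientGroup.ker_mk' C)).symm.trans h3
      rw [h2, ← inf_subgroupOf_right, Basics.card_subgroupOf inf_le_right] at h1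
      exact h1.symm
    have e2 : Nat.card ↥(W ⊓ centralizer (B : Set G) : Subgroup G) =
        Nat.card ↥(V ⊓ centralizer
          ((((B.map q).map (SemidirectProduct.inr : (G ⧸ C) →* ↥W ⋊[φ] (G ⧸ C))) :
            Subgroup (↥W ⋊[φ] (G ⧸ C))) : Set (↥W ⋊[φ] (G ⧸ C)))) := by
      refine Nat.card_congr (Equiv.ofBijective
        (fun w => ⟨SemidirectProduct.inl ⟨w.1, w.2.1⟩, ⟨⟨_, rfl⟩, (hfixmem B _).mpr w.2.2⟩⟩) ?_)
      constructor
      · intro u v h
        have h1 := SemidirectProduct.inl_injective (congrArg Subtype.val h)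
        exact Subtype.ext (congrArg Subtype.val h1 :)
      · rintro ⟨x, ⟨w, rfl⟩, hx⟩
        exact ⟨⟨w, w.2, (hfixmem B w).mp hx⟩, rfl⟩
    rw [offMeasure, offMeasure, card_map_of_injective hinr, e1, e2, mul_assoc]
  set J := thompsonSubgroup p G with hJdef
  haveI hJn : J.Normal := by
    haveI := Transfer.thompsonSubgroup_characteristic (p := p) (G := G)
    infer_instance
  let H0 := J.map q
  let H := H0.map (SemidirectProduct.inr : (G ⧸ C) →* ↥W ⋊[φ] (G ⧸ C))
  have hf : H ⊓ centralizer (V : Set (↥W ⋊[φ] (G ⧸ C))) = ⊥ := by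
    rw [eq_bot_iff]
    rintro x ⟨⟨y, ⟨g, hg, rfl⟩, rfl⟩, hx⟩
    have hgC : g ∈ C := by
      intro w hw
      have h1 : Commute (SemidirectProduct.inl ⟨w, hw⟩ : ↥W ⋊[φ] (G ⧸ C))
          (SemidirectProduct.inr (q g)) := hx _ ⟨_, rfl⟩
      have h2 := hconj g ⟨w, hw⟩
      rw [← h1.eq, mul_inv_cancel_right] at h2
      have h3 := congrArg (Subtype.val) (SemidirectProduct.inl_injective h2)
      rw [MulAut.conjNormal_apply] at h3
      exact eq_mul_inv_iff_mul_eq.mp h3
    rw [mem_bot, (QuotientGroup.eq_one_iff g).mpr hgC |> fun h => (show q g = 1 from h), map_one]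
  have hS1 : centralizer (pPrimeCore p ↥H : Set ↥H) ≤ pPrimeCore p ↥H := by
    have e : ↥H0 ≃* ↥H := equivMapOfInjective H0 _ hinr
    have hsepH : IsPSolvable p ↥H := Coprime23.isPSolvable_map e.toMonoidHom e.surjective
      (isPSolvable_subgroup' (Coprime23.isPSolvable_map q hq hsep) H0)
    refine centralizer_pPrimeCore_le hsepH ?_
    have hH0n : H0.Normal := hJn.map q hq
    haveI := hH0n
    have h1 : pCore p ↥H0 = ⊥ :=
      LocalEvenA.pCore_subnormal_eq_bot (isSubnormal_of_normal H0) hOq
    rw [← LocalEvenA.pCore_map_iso (p := p) e, h1, Subgroup.map_bot]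
  have hbest : ∀ A ∈ maxElementaryAbelianSubgroups p G,
      IsBestOffenderOn p V ((A.map q).map (SemidirectProduct.inr : _ →* ↥W ⋊[φ] (G ⧸ C))) := by
    intro A hA
    have hAb := S0606.result W hea A hA
    refine ⟨fun B hB => ?_, ?_, fun x hx => ?_⟩
    · have hBe : ((B.comap SemidirectProduct.inr).map (SemidirectProduct.inr :
          (G ⧸ C) →* ↥W ⋊[φ] (G ⧸ C))) = B :=
        map_comap_eq_self (hB.trans (map_le_range _ _))
      set B' := (B.comap SemidirectProduct.inr).comap q ⊓ A
      have hB'q : B'.map q = B.comap SemidirectProduct.inr := by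
        refine le_antisymm ((map_mono inf_le_left).trans (map_comap_le _ _)) fun y hy => ?_
        obtain ⟨a, ha, e⟩ := ((comap_mono hB).trans (comap_map_eq_self_of_injective hinr _).le) hy
        exact ⟨a, ⟨show q a ∈ B.comap SemidirectProduct.inr by rw [e]; exact hy, ha⟩, e⟩
      have hCB : C ⊓ B' = C ⊓ A := by
        refine le_antisymm (inf_le_inf_left _ inf_le_right) fun x hx => ⟨hx.1, ?_, hx.2⟩
        show q x ∈ B.comap SemidirectProduct.inr
        rw [show q x = 1 from (QuotientGroup.eq_one_iff x).mpr hx.1]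
        exact one_mem _
      have h1 := offMeasure_le_of_isBestOffenderOn hAb B' inf_le_right
      rw [hmeas, hmeas, hCB, hB'q, hBe] at h1
      exact Nat.le_of_mul_le_mul_left h1 (card_pos' _)
    · rw [← map_commutator, ← map_commutator]
      rintro _ ⟨_, ⟨z, hz, rfl⟩, rfl⟩
      rw [show q z = 1 from (QuotientGroup.eq_one_iff z).mpr (hAb.2.1 hz), map_one]
      exact one_mem _
    · obtain ⟨_, ⟨z, hz, rfl⟩, rfl⟩ := hx
      rw [← map_pow, ← map_pow,
        show q (z ^ p) = 1 from (QuotientGroup.eq_one_iff _).mpr (hAb.2.2 z hz), map_one]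
      exact one_mem _
  have hS3 : H = ⨆ A : {A : Subgroup (↥W ⋊[φ] (G ⧸ C)) // A ≤ H ∧ IsBestOffenderOn p V A},
      (A : Subgroup (↥W ⋊[φ] (G ⧸ C))) := by
    refine le_antisymm ?_ (iSup_le fun A => A.2.1)
    show (J.map q).map _ ≤ _
    rw [hJdef, thompsonSubgroup, map_le_iff_le_comap, map_le_iff_le_comap, sSup_le_iff]
    intro A hA
    rw [← map_le_iff_le_comap, ← map_le_iff_le_comap]
    exact le_iSup_of_le ⟨_, map_mono (map_mono (le_sSup hA)), hbest A hA⟩ le_rfl
  have hset := FFSetup.of_hyp hVea (fun x _ => hVn x) hf hS1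
  set Q := (pPrimeCore p ↥H).map H.subtype
  have hex : ∃ b, FFT p V H b := by
    by_contra hno
    push Not at hno
    refine hJC ?_
    have h1 : H = ⊥ := le_bot_iff.mp ((hset.le_closure_transv hS3).trans
      ((closure_le _).mpr fun b hb => absurd hb (hno b)))
    rw [map_eq_bot_iff_of_injective _ hinr, Subgroup.map_eq_bot_iff, QuotientGroup.ker_mk'] at h1
    exact h1
  obtain ⟨b, hb⟩ := hex
  obtain ⟨e₁, e₂, P, -, -, -, -, -, hLn⟩ := hb.exists_factor hset hS3
  refine ⟨P.small, ?_⟩
  set L := FFT.factor Q b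
  set E := (L.comap SemidirectProduct.inr).comap q with hEdef
  have hCE : C ≤ E := fun c hc => by
    show q c ∈ L.comap SemidirectProduct.inr
    rw [show q c = 1 from (QuotientGroup.eq_one_iff c).mpr hc]
    exact one_mem _
  have hJCn : J ⊔ C ≤ normalizer (E : Set G) := by
    refine sup_le ?_ ?_
    · intro j hj
      refine mem_normalizer_iff.mpr fun x => ?_
      simp only [hEdef, mem_comap, map_mul, map_inv]
      exact mem_normalizer_iff.mp (hLn (mem_map_of_mem _ (mem_map_of_mem q hj))) _
    · exact hCE.trans le_normalizer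
  have hEJ : E ≤ J ⊔ C := by
    intro x hx
    obtain ⟨y, hy, e⟩ := P.leH hx
    obtain ⟨j, hj, rfl⟩ := hy
    have h1 : q j = q x := hinr e
    have h2 : j⁻¹ * x ∈ C := QuotientGroup.eq.mp h1
    have := mul_mem (mem_sup_left hj : j ∈ J ⊔ C) (mem_sup_right h2 : j⁻¹ * x ∈ J ⊔ C)
    rwa [mul_inv_cancel_left] at this
  haveI hn : (C.subgroupOf E).Normal := inferInstance
  refine ⟨E, hCE, hEJ, hJCn, hn, ?_⟩
  let f : ↥E →* ↥L :=
    { toFun := fun x => ⟨SemidirectProduct.inr (q x.1), x.2⟩
      map_one' := Subtype.ext (by simp)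
      map_mul' := fun x y => Subtype.ext (by simp) }
  have hfs : Function.Surjective f := by
    intro y
    obtain ⟨z, ⟨g, hg, rfl⟩, e⟩ := P.leH y.2
    exact ⟨⟨g, by show SemidirectProduct.inr (q g) ∈ L; rw [e]; exact y.2⟩, Subtype.ext e⟩
  have hker : f.ker = C.subgroupOf E := by
    ext x
    rw [MonoidHom.mem_ker, mem_subgroupOf, ← QuotientGroup.eq_one_iff (N := C)]
    constructor
    · intro h
      have h1 : SemidirectProduct.inr (q x.1) = (1 : ↥W ⋊[φ] (G ⧸ C)) := congrArg Subtype.val h
      exact hinr (h1.trans (map_one _).symm)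
    · intro h
      exact Subtype.ext (show SemidirectProduct.inr (q x.1) = (1 : ↥W ⋊[φ] (G ⧸ C)) by
        rw [show q x.1 = 1 from h, map_one])
  obtain ⟨ψ, hψ, -⟩ := P.hom
  exact ⟨((QuotientGroup.quotientMulEquivOfEq hker.symm).trans
    (QuotientGroup.quotientKerEquivOfSurjective f hfs)).trans (MulEquiv.ofBijective ψ hψ)⟩

end Cfsg.Agent.Components
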