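import Cfsg.Agent.Lib.Components.Subnormal

/-!
# `O_{p'}` and the subgroup generated by the p-elements
-/

set_option autoImplicit false

namespace Cfsg.Agent.Components

open scoped commutatorElement
open Subgroup Cfsg

universe u

variable {G G' : Type*} [Group G] [Group G'] {p : ℕ}

theorem le_pPrimeCore {N : Subgroup G} (hn : N.Normal) (hc : (Nat.card N).Coprime p) :
    N ≤ Cfsg.pPrimeCore p G :=
  le_sSup ⟨hn, hc⟩

theorem coprime_card_sup [Finite G] {H N : Subgroup G} [N.Normal] (hH : (Nat.card H).Coprime p)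
    (hN : (Nat.card N).Coprime p) : (Nat.card (H ⊔ N : Subgroup G)).Coprime p := by
  have h2 : N.relIndex (H ⊔ N) = N.relIndex H := by rw [relIndex_sup_right]
  have h3 : Nat.card (H ⊔ N : Subgroup G) = Nat.card N * N.relIndex H := by
    rw [← h2, ← relIndex_bot_left (H ⊔ N), ← relIndex_bot_left N,
      relIndex_mul_relIndex _ _ _ bot_le le_sup_right]
  rw [h3]
  exact Nat.Coprime.mul_left hN (hH.coprime_dvd_left (relIndex_dvd_card N H))

theorem pPrimeCore_coprime [Finite G] : (Nat.card (Cfsg.pPrimeCore p G)).Coprime p := by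
  obtain ⟨M, ⟨hMn, hMc⟩, hmax⟩ :=
    (Set.toFinite {N : Subgroup G | N.Normal ∧ (Nat.card N).Coprime p}).exists_maximal
      ⟨⊥, inferInstance, by simp⟩
  haveI := hMn
  have hle : Cfsg.pPrimeCore p G ≤ M := by
    refine sSup_le fun N ⟨hNn, hNc⟩ => ?_
    haveI := hNn
    have := hmax (y := M ⊔ N) ⟨inferInstance, coprime_card_sup hMc hNc⟩ le_sup_left
    exact le_sup_right.trans this
  exact hMc.coprime_dvd_left (card_dvd_of_le hle)

theorem pPrimeCore_not_dvd [Finite G] [hp : Fact p.Prime] :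
    ¬ p ∣ Nat.card (Cfsg.pPrimeCore p G) := fun h =>
  hp.out.coprime_iff_not_dvd.mp (pPrimeCore_coprime (p := p) (G := G)).symm h

theorem map_pPrimeCore_equiv (e : G ≃* G') :
    (Cfsg.pPrimeCore p G).map e.toMonoidHom = Cfsg.pPrimeCore p G' := by
  apply le_antisymm
  · rw [map_le_iff_le_comap]
    refine sSup_le fun N hN => map_le_iff_le_comap.mp (le_pPrimeCore (hN.1.map _ e.surjective) ?_)
    rw [card_map_of_injective e.injective]
    exact hN.2
  · refine sSup_le fun N hN => ?_
    have h1 : N.map e.symm.toMonoidHom ≤ Cfsg.pPrimeCore p G := by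
      refine le_pPrimeCore (hN.1.map _ e.symm.surjective) ?_
      rw [card_map_of_injective e.symm.injective]
      exact hN.2
    refine le_trans (le_of_eq ?_) (Subgroup.map_mono (f := e.toMonoidHom) h1)
    rw [map_map]
    ext x
    simp

instance pPrimeCore_characteristic : (Cfsg.pPrimeCore p G).Characteristic :=
  characteristic_iff_map_eq.mpr fun e => map_pPrimeCore_equiv e

private theorem subnormal_coprime_le_aux :
    ∀ (n : ℕ) (G : Type u) [Group G] [Finite G], Nat.card G ≤ n →
      ∀ S : Subgroup G, S.IsSubnormal → (Nat.card S).Coprime p → S ≤ Cfsg.pPrimeCore p G := by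
  intro n
  induction n with
  | zero =>
    intro G _ _ hn
    exact absurd hn (by have := Nat.card_pos (α := G); omega)
  | succ n ih =>
    intro G _ _ hn S hS hc
    rcases hS.lt_normal with h | ⟨N, hN, hSN, hlt⟩
    · exact le_pPrimeCore (by rw [h]; infer_instance) hc
    · haveI := hN
      have hcN : Nat.card N ≤ n := by have := card_lt_of_ne_top hlt.ne; omega
      have := Subgroup.map_mono (f := N.subtype) (ih N hcN (S.subgroupOf N) hS.subgroupOf
        (by rwa [Nat.card_congr (subgroupOfEquivOfLe hSN).toEquiv]))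
      rw [map_subgroupOf_eq_of_le hSN] at this
      refine this.trans (le_pPrimeCore inferInstance ?_)
      rw [card_map_of_injective N.subtype_injective]
      exact pPrimeCore_coprime

/-- A subnormal subgroup of order prime to `p` lies in `O_{p'}`. -/
theorem subnormal_coprime_le_pPrimeCore [Finite G] {S : Subgroup G} (hS : S.IsSubnormal)
    (hc : (Nat.card S).Coprime p) : S ≤ Cfsg.pPrimeCore p G :=
  subnormal_coprime_le_aux (Nat.card G) G le_rfl S hS hc

theorem map_subtype_pPrimeCore_of_subnormal [Finite G] {H : Subgroup G} (hH : H.IsSubnormal) :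
    (Cfsg.pPrimeCore p H).map H.subtype = Cfsg.pPrimeCore p G ⊓ H := by
  refine le_antisymm (le_inf (subnormal_coprime_le_pPrimeCore
    ((isSubnormal_of_normal _).trans' hH) ?_) (map_subtype_le _)) ?_
  · rw [card_map_of_injective H.subtype_injective]
    exact pPrimeCore_coprime
  · have hle : (Cfsg.pPrimeCore p G).subgroupOf H ≤ Cfsg.pPrimeCore p H := by
      refine le_pPrimeCore inferInstance ?_
      rw [← card_map_of_injective (K := (Cfsg.pPrimeCore p G).subgroupOf H) H.subtype_injective,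
        subgroupOf_map_subtype]
      exact pPrimeCore_coprime.coprime_dvd_left (card_dvd_of_le inf_le_left)
    have h' := Subgroup.map_mono (f := H.subtype) hle
    rwa [subgroupOf_map_subtype] at h'

theorem pPrimeCore_quotient_eq_bot [Finite G] :
    Cfsg.pPrimeCore p (G ⧸ Cfsg.pPrimeCore p G) = ⊥ := by
  set O := Cfsg.pPrimeCore p G with hO
  set M := (Cfsg.pPrimeCore p (G ⧸ O)).comap (QuotientGroup.mk' O) with hM
  have hOM : O ≤ M := by
    rw [hM]
    exact le_trans (le_of_eq (QuotientGroup.ker_mk' O).symm) (MonoidHom.ker_le_comap _ _)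
  have hMO : M ≤ O := by
    refine le_pPrimeCore inferInstance ?_
    have hr : O.relIndex M = Nat.card (Cfsg.pPrimeCore p (G ⧸ O)) := by
      have hc := relIndex_comap (⊥ : Subgroup (G ⧸ O)) (QuotientGroup.mk' O) M
      rw [MonoidHom.comap_bot, QuotientGroup.ker_mk'] at hc
      rw [hc, hM, map_comap_eq_self_of_surjective (QuotientGroup.mk'_surjective O), relIndex_bot_left]
    have h : Nat.card M = Nat.card O * O.relIndex M := by
      rw [← relIndex_bot_left M, ← relIndex_bot_left O,
        relIndex_mul_relIndex _ _ _ bot_le hOM]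
    rw [h, hr]
    exact Nat.Coprime.mul_left pPrimeCore_coprime pPrimeCore_coprime
  have := Subgroup.map_mono (f := QuotientGroup.mk' O) hMO
  rw [hM, map_comap_eq_self_of_surjective (QuotientGroup.mk'_surjective O)] at this
  exact le_bot_iff.mp (this.trans (by simp))

/-- The subgroup generated by the p-elements of `H`. -/
def pGen (p : ℕ) (H : Subgroup G) : Subgroup G :=
  Subgroup.closure {x : G | x ∈ H ∧ ∃ k : ℕ, x ^ p ^ k = 1}

theorem pGen_le (H : Subgroup G) : pGen p H ≤ H :=
  (closure_le _).mpr fun _ hx => hx.1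

theorem pGen_mono {H K : Subgroup G} (h : H ≤ K) : pGen p H ≤ pGen p K :=
  closure_mono fun _ hx => ⟨h hx.1, hx.2⟩

theorem mem_pGen {H : Subgroup G} {x : G} (hx : x ∈ H) {k : ℕ} (hk : x ^ p ^ k = 1) :
    x ∈ pGen p H :=
  subset_closure ⟨hx, k, hk⟩

theorem normalizer_le_normalizer_pGen (H : Subgroup G) :
    normalizer (H : Set G) ≤ normalizer (pGen p H : Set G) := by
  intro g hg
  apply mem_normalizer_of_map_conj_eq
  rw [pGen, MonoidHom.map_closure]
  congr 1
  ext x
  simp only [Set.mem_image, Set.mem_setOf_eq, MulEquiv.coe_toMonoidHom, MulAut.conj_apply]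
  constructor
  · rintro ⟨y, ⟨hy, k, hk⟩, rfl⟩
    refine ⟨(mem_normalizer_iff.mp hg y).mp hy, k, ?_⟩
    rw [conj_pow, hk, mul_one, mul_inv_cancel]
  · rintro ⟨hx, k, hk⟩
    refine ⟨g⁻¹ * x * g, ⟨?_, k, ?_⟩, by group⟩
    · have := (mem_normalizer_iff.mp (inv_mem hg) x).mp hx
      simpa using this
    · have := map_pow (MulAut.conj g⁻¹) x (p ^ k)
      rw [hk, map_one] at this
      simpa using this.symm

theorem le_normalizer_pGen (H : Subgroup G) : H ≤ normalizer (pGen p H : Set G) :=
  le_normalizer.trans (normalizer_le_normalizer_pGen H)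

theorem isSubnormal_pGen {H : Subgroup G} (hH : H.IsSubnormal) : (pGen p H).IsSubnormal :=
  isSubnormal_of_normal_in (pGen_le H) hH (le_normalizer_pGen H)

/-- A p-element lifts to a p-element under any homomorphism out of a finite group. -/
theorem exists_p_element_lift [Finite G] [hp : Fact p.Prime] (f : G →* G') {x : G} {k : ℕ}
    (hk : f x ^ p ^ k = 1) : ∃ (n : ℕ) (j : ℕ), (x ^ n) ^ p ^ j = 1 ∧ f (x ^ n) = f x := by
  obtain ⟨a, m, hm, he⟩ :=
    Nat.exists_eq_pow_mul_and_not_dvd (orderOf_pos x).ne' p hp.out.ne_one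
  obtain ⟨c, hc⟩ : ∃ c, m * c % p ^ k = 1 % p ^ k := by
    rcases Nat.eq_zero_or_pos k with rfl | hk0
    · exact ⟨0, by simp [Nat.mod_one]⟩
    · obtain ⟨c, _, hc⟩ := Nat.exists_mul_mod_eq_one_of_coprime
        (Nat.Coprime.pow_right k (hp.out.coprime_iff_not_dvd.mpr hm).symm)
        (Nat.one_lt_pow hk0.ne' hp.out.one_lt)
      exact ⟨c, by rw [hc, Nat.mod_eq_of_lt (Nat.one_lt_pow hk0.ne' hp.out.one_lt)]⟩
  refine ⟨m * c, a, ?_, ?_⟩
  · rw [← pow_mul, show m * c * p ^ a = p ^ a * m * c by ring, ← he, pow_mul, pow_orderOf_eq_one,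
      one_pow]
  · rw [map_pow, ← Nat.mod_add_div (m * c) (p ^ k), pow_add, pow_mul, hk, one_pow, mul_one, hc]
    conv_rhs => rw [← pow_one (f x), ← Nat.mod_add_div 1 (p ^ k), pow_add, pow_mul, hk, one_pow,
      mul_one]

theorem map_pGen [Finite G] [Fact p.Prime] (f : G →* G') (H : Subgroup G) :
    (pGen p H).map f = pGen p (H.map f) := by
  rw [pGen, MonoidHom.map_closure]
  apply le_antisymm
  · rw [closure_le]
    rintro _ ⟨x, ⟨hx, k, hk⟩, rfl⟩
    exact mem_pGen (mem_map_of_mem f hx) (k := k) (by rw [← map_pow, hk, map_one])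
  · rw [pGen, closure_le]
    rintro _ ⟨⟨x, hx, rfl⟩, k, hk⟩
    obtain ⟨n, j, h1, h2⟩ := exists_p_element_lift f (x := x) hk
    exact subset_closure ⟨x ^ n, ⟨pow_mem hx n, j, h1⟩, h2⟩

theorem eq_one_of_pow_prime_pow_of_coprime {n : ℕ} (hn : n.Coprime p) {x : G} {k : ℕ}
    (h1 : x ^ p ^ k = 1) (h2 : x ^ n = 1) : x = 1 := by
  have := orderOf_dvd_of_pow_eq_one (G := G) h1
  have h3 : orderOf x ∣ Nat.gcd n (p ^ k) := Nat.dvd_gcd (orderOf_dvd_of_pow_eq_one h2) this
  rw [Nat.Coprime.pow_right k hn] at h3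
  exact orderOf_eq_one_iff.mp (Nat.dvd_one.mp h3)

theorem subnormal_coprime_index_mem {S : Subgroup G} (hS : S.IsSubnormal)
    (hc : S.index.Coprime p) {x : G} {k : ℕ} (hk : x ^ p ^ k = 1) : x ∈ S := by
  induction hS with
  | top => exact mem_top x
  | step A B h_le hB hN ih =>
    rw [← relIndex_mul_index h_le] at hc
    have hxB : x ∈ B := ih (hc.coprime_dvd_left (Dvd.intro_left _ rfl))
    have hq : (QuotientGroup.mk' (A.subgroupOf B) ⟨x, hxB⟩) = 1 := by
      refine eq_one_of_pow_prime_pow_of_coprime (hc.coprime_dvd_left (Dvd.intro _ rfl)) (k := k)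
        ?_ (Subgroup.relIndex.eq_def A B ▸ pow_card_eq_one')
      rw [← map_pow, show (⟨x, hxB⟩ : B) ^ p ^ k = 1 from Subtype.ext (by simpa using hk), map_one]
    exact (QuotientGroup.eq_one_iff (N := A.subgroupOf B) (⟨x, hxB⟩ : B)).mp hq

theorem pGen_le_of_coprime_relIndex {S H : Subgroup G} (hS : (S.subgroupOf H).IsSubnormal)
    (hc : (S.relIndex H).Coprime p) : pGen p H ≤ S := by
  refine (closure_le _).mpr ?_
  rintro x ⟨hx, k, hk⟩
  exact subnormal_coprime_index_mem hS hc (x := ⟨x, hx⟩) (k := k) (Subtype.ext (by simpa using hk))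

theorem relIndex_self_sup_dvd [Finite G] (K N : Subgroup G) [N.Normal] :
    K.relIndex (K ⊔ N) ∣ Nat.card N := by
  have h1 : Nat.card K * K.relIndex (K ⊔ N) = Nat.card N * N.relIndex K := by
    rw [← relIndex_sup_right (H := K) (K := N), ← relIndex_bot_left K, ← relIndex_bot_left N,
      relIndex_mul_relIndex _ _ _ bot_le le_sup_left, relIndex_mul_relIndex _ _ _ bot_le le_sup_right]
  have h2 : Nat.card K = Nat.card (N ⊓ K : Subgroup G) * N.relIndex K := by
    rw [← inf_relIndex_right N K, ← relIndex_bot_left (N ⊓ K), ← relIndex_bot_left K,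
      relIndex_mul_relIndex _ _ _ bot_le inf_le_right]
  rw [h2, mul_assoc, mul_comm (N.relIndex K), ← mul_assoc] at h1
  have hpos : 0 < N.relIndex K := Nat.pos_of_ne_zero (by
    intro h; exact (Nat.card_pos (α := K)).ne' (by rw [h2, h, mul_zero]))
  exact Dvd.intro_left _ (Nat.eq_of_mul_eq_mul_right hpos h1)

end Cfsg.Agent.Components
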