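import Cfsg.Agent.Lib.Components.Subnormal

/-!
# p-cores and the Fitting subgroup, as needed for the layer
-/

set_option autoImplicit false

namespace Cfsg.Agent.Components

open scoped commutatorElement
open Subgroup Cfsg

universe u

variable {G G' : Type*} [Group G] [Group G'] {p : ℕ}

theorem sSup_isPGroup_of_normal [Finite G] [Fact p.Prime] :
    IsPGroup p (Cfsg.pCore p G) := by
  obtain ⟨M, ⟨hMn, hMp⟩, hmax⟩ := (Set.toFinite {N : Subgroup G | N.Normal ∧ IsPGroup p N}).exists_maximal
    ⟨⊥, inferInstance, IsPGroup.of_bot⟩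
  haveI := hMn
  have : Cfsg.pCore p G ≤ M := by
    refine sSup_le fun N ⟨hNn, hNp⟩ => ?_
    haveI := hNn
    have := hmax (y := M ⊔ N) ⟨inferInstance, hMp.to_sup_of_normal_right hNp⟩ le_sup_left
    exact le_sup_right.trans this
  exact hMp.to_le this

theorem le_pCore {N : Subgroup G} (hn : N.Normal) (hp : IsPGroup p N) : N ≤ Cfsg.pCore p G :=
  le_sSup ⟨hn, hp⟩

theorem map_pCore_equiv (e : G ≃* G') : (Cfsg.pCore p G).map e.toMonoidHom = Cfsg.pCore p G' := by
  apply le_antisymm
  · rw [map_le_iff_le_comap]
    exact sSup_le fun N hN => map_le_iff_le_comap.mp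
      (le_pCore (hN.1.map _ e.surjective) (hN.2.map _))
  · refine sSup_le fun N hN => ?_
    have := Subgroup.map_mono (f := e.toMonoidHom)
      (le_pCore (hN.1.map e.symm.toMonoidHom e.symm.surjective) (hN.2.map e.symm.toMonoidHom))
    refine le_trans (le_of_eq ?_) this
    rw [map_map]
    ext x
    simp

instance pCore_characteristic : (Cfsg.pCore p G).Characteristic :=
  characteristic_iff_map_eq.mpr fun e => map_pCore_equiv e

theorem pCore_le_fitting [Finite G] [Fact p.Prime] : Cfsg.pCore p G ≤ Cfsg.fittingSubgroup G :=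
  le_sSup ⟨inferInstance, (sSup_isPGroup_of_normal (p := p) (G := G)).isNilpotent⟩

theorem fitting_le_iff {H : Subgroup G} :
    Cfsg.fittingSubgroup G ≤ H ↔ ∀ N : Subgroup G, N.Normal → Group.IsNilpotent N → N ≤ H := by
  simp only [Cfsg.fittingSubgroup, sSup_le_iff, Set.mem_setOf_eq, and_imp]

theorem le_fitting {N : Subgroup G} (hn : N.Normal) (hnil : Group.IsNilpotent N) :
    N ≤ Cfsg.fittingSubgroup G :=
  le_sSup ⟨hn, hnil⟩

theorem fitting_eq_iSup_pCore [Finite G] :
    Cfsg.fittingSubgroup G = ⨆ p : (Nat.card G).primeFactors, Cfsg.pCore (p : ℕ) G := by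
  apply le_antisymm
  · rw [fitting_le_iff]
    intro N hNn hnil
    haveI := hNn
    have key : ∀ q : ℕ, q.Prime → ∀ P : Sylow q N, (P : Subgroup N).map N.subtype ≤
        ⨆ p : (Nat.card G).primeFactors, Cfsg.pCore (p : ℕ) G := by
      intro q hq P
      haveI := Fact.mk hq
      by_cases hqG : q ∈ (Nat.card G).primeFactors
      · refine le_trans (le_pCore (p := q) ?_ (P.2.map _)) (le_iSup (fun p : (Nat.card G).primeFactors => Cfsg.pCore (p : ℕ) G) ⟨q, hqG⟩)
        haveI : (P : Subgroup N).Normal := inferInstance
        haveI : (P : Subgroup N).Characteristic := P.characteristic_of_normal this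
        infer_instance
      · have : (P : Subgroup N) = ⊥ := by
          rcases P.2.exists_card_eq with ⟨k, hk⟩
          rw [← card_eq_one, hk]
          rcases Nat.eq_zero_or_pos k with rfl | hk0
          · simp
          · exfalso
            refine hqG (Nat.mem_primeFactors.mpr ⟨hq, ?_, Nat.card_pos.ne'⟩)
            calc q ∣ q ^ k := dvd_pow_self q hk0.ne'
              _ ∣ Nat.card N := hk ▸ card_subgroup_dvd_card _
              _ ∣ Nat.card G := card_subgroup_dvd_card N
        simp [this]
    have hsup : (⨆ q : (Nat.card N).primeFactors, ((default : Sylow (q : ℕ) N) : Subgroup N)) = ⊤ := by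
      refine eq_top_of_card_eq _ (Nat.dvd_antisymm (card_subgroup_dvd_card _) ?_)
      rw [← Nat.factorization_le_iff_dvd Nat.card_pos.ne' Nat.card_pos.ne']
      intro q
      by_cases hq : q ∈ (Nat.card N).primeFactors
      · haveI := Fact.mk (Nat.prime_of_mem_primeFactors hq)
        have h1 : Nat.card ((default : Sylow q N) : Subgroup N) ∣ Nat.card (⨆ q : (Nat.card N).primeFactors, ((default : Sylow (q : ℕ) N) : Subgroup N) : Subgroup N) :=
          card_dvd_of_le (le_iSup (fun q : (Nat.card N).primeFactors => ((default : Sylow (q : ℕ) N) : Subgroup N)) ⟨q, hq⟩)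
        rw [Sylow.card_eq_multiplicity] at h1
        exact (Nat.Prime.pow_dvd_iff_le_factorization Fact.out Nat.card_pos.ne').mp h1
      · rw [Finsupp.notMem_support_iff.mp (by rwa [Nat.support_factorization])]; exact Nat.zero_le _
    have := congrArg (Subgroup.map N.subtype) hsup
    rw [Subgroup.map_iSup, ← MonoidHom.range_eq_map, range_subtype] at this
    rw [← this, iSup_le_iff]
    intro q
    exact key _ (Nat.prime_of_mem_primeFactors q.2) _
  · refine iSup_le fun p => ?_
    haveI := Fact.mk (Nat.prime_of_mem_primeFactors p.2)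
    exact pCore_le_fitting

theorem fitting_isNilpotent [Finite G] : Group.IsNilpotent (Cfsg.fittingSubgroup G) := by
  classical
  rw [fitting_eq_iSup_pCore]
  let H : (Nat.card G).primeFactors → Subgroup G := fun p => Cfsg.pCore (p : ℕ) G
  have hcomm : Pairwise fun i j => ∀ x y : G, x ∈ H i → y ∈ H j → Commute x y := by
    intro i j hij x y hx hy
    haveI := Fact.mk (Nat.prime_of_mem_primeFactors i.2)
    haveI := Fact.mk (Nat.prime_of_mem_primeFactors j.2)
    exact commute_of_normal_of_disjoint _ _ inferInstance inferInstance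
      (IsPGroup.disjoint_of_ne (i : ℕ) (j : ℕ) (fun h => hij (Subtype.ext h)) _ _
        sSup_isPGroup_of_normal sSup_isPGroup_of_normal) x y hx hy
  haveI : ∀ i, Group.IsNilpotent (H i) := fun i =>
    haveI := Fact.mk (Nat.prime_of_mem_primeFactors i.2)
    (sSup_isPGroup_of_normal (p := (i : ℕ)) (G := G)).isNilpotent
  have hr := noncommPiCoprod_range (H := H) (hcomm := hcomm)
  have : Group.IsNilpotent (noncommPiCoprod (H := H) hcomm).range :=
    Group.nilpotent_of_surjective _ (MonoidHom.rangeRestrict_surjective _)
  rwa [hr] at this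

instance fitting_normal : (Cfsg.fittingSubgroup G).Normal :=
  Subgroup.sSup_normal _ fun _ h => h.1

theorem fitting_isSolvable [Finite G] : Group.IsSolvable (Cfsg.fittingSubgroup G) :=
  haveI := fitting_isNilpotent (G := G)
  inferInstance

theorem map_fitting_equiv (e : G ≃* G') :
    (Cfsg.fittingSubgroup G).map e.toMonoidHom = Cfsg.fittingSubgroup G' := by
  apply le_antisymm
  · rw [map_le_iff_le_comap, fitting_le_iff]
    intro N hN hnil
    haveI := hnil
    exact map_le_iff_le_comap.mp (le_fitting (hN.map _ e.surjective)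
      (Group.nilpotent_of_surjective _ (e.toMonoidHom.subgroupMap_surjective N)))
  · rw [fitting_le_iff]
    intro N hN hnil
    haveI := hnil
    have := Subgroup.map_mono (f := e.toMonoidHom)
      (le_fitting (hN.map e.symm.toMonoidHom e.symm.surjective)
      (Group.nilpotent_of_surjective _ (e.symm.toMonoidHom.subgroupMap_surjective N)))
    refine le_trans (le_of_eq ?_) this
    rw [map_map]
    ext x
    simp

instance fitting_characteristic : (Cfsg.fittingSubgroup G).Characteristic :=
  characteristic_iff_map_eq.mpr fun e => map_fitting_equiv e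

theorem fitting_map_normal_le [Finite G] (N : Subgroup G) [N.Normal] :
    (Cfsg.fittingSubgroup N).map N.subtype ≤ Cfsg.fittingSubgroup G := by
  haveI := fitting_isNilpotent (G := N)
  refine le_fitting inferInstance ?_
  exact Group.nilpotent_of_surjective _
    (N.subtype.subgroupMap_surjective (Cfsg.fittingSubgroup N))

private theorem nilpotent_subnormal_le_fitting_aux :
    ∀ (n : ℕ) (G : Type u) [Group G] [Finite G], Nat.card G ≤ n →
      ∀ S : Subgroup G, S.IsSubnormal → Group.IsNilpotent S → S ≤ Cfsg.fittingSubgroup G := by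
  intro n
  induction n with
  | zero =>
    intro G _ _ hn
    exact absurd hn (by have := Nat.card_pos (α := G); omega)
  | succ n ih =>
    intro G _ _ hn S hS hnil
    rcases hS.lt_normal with h | ⟨N, hN, hSN, hlt⟩
    · exact le_fitting (by rw [h]; infer_instance) hnil
    · haveI := hN
      haveI := hnil
      have hcN : Nat.card N ≤ n := by have := card_lt_of_ne_top hlt.ne; omega
      have := Subgroup.map_mono (f := N.subtype) (ih N hcN (S.subgroupOf N) hS.subgroupOf
        (Group.nilpotent_of_surjective (subgroupOfEquivOfLe hSN).symm.toMonoidHom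
          (subgroupOfEquivOfLe hSN).symm.surjective))
      rw [map_subgroupOf_eq_of_le hSN] at this
      exact this.trans (fitting_map_normal_le N)

theorem nilpotent_subnormal_le_fitting [Finite G] {S : Subgroup G} (hS : S.IsSubnormal)
    (hnil : Group.IsNilpotent S) : S ≤ Cfsg.fittingSubgroup G :=
  nilpotent_subnormal_le_fitting_aux (Nat.card G) G le_rfl S hS hnil

end Cfsg.Agent.Components
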