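import Cfsg.Agent.Lib.Components.Layer
import Cfsg.Agent.Lib.Components.Fitting

/-!
# The generalized Fitting subgroup
-/

set_option autoImplicit false

namespace Cfsg.Agent.Components

open scoped commutatorElement
open Subgroup Cfsg

variable {G G' : Type*} [Group G] [Group G']

theorem layer_le_fStar : Cfsg.layer G ≤ Cfsg.generalizedFittingSubgroup G := le_sup_left

theorem fitting_le_fStar : Cfsg.fittingSubgroup G ≤ Cfsg.generalizedFittingSubgroup G := le_sup_right

instance fStar_normal : (Cfsg.generalizedFittingSubgroup G).Normal := by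
  unfold Cfsg.generalizedFittingSubgroup; infer_instance

theorem map_fStar_equiv (e : G ≃* G') : (Cfsg.generalizedFittingSubgroup G).map e.toMonoidHom =
    Cfsg.generalizedFittingSubgroup G' := by
  rw [Cfsg.generalizedFittingSubgroup, Subgroup.map_sup, map_layer_equiv, map_fitting_equiv,
    Cfsg.generalizedFittingSubgroup]

instance fStar_characteristic : (Cfsg.generalizedFittingSubgroup G).Characteristic :=
  characteristic_iff_map_eq.mpr fun e => map_fStar_equiv e

theorem layer_commute_fitting [Finite G] : ⁅Cfsg.layer G, Cfsg.fittingSubgroup G⁆ = ⊥ :=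
  layer_commute_normal_solvable _ fitting_isSolvable

theorem layer_le_centralizer_fitting [Finite G] :
    Cfsg.layer G ≤ centralizer (Cfsg.fittingSubgroup G : Set G) :=
  commutator_eq_bot_iff_le_centralizer.mp layer_commute_fitting

theorem fitting_le_centralizer_layer [Finite G] :
    Cfsg.fittingSubgroup G ≤ centralizer (Cfsg.layer G : Set G) :=
  commutator_eq_bot_iff_le_centralizer.mp (commutator_eq_bot_symm layer_commute_fitting)

/-- A perfect subnormal subgroup, all whose proper subnormal subgroups are central, is a component. -/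
theorem isComponent_of_minimal {S : Subgroup G} (hS : S.IsSubnormal) (hne : S ≠ ⊥)
    (hperf : ⁅S, S⁆ = S)
    (h : ∀ T : Subgroup G, T ≤ S → T.IsSubnormal → T ≠ S → T ≤ centralizer (S : Set G)) :
    Cfsg.IsComponent S := by
  haveI : Nontrivial S := (nontrivial_iff_ne_bot S).mpr hne
  refine ⟨hS, isQuasisimple_of_normal_cases (Subgroup.isPerfect_iff.mpr hperf).commutator_eq_top
    fun N hN => ?_⟩
  rcases eq_or_ne (N.map S.subtype) S with h' | h'
  · left
    rw [← map_subtype_inj, h', ← MonoidHom.range_eq_map, range_subtype]
  · right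
    have hle : N.map S.subtype ≤ (center S).map S.subtype := by
      rw [map_subtype_center]
      exact le_inf (map_subtype_le N)
        (h _ (map_subtype_le N) ((isSubnormal_of_normal N).trans' hS) h')
    exact (map_le_map_iff_of_injective S.subtype_injective).mp hle

/-- `C_G(F^*(G)) ≤ F^*(G)`. -/
theorem centralizer_fStar_le [Finite G] :
    centralizer (Cfsg.generalizedFittingSubgroup G : Set G) ≤
      Cfsg.generalizedFittingSubgroup G := by
  classical
  by_contra hcon
  set F := Cfsg.generalizedFittingSubgroup G with hF
  set C := centralizer (F : Set G) with hC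
  haveI : C.Normal := normal_centralizer
  obtain ⟨S, ⟨hSC, hSn, hSF⟩, hmin⟩ :=
    (Set.toFinite {S : Subgroup G | S ≤ C ∧ S.IsSubnormal ∧ ¬ S ≤ F}).exists_minimal
      ⟨C, le_rfl, isSubnormal_of_normal C, hcon⟩
  have hSS : (⁅S, S⁆ : Subgroup G).IsSubnormal := by
    have := (isSubnormal_of_normal (commutator S)).trans' hSn
    rwa [map_subtype_commutator] at this
  by_cases hd : ⁅S, S⁆ ≤ F
  · haveI hnil : Group.IsNilpotent S := by
      rw [isNilpotent_iff_lowerCentralSeries]
      refine ⟨2, ?_⟩
      rw [Subgroup.lowerCentralSeries_succ, Subgroup.lowerCentralSeries_succ,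
        Subgroup.lowerCentralSeries_zero, commutator_eq_bot_iff_le_centralizer]
      intro x hx
      rw [mem_centralizer_iff]
      intro y hy
      exact ((mem_centralizer_iff.mp (hSC hy)) x (hd hx)).symm
    exact hSF ((nilpotent_subnormal_le_fitting hSn hnil).trans le_sup_right)
  · have hperf : ⁅S, S⁆ = S :=
      le_antisymm (commutator_le_self S)
        (hmin (y := ⁅S, S⁆) ⟨(commutator_le_self S).trans hSC, hSS, hd⟩ (commutator_le_self S))
    have hne : S ≠ ⊥ := fun h => hSF (h ▸ bot_le)
    refine hSF ((component_le_layer (isComponent_of_minimal hSn hne hperf ?_)).trans le_sup_left)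
    intro T hTS hTn hne'
    have hTF : T ≤ F := by
      by_contra hTF
      exact hne' (le_antisymm hTS (hmin (y := T) ⟨hTS.trans hSC, hTn, hTF⟩ hTS))
    intro x hx
    rw [mem_centralizer_iff]
    intro y hy
    exact ((mem_centralizer_iff.mp (hSC hy)) x (hTF hx)).symm

theorem fStar_inf_centralizer_eq [Finite G] :
    centralizer (Cfsg.generalizedFittingSubgroup G : Set G) =
      Cfsg.generalizedFittingSubgroup G ⊓
        centralizer (Cfsg.generalizedFittingSubgroup G : Set G) :=
  (inf_eq_right.mpr centralizer_fStar_le).symm

end Cfsg.Agent.Components
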