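import Cfsg.Agent.Lib.Components.FStar

/-!
# More on `E(G)`, `F(G)`, `F*(G)` and subnormal subgroups
-/

set_option autoImplicit false
set_option linter.style.haveILetI false

namespace Cfsg.Agent.Components

open scoped commutatorElement
open Subgroup Cfsg

variable {G : Type*} [Group G]

theorem map_nilpotent {H : Subgroup G} (h : Group.IsNilpotent H) {G' : Type*} [Group G']
    (f : G →* G') : Group.IsNilpotent (H.map f) :=
  haveI := h
  Group.nilpotent_of_surjective _ (f.subgroupMap_surjective H)

/-- An abelian normal subgroup lies in the Fitting subgroup. -/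
theorem abelian_normal_le_fitting {N : Subgroup G} [N.Normal]
    (h : N ≤ centralizer (N : Set G)) : N ≤ Cfsg.fittingSubgroup G := by
  refine le_fitting inferInstance ?_
  rw [isNilpotent_iff_lowerCentralSeries]
  exact ⟨1, by rw [Subgroup.lowerCentralSeries_succ, Subgroup.lowerCentralSeries_zero,
    commutator_eq_bot_iff_le_centralizer]; exact h⟩

theorem layer_inf_centralizer_le_fitting :
    Cfsg.layer G ⊓ centralizer (Cfsg.layer G : Set G) ≤ Cfsg.fittingSubgroup G := by
  haveI : (centralizer (Cfsg.layer G : Set G)).Normal := normal_centralizer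
  exact abelian_normal_le_fitting fun x hx =>
    centralizer_le (fun y (hy : y ∈ Cfsg.layer G ⊓ centralizer (Cfsg.layer G : Set G)) => hy.1) hx.2

/-- A solvable subnormal subgroup centralizing `F(G)` lies in `F(G)`. -/
theorem solvable_subnormal_centralizing_fitting_le [Finite G] {N : Subgroup G}
    (hN : N.IsSubnormal) (hs : Group.IsSolvable N)
    (hC : N ≤ centralizer (Cfsg.fittingSubgroup G : Set G)) : N ≤ Cfsg.fittingSubgroup G := by
  classical
  by_contra hcon
  obtain ⟨S, ⟨hSN, hSn, hSF⟩, hmin⟩ :=
    (Set.toFinite {S : Subgroup G | S ≤ N ∧ S.IsSubnormal ∧ ¬ S ≤ Cfsg.fittingSubgroup G}).exists_minimal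
      ⟨N, le_rfl, hN, hcon⟩
  by_cases hd : ⁅S, S⁆ ≤ Cfsg.fittingSubgroup G
  · refine hSF (nilpotent_subnormal_le_fitting hSn ?_)
    rw [isNilpotent_iff_lowerCentralSeries]
    refine ⟨2, ?_⟩
    rw [Subgroup.lowerCentralSeries_succ, Subgroup.lowerCentralSeries_succ,
      Subgroup.lowerCentralSeries_zero, commutator_eq_bot_iff_le_centralizer]
    intro x hx
    rw [mem_centralizer_iff]
    intro y hy
    exact ((mem_centralizer_iff.mp (hC (hSN hy))) x (hd hx)).symm
  · have hperf : ⁅S, S⁆ = S :=
      le_antisymm (commutator_le_self S)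
        (hmin (y := ⁅S, S⁆) ⟨(commutator_le_self S).trans hSN,
          isSubnormal_of_normal_in (commutator_le_self S) hSn (normalizer_commutator_ge_left S S),
          hd⟩ (commutator_le_self S))
    haveI : Nontrivial S := (nontrivial_iff_ne_bot S).mpr fun h => hSF (h ▸ bot_le)
    haveI : Group.IsPerfect S := Subgroup.isPerfect_iff.mpr hperf
    exact Group.IsPerfect.not_isSolvable S
      (Group.isSolvable_of_isSolvable_injective (inclusion_injective hSN))

/-- Intersection of `F*(G)` with a subnormal subgroup `S` lies in `F*(S)`. -/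
theorem fStar_inf_subnormal_le [Finite G] {S : Subgroup G} (hS : S.IsSubnormal) :
    Cfsg.generalizedFittingSubgroup G ⊓ S ≤
      (Cfsg.generalizedFittingSubgroup S).map S.subtype := by
  set E1 := (Cfsg.layer S).map S.subtype with hE1
  set E2 := Cfsg.layer G ⊓ centralizer (S : Set G) with hE2
  have hE1E : E1 ≤ Cfsg.layer G := component_map_layer_le hS
  have hE1S : E1 ≤ S := map_subtype_le _
  have hcomm : E2 ≤ centralizer (E1 : Set G) := inf_le_right.trans (centralizer_le hE1S)
  have hE : E1 ⊔ E2 = Cfsg.layer G := by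
    refine le_antisymm (sup_le hE1E inf_le_left) (layer_le_iff.mpr fun L hL => ?_)
    rcases component_le_or_commute hL hS with h | h
    · exact (component_le_map_layer hL h).trans le_sup_left
    · exact (le_inf (component_le_layer hL) (commutator_eq_bot_iff_le_centralizer.mp h)).trans
        le_sup_right
  have hnorm : E2 ≤ normalizer (E1 : Set G) := hcomm.trans (centralizer_le_normalizer _)
  intro x hx
  have hx1 : x ∈ ((Cfsg.layer G ⊔ Cfsg.fittingSubgroup G : Subgroup G) : Set G) := hx.1
  rw [normal_mul] at hx1
  obtain ⟨e, he, f, hf, rfl⟩ := hx1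
  rw [← hE, sup_comm, SetLike.mem_coe] at he
  rw [← SetLike.mem_coe, coe_mul_of_left_le_normalizer_right E2 E1 hnorm] at he
  obtain ⟨b, hb, a, ha, rfl⟩ := he
  have hab : b * a = a * b := (mem_centralizer_iff.mp (hcomm hb) a ha).symm
  have hfE : ∀ y ∈ Cfsg.layer G, y * f = f * y := fun y hy =>
    mem_centralizer_iff.mp (fitting_le_centralizer_layer hf) y hy
  have hbz : b ∈ Cfsg.fittingSubgroup G := by
    refine layer_inf_centralizer_le_fitting ⟨hb.1, ?_⟩
    have hh : Cfsg.layer G ≤ centralizer ({b} : Set G) := by
      rw [← hE]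
      refine sup_le (fun y hy => ?_) (fun y hy => ?_)
      · rw [mem_centralizer_singleton_iff]
        exact mem_centralizer_iff.mp (hcomm hb) y hy
      · rw [mem_centralizer_singleton_iff]
        have hxs : ∀ z ∈ S, z * y = y * z := fun z hz => mem_centralizer_iff.mp hy.2 z hz
        have h1 : a * y = y * a := hxs a (hE1S ha)
        have h2 : b * a * f * y = y * (b * a * f) := hxs _ hx.2
        have h3 : y * f = f * y := hfE y hy.1
        rw [hab, mul_assoc (a * b), ← h3, ← mul_assoc (a * b), ← mul_assoc y, mul_left_inj,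
          mul_assoc, ← mul_assoc y, ← h1, mul_assoc, mul_right_inj] at h2
        exact h2.symm
    exact mem_centralizer_iff.mpr fun y hy => (mem_centralizer_singleton_iff.mp (hh hy))
  have hbf : b * f ∈ S := by
    have : b * f = a⁻¹ * (b * a * f) := by rw [hab]; group
    rw [this]
    exact mul_mem (inv_mem (hE1S ha)) hx.2
  have hFS : Cfsg.fittingSubgroup G ⊓ S ≤ (Cfsg.fittingSubgroup S).map S.subtype := by
    rw [inf_comm, ← inf_comm (Cfsg.fittingSubgroup G), ← subgroupOf_map_subtype]
    refine Subgroup.map_mono (le_fitting inferInstance ?_)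
    haveI := fitting_isNilpotent (G := G)
    have h1 := map_nilpotent (H := (Cfsg.fittingSubgroup G ⊓ S).subgroupOf (Cfsg.fittingSubgroup G))
      inferInstance (Cfsg.fittingSubgroup G).subtype
    rw [map_subgroupOf_eq_of_le inf_le_left, ← subgroupOf_map_subtype] at h1
    haveI := h1
    exact Group.nilpotent_of_surjective
      (equivMapOfInjective ((Cfsg.fittingSubgroup G).subgroupOf S) _ S.subtype_injective).symm.toMonoidHom
      (equivMapOfInjective ((Cfsg.fittingSubgroup G).subgroupOf S) _ S.subtype_injective).symm.surjective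
  change b * a * f ∈ _
  rw [hab, mul_assoc, Cfsg.generalizedFittingSubgroup, Subgroup.map_sup]
  exact mul_mem (mem_sup_left ha) (mem_sup_right (hFS ⟨mul_mem hbz hf, hbf⟩))

theorem map_fStar_le_of_subnormal [Finite G] {S : Subgroup G} (hS : S.IsSubnormal) :
    (Cfsg.generalizedFittingSubgroup S).map S.subtype ≤ Cfsg.generalizedFittingSubgroup G := by
  rw [Cfsg.generalizedFittingSubgroup, Subgroup.map_sup]
  refine sup_le ((component_map_layer_le hS).trans le_sup_left) ?_
  refine le_trans ?_ fitting_le_fStar
  exact nilpotent_subnormal_le_fitting ((isSubnormal_of_normal _).trans' hS)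
    (map_nilpotent fitting_isNilpotent _)

end Cfsg.Agent.Components
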