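import Cfsg.Agent.Lib.Components.Quasisimple

/-!
# Components and the layer
-/

set_option autoImplicit false

namespace Cfsg.Agent.Components

open scoped commutatorElement
open Subgroup Cfsg

universe u

variable {G G' : Type*} [Group G] [Group G']

theorem isComponent_subgroupOf {K H : Subgroup G} (hK : Cfsg.IsComponent K) (hle : K ≤ H) :
    Cfsg.IsComponent (K.subgroupOf H) :=
  ⟨hK.1.subgroupOf, qs_of_equiv hK.2 (subgroupOfEquivOfLe hle).symm⟩

theorem isComponent_map_subtype_iff {H : Subgroup G} (hH : H.IsSubnormal) (K : Subgroup H) :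
    Cfsg.IsComponent (K.map H.subtype) ↔ Cfsg.IsComponent K :=
  and_congr (isSubnormal_map_subtype_iff hH K) (isQuasisimple_map_injective _ H.subtype_injective)

theorem isComponent_map_equiv (e : G ≃* G') {K : Subgroup G} (hK : Cfsg.IsComponent K) :
    Cfsg.IsComponent (K.map e.toMonoidHom) :=
  ⟨isSubnormal_map_equiv e hK.1, (isQuasisimple_map_injective _ e.injective).mpr hK.2⟩

theorem isComponent_conj (g : G) {K : Subgroup G} (hK : Cfsg.IsComponent K) :
    Cfsg.IsComponent (K.map (MulAut.conj g).toMonoidHom) :=
  isComponent_map_equiv _ hK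

theorem isComponent_commutator_eq_self {K : Subgroup G} (hK : Cfsg.IsComponent K) :
    ⁅K, K⁆ = K :=
  isQuasisimple_commutator_eq_self hK.2

theorem isComponent_ne_bot {K : Subgroup G} (hK : Cfsg.IsComponent K) : K ≠ ⊥ :=
  isQuasisimple_ne_bot hK.2

private theorem component_le_or_commute_aux :
    ∀ (n : ℕ) (G : Type u) [Group G] [Finite G], Nat.card G ≤ n →
      ∀ L H : Subgroup G, Cfsg.IsComponent L → H.IsSubnormal → L ≤ H ∨ ⁅L, H⁆ = ⊥ := by
  intro n
  induction n with
  | zero =>
    intro G _ _ hn
    exact absurd hn (by have := Nat.card_pos (α := G); omega)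
  | succ n ih =>
    intro G _ _ hn L H hL hH
    rcases eq_or_ne L ⊤ with hLtop | hLtop
    · subst hLtop
      rcases qs_subnormal_cases (isQuasisimple_top.mp hL.2) hH with h | h
      · exact Or.inl h.ge
      · exact Or.inr (commutator_top_left_eq_bot_iff_le_center.mpr h)
    rcases hH.lt_normal with hHtop | ⟨N, hN, hHN, hNlt⟩
    · exact Or.inl (by simp [hHtop])
    obtain ⟨M, hM, hLM, hMlt⟩ := hL.1.exists_normal_and_le_and_lt_top_of_ne hLtop
    haveI := hN
    haveI := hM
    have hcM : Nat.card M ≤ n := by have := card_lt_of_ne_top hMlt.ne; omega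
    have hcN : Nat.card N ≤ n := by have := card_lt_of_ne_top hNlt.ne; omega
    by_cases hLN : L ≤ N
    · rcases ih N hcN (L.subgroupOf N) (H.subgroupOf N) (isComponent_subgroupOf hL hLN)
        hH.subgroupOf with h | h
      · left
        have h' := Subgroup.map_mono (f := N.subtype) h
        rwa [map_subgroupOf_eq_of_le hLN, map_subgroupOf_eq_of_le hHN] at h'
      · exact Or.inr ((commutator_subgroupOf_eq_bot_iff hLN hHN).mp h)
    · rcases ih M hcM (L.subgroupOf M) ((N ⊓ M).subgroupOf M) (isComponent_subgroupOf hL hLM)
        ((isSubnormal_of_normal N).inf (isSubnormal_of_normal M)).subgroupOf with h | h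
      · have h' := Subgroup.map_mono (f := M.subtype) h
        rw [map_subgroupOf_eq_of_le hLM, map_subgroupOf_eq_of_le inf_le_right] at h'
        exact absurd (h'.trans inf_le_left) hLN
      · have h1 : ⁅L, N ⊓ M⁆ = ⊥ := (commutator_subgroupOf_eq_bot_iff hLM inf_le_right).mp h
        have h2 : ⁅N, L⁆ ≤ N ⊓ M :=
          le_inf ((commutator_le_left N L)) ((commutator_mono le_rfl hLM).trans (commutator_le_right N M))
        have h3 : ⁅L, N⁆ = ⊥ := by
          refine commutator_eq_bot_of_perfect (isComponent_commutator_eq_self hL) ?_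
          rw [eq_bot_iff, ← h1, commutator_comm L]
          exact commutator_mono h2 le_rfl
        exact Or.inr (eq_bot_iff.mpr (h3 ▸ commutator_mono le_rfl hHN))

/-- A component is contained in or centralizes each subnormal subgroup. -/
theorem component_le_or_commute [Finite G] {L H : Subgroup G} (hL : Cfsg.IsComponent L)
    (hH : H.IsSubnormal) : L ≤ H ∨ ⁅L, H⁆ = ⊥ :=
  component_le_or_commute_aux (Nat.card G) G le_rfl L H hL hH

theorem component_eq_of_le [Finite G] {L K : Subgroup G} (hL : Cfsg.IsComponent L)
    (hK : Cfsg.IsComponent K) (h : L ≤ K) : L = K := by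
  rcases qs_subnormal_cases hK.2 (H := L.subgroupOf K) hL.1.subgroupOf with h' | h'
  · exact le_antisymm h (subgroupOf_eq_top.mp h')
  · exfalso
    have h'' := Subgroup.map_mono (f := K.subtype) h'
    rw [map_subgroupOf_eq_of_le h, map_subtype_center] at h''
    exact isQuasisimple_not_le_centralizer hL.2
      ((h''.trans inf_le_right).trans (centralizer_le h))

theorem component_eq_or_commute [Finite G] {L K : Subgroup G} (hL : Cfsg.IsComponent L)
    (hK : Cfsg.IsComponent K) : L = K ∨ ⁅L, K⁆ = ⊥ :=
  (component_le_or_commute hL hK.1).imp (component_eq_of_le hL hK) id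

theorem component_le_layer {L : Subgroup G} (hL : Cfsg.IsComponent L) : L ≤ Cfsg.layer G :=
  le_sSup hL

theorem layer_le_iff {H : Subgroup G} :
    Cfsg.layer G ≤ H ↔ ∀ L : Subgroup G, Cfsg.IsComponent L → L ≤ H :=
  sSup_le_iff

theorem layer_eq_bot_iff : Cfsg.layer G = ⊥ ↔ ∀ L : Subgroup G, ¬ Cfsg.IsComponent L := by
  rw [← le_bot_iff, layer_le_iff]
  exact ⟨fun h L hL => isComponent_ne_bot hL (le_bot_iff.mp (h L hL)),
    fun h L hL => absurd hL (h L)⟩

theorem hasComponent_iff_layer_ne_bot : Cfsg.HasComponent G ↔ Cfsg.layer G ≠ ⊥ := by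
  rw [Ne, layer_eq_bot_iff]
  simp [Cfsg.HasComponent, Cfsg.IsComponent]

theorem map_layer_equiv (e : G ≃* G') : (Cfsg.layer G).map e.toMonoidHom = Cfsg.layer G' := by
  apply le_antisymm
  · rw [map_le_iff_le_comap, layer_le_iff]
    exact fun L hL => map_le_iff_le_comap.mp (component_le_layer (isComponent_map_equiv e hL))
  · rw [layer_le_iff]
    intro L hL
    have := Subgroup.map_mono (f := e.toMonoidHom)
      (component_le_layer (isComponent_map_equiv e.symm hL))
    refine le_trans (le_of_eq ?_) this
    rw [map_map]
    ext x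
    simp

instance layer_normal : (Cfsg.layer G).Normal :=
  normal_of_map_conj_eq fun g => map_layer_equiv (MulAut.conj g)

instance layer_characteristic : (Cfsg.layer G).Characteristic :=
  characteristic_iff_map_eq.mpr fun e => map_layer_equiv e

/-- A component is normalized by a subgroup all whose conjugation moves fix it. -/
theorem layer_le_normalizer [Finite G] {L : Subgroup G} (hL : Cfsg.IsComponent L) :
    Cfsg.layer G ≤ normalizer (L : Set G) := by
  rw [layer_le_iff]
  intro K hK
  rcases component_eq_or_commute hK hL with rfl | h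
  · exact le_normalizer
  · exact le_normalizer_iff_commutator_le_left.mpr
      (by rw [commutator_eq_bot_symm h]; exact bot_le)

theorem component_normal_in_layer [Finite G] {L : Subgroup G} (hL : Cfsg.IsComponent L) :
    (L.subgroupOf (Cfsg.layer G)).Normal :=
  normal_subgroupOf_of_le_normalizer (layer_le_normalizer hL)

/-- A component of `G` contained in a subgroup is a component of it. -/
theorem component_map_layer_le {H : Subgroup G} (hH : H.IsSubnormal) :
    (Cfsg.layer H).map H.subtype ≤ Cfsg.layer G := by
  rw [map_le_iff_le_comap, layer_le_iff]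
  intro K hK
  exact map_le_iff_le_comap.mp (component_le_layer ((isComponent_map_subtype_iff hH K).mpr hK))

theorem component_le_map_layer {H L : Subgroup G} (hL : Cfsg.IsComponent L) (h : L ≤ H) :
    L ≤ (Cfsg.layer H).map H.subtype := by
  have := Subgroup.map_mono (f := H.subtype) (component_le_layer (isComponent_subgroupOf hL h))
  rwa [map_subgroupOf_eq_of_le h] at this

/-- A component centralizes each solvable subgroup which it normalizes. -/
theorem component_commute_solvable [Finite G] {L H : Subgroup G} (hL : Cfsg.IsComponent L)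
    (hs : Group.IsSolvable H) (hn : L ≤ normalizer (H : Set G)) : ⁅L, H⁆ = ⊥ := by
  have hM : H ⊔ L ≤ normalizer (H : Set G) := sup_le le_normalizer hn
  haveI hHn : (H.subgroupOf (H ⊔ L)).Normal := normal_subgroupOf_of_le_normalizer hM
  rcases component_le_or_commute (isComponent_subgroupOf hL (le_sup_right : L ≤ H ⊔ L))
      (isSubnormal_of_normal (H.subgroupOf (H ⊔ L))) with h | h
  · exfalso
    have hle := Subgroup.map_mono (f := (H ⊔ L).subtype) h
    rw [map_subgroupOf_eq_of_le le_sup_right, map_subgroupOf_eq_of_le le_sup_left] at hle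
    exact qs_not_isSolvable hL.2 (solvable_of_solvable_injective (inclusion_injective hle))
  · exact (commutator_subgroupOf_eq_bot_iff le_sup_right le_sup_left).mp h

theorem component_commute_normal_solvable [Finite G] {L N : Subgroup G} [N.Normal]
    (hL : Cfsg.IsComponent L) (hs : Group.IsSolvable N) : ⁅L, N⁆ = ⊥ :=
  component_commute_solvable hL hs le_normalizer_of_normal

theorem layer_commute_normal_solvable [Finite G] (N : Subgroup G) [N.Normal]
    (hs : Group.IsSolvable N) : ⁅Cfsg.layer G, N⁆ = ⊥ := by
  rw [commutator_eq_bot_iff_le_centralizer, layer_le_iff]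
  exact fun L hL => commutator_eq_bot_iff_le_centralizer.mp
    (component_commute_normal_solvable hL hs)

theorem layer_commutator_eq_self : ⁅Cfsg.layer G, Cfsg.layer G⁆ = Cfsg.layer G := by
  refine le_antisymm (commutator_le_self _) (layer_le_iff.mpr fun L hL => ?_)
  rw [← isComponent_commutator_eq_self hL]
  exact commutator_mono (component_le_layer hL) (component_le_layer hL)

theorem layer_isPerfect : Group.IsPerfect (Cfsg.layer G) :=
  Subgroup.isPerfect_iff.mpr layer_commutator_eq_self

end Cfsg.Agent.Components
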