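import Cfsg.Agent.Lib.Components.PConstrained
import Cfsg.Agent.Lib.LocalEvenA.Core

/-!
# The P × Q lemma and characteristic p of p-local subgroups
-/

set_option autoImplicit false
set_option linter.unusedSectionVars false
set_option linter.style.haveILetI false

namespace Cfsg.Agent.Components

open scoped commutatorElement
open Subgroup Cfsg

variable {G : Type*} [Group G] [Finite G] {p : ℕ} [hp : Fact p.Prime]

/-- Conjugation and the commutator, for an element stabilising a chain. -/
theorem commute_of_commutator_commute {x a : G} (hx : (orderOf x).Coprime p) {R : Subgroup G}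
    (hR : IsPGroup p ↥R) (hm : ⁅a⁻¹, x⁆ ∈ R) (hc : Commute x ⁅a⁻¹, x⁆) : Commute x a := by
  obtain ⟨k, hk⟩ := hR ⟨_, hm⟩
  have he : a⁻¹ * (x * a * x⁻¹) = ⁅a⁻¹, x⁆ := by simp [commutatorElement_def, mul_assoc]
  refine LocalEvenA.comm_of_coprime_chain hx ⟨k, ?_⟩ (by rw [he]; exact hc)
  rw [he]
  exact congrArg Subtype.val hk

/-- Thompson's `P × Q` lemma. -/
theorem pq_lemma {P : Subgroup G} (hP : IsPGroup p ↥P) {x : G} (hx : (orderOf x).Coprime p)
    (hxP : ∀ y ∈ P, Commute x y) {R : Subgroup G} (hR : IsPGroup p ↥R)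
    (hPR : P ≤ normalizer (R : Set G)) (hxR : x ∈ normalizer (R : Set G))
    (hC : ∀ r ∈ R, (∀ y ∈ P, Commute r y) → Commute x r) : ∀ r ∈ R, Commute x r := by
  induction hn : Nat.card R using Nat.strong_induction_on generalizing R with
  | _ n ih =>
    subst hn
    rcases eq_or_ne R ⊥ with rfl | hne
    · intro r hr; rw [mem_bot.mp hr]; exact Commute.one_right x
    -- `[R, P] < R`
    set R₁ := ⁅R, P⁆ with hR₁
    have hle : R₁ ≤ R := le_normalizer_iff_commutator_le_left.mp hPR
    have hlt : R₁ < R := by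
      refine lt_of_le_of_ne hle fun he => hne ?_
      have hS : IsPGroup p ↥(R ⊔ P) := hR.to_sup_of_normal_left' hP hPR
      haveI := hS.isNilpotent
      obtain ⟨n, hn⟩ := (isNilpotent_iff_lowerCentralSeries (R ⊔ P)).mp
        (show Group.IsNilpotent ↥(R ⊔ P) from inferInstance)
      have : ∀ i, R ≤ (R ⊔ P).lowerCentralSeries i := by
        intro i
        induction i with
        | zero => rw [Subgroup.lowerCentralSeries_zero]; exact le_sup_left
        | succ i ihi =>
          rw [Subgroup.lowerCentralSeries_succ]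
          exact he.ge.trans (commutator_mono ihi le_sup_right)
      exact le_bot_iff.mp ((this n).trans_eq hn)
    have hPR₁ : P ≤ normalizer (R₁ : Set G) := normalizer_commutator_ge_right R P
    have hxR₁ : x ∈ normalizer (R₁ : Set G) := by
      apply mem_normalizer_of_map_conj_eq
      rw [hR₁, map_commutator, map_conj_eq_of_mem_normalizer hxR]
      have hxP' : x ∈ centralizer (P : Set G) := mem_centralizer_iff.mpr fun y hy => (hxP y hy).eq.symm
      rw [map_conj_eq_of_mem_normalizer (centralizer_le_normalizer _ hxP')]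
    have hcard : Nat.card R₁ < Nat.card R :=
      lt_of_le_of_ne (Subgroup.card_le_of_le hle) fun h => hlt.ne (eq_of_le_of_card_ge hle h.ge)
    have h1 := ih _ hcard (hR.to_le hle) hPR₁ hxR₁ (fun r hr => hC r (hle hr)) rfl
    intro r hr
    have hRx : ⁅R, zpowers x⁆ ≤ R :=
      le_normalizer_iff_commutator_le_left.mp (zpowers_le.mpr hxR)
    have h2 : ⁅⁅R, zpowers x⁆, P⁆ = ⊥ := by
      refine commutator_commutator_eq_bot_of_rotate ?_ ?_
      · have h0 : ⁅zpowers x, P⁆ = ⊥ := by
          rw [commutator_eq_bot_iff_forall]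
          intro a ha b hb
          obtain ⟨n, rfl⟩ := mem_zpowers_iff.mp ha
          exact ((hxP b hb).zpow_left n).eq
        rw [h0, commutator_bot_left]
      · rw [commutator_eq_bot_iff_forall]
        intro a ha b hb
        obtain ⟨n, rfl⟩ := mem_zpowers_iff.mp hb
        rw [commutator_comm] at ha
        exact ((h1 a ha).zpow_left n).eq.symm
    have hm : ⁅r⁻¹, x⁆ ∈ ⁅R, zpowers x⁆ :=
      commutator_mem_commutator (inv_mem hr) (mem_zpowers x)
    exact commute_of_commutator_commute hx hR (hRx hm)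
      (hC _ (hRx hm) fun y hy => (commutator_eq_bot_iff_forall.mp h2 _ hm y hy))

/-- If `C_G(P) ≤ M`, `P ≤ M` and `M` has characteristic `p`, then so has `N_G(P)`. -/
theorem charP_normalizer_of_charP {P M : Subgroup G} (hP : IsPGroup p ↥P) (hPM : P ≤ M)
    (hCM : centralizer (P : Set G) ≤ M)
    (hM : centralizer (Cfsg.pCore p ↥M : Set ↥M) ≤ Cfsg.pCore p ↥M) :
    centralizer (Cfsg.pCore p ↥(normalizer (P : Set G)) : Set ↥(normalizer (P : Set G))) ≤
      Cfsg.pCore p ↥(normalizer (P : Set G)) := by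
  set H := normalizer (P : Set G) with hH
  set D := centralizer (Cfsg.pCore p ↥H : Set ↥H) with hD
  haveI : D.Normal := normal_centralizer
  haveI : (P.subgroupOf H).Normal := Subgroup.normal_in_normalizer
  have hPH : P.subgroupOf H ≤ Cfsg.pCore p ↥H :=
    le_pCore inferInstance (hP.comap_of_injective H.subtype H.subtype_injective)
  have hDP : ∀ d ∈ D, ∀ y ∈ P, Commute (d : G) y := fun d hd y hy =>
    (congrArg Subtype.val (mem_centralizer_iff.mp hd ⟨y, le_normalizer hy⟩ (hPH hy))).symm
  refine le_pCore inferInstance (LocalEvenA.isPGroup_of_forall_coprime fun x hxD hx => ?_)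
  have hxC : (x : G) ∈ centralizer (P : Set G) :=
    mem_centralizer_iff.mpr fun y hy => (hDP x hxD y hy).symm.eq
  have hxM : (x : G) ∈ M := hCM hxC
  set R := (Cfsg.pCore p ↥M).map M.subtype with hR
  have hRp : IsPGroup p ↥R := sSup_isPGroup_of_normal.map _
  have hMR : M ≤ normalizer (R : Set G) := by
    have := le_normalizer_map (H := Cfsg.pCore p ↥M) M.subtype
    rwa [normalizer_eq_top, ← MonoidHom.range_eq_map, range_subtype] at this
  have hxo : (orderOf (x : G)).Coprime p := by rwa [Subgroup.orderOf_coe]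
  -- `R ∩ D` is a normal p-subgroup of `D`
  have hRD : R.subgroupOf H ⊓ D ≤ Cfsg.pCore p ↥H := by
    have hnorm : D ≤ normalizer (R.subgroupOf H ⊓ D : Subgroup ↥H) := by
      intro d hd
      have hdM : (d : G) ∈ M := hCM (mem_centralizer_iff.mpr fun y hy => (hDP d hd y hy).symm.eq)
      rw [mem_normalizer_iff]
      intro y
      have h1 := mem_normalizer_iff.mp (hMR hdM) (y : G)
      constructor
      · rintro ⟨hy1, hy2⟩
        exact mem_inf.mpr ⟨h1.mp hy1, D.mul_mem (D.mul_mem hd hy2) (D.inv_mem hd)⟩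
      · rintro ⟨hy1, hy2⟩
        refine ⟨h1.mpr hy1, ?_⟩
        have := D.mul_mem (D.mul_mem (D.inv_mem hd) hy2) hd
        simpa [mul_assoc] using this
    exact LocalEvenA.subnormal_le_pCore
      (isSubnormal_of_normal_in inf_le_right (isSubnormal_of_normal D) hnorm)
      ((hRp.comap_of_injective H.subtype H.subtype_injective).to_le inf_le_left)
  have hcent : ∀ r ∈ R, Commute (x : G) r := by
    refine pq_lemma hP hxo (fun y hy => hDP x hxD y hy) hRp (hPM.trans hMR) (hMR hxM) ?_
    intro r hr hrP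
    have hrH : r ∈ H :=
      centralizer_le_normalizer _ (mem_centralizer_iff.mpr fun y hy => (hrP y hy).symm.eq)
    have hm : (⟨⁅r⁻¹, (x : G)⁆, by
        rw [commutatorElement_def]
        exact mul_mem (mul_mem (mul_mem (inv_mem hrH) x.2) (inv_mem (inv_mem hrH))) (inv_mem x.2)⟩ : ↥H)
          ∈ R.subgroupOf H ⊓ D := by
      refine mem_inf.mpr ⟨?_, ?_⟩
      · change ⁅r⁻¹, (x : G)⁆ ∈ R
        exact le_normalizer_iff_commutator_le_left.mp (zpowers_le.mpr (hMR hxM))
          (commutator_mem_commutator (inv_mem hr) (mem_zpowers _))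
      · have h := commutator_le_right (⊤ : Subgroup ↥H) D
          (commutator_mem_commutator (mem_top (⟨r⁻¹, inv_mem hrH⟩ : ↥H)) hxD)
        exact h
    have hm2 := congrArg Subtype.val (mem_centralizer_iff.mp hxD _ (hRD hm))
    exact commute_of_commutator_commute hxo hRp hm.1 hm2.symm
  have hxR : (⟨(x : G), hxM⟩ : ↥M) ∈ Cfsg.pCore p ↥M :=
    hM (mem_centralizer_iff.mpr fun r hr => Subtype.ext (hcent r (mem_map_of_mem _ hr)).symm.eq)
  obtain ⟨k, hk⟩ := (sSup_isPGroup_of_normal (p := p) (G := ↥M)) ⟨_, hxR⟩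
  exact Subtype.ext (LocalEvenA.eq_one_of_pPow_of_coprime (k := k)
    (congrArg (fun z : ↥(Cfsg.pCore p ↥M) => ((z : ↥M) : G)) hk) hxo)

theorem pPrimeCore_eq_bot_of_centralizer_le
    (h : centralizer (Cfsg.pCore p G : Set G) ≤ Cfsg.pCore p G) : Cfsg.pPrimeCore p G = ⊥ := by
  have hd : Disjoint (Cfsg.pPrimeCore p G) (Cfsg.pCore p G) := by
    rw [disjoint_iff]
    refine eq_bot_of_card_eq _ (Nat.dvd_one.mp ?_)
    obtain ⟨k, hk⟩ := (sSup_isPGroup_of_normal (p := p) (G := G)).exists_card_eq
    have h2 : Nat.card (Cfsg.pPrimeCore p G ⊓ Cfsg.pCore p G : Subgroup G) ∣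
        Nat.gcd (Nat.card (Cfsg.pPrimeCore p G)) (p ^ k) :=
      Nat.dvd_gcd (card_dvd_of_le inf_le_left) (hk ▸ card_dvd_of_le inf_le_right)
    rwa [Nat.Coprime.pow_right k pPrimeCore_coprime] at h2
  rw [← le_bot_iff]
  have h1 : Cfsg.pPrimeCore p G ≤ Cfsg.pCore p G :=
    (commutator_eq_bot_iff_le_centralizer.mp (commutator_eq_bot_of_disjoint hd)).trans h
  exact (le_inf le_rfl h1).trans (disjoint_iff.mp hd).le

theorem fStar_eq_pCore_iff : Cfsg.generalizedFittingSubgroup G = Cfsg.pCore p G ↔
    centralizer (Cfsg.pCore p G : Set G) ≤ Cfsg.pCore p G := by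
  refine ⟨fun h => h ▸ centralizer_fStar_le, fun h => ?_⟩
  have hF := fitting_eq_pCore_of_core_eq_bot (pPrimeCore_eq_bot_of_centralizer_le h)
  have hE : Cfsg.layer G = ⊥ := by
    rw [layer_eq_bot_iff]
    intro L hL
    haveI := fitting_isSolvable (G := G)
    refine qs_not_isSolvable hL.2 (Group.isSolvable_of_isSolvable_injective
      (inclusion_injective ((component_le_layer hL).trans
        (layer_le_centralizer_fitting.trans
          (show centralizer (Cfsg.fittingSubgroup G : Set G) ≤ Cfsg.fittingSubgroup G by rw [hF]; exact h)))))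
  rw [Cfsg.generalizedFittingSubgroup, hE, hF, bot_sup_eq]

theorem charP_iff_layer_and_core :
    centralizer (Cfsg.pCore p G : Set G) ≤ Cfsg.pCore p G ↔
      Cfsg.layer G = ⊥ ∧ Cfsg.pPrimeCore p G = ⊥ := by
  constructor
  · intro h
    have h' := fStar_eq_pCore_iff.mpr h
    refine ⟨?_, pPrimeCore_eq_bot_of_centralizer_le h⟩
    have hle : Cfsg.layer G ≤ Cfsg.pCore p G := h' ▸ layer_le_fStar
    rw [layer_eq_bot_iff]
    intro L hL
    haveI := (sSup_isPGroup_of_normal (p := p) (G := G)).isNilpotent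
    exact qs_not_isSolvable hL.2 (Group.isSolvable_of_isSolvable_injective
      (inclusion_injective ((component_le_layer hL).trans hle)))
  · rintro ⟨hE, hO⟩
    apply fStar_eq_pCore_iff.mp
    rw [Cfsg.generalizedFittingSubgroup, hE, bot_sup_eq, fitting_eq_pCore_of_core_eq_bot hO]

end Cfsg.Agent.Components
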