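import Mathlib
import Cfsg.Prelude.Def_Local

/-!
# General facts on subnormal subgroups
-/

set_option autoImplicit false

namespace Cfsg.Agent.Components

open scoped commutatorElement
open Subgroup

variable {G G' : Type*} [Group G] [Group G']

theorem isSubnormal_of_normal (H : Subgroup G) [h : H.Normal] : H.IsSubnormal :=
  Subgroup.Normal.isSubnormal h

/-- A subnormal subgroup of a subnormal subgroup, given in the ambient group. -/
theorem isSubnormal_of_normal_in {H K : Subgroup G} (hle : H ≤ K) (hK : K.IsSubnormal)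
    (hN : K ≤ normalizer (H : Set G)) : H.IsSubnormal :=
  IsSubnormal.step H K hle hK (normal_subgroupOf_of_le_normalizer hN)

theorem isSubnormal_map_subtype_iff {M : Subgroup G} (hM : M.IsSubnormal) (H : Subgroup M) :
    (H.map M.subtype).IsSubnormal ↔ H.IsSubnormal := by
  refine ⟨fun h => ?_, fun h => h.trans' hM⟩
  have := h.comap M.subtype
  rwa [comap_map_eq_self_of_injective M.subtype_injective] at this

theorem isSubnormal_map_equiv (e : G ≃* G') {H : Subgroup G} (h : H.IsSubnormal) :
    (H.map e.toMonoidHom).IsSubnormal :=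
  h.map e.surjective

theorem isSubnormal_conj (g : G) {H : Subgroup G} (h : H.IsSubnormal) :
    (H.map (MulAut.conj g).toMonoidHom).IsSubnormal :=
  isSubnormal_map_equiv _ h

/-- The image of a subgroup of `H` under the inclusion commutes with commutators. -/
theorem map_subtype_commutator_eq {M : Subgroup G} (A B : Subgroup M) :
    (⁅A, B⁆ : Subgroup M).map M.subtype = ⁅A.map M.subtype, B.map M.subtype⁆ :=
  Subgroup.map_commutator _ _ _

theorem commutator_subgroupOf_eq_bot_iff {M A B : Subgroup G} (hA : A ≤ M) (hB : B ≤ M) :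
    ⁅A.subgroupOf M, B.subgroupOf M⁆ = ⊥ ↔ ⁅A, B⁆ = ⊥ := by
  rw [← map_eq_bot_iff_of_injective _ M.subtype_injective, map_commutator,
    map_subgroupOf_eq_of_le hA, map_subgroupOf_eq_of_le hB]

/-- Strong induction on the order, along proper subgroups: statement about all finite groups. -/
theorem card_lt_of_ne_top [Finite G] {M : Subgroup G} (h : M ≠ ⊤) : Nat.card M < Nat.card G := by
  refine lt_of_le_of_ne (card_le_card_group M) fun he => h ?_
  exact eq_top_of_card_eq M he

/-- The three subgroups lemma in the form used for perfect subgroups. -/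
theorem commutator_eq_bot_of_perfect {L K : Subgroup G} (hL : ⁅L, L⁆ = L)
    (h : ⁅⁅K, L⁆, L⁆ = ⊥) : ⁅L, K⁆ = ⊥ := by
  conv_lhs => rw [← hL]
  refine commutator_commutator_eq_bot_of_rotate ?_ ?_
  · rw [commutator_comm L K]; exact h
  · exact h

theorem commutator_eq_bot_symm {L K : Subgroup G} (h : ⁅L, K⁆ = ⊥) : ⁅K, L⁆ = ⊥ := by
  rw [commutator_comm]; exact h

theorem commutator_eq_bot_iff_forall {A B : Subgroup G} :
    ⁅A, B⁆ = ⊥ ↔ ∀ a ∈ A, ∀ b ∈ B, a * b = b * a := by
  rw [commutator_eq_bot_iff_le_centralizer]
  constructor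
  · intro h a ha b hb
    exact (mem_centralizer_iff.mp (h ha) b hb).symm
  · intro h a ha
    exact mem_centralizer_iff.mpr fun b hb => (h a ha b hb).symm

/-- A subgroup fixed by all conjugations is normal. -/
theorem normal_of_map_conj_eq {H : Subgroup G}
    (h : ∀ g : G, H.map (MulAut.conj g).toMonoidHom = H) : H.Normal := by
  constructor
  intro x hx g
  rw [← h g]
  exact mem_map_of_mem _ hx

theorem map_conj_eq_of_mem_normalizer {H : Subgroup G} {g : G} (hg : g ∈ normalizer (H : Set G)) :
    H.map (MulAut.conj g).toMonoidHom = H := by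
  ext x
  rw [mem_map]
  constructor
  · rintro ⟨y, hy, rfl⟩
    exact (mem_normalizer_iff.mp hg y).mp hy
  · intro hx
    refine ⟨g⁻¹ * x * g, ?_, by simp [mul_assoc]⟩
    have := (mem_normalizer_iff.mp (inv_mem hg) x).mp hx
    simpa using this

theorem mem_normalizer_of_map_conj_eq {H : Subgroup G} {g : G}
    (hg : H.map (MulAut.conj g).toMonoidHom = H) : g ∈ normalizer (H : Set G) := by
  rw [mem_normalizer_iff]
  intro x
  constructor
  · intro hx
    rw [← hg]
    exact mem_map_of_mem _ hx
  · intro hx
    rw [← hg, mem_map] at hx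
    obtain ⟨y, hy, he⟩ := hx
    have : y = x := by simpa using he
    exact this ▸ hy

end Cfsg.Agent.Components
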