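import Cfsg.Prelude.Def_Balance
import Cfsg.Agent.Lib.Basics.CoprimeAction
import Cfsg.Agent.Lib.Basics.CoprimeGen
import Cfsg.Agent.Lib.Components.Subnormal

/-!
# Signalizer functors: basic properties of the family of members
-/

set_option autoImplicit false
set_option linter.unusedSectionVars false
set_option linter.style.haveILetI false

namespace Cfsg.Agent.Components

open scoped commutatorElement
open Subgroup Cfsg

variable {G : Type*} [Group G] [Finite G] {p : ℕ} [hp : Fact p.Prime] {A : Subgroup G}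
  {θ : G → Subgroup G}

section elementary

theorem elementary_comm (hA : Cfsg.IsElementaryAbelian p A) {a b : G} (ha : a ∈ A) (hb : b ∈ A) :
    Commute a b :=
  haveI := hA.1
  congrArg Subtype.val (IsMulCommutative.is_comm.comm (⟨a, ha⟩ : ↥A) ⟨b, hb⟩)

theorem elementary_isPGroup (hA : Cfsg.IsElementaryAbelian p A) : IsPGroup p ↥A :=
  fun x => ⟨1, Subtype.ext (by rw [pow_one]; exact hA.2 x x.2)⟩

theorem elementary_mono (hA : Cfsg.IsElementaryAbelian p A) {B : Subgroup G} (h : B ≤ A) :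
    Cfsg.IsElementaryAbelian p B :=
  ⟨⟨⟨fun x y => Subtype.ext (elementary_comm hA (h x.2) (h y.2))⟩⟩, fun b hb => hA.2 b (h hb)⟩

theorem elementary_exists_ne_one {B : Subgroup G} (h : p ≤ Nat.card ↥B) : ∃ b ∈ B, b ≠ 1 := by
  by_contra hc
  push Not at hc
  have : B = ⊥ := eq_bot_iff.mpr fun x hx => mem_bot.mpr (hc x hx)
  rw [this, card_bot] at h
  exact absurd h (not_le.mpr hp.out.one_lt)

theorem coprime_of_not_dvd {H K : Subgroup G} (hH : IsPGroup p ↥H) (hK : ¬ p ∣ Nat.card ↥K) :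
    (Nat.card ↥H).Coprime (Nat.card ↥K) := by
  obtain ⟨k, hk⟩ := hH.exists_card_eq
  rw [hk]
  exact Nat.Coprime.pow_left k (hp.out.coprime_iff_not_dvd.mpr hK)

theorem not_dvd_of_le {H K : Subgroup G} (h : H ≤ K) (hK : ¬ p ∣ Nat.card ↥K) :
    ¬ p ∣ Nat.card ↥H := fun hd => hK (hd.trans (card_dvd_of_le h))

theorem zpowers_le_centralizer_self (hA : Cfsg.IsElementaryAbelian p A) {a : G} (ha : a ∈ A) :
    A ≤ centralizer ({a} : Set G) := fun b hb => by
  rw [mem_centralizer_singleton_iff]; exact (elementary_comm hA hb ha).eq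

/-- `A / B` cyclic forces index at most `p`. -/
theorem relIndex_le_of_cyclic (hA : Cfsg.IsElementaryAbelian p A) {B : Subgroup G} (hB : B ≤ A)
    {x : G} (hx : x ∈ A) (h : B ⊔ zpowers x = A) : B.relIndex A ≤ p := by
  haveI := hA.1
  have hn : (zpowers x).subgroupOf A ⊔ B.subgroupOf A = ⊤ := by
    rw [← subgroupOf_sup (zpowers_le.mpr hx) hB, sup_comm, h, subgroupOf_self]
  have h1 := relIndex_sup_right ((zpowers x).subgroupOf A) (B.subgroupOf A)
  rw [hn, relIndex_top_right] at h1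
  change (B.subgroupOf A).index ≤ p
  rw [h1]
  refine Nat.le_of_dvd hp.out.pos ((relIndex_dvd_card _ _).trans ?_)
  rw [Nat.card_congr (subgroupOfEquivOfLe (zpowers_le.mpr hx)).toEquiv, Nat.card_zpowers]
  exact orderOf_dvd_of_pow_eq_one (hA.2 x hx)

/-- Coprime generation by centralizers of subgroups of index at most `p`. -/
theorem le_iSup_centralizer_index_le (hA : Cfsg.IsElementaryAbelian p A) {X : Subgroup G}
    (hX : ¬ p ∣ Nat.card ↥X) (hAX : A ≤ normalizer (X : Set G)) :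
    X ≤ ⨆ B : {B : Subgroup G // B ≤ A ∧ B.relIndex A ≤ p},
      X ⊓ centralizer ((B : Subgroup G) : Set G) := by
  haveI := hA.1
  refine (Basics.le_iSup_inf_centralizer_cyclic A X hAX
    (coprime_of_not_dvd (elementary_isPGroup hA) hX)).trans (iSup₂_le fun B hB => ?_)
  obtain ⟨hBA, x, hx, hsup⟩ := hB
  exact le_iSup (fun B : {B : Subgroup G // B ≤ A ∧ B.relIndex A ≤ p} =>
    X ⊓ centralizer ((B : Subgroup G) : Set G)) ⟨B, hBA, relIndex_le_of_cyclic hA hBA hx hsup⟩

end elementary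

/-! ### Values and members -/

theorem sf_le_centralizer (hA : Cfsg.IsElementaryAbelian p A)
    (hθ : Cfsg.IsSignalizerFunctor p A θ) {a : G} (ha : a ∈ A) (ha1 : a ≠ 1) :
    A ≤ normalizer (θ a : Set G) := by
  intro b hb
  rw [mem_normalizer_iff]
  intro x
  refine ⟨fun hx => hθ.2.2.1 a ha ha1 b hb x hx, fun hx => ?_⟩
  have := hθ.2.2.1 a ha ha1 b⁻¹ (inv_mem hb) _ hx
  simpa [mul_assoc] using this

theorem mem_family_invariant {X : Subgroup G} (hX : X ∈ Cfsg.signalizerFamily p A θ) :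
    A ≤ normalizer (X : Set G) := by
  intro b hb
  rw [mem_normalizer_iff]
  intro x
  refine ⟨fun hx => hX.2.2.1 b hb x hx, fun hx => ?_⟩
  have := hX.2.2.1 b⁻¹ (inv_mem hb) _ hx
  simpa [mul_assoc] using this

theorem theta_mem_family (hA : Cfsg.IsElementaryAbelian p A)
    (hθ : Cfsg.IsSolvableSignalizerFunctor p A θ) {a : G} (ha : a ∈ A) (ha1 : a ≠ 1) :
    θ a ∈ Cfsg.signalizerFamily p A θ :=
  ⟨hθ.2 a ha ha1, hθ.1.2.1 a ha ha1, fun b hb x hx => hθ.1.2.2.1 a ha ha1 b hb x hx,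
    fun b hb hb1 => hθ.1.2.2.2 a ha ha1 b hb hb1⟩

theorem mem_family_of_le {X Y : Subgroup G} (hY : Y ∈ Cfsg.signalizerFamily p A θ) (hXY : X ≤ Y)
    (hAX : A ≤ normalizer (X : Set G)) : X ∈ Cfsg.signalizerFamily p A θ :=
  ⟨Basics.isSolvable_of_le hXY hY.1, not_dvd_of_le hXY hY.2.1,
    fun b hb x hx => (mem_normalizer_iff.mp (hAX hb) x).mp hx,
    fun a ha ha1 => (inf_le_inf_right _ hXY).trans (hY.2.2.2 a ha ha1)⟩

theorem bot_mem_family : (⊥ : Subgroup G) ∈ Cfsg.signalizerFamily p A θ :=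
  ⟨inferInstance, by rw [card_bot]; exact hp.out.not_dvd_one,
    fun b _ x hx => by rw [mem_bot.mp hx]; simp, fun a _ _ => inf_le_left.trans bot_le⟩

theorem isSolvable_sup {X Y : Subgroup G} (hn : Y ≤ normalizer (X : Set G))
    (hX : Group.IsSolvable ↥X) (hY : Group.IsSolvable ↥Y) : Group.IsSolvable ↥(X ⊔ Y) := by
  set U := X ⊔ Y
  haveI : (X.subgroupOf U).Normal := normal_subgroupOf_of_le_normalizer (sup_le le_normalizer hn)
  let f : ↥Y →* ↥U ⧸ X.subgroupOf U := (QuotientGroup.mk' _).comp (inclusion le_sup_right)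
  have hf : Function.Surjective f := by
    intro q
    obtain ⟨⟨u, hu⟩, rfl⟩ := QuotientGroup.mk'_surjective _ q
    have hu' : u ∈ ((X ⊔ Y : Subgroup G) : Set G) := hu
    rw [coe_mul_of_right_le_normalizer_left _ _ hn] at hu'
    obtain ⟨x, hx, y, hy, rfl⟩ := hu'
    refine ⟨⟨y, hy⟩, QuotientGroup.eq.mpr ?_⟩
    rw [mem_subgroupOf]
    simp only [Subgroup.coe_mul, Subgroup.coe_inv, coe_inclusion]
    have := (mem_normalizer_iff.mp (hn (inv_mem hy)) x).mp hx
    simpa [mul_assoc] using this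
  haveI : Group.IsSolvable (↥U ⧸ X.subgroupOf U) := Group.isSolvable_of_surjective (f := f) hf
  haveI : Group.IsSolvable ↥(X.subgroupOf U) := Basics.isSolvable_subgroupOf le_sup_left hX
  exact solvable_of_ker_le_range (X.subgroupOf U).subtype (QuotientGroup.mk' (X.subgroupOf U))
    (by rw [QuotientGroup.ker_mk', range_subtype])

/-- The product of two members, one normalizing the other, is a member. -/
theorem sup_mem_family (hA : Cfsg.IsElementaryAbelian p A)
    {X Y : Subgroup G} (hX : X ∈ Cfsg.signalizerFamily p A θ)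
    (hY : Y ∈ Cfsg.signalizerFamily p A θ) (hn : Y ≤ normalizer (X : Set G)) :
    X ⊔ Y ∈ Cfsg.signalizerFamily p A θ := by
  have hAU : A ≤ normalizer ((X ⊔ Y : Subgroup G) : Set G) := by
    intro b hb
    apply mem_normalizer_of_map_conj_eq
    rw [Subgroup.map_sup, map_conj_eq_of_mem_normalizer (mem_family_invariant hX hb),
      map_conj_eq_of_mem_normalizer (mem_family_invariant hY hb)]
  refine ⟨isSolvable_sup hn hX.1 hY.1, fun hd => ?_,
    fun b hb x hx => (mem_normalizer_iff.mp (hAU hb) x).mp hx, fun a ha ha1 u hu => ?_⟩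
  · have h := Basics.card_mul_card_eq_card_sup_mul_card_inf hn
    have h2 : p ∣ Nat.card ↥X * Nat.card ↥Y := h ▸ Dvd.dvd.mul_right hd _
    rcases hp.out.dvd_mul.mp h2 with h3 | h3
    · exact hX.2.1 h3
    · exact hY.2.1 h3
  · have hu1 : u ∈ ((X ⊔ Y : Subgroup G) : Set G) := hu.1
    rw [coe_mul_of_right_le_normalizer_left _ _ hn] at hu1
    obtain ⟨x, hx, y, hy, rfl⟩ := hu1
    have hz : zpowers a ≤ A := zpowers_le.mpr ha
    have hfix : ∀ b ∈ zpowers a, b * y * b⁻¹ * y⁻¹ ∈ X ⊓ Y := by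
      intro b hb
      have hbA := hz hb
      have hby : b * y * b⁻¹ ∈ Y := hY.2.2.1 b hbA y hy
      have hbx : b * x * b⁻¹ ∈ X := hX.2.2.1 b hbA x hx
      refine mem_inf.mpr ⟨?_, mul_mem hby (inv_mem hy)⟩
      have hc : b * (x * y) = (x * y) * b := by
        obtain ⟨n, rfl⟩ := mem_zpowers_iff.mp hb
        exact (Commute.zpow_left (show Commute a (x * y) from
          (mem_centralizer_singleton_iff.mp hu.2).symm) n).eq
      have e : b * y * b⁻¹ * y⁻¹ = (b * x * b⁻¹)⁻¹ * x := by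
        calc b * y * b⁻¹ * y⁻¹ = (b * x * b⁻¹)⁻¹ * (b * (x * y)) * b⁻¹ * y⁻¹ := by group
          _ = (b * x * b⁻¹)⁻¹ * ((x * y) * b) * b⁻¹ * y⁻¹ := by rw [hc]
          _ = (b * x * b⁻¹)⁻¹ * x := by group
      rw [e]
      exact mul_mem (inv_mem hbx) hx
    obtain ⟨c, hc, hcy⟩ := Basics.exists_inf_centralizer_mem_coset (zpowers a) Y (X ⊓ Y)
      inf_le_right (fun w hw => by
        apply mem_normalizer_of_map_conj_eq
        rw [Subgroup.map_inf _ _ _ (MulAut.conj w).injective,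
          map_conj_eq_of_mem_normalizer (hn hw), map_conj_eq_of_mem_normalizer (le_normalizer hw)])
      (fun b hb => by
        apply mem_normalizer_of_map_conj_eq
        rw [Subgroup.map_inf _ _ _ (MulAut.conj b).injective,
          map_conj_eq_of_mem_normalizer (mem_family_invariant hX (hz hb)),
          map_conj_eq_of_mem_normalizer (mem_family_invariant hY (hz hb))])
      (coprime_of_not_dvd ((elementary_isPGroup hA).to_le hz) hY.2.1) (Or.inr hY.1) y hy hfix
    have hca : c ∈ centralizer ({a} : Set G) := by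
      rw [mem_centralizer_singleton_iff]
      exact (mem_centralizer_iff.mp hc.2 a (mem_zpowers a)).symm
    have h1 : c ∈ θ a := hY.2.2.2 a ha ha1 ⟨hc.1, hca⟩
    have h2 : x * y * c⁻¹ ∈ θ a := by
      refine hX.2.2.2 a ha ha1 (mem_inf.mpr ⟨?_, mul_mem hu.2 ((centralizer ({a} : Set G)).inv_mem hca)⟩)
      have h3 : y * c⁻¹ ∈ X := by
        have := X.inv_mem (hcy : y⁻¹ * c ∈ X ⊓ Y).1
        have h4 := (mem_normalizer_iff.mp (hn hy) _).mp this
        simpa [mul_assoc] using h4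
      rw [mul_assoc]
      exact mul_mem hx h3
    simpa using mul_mem h2 h1

theorem signalizerInf_le {B : Subgroup G} {b : G} (hb : b ∈ B) (hb1 : b ≠ 1) :
    Cfsg.signalizerInf B θ ≤ θ b :=
  iInf_le (fun a : {a : G // a ∈ B ∧ a ≠ 1} => θ (a : G)) ⟨b, hb, hb1⟩

theorem le_signalizerInf_iff {B X : Subgroup G} :
    X ≤ Cfsg.signalizerInf B θ ↔ ∀ b ∈ B, b ≠ 1 → X ≤ θ b := by
  rw [Cfsg.signalizerInf, le_iInf_iff]
  exact ⟨fun h b hb hb1 => h ⟨b, hb, hb1⟩, fun h b => h b b.2.1 b.2.2⟩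

theorem signalizerInf_mem_family (hA : Cfsg.IsElementaryAbelian p A)
    (hθ : Cfsg.IsSolvableSignalizerFunctor p A θ) {B : Subgroup G} (hB : B ≤ A) (hB1 : B ≠ ⊥) :
    Cfsg.signalizerInf B θ ∈ Cfsg.signalizerFamily p A θ := by
  obtain ⟨⟨b, hb⟩, hb1⟩ := ne_bot_iff_exists_ne_one.mp hB1
  have hb1' : b ≠ 1 := fun h => hb1 (Subtype.ext h)
  refine mem_family_of_le (theta_mem_family hA hθ (hB hb) hb1') (signalizerInf_le hb hb1') ?_
  intro a ha
  rw [mem_normalizer_iff]
  intro x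
  constructor
  · intro hx
    exact (Subgroup.mem_iInf).mpr fun c =>
      (mem_normalizer_iff.mp (sf_le_centralizer hA hθ.1 (hB c.2.1) c.2.2 ha) x).mp
        (signalizerInf_le c.2.1 c.2.2 hx)
  · intro hx
    exact (Subgroup.mem_iInf).mpr fun c =>
      (mem_normalizer_iff.mp (sf_le_centralizer hA hθ.1 (hB c.2.1) c.2.2 ha) x).mpr
        (signalizerInf_le c.2.1 c.2.2 hx)

/-- The common intersection of the values centralizes the subgroup. -/
theorem signalizerInf_le_centralizer (hθ : Cfsg.IsSignalizerFunctor p A θ) {B : Subgroup G}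
    (hB : B ≤ A) (hB1 : B ≠ ⊥) :
    Cfsg.signalizerInf B θ ≤ centralizer (B : Set G) := by
  obtain ⟨⟨b0, hb0⟩, hb01⟩ := ne_bot_iff_exists_ne_one.mp hB1
  intro x hx
  rw [mem_centralizer_iff]
  intro b hb
  rcases eq_or_ne b 1 with rfl | hb1
  · simp
  · exact (mem_centralizer_singleton_iff.mp
      (hθ.1 b (hB hb) hb1 (signalizerInf_le hb hb1 hx))).symm

/-- For a member `X`, `X ∩ C(B) = X ∩ θ(C(B))`. -/
theorem mem_family_inf_centralizer_le {X B : Subgroup G}
    (hX : X ∈ Cfsg.signalizerFamily p A θ) (hB : B ≤ A) :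
    X ⊓ centralizer (B : Set G) ≤ Cfsg.signalizerInf B θ := by
  rw [le_signalizerInf_iff]
  exact fun b hb hb1 => le_trans (inf_le_inf_left _ (centralizer_le (Set.singleton_subset_iff.mpr hb)))
    (hX.2.2.2 b (hB hb) hb1)

end Cfsg.Agent.Components
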