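import Cfsg.Agent.Lib.Components.NormalizerLayer
import Cfsg.Agent.Lib.Components.FStar2

/-!
# Components are normalized by the layer preimage of `N_G(P)`
-/

set_option autoImplicit false
set_option linter.unusedSectionVars false
set_option linter.style.haveILetI false

namespace Cfsg.Agent.Components

open scoped commutatorElement Pointwise
open Subgroup Cfsg

variable {G : Type*} [Group G] [Finite G] {p : ℕ} [hp : Fact p.Prime]

/-- The centre of the layer as a subgroup of `G`. -/
noncomputable def layerCenter (G : Type*) [Group G] : Subgroup G :=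
  Cfsg.layer G ⊓ centralizer (Cfsg.layer G : Set G)

instance layerCenter_normal : (layerCenter G).Normal := by
  unfold layerCenter
  infer_instance

theorem layerCenter_le_pCore (hO : Cfsg.pPrimeCore p G = ⊥) :
    layerCenter G ≤ Cfsg.pCore p G := by
  rw [← fitting_eq_pCore_of_core_eq_bot hO]
  exact abelian_normal_le_fitting fun x hx => centralizer_le
    (SetLike.coe_subset_coe.mpr (show layerCenter G ≤ Cfsg.layer G from inf_le_left)) hx.2

theorem exists_p_element_not_mem_layerCenter (hO : Cfsg.pPrimeCore p G = ⊥) {L : Subgroup G}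
    (hL : Cfsg.IsComponent L) : ∃ v ∈ L, v ∉ layerCenter G ∧ ∃ k : ℕ, v ^ p ^ k = 1 := by
  by_contra h
  push Not at h
  have h1 : pGen p L ≤ layerCenter G := (closure_le _).mpr fun x hx => by
    obtain ⟨hxL, k, hk⟩ := hx
    by_contra hn
    exact h x hxL hn k hk
  rw [pGen_eq_self_of_isQuasisimple hL.2 (card_dvd_of_isPComponent_image hO hL)] at h1
  exact isQuasisimple_not_le_centralizer hL.2
    ((h1.trans inf_le_right).trans (centralizer_le (component_le_layer hL)))

theorem conj_map_comp (L : Subgroup G) (a b : G) :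
    (L.map (MulAut.conj b).toMonoidHom).map (MulAut.conj a).toMonoidHom =
      L.map (MulAut.conj (a * b)).toMonoidHom := by
  rw [map_map]; congr 1; ext x; simp [mul_assoc]

theorem conj_map_one (L : Subgroup G) : L.map (MulAut.conj (1 : G)).toMonoidHom = L := by
  ext x; simp

theorem mem_normalizer_of_conj_le {H : Subgroup G} {g : G}
    (h : H.map (MulAut.conj g).toMonoidHom ≤ H) : g ∈ normalizer (H : Set G) := by
  refine mem_normalizer_of_map_conj_eq (eq_of_le_of_card_ge h ?_)
  rw [card_map_of_injective (MulAut.conj g).injective]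

/-- The product of the `P`-orbit of `L`. -/
noncomputable def orbitSup (L P : Subgroup G) : Subgroup G :=
  ⨆ u : ↥P, L.map (MulAut.conj (u : G)).toMonoidHom

theorem le_orbitSup (L P : Subgroup G) : L ≤ orbitSup L P :=
  le_iSup_of_le (f := fun u : ↥P => L.map (MulAut.conj (u : G)).toMonoidHom) 1
    (by rw [OneMemClass.coe_one, conj_map_one])

theorem normalizer_orbitSup (L P : Subgroup G) : P ≤ normalizer (orbitSup L P : Set G) := by
  intro g hg
  refine mem_normalizer_of_conj_le ?_
  rw [orbitSup, Subgroup.map_iSup]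
  refine iSup_le fun u => ?_
  rw [conj_map_comp]
  exact le_iSup (fun u : ↥P => L.map (MulAut.conj (u : G)).toMonoidHom) ⟨g * u, mul_mem hg u.2⟩

theorem orbitSup_le_layer {L : Subgroup G} (hL : Cfsg.IsComponent L) (P : Subgroup G) :
    orbitSup L P ≤ Cfsg.layer G :=
  iSup_le fun u => component_le_layer (isComponent_conj (u : G) hL)

theorem exists_orbit_fixed (hO : Cfsg.pPrimeCore p G = ⊥) {L : Subgroup G}
    (hL : Cfsg.IsComponent L) {P : Subgroup G} (hP : IsPGroup p ↥P) (hZP : layerCenter G ≤ P) :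
    ∃ y ∈ orbitSup L P, y ∉ layerCenter G ∧ (∃ k : ℕ, y ^ p ^ k = 1) ∧
      y ∈ normalizer (P : Set G) := by
  set EΩ := orbitSup L P with hE
  set Z := layerCenter G with hZ
  set M := P ⊔ EΩ with hM
  obtain ⟨v, hvL, hvZ, k, hk⟩ := exists_p_element_not_mem_layerCenter hO hL
  have hvE : v ∈ EΩ := le_orbitSup L P hvL
  have hzp : IsPGroup p ↥((zpowers v).subgroupOf M) := by
    refine IsPGroup.comap_of_injective ?_ M.subtype M.subtype_injective
    intro w
    obtain ⟨i, hi⟩ := mem_zpowers_iff.mp w.2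
    refine ⟨k, Subtype.ext ?_⟩
    rw [SubmonoidClass.coe_pow, ← hi, ← zpow_natCast (v ^ i), ← zpow_mul, mul_comm, zpow_mul,
      zpow_natCast, hk, one_zpow, OneMemClass.coe_one]
  obtain ⟨Tv, hTv⟩ := hzp.exists_le_sylow
  obtain ⟨T, hT⟩ := (hP.comap_of_injective M.subtype M.subtype_injective).exists_le_sylow
  obtain ⟨g, hg⟩ := MulAction.exists_smul_eq ↥M Tv T
  set T' := (T : Subgroup ↥M).map M.subtype with hT'
  have hPT : P ≤ T' := by
    intro u hu
    exact ⟨⟨u, le_sup_left (b := EΩ) hu⟩, hT hu, rfl⟩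
  have hME : M ≤ normalizer (EΩ : Set G) := sup_le (normalizer_orbitSup L P) le_normalizer
  have hTE : T' ≤ normalizer (EΩ : Set G) := (map_subtype_le _).trans hME
  have hT'p : IsPGroup p ↥T' := T.2.map _
  obtain ⟨w, hwT, hwE, hwZ⟩ : ∃ w ∈ T', w ∈ EΩ ∧ w ∉ Z := by
    refine ⟨(g : G) * v * (g : G)⁻¹, ⟨g * ⟨v, le_sup_right (a := P) hvE⟩ * g⁻¹, ?_, rfl⟩, ?_, ?_⟩
    · rw [← hg]
      change _ ∈ MulAut.conj g • (Tv : Subgroup ↥M)
      exact ⟨_, hTv (mem_zpowers v), rfl⟩
    · exact (mem_normalizer_iff.mp (hME g.2) v).mp hvE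
    · intro h
      have := Normal.conj_mem (inferInstance : Z.Normal) _ h (g : G)⁻¹
      simp only [inv_inv] at this
      exact hvZ (by simpa [mul_assoc] using this)
  by_contra hc
  push Not at hc
  have key : ∀ y ∈ T', y ∈ EΩ → y ∉ Z → ∃ t ∈ T', ⁅y, t⁆ ∉ Z := by
    intro y hyT hyE hyZ
    by_contra hn
    push Not at hn
    obtain ⟨j, hj⟩ := hT'p ⟨y, hyT⟩
    refine hc y hyE hyZ ⟨j, by simpa using congrArg Subtype.val hj⟩ ?_
    refine mem_normalizer_of_conj_le ?_
    rintro _ ⟨u, hu, rfl⟩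
    have : y * u * y⁻¹ = ⁅y, u⁆ * u := by simp [commutatorElement_def]
    simp only [MulEquiv.coe_toMonoidHom, MulAut.conj_apply]
    rw [this]
    exact mul_mem (hZP (hn u (hPT hu))) hu
  haveI := hT'p.isNilpotent
  obtain ⟨n, hn⟩ := (isNilpotent_iff_lowerCentralSeries T').mp
    (show Group.IsNilpotent ↥T' from inferInstance)
  have hstep : ∀ i, ∃ y ∈ T'.lowerCentralSeries i, y ∈ T' ∧ y ∈ EΩ ∧ y ∉ Z := by
    intro i
    induction i with
    | zero => exact ⟨w, by rw [Subgroup.lowerCentralSeries_zero]; exact hwT, hwT, hwE, hwZ⟩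
    | succ i ih =>
      obtain ⟨y, hyi, hyT, hyE, hyZ⟩ := ih
      obtain ⟨t, ht, htZ⟩ := key y hyT hyE hyZ
      refine ⟨⁅y, t⁆, ?_, ?_, ?_, htZ⟩
      · rw [Subgroup.lowerCentralSeries_succ]; exact commutator_mem_commutator hyi ht
      · exact T'.mul_mem (T'.mul_mem (T'.mul_mem hyT ht) (T'.inv_mem hyT)) (T'.inv_mem ht)
      · have h1 : t * y⁻¹ * t⁻¹ ∈ EΩ := (mem_normalizer_iff.mp (hTE ht) _).mp (inv_mem hyE)
        have h2 := mul_mem hyE h1
        simpa [commutatorElement_def, mul_assoc] using h2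
  obtain ⟨y, hy, -, -, hyZ⟩ := hstep n
  rw [hn, mem_bot] at hy
  exact hyZ (hy ▸ one_mem _)

theorem orbit_fixed_of_commutator (hO : Cfsg.pPrimeCore p G = ⊥) {L : Subgroup G}
    (hL : Cfsg.IsComponent L) {P : Subgroup G} {x y : G} (hx : x ∈ normalizer (P : Set G))
    (hy : y ∈ orbitSup L P) (hyZ : y ∉ layerCenter G) {k : ℕ} (hk : y ^ p ^ k = 1)
    {n : ℕ} (hn : n.Coprime p) (hxy : ⁅x, y⁆ ^ n = 1) :
    ∃ u ∈ P, L.map (MulAut.conj x).toMonoidHom = L.map (MulAut.conj u).toMonoidHom := by
  by_contra hc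
  push Not at hc
  set EΩ := orbitSup L P with hE
  set E' := EΩ.map (MulAut.conj x).toMonoidHom with hE'
  have hne : ∀ u ∈ P, ∀ w ∈ P,
      L.map (MulAut.conj (x * u)).toMonoidHom ≠ L.map (MulAut.conj w).toMonoidHom := by
    intro u hu w hw he
    have hu' : x * u * x⁻¹ ∈ P := (mem_normalizer_iff.mp hx u).mp hu
    refine hc _ (mul_mem (inv_mem hu') hw) ?_
    have := congrArg (fun K : Subgroup G => K.map (MulAut.conj (x * u * x⁻¹)⁻¹).toMonoidHom) he
    simp only [conj_map_comp] at this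
    rwa [show (x * u * x⁻¹)⁻¹ * (x * u) = x by group] at this
  have hcomm : E' ≤ centralizer (EΩ : Set G) := by
    rw [hE', hE, orbitSup, Subgroup.map_iSup]
    refine iSup_le fun u => le_centralizer_iff.mp (iSup_le fun w => ?_)
    rw [conj_map_comp]
    rcases component_eq_or_commute (isComponent_conj (w : G) hL)
      (isComponent_conj (x * (u : G)) hL) with h | h
    · exact absurd h.symm (hne u u.2 w w.2)
    · exact commutator_eq_bot_iff_le_centralizer.mp h
  set y' := x * y * x⁻¹ with hy'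
  have hy'E : y' ∈ E' := ⟨y, hy, rfl⟩
  have hc1 : Commute y y' := mem_centralizer_iff.mp (hcomm hy'E) y hy
  have hk' : y' ^ p ^ k = 1 := by rw [hy', conj_pow, hk, mul_one, mul_inv_cancel]
  have he : ⁅x, y⁆ = 1 := by
    refine eq_one_of_pow_prime_pow_of_coprime hn (k := k) ?_ hxy
    rw [commutatorElement_def, ← hy', (hc1.symm.inv_right).mul_pow, hk', inv_pow, hk, inv_one,
      mul_one]
  have hyy : y' = y := by
    rw [commutatorElement_def, mul_inv_eq_one] at he
    exact he
  rw [hyy] at hy'E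
  refine hyZ ⟨orbitSup_le_layer hL P hy, ?_⟩
  have h : Cfsg.layer G ≤ centralizer ({y} : Set G) := by
    rw [layer_le_iff]
    intro K hK
    by_cases hK' : ∃ u ∈ P, K = L.map (MulAut.conj u).toMonoidHom
    · obtain ⟨u, hu, rfl⟩ := hK'
      intro a ha
      rw [mem_centralizer_singleton_iff]
      exact mem_centralizer_iff.mp (hcomm hy'E) a
        (le_iSup (fun u : ↥P => L.map (MulAut.conj (u : G)).toMonoidHom) ⟨u, hu⟩ ha)
    · push Not at hK'
      have h2 : EΩ ≤ centralizer (K : Set G) := iSup_le fun u => by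
        rcases component_eq_or_commute (isComponent_conj (u : G) hL) hK with h | h
        · exact absurd h.symm (hK' u u.2)
        · exact commutator_eq_bot_iff_le_centralizer.mp h
      intro a ha
      rw [mem_centralizer_singleton_iff]
      exact mem_centralizer_iff.mp (h2 hy) a ha
  exact mem_centralizer_iff.mpr fun a ha => mem_centralizer_singleton_iff.mp (h ha)

/-- The elements of `N_G(P)` fixing the `P`-orbit of `L`. -/
def orbitStab (L P : Subgroup G) : Subgroup ↥(normalizer (P : Set G)) where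
  carrier := {x | ∃ u ∈ P,
    L.map (MulAut.conj (x : G)).toMonoidHom = L.map (MulAut.conj u).toMonoidHom}
  one_mem' := ⟨1, one_mem _, rfl⟩
  mul_mem' := by
    rintro x y ⟨u, hu, hxu⟩ ⟨w, hw, hyw⟩
    refine ⟨(x : G) * w * (x : G)⁻¹ * u, mul_mem ((mem_normalizer_iff.mp x.2 w).mp hw) hu, ?_⟩
    rw [Subgroup.coe_mul, ← conj_map_comp, hyw, conj_map_comp, ← conj_map_comp L _ u, ← hxu,
      conj_map_comp]
    congr 3
    group
  inv_mem' := by
    rintro x ⟨u, hu, hxu⟩
    refine ⟨(x : G)⁻¹ * u⁻¹ * x, ?_, ?_⟩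
    · have := (mem_normalizer_iff.mp (inv_mem x.2) u⁻¹).mp (inv_mem hu)
      simpa using this
    · have h := congrArg
        (fun K : Subgroup G => K.map (MulAut.conj ((x : G)⁻¹ * u⁻¹)).toMonoidHom) hxu
      simp only [conj_map_comp] at h
      rw [Subgroup.coe_inv, h]
      congr 3
      group

theorem layerPre_le_orbitStab (hO : Cfsg.pPrimeCore p G = ⊥) {L : Subgroup G}
    (hL : Cfsg.IsComponent L) {P : Subgroup G} (hP : IsPGroup p ↥P) (hZP : layerCenter G ≤ P) :
    layerPre p ↥(normalizer (P : Set G)) ≤ orbitStab L P := by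
  obtain ⟨y, hy, hyZ, ⟨k, hk⟩, hyN⟩ := exists_orbit_fixed hO hL hP hZP
  set N := normalizer (P : Set G) with hN
  set O := Cfsg.pPrimeCore p ↥N with hON
  set π := QuotientGroup.mk' O
  set W := orbitStab L P
  set D := (Cfsg.layer G).subgroupOf N with hD
  have helem : ∀ x : ↥N, ⁅x, (⟨y, hyN⟩ : ↥N)⁆ ∈ O → x ∈ W := fun x hx =>
    orbit_fixed_of_commutator hO hL x.2 hy hyZ hk pPrimeCore_coprime
      (show ⁅(x : G), y⁆ ^ Nat.card ↥O = 1 by
        exact congrArg (fun z : ↥O => ((z : ↥N) : G)) (pow_card_eq_one' (x := (⟨_, hx⟩ : ↥O))))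
  have hOW : O ≤ W := fun x hx => helem x (by
    have h1 : (⟨y, hyN⟩ : ↥N) * x⁻¹ * (⟨y, hyN⟩ : ↥N)⁻¹ ∈ O :=
      Normal.conj_mem inferInstance _ (O.inv_mem hx) _
    simpa [commutatorElement_def, mul_assoc] using O.mul_mem hx h1)
  haveI : (D.map π).Normal := Normal.map inferInstance _ (QuotientGroup.mk'_surjective O)
  have hDW : D ≤ W := fun x hx => ⟨1, one_mem _, by
    rw [conj_map_one]
    exact map_conj_eq_of_mem_normalizer (layer_le_normalizer hL hx)⟩
  have hlay : Cfsg.layer (↥N ⧸ O) ≤ W.map π := by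
    rw [layer_le_iff]
    intro K hK
    rcases component_le_or_commute hK (isSubnormal_of_normal (D.map π)) with h | h
    · exact h.trans (Subgroup.map_mono hDW)
    · intro q hq
      obtain ⟨x, rfl⟩ := QuotientGroup.mk'_surjective O q
      refine mem_map_of_mem π (helem x ?_)
      refine (QuotientGroup.eq_one_iff _).mp ?_
      change π ⁅x, _⁆ = 1
      rw [map_commutatorElement, commutatorElement_eq_one_iff_mul_comm]
      exact commutator_eq_bot_iff_forall.mp h (π x) hq (π ⟨y, hyN⟩)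
        (mem_map_of_mem π (show (⟨y, hyN⟩ : ↥N) ∈ D from orbitSup_le_layer hL P hy))
  calc layerPre p ↥N ≤ (W.map π).comap π := comap_mono hlay
    _ = W := by rw [comap_map_eq, QuotientGroup.ker_mk', sup_eq_left.mpr hOW]

theorem lstar_normalizer_le_normalizer_component (hO : Cfsg.pPrimeCore p G = ⊥) {L : Subgroup G}
    (hL : Cfsg.IsComponent L) {P : Subgroup G} (hP : IsPGroup p ↥P) :
    lstar p (normalizer (P : Set G)) ≤ normalizer (L : Set G) := by
  have hZ : IsPGroup p ↥(layerCenter G) := isPGroup_pCore.to_le (layerCenter_le_pCore hO)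
  set P' := P ⊔ layerCenter G
  have hP' : IsPGroup p ↥P' := hP.to_sup_of_normal_right hZ
  refine (lstar_normalizer_le_sup hP (layerCenter_le_pCore hO)).trans
    (lstar_le_of_coprime fun x hx hc => ?_)
  obtain ⟨x', hx', rfl⟩ := hx
  obtain ⟨u, hu, he⟩ := layerPre_le_orbitStab hO hL hP' le_sup_right hx'
  set x := (normalizer (P' : Set G)).subtype x' with hxdef
  have hcom : Commute x u :=
    (mem_centralizer_iff.mp (lstar_normalizer_le_centralizer hP' (mem_map_of_mem _ hx')) u hu).symm
  have hpow : ∀ n : ℕ, L.map (MulAut.conj (x ^ n)).toMonoidHom =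
      L.map (MulAut.conj (u ^ n)).toMonoidHom := by
    intro n
    induction n with
    | zero => rw [pow_zero, pow_zero]
    | succ n ih =>
      rw [pow_succ' x, ← conj_map_comp, ih, conj_map_comp, (hcom.pow_right n).eq, ← conj_map_comp]
      rw [show L.map (MulAut.conj x).toMonoidHom = _ from he, conj_map_comp, pow_succ]
  have h1 : u ^ orderOf x ∈ normalizer (L : Set G) := by
    refine mem_normalizer_of_map_conj_eq ?_
    rw [← hpow, pow_orderOf_eq_one, conj_map_one]
  obtain ⟨j, hj⟩ := hP' ⟨u, hu⟩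
  have hco : (orderOf x).Coprime (orderOf u) :=
    (Nat.Coprime.pow_right j hc).coprime_dvd_right
      (orderOf_dvd_of_pow_eq_one (by simpa using congrArg Subtype.val hj))
  obtain ⟨m, hm⟩ := exists_pow_eq_self_of_coprime hco
  refine mem_normalizer_of_map_conj_eq ?_
  rw [show L.map (MulAut.conj x).toMonoidHom = _ from he,
    map_conj_eq_of_mem_normalizer (hm ▸ pow_mem h1 m)]

end Cfsg.Agent.Components
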