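import Cfsg.Agent.Lib.Components.FStar
import Cfsg.Agent.Lib.Components.PPrimeCore

/-!
# p-components and the p-layer
-/

set_option autoImplicit false
set_option linter.unusedSectionVars false

namespace Cfsg.Agent.Components

open scoped commutatorElement
open Subgroup Cfsg

variable {G G' : Type*} [Group G] [Group G'] {p : ℕ}

theorem card_dvd_of_isPComponent_image [Finite G] [hp : Fact p.Prime]
    (h : Cfsg.pPrimeCore p G = ⊥) {L : Subgroup G} (hL : Cfsg.IsComponent L) : p ∣ Nat.card L := by
  by_contra hd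
  have := subnormal_coprime_le_pPrimeCore hL.1 (p := p)
    (hp.out.coprime_iff_not_dvd.mpr hd).symm
  exact isComponent_ne_bot hL (le_bot_iff.mp (h ▸ this))

/-- A quasisimple group of order divisible by `p` is generated by its p-elements. -/
theorem pGen_eq_self_of_isQuasisimple [Finite G] [hp : Fact p.Prime] {L : Subgroup G}
    (hL : Cfsg.IsQuasisimple L) (hd : p ∣ Nat.card L) : pGen p L = L := by
  refine le_antisymm (pGen_le L) ?_
  haveI hNn : ((pGen p L).subgroupOf L).Normal :=
    normal_subgroupOf_of_le_normalizer (le_normalizer_pGen L)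
  rcases qs_normal_cases hL ((pGen p L).subgroupOf L) with h | h
  · exact subgroupOf_eq_top.mp h
  · exfalso
    obtain ⟨P⟩ := (inferInstance : Nonempty (Sylow p L))
    have hPc : (P : Subgroup L) ≤ center L := fun x hx => by
      obtain ⟨k, hk⟩ := P.2 ⟨x, hx⟩
      refine h (mem_subgroupOf.mpr (mem_pGen x.2 (k := k) ?_))
      simpa using congrArg (fun y : (P : Subgroup L) => ((y : L) : G)) hk
    haveI : (P : Subgroup L).Normal :=
      ⟨fun x hx g => by rwa [mem_center_iff.mp (hPc hx) g, mul_inv_cancel_right]⟩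
    obtain ⟨N, hN⟩ := exists_right_complement'_of_coprime P.card_coprime_index
    have hNtop : (P : Subgroup L) ⊔ N = ⊤ := hN.sup_eq_top
    haveI : N.Normal := by
      rw [← normalizer_eq_top_iff, eq_top_iff, ← hNtop]
      refine sup_le (fun x hx => ?_) le_normalizer
      rw [mem_normalizer_iff]
      intro y
      rw [← mem_center_iff.mp (hPc hx) y, mul_inv_cancel_right]
    rcases qs_normal_cases hL N with hN' | hN'
    · have hbot : (P : Subgroup L) = ⊥ := by
        have := hN.disjoint.eq_bot
        rwa [hN', inf_top_eq] at this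
      exact P.ne_bot_of_dvd_card hd hbot
    · exact qs_center_ne_top hL (top_le_iff.mp (hNtop ▸ sup_le hPc hN'))

section

variable [Finite G] [hp : Fact p.Prime]

local notation "O'" => Cfsg.pPrimeCore p G
local notation "π" => QuotientGroup.mk' (Cfsg.pPrimeCore p G)

theorem pGen_component_quotient {K : Subgroup (G ⧸ O')} (hK : Cfsg.IsComponent K) :
    pGen p K = K :=
  pGen_eq_self_of_isQuasisimple hK.2
    (card_dvd_of_isPComponent_image pPrimeCore_quotient_eq_bot hK)

theorem map_pGen_comap {K : Subgroup (G ⧸ O')} (hK : Cfsg.IsComponent K) :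
    (pGen p (K.comap π)).map π = K := by
  rw [map_pGen, map_comap_eq_self_of_surjective (QuotientGroup.mk'_surjective O'),
    pGen_component_quotient hK]

/-- A subnormal subgroup with given component image contains the p-elements of the preimage. -/
theorem pGen_comap_le_of_map_eq {K : Subgroup (G ⧸ O')} {H : Subgroup G} (hH : H.IsSubnormal)
    (he : H.map π = K) : pGen p (K.comap π) ≤ H := by
  refine pGen_le_of_coprime_relIndex hH.subgroupOf ?_
  rw [← he, comap_map_eq, QuotientGroup.ker_mk']
  exact pPrimeCore_coprime.coprime_dvd_left (relIndex_self_sup_dvd H O')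

theorem isPComponent_pGen_comap {K : Subgroup (G ⧸ O')} (hK : Cfsg.IsComponent K) :
    Cfsg.IsPComponent p (pGen p (K.comap π)) := by
  refine ⟨isSubnormal_pGen (hK.1.comap π), ?_, fun H hH hle he => ?_⟩
  · rw [map_pGen_comap hK]; exact hK
  · exact le_antisymm hle (pGen_comap_le_of_map_eq hH (he.trans (map_pGen_comap hK)))

theorem pComponent_eq {K : Subgroup G} (hK : Cfsg.IsPComponent p K) :
    K = pGen p ((K.map π).comap π) := by
  symm
  exact hK.2.2 _ (isSubnormal_pGen (hK.2.1.1.comap π)) (pGen_comap_le_of_map_eq hK.1 rfl)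
    (map_pGen_comap hK.2.1)

theorem existsUnique_pComponent {K : Subgroup (G ⧸ O')} (hK : Cfsg.IsComponent K) :
    ∃! L : Subgroup G, Cfsg.IsPComponent p L ∧ L.map π = K := by
  refine ⟨pGen p (K.comap π), ⟨isPComponent_pGen_comap hK, map_pGen_comap hK⟩, ?_⟩
  rintro L ⟨hL, rfl⟩
  exact pComponent_eq hL

theorem pComponent_inj {K L : Subgroup G} (hK : Cfsg.IsPComponent p K)
    (hL : Cfsg.IsPComponent p L) (h : K.map π = L.map π) : K = L := by
  rw [pComponent_eq hK, pComponent_eq hL, h]

theorem pComponent_pGen {K : Subgroup G} (hK : Cfsg.IsPComponent p K) : pGen p K = K := by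
  refine hK.2.2 _ (isSubnormal_pGen hK.1) (pGen_le K) ?_
  rw [map_pGen, pGen_component_quotient hK.2.1]

theorem pComponent_not_le_core {K : Subgroup G} (hK : Cfsg.IsPComponent p K) : ¬ K ≤ O' := by
  intro h
  refine isComponent_ne_bot hK.2.1 ?_
  rw [Subgroup.map_eq_bot_iff, QuotientGroup.ker_mk']
  exact h

theorem pComponent_ne_bot {K : Subgroup G} (hK : Cfsg.IsPComponent p K) : K ≠ ⊥ := fun h =>
  pComponent_not_le_core hK (h ▸ bot_le)

theorem pComponent_dvd_card {K : Subgroup G} (hK : Cfsg.IsPComponent p K) : p ∣ Nat.card K :=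
  (card_dvd_of_isPComponent_image pPrimeCore_quotient_eq_bot hK.2.1).trans (card_map_dvd _ _)

theorem pComponent_commutator_eq_self {K : Subgroup G} (hK : Cfsg.IsPComponent p K) :
    ⁅K, K⁆ = K := by
  refine hK.2.2 _ (isSubnormal_of_normal_in (commutator_le_self K) hK.1 ?_) (commutator_le_self K) ?_
  · exact normalizer_commutator_ge_left K K
  · rw [map_commutator, isComponent_commutator_eq_self hK.2.1]

theorem pLayer_eq_iSup :
    Cfsg.pLayer p G = ⨆ K : {K : Subgroup G // Cfsg.IsPComponent p K}, (K : Subgroup G) :=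
  sSup_eq_iSup' _

theorem pComponent_le_pLayer {K : Subgroup G} (hK : Cfsg.IsPComponent p K) :
    K ≤ Cfsg.pLayer p G :=
  le_sSup hK

theorem map_pLayer : (Cfsg.pLayer p G).map π = Cfsg.layer (G ⧸ O') := by
  apply le_antisymm
  · rw [map_le_iff_le_comap, Cfsg.pLayer, sSup_le_iff]
    exact fun K hK => map_le_iff_le_comap.mp (component_le_layer hK.2.1)
  · rw [layer_le_iff]
    intro K hK
    rw [← map_pGen_comap hK]
    exact Subgroup.map_mono (pComponent_le_pLayer (isPComponent_pGen_comap hK))

theorem pLayer_eq_bot_iff : Cfsg.pLayer p G = ⊥ ↔ Cfsg.layer (G ⧸ O') = ⊥ := by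
  refine ⟨fun h => by rw [← map_pLayer, h, Subgroup.map_bot], fun h => ?_⟩
  rw [Cfsg.pLayer, sSup_eq_bot]
  intro K hK
  exact absurd hK.2.1 (layer_eq_bot_iff.mp h _)

theorem pLayer_le_normalizer {K : Subgroup G} (hK : Cfsg.IsPComponent p K) :
    Cfsg.pLayer p G ≤ normalizer (K : Set G) := by
  have h1 : Cfsg.pLayer p G ≤ (Cfsg.layer (G ⧸ O')).comap π := by
    rw [← map_pLayer (p := p) (G := G)]
    exact le_comap_map _ _
  have h2 : (Cfsg.layer (G ⧸ O')).comap π ≤ normalizer (((K.map π).comap π : Subgroup G) : Set G) :=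
    (comap_mono (layer_le_normalizer hK.2.1)).trans (le_normalizer_comap π)
  have h3 := (h1.trans h2).trans (normalizer_le_normalizer_pGen (p := p) ((K.map π).comap π))
  rwa [← pComponent_eq hK] at h3

theorem core_le_normalizer {K : Subgroup G} (hK : Cfsg.IsPComponent p K) :
    O' ≤ normalizer (K : Set G) := by
  have h1 : O' ≤ (K.map π).comap π :=
    le_trans (le_of_eq (QuotientGroup.ker_mk' O').symm) (MonoidHom.ker_le_comap _ _)
  have h3 := (h1.trans le_normalizer).trans
    (normalizer_le_normalizer_pGen (p := p) ((K.map π).comap π))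
  rwa [← pComponent_eq hK] at h3

theorem pComponent_normal_in_pLayer {K : Subgroup G} (hK : Cfsg.IsPComponent p K) :
    (K.subgroupOf (Cfsg.pLayer p G)).Normal :=
  normal_subgroupOf_of_le_normalizer (pLayer_le_normalizer hK)

theorem isPComponent_map_equiv (e : G ≃* G) {K : Subgroup G} (hK : Cfsg.IsPComponent p K) :
    Cfsg.IsPComponent p (K.map e.toMonoidHom) := by
  let ē : G ⧸ O' ≃* G ⧸ O' := QuotientGroup.congr O' O' e (map_pPrimeCore_equiv e)
  have hc : (π).comp e.toMonoidHom = ē.toMonoidHom.comp π := by ext x; rfl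
  have hm : ∀ H : Subgroup G, (H.map e.toMonoidHom).map π = (H.map π).map ē.toMonoidHom := by
    intro H; rw [map_map, map_map, hc]
  refine ⟨isSubnormal_map_equiv e hK.1, ?_, fun H hH hle he => ?_⟩
  · rw [hm]; exact isComponent_map_equiv ē hK.2.1
  · have h1 : H.map e.symm.toMonoidHom = K := by
      refine hK.2.2 _ (isSubnormal_map_equiv e.symm hH) ?_ ?_
      · rw [map_le_iff_le_comap]
        refine hle.trans (le_of_eq ?_)
        exact map_equiv_eq_comap_symm' e K
      · have h2 : (H.map e.symm.toMonoidHom).map e.toMonoidHom = H := by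
          rw [map_map]; ext x; simp
        apply map_injective (f := ē.toMonoidHom) ē.injective
        rw [← hm, ← hm, h2, he]
    rw [← h1, map_map]
    ext x; simp

instance pLayer_characteristic : (Cfsg.pLayer p G).Characteristic := by
  rw [characteristic_iff_map_le]
  intro e
  rw [map_le_iff_le_comap, Cfsg.pLayer, sSup_le_iff]
  exact fun K hK => map_le_iff_le_comap.mp (pComponent_le_pLayer (isPComponent_map_equiv e hK))

instance pLayer_normal : (Cfsg.pLayer p G).Normal := inferInstance

theorem map_subtype_core_pComponent {K : Subgroup G} (hK : Cfsg.IsPComponent p K) :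
    (Cfsg.pPrimeCore p K).map K.subtype = O' ⊓ K :=
  map_subtype_pPrimeCore_of_subnormal hK.1

theorem pComponent_quotient_isQuasisimple {K : Subgroup G} (hK : Cfsg.IsPComponent p K) :
    Cfsg.IsQuasisimple (K ⧸ Cfsg.pPrimeCore p K) := by
  have hk : ((π).comp K.subtype).ker = Cfsg.pPrimeCore p K := by
    rw [← MonoidHom.comap_ker, QuotientGroup.ker_mk']
    apply map_injective K.subtype_injective
    change ((Cfsg.pPrimeCore p G).subgroupOf K).map K.subtype = _
    rw [subgroupOf_map_subtype, map_subtype_core_pComponent hK]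
  have hr : ((π).comp K.subtype).range = K.map π := by
    rw [MonoidHom.range_comp, range_subtype]
  exact qs_of_equiv (qs_of_equiv hK.2.1.2 (MulEquiv.subgroupCongr hr).symm)
    (((QuotientGroup.quotientMulEquivOfEq hk.symm).trans
      (QuotientGroup.quotientKerEquivRange _)).symm)

theorem pComponent_commutator_le {K L : Subgroup G} (hK : Cfsg.IsPComponent p K)
    (hL : Cfsg.IsPComponent p L) (hne : K ≠ L) : ⁅K, L⁆ ≤ O' ⊓ (K ⊓ L) := by
  refine le_inf ?_ (le_inf ?_ ?_)
  · rcases component_eq_or_commute hK.2.1 hL.2.1 with h | h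
    · exact absurd (pComponent_inj hK hL h) hne
    · rw [← map_commutator, Subgroup.map_eq_bot_iff, QuotientGroup.ker_mk'] at h
      exact h
  · exact le_normalizer_iff_commutator_le_left.mp
      ((pComponent_le_pLayer hL).trans (pLayer_le_normalizer hK))
  · exact le_normalizer_iff_commutator_le_right.mp
      ((pComponent_le_pLayer hK).trans (pLayer_le_normalizer hL))

/-- A component not inside `O_{p'}` is a p-component. -/
theorem isPComponent_of_isComponent {L : Subgroup G} (hL : Cfsg.IsComponent L)
    (h : ¬ L ≤ O') : Cfsg.IsPComponent p L := by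
  have hk : ¬ L ≤ (π).ker := by rwa [QuotientGroup.ker_mk']
  have hc : Cfsg.IsComponent (L.map π) :=
    ⟨hL.1.map (QuotientGroup.mk'_surjective _), isQuasisimple_map hL.2 _ hk⟩
  refine ⟨hL.1, hc, fun H hH hle he => ?_⟩
  rcases qs_subnormal_cases hL.2 (hH.subgroupOf (K := L)) with h' | h'
  · exact le_antisymm hle (subgroupOf_eq_top.mp h')
  · exfalso
    have h'' := Subgroup.map_mono (f := L.subtype) h'
    rw [map_subgroupOf_eq_of_le hle, map_subtype_center] at h''
    refine isQuasisimple_not_le_centralizer hc.2 ?_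
    rw [← commutator_eq_bot_iff_le_centralizer]
    nth_rewrite 1 [← he]
    rw [← map_commutator, commutator_eq_bot_iff_le_centralizer.mpr (h''.trans inf_le_right),
      Subgroup.map_bot]

theorem isComponent_iff_isPComponent_of_core_eq_bot (h : O' = ⊥) {L : Subgroup G} :
    Cfsg.IsComponent L ↔ Cfsg.IsPComponent p L := by
  refine ⟨fun hL => isPComponent_of_isComponent hL fun hle =>
    isComponent_ne_bot hL (le_bot_iff.mp (h ▸ hle)), fun hL => ⟨hL.1, ?_⟩⟩
  refine qs_of_equiv (pComponent_quotient_isQuasisimple hL)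
    ((QuotientGroup.quotientMulEquivOfEq ?_).trans QuotientGroup.quotientBot)
  rw [← Subgroup.map_eq_bot_iff_of_injective _ L.subtype_injective, map_subtype_core_pComponent hL,
    h, bot_inf_eq]

theorem pLayer_eq_layer_of_core_eq_bot (h : O' = ⊥) : Cfsg.pLayer p G = Cfsg.layer G := by
  simp only [Cfsg.pLayer, Cfsg.layer, isComponent_iff_isPComponent_of_core_eq_bot h]

end

end Cfsg.Agent.Components
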