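import Cfsg.Prelude.Def_BaumannBlocks
import Cfsg.Agent.Lib.LocalEvenA.PReduced
import Cfsg.Agent.Lib.LocalEvenB.Basic
import Cfsg.Agent.Lib.Transfer.JSubgroup

/-! Basic properties of blocks relative to the Baumann subgroup. -/

set_option autoImplicit false

namespace Cfsg.Agent.BBlock

open scoped commutatorElement
open Subgroup Cfsg
open Cfsg.Agent.LocalEvenA

variable {G : Type*} [Group G]

local notation "N[" H "]" => Subgroup.normalizer ((H : Subgroup G) : Set G)
local notation "C[" H "]" => Subgroup.centralizer ((H : Subgroup G) : Set G)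

theorem nconj {g x : G} {H : Subgroup G} (hg : g ∈ N[H]) (hx : x ∈ H) : g * x * g⁻¹ ∈ H :=
  (Subgroup.mem_normalizer_iff.1 hg x).1 hx

theorem mem_normalizer_of_conj_mem [Finite G] {g : G} {H : Subgroup G}
    (h : ∀ y ∈ H, g * y * g⁻¹ ∈ H) : g ∈ N[H] :=
  LocalEvenB.mem_normalizer_of_conj_mem h

theorem normalizes_closure [Finite G] {g : G} {s : Set G}
    (h : ∀ x ∈ s, g * x * g⁻¹ ∈ Subgroup.closure s) :
    g ∈ Subgroup.normalizer (Subgroup.closure s : Set G) := by
  refine mem_normalizer_of_conj_mem fun y hy => ?_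
  induction hy using Subgroup.closure_induction with
  | mem x hx => exact h x hx
  | one => simp
  | mul x y _ _ hx hy =>
    rw [show g * (x * y) * g⁻¹ = g * x * g⁻¹ * (g * y * g⁻¹) by group]
    exact mul_mem hx hy
  | inv x _ hx =>
    rw [show g * x⁻¹ * g⁻¹ = (g * x * g⁻¹)⁻¹ by group]
    exact inv_mem hx

theorem normalizes_commutator [Finite G] {g : G} {H K : Subgroup G} (hH : g ∈ N[H])
    (hK : g ∈ N[K]) : g ∈ N[⁅H, K⁆] := by
  rw [Subgroup.commutator_def]
  refine normalizes_closure ?_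
  rintro _ ⟨h, hh, k, hk, rfl⟩
  refine Subgroup.subset_closure ⟨_, nconj hH hh, _, nconj hK hk, ?_⟩
  rw [commutatorElement_def, commutatorElement_def]
  group

/-- The right-hand group normalizes a commutator subgroup. -/
theorem le_normalizer_commutator_right [Finite G] (H K : Subgroup G) : K ≤ N[⁅H, K⁆] := by
  intro b hb
  rw [Subgroup.commutator_def]
  refine normalizes_closure ?_
  rintro _ ⟨h, hh, k, hk, rfl⟩
  rw [show b * ⁅h, k⁆ * b⁻¹ = ⁅h, b⁆⁻¹ * ⁅h, b * k⁆ by
    rw [commutatorElement_def, commutatorElement_def, commutatorElement_def]; group]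
  exact mul_mem (inv_mem (Subgroup.subset_closure ⟨h, hh, b, hb, rfl⟩))
    (Subgroup.subset_closure ⟨h, hh, b * k, mul_mem hb hk, rfl⟩)

theorem le_normalizer_commutator_left [Finite G] (H K : Subgroup G) : H ≤ N[⁅H, K⁆] := by
  rw [Subgroup.commutator_comm]
  exact le_normalizer_commutator_right K H

theorem normalizes_centralizer [Finite G] {g : G} {H : Subgroup G} (hg : g ∈ N[H]) :
    g ∈ N[C[H]] := by
  refine mem_normalizer_of_conj_mem fun c hc => Subgroup.mem_centralizer_iff.2 fun h hh => ?_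
  have h1 : g⁻¹ * h * g ∈ H := (Subgroup.mem_normalizer_iff''.1 hg h).1 hh
  have h2 := Subgroup.mem_centralizer_iff.1 hc _ h1
  calc h * (g * c * g⁻¹) = g * (g⁻¹ * h * g * c) * g⁻¹ := by group
    _ = g * (c * (g⁻¹ * h * g)) * g⁻¹ := by rw [h2]
    _ = g * c * g⁻¹ * h := by group

theorem normalizes_inf [Finite G] {g : G} {H K : Subgroup G} (hH : g ∈ N[H]) (hK : g ∈ N[K]) :
    g ∈ N[H ⊓ K] :=
  mem_normalizer_of_conj_mem fun _ hx => ⟨nconj hH hx.1, nconj hK hx.2⟩

theorem normalizes_omegaOneCenter [Finite G] {p : ℕ} {g : G} {H : Subgroup G} (hg : g ∈ N[H]) :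
    g ∈ N[omegaOneCenter p H] := by
  refine normalizes_closure ?_
  rintro x ⟨hx, hxp⟩
  refine Subgroup.subset_closure ⟨nconj (normalizes_inf hg (normalizes_centralizer hg)) hx, ?_⟩
  rw [conj_pow, hxp, mul_one, mul_inv_cancel]

theorem omc_le (p : ℕ) (H : Subgroup G) : omegaOneCenter p H ≤ H :=
  (omegaOne_le p _).trans inf_le_left

theorem omc_centralizes (p : ℕ) (H : Subgroup G) : H ≤ C[omegaOneCenter p H] :=
  Subgroup.le_centralizer_iff.1 ((omegaOne_le p _).trans inf_le_right)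

theorem omc_ea (p : ℕ) (H : Subgroup G) : IsElementaryAbelian p (omegaOneCenter p H) :=
  elemAb_omegaCenter H

theorem pResidualOf_eq_closure (p : ℕ) (X : Subgroup G) :
    pResidualOf p X = Subgroup.closure {g : G | g ∈ X ∧ (orderOf g).Coprime p} := by
  rw [pResidualOf, pResidual, MonoidHom.map_closure]
  congr 1
  ext g
  constructor
  · rintro ⟨x, hx, rfl⟩
    exact ⟨x.2, by rwa [Subgroup.coe_subtype, Subgroup.orderOf_coe]⟩
  · rintro ⟨hg, ho⟩
    refine ⟨⟨g, hg⟩, ?_, rfl⟩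
    show (orderOf (⟨g, hg⟩ : X)).Coprime p
    rwa [← Subgroup.orderOf_coe]

theorem normalizes_pResidualOf [Finite G] {p : ℕ} {g : G} {X : Subgroup G} (hg : g ∈ N[X]) :
    g ∈ N[pResidualOf p X] := by
  rw [pResidualOf_eq_closure]
  refine normalizes_closure ?_
  rintro x ⟨hx, ho⟩
  refine Subgroup.subset_closure ⟨nconj hg hx, ?_⟩
  rwa [show g * x * g⁻¹ = MulAut.conj g x from rfl, MulEquiv.orderOf_eq]

/-- Adjoining a normalizing `p`-group does not change `O^p`. -/
theorem pResidualOf_sup [Finite G] {p : ℕ} [Fact p.Prime] {E H : Subgroup G}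
    (hE : pResidualOf p E = E) (hH : IsPGroup p H) (hn : H ≤ N[E]) :
    pResidualOf p (E ⊔ H) = E := by
  refine le_antisymm ?_ ?_
  · rw [pResidualOf_eq_closure, Subgroup.closure_le]
    rintro g ⟨hg, ho⟩
    have hg' : g ∈ ((E ⊔ H : Subgroup G) : Set G) := hg
    rw [Subgroup.coe_mul_of_right_le_normalizer_left E H hn, Set.mem_mul] at hg'
    obtain ⟨e, he, h, hh, heq⟩ := hg'
    have hle : E ⊔ H ≤ N[E] := sup_le Subgroup.le_normalizer hn
    haveI hnor : (E.subgroupOf (E ⊔ H)).Normal := Subgroup.normal_subgroupOf_of_le_normalizer hle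
    set π := QuotientGroup.mk' (E.subgroupOf (E ⊔ H))
    obtain ⟨k, hk⟩ := hH ⟨h, hh⟩
    have hk' : h ^ p ^ k = 1 := congrArg Subtype.val hk
    have h1 : π ⟨g, hg⟩ = π ⟨h, le_sup_right (α := Subgroup G) hh⟩ := by
      rw [QuotientGroup.mk'_eq_mk']
      refine ⟨(⟨g, hg⟩)⁻¹ * ⟨h, le_sup_right (α := Subgroup G) hh⟩, ?_, mul_inv_cancel_left _ _⟩
      rw [Subgroup.mem_subgroupOf]
      show g⁻¹ * h ∈ E
      rw [← heq, show (e * h)⁻¹ * h = h⁻¹ * e⁻¹ * h by group]
      exact (Subgroup.mem_normalizer_iff''.1 (hn hh) _).1 (inv_mem he)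
    have h2 : π ⟨g, hg⟩ = 1 := by
      refine eq_one_of_pPow_of_coprime (k := k) ?_ (ho.coprime_dvd_left ?_)
      · rw [h1, ← map_pow, show (⟨h, le_sup_right (α := Subgroup G) hh⟩ : ↥(E ⊔ H)) ^ p ^ k = 1 from
          Subtype.ext (by simpa using hk'), map_one]
      · exact (orderOf_map_dvd π ⟨g, hg⟩).trans (by rw [← Subgroup.orderOf_coe])
    exact Subgroup.mem_subgroupOf.1 ((QuotientGroup.eq_one_iff _).1 h2)
  · conv_lhs => rw [← hE]
    rw [pResidualOf_eq_closure, pResidualOf_eq_closure]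
    exact Subgroup.closure_mono fun g hg => ⟨le_sup_left (α := Subgroup G) hg.1, hg.2⟩

/-- A `p`-group of `p`-elements of exponent `p` acted on with trivial second commutator. -/
theorem commutator_eq_bot_of_two_step {p : ℕ} {E A : Subgroup G} (hE : pResidualOf p E = E)
    (hA : IsPGroup p A) (hAn : E ≤ N[A]) (h2 : ⁅⁅A, E⁆, E⁆ = ⊥) : ⁅A, E⁆ = ⊥ := by
  rw [Subgroup.commutator_eq_bot_iff_le_centralizer]
  have hle : E ≤ C[A] := by
    rw [← hE, pResidualOf_eq_closure, Subgroup.closure_le]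
    rintro x ⟨hx, ho⟩ a ha
    have hmem : a⁻¹ * (x * a * x⁻¹) ∈ ⁅A, E⁆ := commutator_conj_mem ha hx
    obtain ⟨k, hk⟩ := hA ⟨_, mul_mem (inv_mem ha) (nconj (hAn hx) ha)⟩
    refine (comm_of_coprime_chain ho ⟨k, congrArg Subtype.val hk⟩ ?_).symm.eq
    exact (Subgroup.mem_centralizer_iff.1
      (Subgroup.commutator_eq_bot_iff_le_centralizer.1 h2 hmem) x hx)
  exact Subgroup.le_centralizer_iff.1 hle

/-! ### The Baumann subgroup -/

variable {p : ℕ}

theorem baumann_le (T : Subgroup G) : baumannSubgroupOf p T ≤ T := inf_le_left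

theorem thompson_le_baumann (T : Subgroup G) :
    thompsonSubgroupOf p T ≤ baumannSubgroupOf p T :=
  le_inf (Transfer.thompsonSubgroupOf_le T)
    (Subgroup.le_centralizer_iff.1 ((omegaOne_le p _).trans inf_le_right))

theorem isMaxElemIn_of_le [Finite G] [Fact p.Prime] {T T' : Sylow p G}
    (hJ : thompsonSubgroupOf p (T : Subgroup G) ≤ T') {A : Subgroup G}
    (hA : Transfer.IsMaxElemIn p (T : Subgroup G) A) : Transfer.IsMaxElemIn p (T' : Subgroup G) A := by
  refine ⟨(Transfer.le_thompsonSubgroupOf hA).trans hJ, hA.2.1, fun B hB hBe => ?_⟩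
  obtain ⟨g, hg⟩ := MulAction.exists_smul_eq G T' T
  have hB' : B.map (MulAut.conj g).toMonoidHom ≤ (T : Subgroup G) := by
    rw [← hg, Sylow.coe_subgroup_smul]
    rintro _ ⟨b, hb, rfl⟩
    exact ⟨b, hB hb, rfl⟩
  have := hA.2.2 _ hB' (Transfer.ea_map hBe _)
  rwa [LocalEvenB.conjMap_card] at this

theorem thompson_eq_of_le [Finite G] [Fact p.Prime] {T T' : Sylow p G}
    (hJ : thompsonSubgroupOf p (T : Subgroup G) ≤ T') :
    thompsonSubgroupOf p (T' : Subgroup G) = thompsonSubgroupOf p (T : Subgroup G) := by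
  refine (Subgroup.eq_of_le_of_card_ge ?_ ?_).symm
  · rw [Transfer.thompsonSubgroupOf_eq, Transfer.thompsonSubgroupOf_eq]
    exact sSup_le_sSup fun A hA => isMaxElemIn_of_le hJ hA
  · obtain ⟨g, hg⟩ := MulAction.exists_smul_eq G T T'
    refine le_of_eq ?_
    rw [← hg, Sylow.coe_subgroup_smul]
    show Nat.card ↥(thompsonSubgroupOf p ((T : Subgroup G).map (MulAut.conj g).toMonoidHom)) = _
    rw [← Transfer.map_thompsonSubgroupOf _ _ (MulAut.conj g).injective.injOn,
      LocalEvenB.conjMap_card]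

theorem baumann_eq_of_le [Finite G] [Fact p.Prime] {T T' : Sylow p G}
    (hB : baumannSubgroupOf p (T : Subgroup G) ≤ T') :
    baumannSubgroupOf p (T' : Subgroup G) = baumannSubgroupOf p (T : Subgroup G) := by
  have hJ := thompson_eq_of_le ((thompson_le_baumann (T : Subgroup G)).trans hB)
  set Ω := omegaOne p (centerThompsonOf p (T : Subgroup G)) with hΩ
  have hΩ' : omegaOne p (centerThompsonOf p (T' : Subgroup G)) = Ω := by
    rw [hΩ, centerThompsonOf, centerThompsonOf, hJ]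
  have hle : baumannSubgroupOf p (T : Subgroup G) ≤ baumannSubgroupOf p (T' : Subgroup G) :=
    le_inf hB (hΩ' ▸ inf_le_right)
  refine (Subgroup.eq_of_le_of_card_ge hle ?_).symm
  obtain ⟨g, hg⟩ := MulAction.exists_smul_eq G T' T
  have hT : (T' : Subgroup G).map (MulAut.conj g).toMonoidHom = (T : Subgroup G) := by
    rw [← hg, Sylow.coe_subgroup_smul]; rfl
  have hgJ : (thompsonSubgroupOf p (T : Subgroup G)).map (MulAut.conj g).toMonoidHom
      = thompsonSubgroupOf p (T : Subgroup G) := by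
    conv_lhs => rw [← hJ]
    rw [Transfer.map_thompsonSubgroupOf _ _ (MulAut.conj g).injective.injOn, hT]
  have hgΩ : g ∈ N[Ω] := by
    have hgn : g ∈ N[thompsonSubgroupOf p (T : Subgroup G)] :=
      LocalEvenB.mem_normalizer_of_conjMap_le hgJ.le
    exact normalizes_omegaOneCenter hgn
  rw [← LocalEvenB.conjMap_card g (baumannSubgroupOf p (T' : Subgroup G))]
  refine Subgroup.card_le_of_le ?_
  rintro _ ⟨x, hx, rfl⟩
  exact ⟨hT.le ⟨x, hx.1, rfl⟩, nconj (normalizes_centralizer hgΩ) (by have h2 := hx.2; rwa [hΩ'] at h2)⟩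

/-- Every `p`-group normalized by the Baumann subgroup normalizes it. -/
theorem le_normalizer_baumann [Finite G] [Fact p.Prime] (T : Sylow p G) {R : Subgroup G}
    (hR : IsPGroup p R) (hBR : baumannSubgroupOf p (T : Subgroup G) ≤ N[R]) :
    R ≤ N[baumannSubgroupOf p (T : Subgroup G)] := by
  have hBp : IsPGroup p ↥(baumannSubgroupOf p (T : Subgroup G)) := T.isPGroup'.to_le (baumann_le _)
  obtain ⟨T', hT'⟩ := (hBp.to_sup_of_normal_right' hR hBR).exists_le_sylow
  rw [← baumann_eq_of_le (T' := T') (le_sup_left.trans hT')]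
  intro r hr
  have hrT : r ∈ N[(T' : Subgroup G)] := Subgroup.le_normalizer (hT' (le_sup_right (α := Subgroup G) hr))
  exact normalizes_inf hrT (normalizes_centralizer (normalizes_omegaOneCenter
    (Transfer.normalizer_le_normalizer_thompson _ hrT)))

/-! ### `p`-groups normalized by a block normalize it -/

/-- The part of `p`-group invariance that only uses `O^p(E) = E = [E, B(T)]`. -/
theorem le_normalizer_of_invariant [Finite G] [Fact p.Prime] (T : Sylow p G) {E Q : Subgroup G}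
    (hE : pResidualOf p E = E) (hEB : ⁅E, baumannSubgroupOf p (T : Subgroup G)⁆ = E)
    (hQ : IsPGroup p Q) (hBQ : baumannSubgroupOf p (T : Subgroup G) ≤ N[Q]) (hEQ : E ≤ N[Q]) :
    Q ≤ N[E] := by
  set B := baumannSubgroupOf p (T : Subgroup G)
  have hBE : B ≤ N[E] := by
    have h := le_normalizer_commutator_right E B
    rwa [hEB] at h
  set H := Q ⊓ N[E] with hH
  by_contra hne
  have hQH : ¬ Q ≤ H := fun h => hne (h.trans inf_le_right)
  obtain ⟨n, hnQ, hnH, hnN⟩ :=
    LocalEvenB.exists_mem_normalizer_not_mem hQ (inf_le_left : H ≤ Q) hQH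
  have hXH : ∀ {x : G}, x ∈ N[Q] → x ∈ N[E] → x ∈ N[H] := fun h1 h2 =>
    normalizes_inf h1 (Subgroup.le_normalizer h2)
  set R1 := Q ⊓ N[H] with hR1
  have hR1n : ∀ {x : G}, x ∈ N[Q] → x ∈ N[H] → x ∈ N[R1] := fun h1 h2 =>
    normalizes_inf h1 (Subgroup.le_normalizer h2)
  have hBH : B ≤ N[H] := fun b hb => hXH (hBQ hb) (hBE hb)
  have hEH : E ≤ N[H] := fun e he => hXH (hEQ he) (Subgroup.le_normalizer he)
  have hB1 : ∀ b ∈ B, ∀ r ∈ R1, b * r * b⁻¹ * r⁻¹ ∈ H := by
    intro b hb r hr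
    refine ⟨Q.mul_mem (nconj (hBQ hb) hr.1) (Q.inv_mem hr.1), hBE ?_⟩
    rw [show b * r * b⁻¹ * r⁻¹ = b * (r * b⁻¹ * r⁻¹) by group]
    exact mul_mem hb (nconj (le_normalizer_baumann T hQ hBQ hr.1) (inv_mem hb))
  have hkey : ∀ e ∈ E, ∀ b ∈ B, ∀ r ∈ R1,
      ⁅e, b⁆ * r * ⁅e, b⁆⁻¹ * r⁻¹ ∈ H := by
    intro e he b hb r hr
    set r' := e⁻¹ * r * e with hr'
    have hr'R : r' ∈ R1 := by
      rw [hr']
      simpa using nconj (hR1n (inv_mem (hEQ he)) (inv_mem (hEH he))) hr
    have h1 : b⁻¹ * r * b * r⁻¹ ∈ H := by simpa using hB1 b⁻¹ (inv_mem hb) r hr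
    have h2 : e⁻¹ * (b⁻¹ * r * b * r⁻¹) * e ∈ H := by
      simpa using nconj (inv_mem (hEH he)) h1
    have h3 : b * (e⁻¹ * (b⁻¹ * r * b * r⁻¹) * e) * b⁻¹ * (b * r' * b⁻¹ * r'⁻¹) ∈ H :=
      mul_mem (nconj (hBH hb) h2) (hB1 b hb r' hr'R)
    have h4 := nconj (hEH he) h3
    convert h4 using 1
    rw [hr', commutatorElement_def]
    group
  let S : Subgroup G :=
    { carrier := {x | x ∈ N[H] ∧ x ∈ N[R1] ∧ ∀ r ∈ R1, x * r * x⁻¹ * r⁻¹ ∈ H}
      one_mem' := ⟨one_mem _, one_mem _, fun r _ => by simp⟩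
      mul_mem' := fun {x y} hx hy => ⟨mul_mem hx.1 hy.1, mul_mem hx.2.1 hy.2.1, fun r hr => by
        rw [show x * y * r * (x * y)⁻¹ * r⁻¹
          = x * (y * r * y⁻¹ * r⁻¹) * x⁻¹ * (x * r * x⁻¹ * r⁻¹) by group]
        exact mul_mem (nconj hx.1 (hy.2.2 r hr)) (hx.2.2 r hr)⟩
      inv_mem' := fun {x} hx => ⟨inv_mem hx.1, inv_mem hx.2.1, fun r hr => by
        have h5 := inv_mem (nconj (inv_mem hx.1) (hx.2.2 r hr))
        simpa [mul_assoc] using h5⟩ }
  have hES : E ≤ S := by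
    refine hEB.ge.trans ?_
    rw [Subgroup.commutator_le]
    intro e he b hb
    have hmem : ⁅e, b⁆ ∈ E := hEB.le (Subgroup.commutator_mem_commutator he hb)
    exact ⟨hEH hmem, hR1n (hEQ hmem) (hEH hmem), hkey e he b hb⟩
  have hX := pResidualOf_sup hE (hQ.to_le inf_le_left : IsPGroup p H) inf_le_right
  refine hnH ⟨hnQ, ?_⟩
  rw [← hX]
  refine normalizes_pResidualOf (mem_normalizer_of_conj_mem fun y hy => ?_)
  have hy' : y ∈ ((E ⊔ H : Subgroup G) : Set G) := hy
  rw [Subgroup.coe_mul_of_right_le_normalizer_left E H inf_le_right, Set.mem_mul] at hy'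
  obtain ⟨e, he, h, hh, rfl⟩ := hy'
  rw [show n * (e * h) * n⁻¹ = (n * e * n⁻¹ * e⁻¹) * e * (n * h * n⁻¹) by group]
  refine mul_mem (mul_mem (le_sup_right (α := Subgroup G) ?_) (le_sup_left (α := Subgroup G) he))
    (le_sup_right (α := Subgroup G) (nconj hnN hh))
  have h6 := inv_mem ((hES he).2.2 n ⟨hnQ, hnN⟩)
  simpa [mul_assoc] using h6

/-! ### Irreducible sections -/

/-- No `E`-invariant subgroup lies strictly between `X₀` and `X`. -/
def SecIrred (E X X₀ : Subgroup G) : Prop :=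
  ∀ U : Subgroup G, X₀ ≤ U → U ≤ X → E ≤ N[U] → U = X₀ ∨ U = X

section SL2

variable {F : Type*} [Field F]

private def wMat : Matrix.SpecialLinearGroup (Fin 2) F :=
  ⟨!![0, -1; 1, 0], by simp [Matrix.det_fin_two]⟩

private def uMat (t : F) : Matrix.SpecialLinearGroup (Fin 2) F :=
  ⟨!![1, t; 0, 1], by simp [Matrix.det_fin_two]⟩

private def rt (t : F) : Matrix.SpecialLinearGroup (Fin 2) F :=
  wMat * uMat t * wMat⁻¹ * (uMat t)⁻¹

private theorem rt_mulVec (t x y : F) :
    ((rt t : Matrix.SpecialLinearGroup (Fin 2) F) : Matrix (Fin 2) (Fin 2) F).mulVec ![x, y]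
      = ![x - t * y, -t * x + (1 + t * t) * y] := by
  rw [rt, Matrix.SpecialLinearGroup.coe_mul, Matrix.SpecialLinearGroup.coe_mul,
    Matrix.SpecialLinearGroup.coe_mul, Matrix.SpecialLinearGroup.coe_inv,
    Matrix.SpecialLinearGroup.coe_inv]
  ext i
  fin_cases i <;>
    simp [wMat, uMat, Matrix.adjugate_fin_two, Matrix.mulVec, dotProduct,
      Fin.sum_univ_two] <;> (try ring_nf) <;> simp

/-- The derived group of `SL₂(F)` is transitive on nonzero vectors. -/
theorem sl2_derived_transitive {v w : Fin 2 → F} (hv : v ≠ 0) (hw : w ≠ 0) :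
    ∃ r ∈ commutator (Matrix.SpecialLinearGroup (Fin 2) F),
      (r : Matrix (Fin 2) (Fin 2) F).mulVec v = w := by
  set K := commutator (Matrix.SpecialLinearGroup (Fin 2) F)
  let R : (Fin 2 → F) → (Fin 2 → F) → Prop := fun a b =>
    ∃ r ∈ K, (r : Matrix (Fin 2) (Fin 2) F).mulVec a = b
  have hsymm : ∀ {a b}, R a b → R b a := by
    rintro a b ⟨r, hr, rfl⟩
    refine ⟨r⁻¹, inv_mem hr, ?_⟩
    rw [Matrix.mulVec_mulVec, ← Matrix.SpecialLinearGroup.coe_mul, inv_mul_cancel,
      Matrix.SpecialLinearGroup.coe_one, Matrix.one_mulVec]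
  have htrans : ∀ {a b c}, R a b → R b c → R a c := by
    rintro a b c ⟨r, hr, rfl⟩ ⟨s, hs, rfl⟩
    exact ⟨s * r, mul_mem hs hr, by rw [Matrix.SpecialLinearGroup.coe_mul, ← Matrix.mulVec_mulVec]⟩
  have hrt : ∀ t : F, rt t ∈ K := fun t => by
    rw [rt, ← commutatorElement_def]
    exact Subgroup.commutator_mem_commutator (Subgroup.mem_top _) (Subgroup.mem_top _)
  have hfix : ∀ (c : F) {a b}, R a b →
      R ![a 0, c * a 0 + a 1] ![b 0, c * b 0 + b 1] := by
    rintro c a b ⟨r, hr, rfl⟩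
    set g : Matrix.SpecialLinearGroup (Fin 2) F := ⟨!![1, 0; c, 1], by simp [Matrix.det_fin_two]⟩
    have hg : ∀ z : Fin 2 → F, (g : Matrix (Fin 2) (Fin 2) F).mulVec z = ![z 0, c * z 0 + z 1] := by
      intro z
      ext i
      fin_cases i <;> simp [g, Matrix.mulVec, dotProduct, Fin.sum_univ_two]
    refine ⟨g * r * g⁻¹, (inferInstance : K.Normal).conj_mem r hr g, ?_⟩
    rw [← hg, ← hg, Matrix.mulVec_mulVec, Matrix.mulVec_mulVec, ← Matrix.SpecialLinearGroup.coe_mul,
      ← Matrix.SpecialLinearGroup.coe_mul]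
    rw [inv_mul_cancel_right]
  -- every vector with nonzero first coordinate is related to `![0, 1]`
  have h2 : ∀ x y : F, x ≠ 0 → R ![0, 1] ![x, y] := by
    intro x y hx
    have h0 : R ![0, 1] ![x, 1 + x * x] := ⟨rt (-x), hrt _, by
      rw [rt_mulVec]; ext i; fin_cases i <;> simp⟩
    have h1 := hfix ((y - (1 + x * x)) / x) h0
    convert h1 using 1
    · ext i; fin_cases i <;> simp
    · ext i
      fin_cases i
      · simp
      · simp [div_mul_cancel₀ _ hx]
  have hall : ∀ z : Fin 2 → F, z ≠ 0 → R ![0, 1] z := by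
    intro z hz
    rw [show z = ![z 0, z 1] by ext i; fin_cases i <;> rfl]
    by_cases h0 : z 0 = 0
    · have h1 : z 1 ≠ 0 := fun h1 => hz (by ext i; fin_cases i <;> assumption)
      refine htrans (h2 (-(z 1)) ((1 + 1) * z 1) (neg_ne_zero.2 h1)) (hsymm ⟨rt 1, hrt 1, ?_⟩)
      rw [rt_mulVec, h0]
      ext i; fin_cases i <;> simp
    · exact h2 _ _ h0
  exact htrans (hsymm (hall v hv)) (hall w hw)

end SL2

theorem secIrred_of_sl2 {F : Type*} [Field F] {E X X₀ : Subgroup G}
    (h : ActsAsSL2OnSection F (commutator (Matrix.SpecialLinearGroup (Fin 2) F)) E X X₀) :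
    SecIrred E X X₀ := by
  obtain ⟨-, hle, ρ, ψ, hρ, -, hker, hact⟩ := h
  intro U hU0 hUX hEU
  by_cases hex : ∀ u : ↥X, (u : G) ∈ U → ψ u = 1
  · exact Or.inl (le_antisymm (fun u hu => (hker ⟨u, hUX hu⟩).1 (hex ⟨u, hUX hu⟩ hu)) hU0)
  refine Or.inr (le_antisymm hUX fun x hx => ?_)
  push Not at hex
  obtain ⟨u, hu, hu1⟩ := hex
  by_cases hx1 : ψ ⟨x, hx⟩ = 1
  · exact hU0 ((hker _).1 hx1)
  have hne : ∀ {z : Multiplicative (Fin 2 → F)}, z ≠ 1 → Multiplicative.toAdd z ≠ 0 := fun hz h0 =>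
    hz (Multiplicative.toAdd.injective h0)
  obtain ⟨r, hr, hru⟩ := sl2_derived_transitive (hne hu1) (hne hx1)
  rw [← hρ] at hr
  obtain ⟨e, rfl⟩ := hr
  obtain ⟨w, hw, hψ⟩ := hact e u
  rw [hru] at hψ
  have hwU : (w : G) ∈ U := hw ▸ nconj (hEU e.2) hu
  have h1 : ((w⁻¹ * ⟨x, hx⟩ : ↥X) : G) ∈ X₀ := (hker _).1 (by
    rw [map_mul, map_inv, Multiplicative.toAdd.injective hψ, inv_mul_cancel])
  have := mul_mem hwU (hU0 h1)
  simpa using this

theorem perm_pair_mem {n : ℕ} (S : AddSubgroup (Fin n → ZMod 2))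
    (hinv : ∀ σ ∈ alternatingGroup (Fin n), ∀ v ∈ S, (fun i => v (σ⁻¹ i)) ∈ S)
    (hn : Odd n) {v : Fin n → ZMod 2} (hv : v ∈ S) (hv0 : v ≠ 0) (hvs : ∑ i, v i = 0) :
    ∀ i j : Fin n, i ≠ j → (Pi.single i 1 + Pi.single j 1 : Fin n → ZMod 2) ∈ S := by
  classical
  have hz2 : ∀ z : ZMod 2, z = 0 ∨ z = 1 := by decide
  obtain ⟨a, ha⟩ : ∃ a, v a = 1 := by
    by_contra hno
    push Not at hno
    exact hv0 (funext fun i => (hz2 (v i)).resolve_right (hno i))
  obtain ⟨b, hb⟩ : ∃ b, v b = 0 := by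
    by_contra hno
    push Not at hno
    rw [Finset.sum_congr rfl fun i _ => (hz2 (v i)).resolve_left (hno i)] at hvs
    simp at hvs
    obtain ⟨k, rfl⟩ := hn
    have h2 : (2 : ZMod 2) = 0 := by decide
    rw [Nat.cast_add, Nat.cast_mul, Nat.cast_ofNat, Nat.cast_one, h2, zero_mul, zero_add] at hvs
    exact one_ne_zero hvs
  have hab : a ≠ b := fun h => by rw [h, hb] at ha; exact zero_ne_one ha
  obtain ⟨c, hca, hcb⟩ : ∃ c, c ≠ a ∧ c ≠ b := by
    by_contra hno
    push Not at hno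
    have hcard : (Finset.univ : Finset (Fin n)) ⊆ {a, b} := fun c _ => by
      rcases eq_or_ne c a with h | h
      · simp [h]
      · simp [hno c h]
    have h2 := Finset.card_le_card hcard
    rw [Finset.card_univ, Fintype.card_fin, Finset.card_pair hab] at h2
    have hv1 : n ≠ 1 := by
      rintro rfl
      exact hab (Subsingleton.elim _ _)
    obtain ⟨k, rfl⟩ := hn
    omega
  -- a three-cycle as a product of two transpositions
  have h3 : ∀ {x y z : Fin n}, x ≠ y → x ≠ z →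
      Equiv.swap x y * Equiv.swap x z ∈ alternatingGroup (Fin n) := fun hxy hxz => by
    rw [Equiv.Perm.mem_alternatingGroup, Equiv.Perm.sign_mul, Equiv.Perm.sign_swap hxy,
      Equiv.Perm.sign_swap hxz]
    rfl
  have hpair : ∃ x y, x ≠ y ∧ (Pi.single x 1 + Pi.single y 1 : Fin n → ZMod 2) ∈ S := by
    have hσ := hinv _ (h3 hab hca.symm) v hv
    refine if hc : v c = 0 then ⟨a, c, hca.symm, ?_⟩ else ⟨a, b, hab, ?_⟩
    · have := S.add_mem hv hσ
      convert this using 1
      funext i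
      simp only [Pi.add_apply, mul_inv_rev, Equiv.swap_inv, Equiv.Perm.mul_apply]
      rcases eq_or_ne i a with rfl | hia
      · simp [Equiv.swap_apply_def, hab, hab.symm, hca, hca.symm, hcb, hcb.symm, ha, hb, hc]
      rcases eq_or_ne i b with rfl | hib
      · simp [Equiv.swap_apply_def, hab, hab.symm, hca, hca.symm, hcb, hcb.symm, ha, hb, hc]
      rcases eq_or_ne i c with rfl | hic
      · simp [Equiv.swap_apply_def, hab, hab.symm, hca, hca.symm, hcb, hcb.symm, ha, hb, hc]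
      simp [Equiv.swap_apply_def, hia, hib, hic]
      exact (CharTwo.add_self_eq_zero (v i)).symm
    · have hc1 := (hz2 (v c)).resolve_left hc
      have := S.add_mem hv hσ
      convert this using 1
      funext i
      simp only [Pi.add_apply, mul_inv_rev, Equiv.swap_inv, Equiv.Perm.mul_apply]
      rcases eq_or_ne i a with rfl | hia
      · simp [Equiv.swap_apply_def, hab, hab.symm, hca, hca.symm, hcb, hcb.symm, ha, hb, hc1]
      rcases eq_or_ne i b with rfl | hib
      · simp [Equiv.swap_apply_def, hab, hab.symm, hca, hca.symm, hcb, hcb.symm, ha, hb, hc1] <;> decide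
      rcases eq_or_ne i c with rfl | hic
      · simp [Equiv.swap_apply_def, hab, hab.symm, hca, hca.symm, hcb, hcb.symm, ha, hb, hc1] <;> exact (CharTwo.add_self_eq_zero (1 : ZMod 2)).symm
      simp [Equiv.swap_apply_def, hia, hib, hic]
      exact (CharTwo.add_self_eq_zero (v i)).symm
  obtain ⟨x, y, hxy, hxyS⟩ := hpair
  have hmove : ∀ {x y z : Fin n}, x ≠ y → y ≠ z → x ≠ z →
      (Pi.single x 1 + Pi.single y 1 : Fin n → ZMod 2) ∈ S →
      (Pi.single y 1 + Pi.single z 1 : Fin n → ZMod 2) ∈ S := by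
    intro x y z hxy hyz hxz hS
    have := hinv _ (h3 hxz hxy) _ hS
    convert this using 1
    funext i
    simp only [Pi.add_apply, mul_inv_rev, Equiv.swap_inv, Equiv.Perm.mul_apply, Pi.single_apply]
    rcases eq_or_ne i x with rfl | hix
    · simp [Equiv.swap_apply_def, hxy, hxy.symm, hyz, hyz.symm, hxz, hxz.symm]
    rcases eq_or_ne i y with rfl | hiy
    · simp [Equiv.swap_apply_def, hxy, hxy.symm, hyz, hyz.symm, hxz, hxz.symm]
    rcases eq_or_ne i z with rfl | hiz
    · simp [Equiv.swap_apply_def, hxy, hxy.symm, hyz, hyz.symm, hxz, hxz.symm]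
    simp [Equiv.swap_apply_def, hix, hiy, hiz]
  have hy : ∀ z, z ≠ y → (Pi.single y 1 + Pi.single z 1 : Fin n → ZMod 2) ∈ S := by
    intro z hz
    rcases eq_or_ne z x with rfl | hzx
    · rw [add_comm]; exact hxyS
    · exact hmove hxy hz.symm hzx.symm hxyS
  intro i j hij
  rcases eq_or_ne i y with rfl | hiy
  · exact hy j hij.symm
  rcases eq_or_ne j y with rfl | hjy
  · rw [add_comm]; exact hy i hiy
  exact hmove hiy.symm hij hjy.symm (hy i hiy)

theorem secIrred_of_perm {m : ℕ} {E X X₀ : Subgroup G}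
    (h : ActsAsOddPermModuleOnSection (2 * m + 1) (alternatingGroup (Fin (2 * m + 1))) E X X₀) :
    SecIrred E X X₀ := by
  classical
  obtain ⟨-, hle, ρ, ψ, hρ, hsum, -, hker, hact⟩ := h
  intro U hU0 hUX hEU
  let S : AddSubgroup (Fin (2 * m + 1) → ZMod 2) :=
    Subgroup.toAddSubgroup' ((U.subgroupOf X).map ψ)
  have hmem : ∀ {z}, z ∈ S ↔ ∃ u : ↥X, (u : G) ∈ U ∧ Multiplicative.toAdd (ψ u) = z := fun {z} =>
    ⟨fun ⟨u, hu, he⟩ => ⟨u, Subgroup.mem_subgroupOf.1 hu, congrArg Multiplicative.toAdd he⟩,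
      fun ⟨u, hu, he⟩ => ⟨u, Subgroup.mem_subgroupOf.2 hu, congrArg Multiplicative.ofAdd he⟩⟩
  by_cases hex : ∀ u : ↥X, (u : G) ∈ U → ψ u = 1
  · exact Or.inl (le_antisymm (fun u hu => (hker ⟨u, hUX hu⟩).1 (hex ⟨u, hUX hu⟩ hu)) hU0)
  refine Or.inr (le_antisymm hUX fun x hx => ?_)
  push Not at hex
  obtain ⟨u, hu, hu1⟩ := hex
  have hinv : ∀ σ ∈ alternatingGroup (Fin (2 * m + 1)), ∀ v ∈ S, (fun i => v (σ⁻¹ i)) ∈ S := by
    intro σ hσ v hv
    obtain ⟨u', hu', rfl⟩ := hmem.1 hv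
    rw [← hρ] at hσ
    obtain ⟨e, rfl⟩ := hσ
    obtain ⟨w, hw, hψ⟩ := hact e u'
    exact hmem.2 ⟨w, hw ▸ nconj (hEU e.2) hu', funext hψ⟩
  have hp := perm_pair_mem S hinv ⟨m, rfl⟩ (hmem.2 ⟨u, hu, rfl⟩)
    (fun h0 => hu1 (Multiplicative.toAdd.injective h0)) (hsum u)
  set z := Multiplicative.toAdd (ψ ⟨x, hx⟩) with hz
  have hzS : z ∈ S := by
    have hz0 : ∑ i, z i = 0 := hsum _
    have he : z = ∑ i, if i = 0 then 0
        else z i • (Pi.single 0 1 + Pi.single i 1 : Fin (2 * m + 1) → ZMod 2) := by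
      funext j
      rw [Finset.sum_apply]
      rcases eq_or_ne j 0 with rfl | hj
      · rw [← Finset.sum_erase_add _ _ (Finset.mem_univ (0 : Fin (2 * m + 1)))] at hz0
        rw [← Finset.sum_erase_add _ _ (Finset.mem_univ (0 : Fin (2 * m + 1))), if_pos rfl,
          Pi.zero_apply, add_zero]
        rw [CharTwo.add_eq_zero] at hz0
        rw [← hz0]
        refine Finset.sum_congr rfl fun i hi => ?_
        have hi0 := Finset.ne_of_mem_erase hi
        simp [hi0, Pi.single_apply, hi0.symm]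
      · rw [Finset.sum_eq_single j]
        · simp [hj]
        · intro i _ hij
          by_cases hi : i = 0
          · simp [hi]
          · simp [hi, Pi.single_apply, hj, Ne.symm hij]
        · simp
    rw [he]
    refine S.sum_mem fun i _ => ?_
    split_ifs with hi
    · exact S.zero_mem
    · rcases (show ∀ t : ZMod 2, t = 0 ∨ t = 1 by decide) (z i) with h | h <;> rw [h]
      · rw [zero_smul]; exact S.zero_mem
      · rw [one_smul]; exact hp 0 i (Ne.symm hi)
  obtain ⟨w, hwU, hψ⟩ := hmem.1 hzS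
  have h1 : ((w⁻¹ * ⟨x, hx⟩ : ↥X) : G) ∈ X₀ := (hker _).1 (by
    rw [map_mul, map_inv, Multiplicative.toAdd.injective hψ, inv_mul_cancel])
  have := mul_mem hwU (hU0 h1)
  simpa using this

/-! ### The structure of a block -/

/-- What is used from the definition of a block. -/
theorem block_facts [Finite G] [Fact p.Prime] {T E : Subgroup G} (h : IsBaumannBlock p T E) :
    SecIrred E (omegaOneCenter p (pCoreOf p E)) (omegaOneCenter p (pCoreOf p E) ⊓ C[E]) ∧
      (pCoreOf p E = omegaOneCenter p (pCoreOf p E) ∨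
        (p = 3 ∧ SecIrred E (pCoreOf p E) (omegaOneCenter p (pCoreOf p E)) ∧
          ⁅pCoreOf p E, pCoreOf p E⁆ = omegaOneCenter p (pCoreOf p E) ⊓ C[E] ∧
          ⁅pCoreOf p E, pCoreOf p E⁆ ≠ ⊥)) := by
  obtain ⟨-, -, -, -, hcase⟩ := h
  rcases hcase with ⟨F, _, _, n, hF, -, hW, hcase⟩ | ⟨-, m, -, hW, hQW⟩
  · refine ⟨secIrred_of_sl2 hW, ?_⟩
    rcases hcase with hQW | ⟨hp, hQ, hQQ, -, hZ, hcard, -⟩
    · exact Or.inl hQW
    · refine Or.inr ⟨hp, secIrred_of_sl2 hQ, hQQ, fun hbot => ?_⟩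
      rw [hZ, ← hQQ, hbot, Subgroup.card_bot] at hcard
      have hn : n = 0 := by
        rcases Nat.eq_zero_or_pos n with hn | hn
        · exact hn
        · have := Nat.one_lt_pow hn.ne' (by norm_num : 1 < 3)
          omega
      rw [hn, pow_zero] at hF
      exact absurd hF (Fintype.one_lt_card (α := F)).ne'
  · exact ⟨secIrred_of_perm hW, Or.inl hQW⟩

variable [Finite G] [Fact p.Prime]

/-- Location of the commutator module of a block. -/
theorem block_location (hG : Subgroup.centralizer (pCore p G : Set G) ≤ pCore p G) (T : Sylow p G)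
    {E : Subgroup G} (hE : IsBaumannBlock p (T : Subgroup G) E) :
    pResidualOf p (E ⊔ pCore p G) = E ∧
      ⁅omegaOneCenter p (pCoreOf p E), E⁆ ≤ omegaOneCenter p (pCore p G) ∧
      ⁅⁅omegaOneCenter p (pCoreOf p E), E⁆, thompsonSubgroupOf p (T : Subgroup G)⁆ ≠ ⊥ := by
  obtain ⟨hres, hEB, -, hEZ, -⟩ := id hE
  obtain ⟨hWirr, hQcase⟩ := block_facts hE
  obtain ⟨hPn, hPp⟩ := LocalEvenB.pCore_spec (G := G) p
  set P := pCore p G with hPd
  have hall : ∀ g : G, g ∈ N[P] := fun g => by rw [Subgroup.normalizer_eq_top]; exact Subgroup.mem_top g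
  have hPE : P ≤ N[E] :=
    le_normalizer_of_invariant T hres hEB hPp (fun b _ => hall b) fun e _ => hall e
  refine ⟨pResidualOf_sup hres hPp hPE, ?_⟩
  set V := omegaOneCenter p P with hV
  set Q := pCoreOf p E with hQd
  set W := omegaOneCenter p Q with hWd
  have hVn : ∀ g : G, g ∈ N[V] := fun g => normalizes_omegaOneCenter (hall g)
  have hVP : V ≤ P := omc_le p P
  have hPT : P ≤ (T : Subgroup G) := LocalEvenB.pCore_le_sylow T
  set U := ⁅V, E⁆ with hU
  have hEU : E ≤ N[U] := le_normalizer_commutator_right V E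
  have hUV : U ≤ V := Subgroup.commutator_le.2 fun v hv e _ => by
    rw [show ⁅v, e⁆ = v * (e * v⁻¹ * e⁻¹) by rw [commutatorElement_def]; group]
    exact mul_mem hv (nconj (hVn e) (inv_mem hv))
  have hUE : U ≤ E := Subgroup.commutator_le.2 fun v hv e he => by
    rw [commutatorElement_def]
    exact mul_mem (nconj (hPE (hVP hv)) he) (inv_mem he)
  have hUQ : U ≤ Q := le_pCoreOf hUE hEU (hPp.to_le (hUV.trans hVP))
  have hVea : IsElementaryAbelian p V := omc_ea p P
  have hUne : U ≠ ⊥ := by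
    intro h0
    refine hEZ (le_bot_iff.1 ?_)
    refine le_trans ?_ ((Subgroup.commutator_comm E V).trans h0).le
    refine Subgroup.commutator_mono le_rfl ?_
    rw [omegaOneCenter, omegaOne, Subgroup.closure_le]
    rintro x ⟨⟨hxT, hxC⟩, hxp⟩
    refine Subgroup.subset_closure ⟨⟨hG ?_, ?_⟩, hxp⟩
    · exact Subgroup.centralizer_le (SetLike.coe_subset_coe.2 hPT) hxC
    · exact Subgroup.centralizer_le (SetLike.coe_subset_coe.2 hPT) hxC
  have hUW : U ≤ W := by
    rcases hQcase with hQW | ⟨-, hQirr, hQQ, hQne⟩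
    · exact hUQ.trans hQW.le
    · have hEW : E ≤ N[W] := fun e he => normalizes_omegaOneCenter (le_normalizer_pCoreOf p E he)
      rcases hQirr (U ⊔ W) le_sup_right (sup_le hUQ (omc_le p Q))
          (fun e he => LocalEvenB.mem_normalizer_of_conjMap_le (by
            rw [Subgroup.map_sup]
            exact sup_le_sup (LocalEvenB.conjMap_le_of_mem_normalizer (hEU he))
              (LocalEvenB.conjMap_le_of_mem_normalizer (hEW he)))) with h | h
      · exact le_sup_left.trans h.le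
      · exfalso
        refine hQne (Subgroup.commutator_eq_bot_iff_le_centralizer.2 ?_)
        have hUab : U ≤ C[U] := elemAb_le_centralizer (elemAb_mono hVea hUV)
        have hWQ : Q ≤ C[W] := omc_centralizes p Q
        have hQU : Q ≤ C[U] := by
          rw [← h]
          exact sup_le hUab (Subgroup.le_centralizer_iff.1 (hUQ.trans hWQ))
        calc Q = U ⊔ W := h.symm
          _ ≤ C[Q] := sup_le (Subgroup.le_centralizer_iff.1 hQU) (Subgroup.le_centralizer_iff.1 hWQ)
  set Z := W ⊓ C[E] with hZ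
  have hUZ : ¬ U ≤ Z := fun h => hUne (commutator_eq_bot_of_two_step hres
    (hPp.to_le hVP) (fun e _ => hVn e)
    (Subgroup.commutator_eq_bot_iff_le_centralizer.2 (h.trans inf_le_right)))
  have hEW : E ≤ N[W] := fun e he => normalizes_omegaOneCenter (le_normalizer_pCoreOf p E he)
  have hEZn : E ≤ N[Z] := fun e he =>
    normalizes_inf (hEW he) (normalizes_centralizer (Subgroup.le_normalizer he))
  have hjoin : U ⊔ Z = W := by
    rcases hWirr (U ⊔ Z) le_sup_right (sup_le hUW inf_le_left)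
        (fun e he => LocalEvenB.mem_normalizer_of_conjMap_le (by
          rw [Subgroup.map_sup]
          exact sup_le_sup (LocalEvenB.conjMap_le_of_mem_normalizer (hEU he))
            (LocalEvenB.conjMap_le_of_mem_normalizer (hEZn he)))) with h | h
    · exact absurd (le_sup_left.trans h.le) hUZ
    · exact h
  have hWV : ⁅W, E⁆ ≤ U := by
    rw [Subgroup.commutator_le]
    intro w hw e he
    have hw' : w ∈ ((U ⊔ Z : Subgroup G) : Set G) := hjoin.ge hw
    rw [Subgroup.coe_mul_of_left_le_normalizer_right U Z ((hUE.trans hEZn)), Set.mem_mul] at hw'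
    obtain ⟨u, hu, z, hz, rfl⟩ := hw'
    have hze : z * e = e * z := (Subgroup.mem_centralizer_iff.1 hz.2 e he).symm
    rw [show ⁅u * z, e⁆ = u * (e * u⁻¹ * e⁻¹) by
      rw [commutatorElement_def]
      calc u * z * e * (u * z)⁻¹ * e⁻¹ = u * (z * e) * z⁻¹ * u⁻¹ * e⁻¹ := by group
        _ = u * (e * z) * z⁻¹ * u⁻¹ * e⁻¹ := by rw [hze]
        _ = _ := by group]
    exact mul_mem hu (nconj (hEU he) (inv_mem hu))
  refine ⟨hWV.trans hUV, fun hJ0 => hUZ ?_⟩
  set We := ⁅W, E⁆ with hWe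
  set J := thompsonSubgroupOf p (T : Subgroup G) with hJ
  have hWeV : We ≤ V := hWV.trans hUV
  have hJC : J ≤ C[We] := Subgroup.le_centralizer_iff.1 (Subgroup.commutator_eq_bot_iff_le_centralizer.1 hJ0)
  have hWeJ : We ≤ J := by
    obtain ⟨A, hA⟩ := Transfer.exists_isMaxElemIn (p := p) (T : Subgroup G)
    have hAJ : A ≤ J := Transfer.le_thompsonSubgroupOf hA
    have hWe' : We ≤ A := by
      have hsup : A ⊔ We ≤ (T : Subgroup G) := sup_le hA.1 (hWeV.trans (hVP.trans hPT))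
      have hea := elemAb_sup hA.2.1 (elemAb_mono hVea hWeV) (hAJ.trans hJC)
      exact le_sup_right.trans (Subgroup.eq_of_le_of_card_ge (le_sup_left : A ≤ A ⊔ We)
        (hA.2.2 _ hsup hea)).ge
    exact hWe'.trans hAJ
  have hWeΩ : We ≤ omegaOne p (centerThompsonOf p (T : Subgroup G)) := fun w hw =>
    Subgroup.subset_closure ⟨⟨hWeJ hw, Subgroup.le_centralizer_iff.1 hJC hw⟩, hVea.2 w (hWeV hw)⟩
  set B := baumannSubgroupOf p (T : Subgroup G) with hB
  have hBWe : B ≤ C[We] := inf_le_right.trans (Subgroup.centralizer_le (SetLike.coe_subset_coe.2 hWeΩ))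
  have hEWe : E ≤ N[We] := le_normalizer_commutator_right W E
  have hEC : ⁅We, E⁆ = ⊥ := by
    rw [Subgroup.commutator_comm]
    conv_lhs => rw [← hEB]
    have hBW0 : ⁅B, We⁆ = ⊥ := Subgroup.commutator_eq_bot_iff_le_centralizer.2 hBWe
    refine Subgroup.commutator_commutator_eq_bot_of_rotate ?_ ?_
    · rw [hBW0]; exact Subgroup.commutator_bot_left _
    · refine le_bot_iff.1 (le_trans (Subgroup.commutator_mono ?_ le_rfl)
        ((Subgroup.commutator_comm We B).trans hBW0).le)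
      exact Subgroup.commutator_le.2 fun w hw e he => by
        rw [show ⁅w, e⁆ = w * (e * w⁻¹ * e⁻¹) by rw [commutatorElement_def]; group]
        exact mul_mem hw (nconj (hEWe he) (inv_mem hw))
  have hW0 : We = ⊥ :=
    commutator_eq_bot_of_two_step hres ((pCoreOf_isPGroup' p E).to_le (omc_le p Q)) hEW hEC
  exact le_inf hUW (hUW.trans (Subgroup.commutator_eq_bot_iff_le_centralizer.1 hW0))

end Cfsg.Agent.BBlock
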