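import Cfsg.Agent.Lib.LocalEvenB.CentrallyLarge

/-! A minimal centrally large subgroup normalized by `J(P)` and by the join of all minimal centrally large subgroups. -/

set_option autoImplicit false

namespace Cfsg.Agent.CLNormal

open scoped Pointwise commutatorElement
open Cfsg.Agent.LocalEvenB

variable {G : Type*} [Group G] [Finite G]

local notation "C[" H "]" => Subgroup.centralizer ((H : Subgroup G) : Set G)
local notation "N[" H "]" => Subgroup.normalizer ((H : Subgroup G) : Set G)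
local notation "Lrg" => Cfsg.IsCentralizerLarge

omit [Finite G] in
theorem conjMap_le_iff {g : G} {H K : Subgroup G} :
    H.map (MulAut.conj g).toMonoidHom ≤ K ↔ ∀ x ∈ H, g * x * g⁻¹ ∈ K :=
  ⟨fun h x hx => h (conjMap_apply_mem hx), fun h => by rintro _ ⟨x, hx, rfl⟩; simpa using h x hx⟩

omit [Finite G] in
theorem conj_mem_of_normalizer {g x : G} {H : Subgroup G} (hg : g ∈ N[H]) (hx : x ∈ H) :
    g * x * g⁻¹ ∈ H :=
  (Subgroup.mem_normalizer_iff.1 hg x).1 hx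

omit [Finite G] in
theorem conjMap_centralizer (g : G) (H : Subgroup G) :
    C[H.map (MulAut.conj g).toMonoidHom] = C[H].map (MulAut.conj g).toMonoidHom := by
  ext y
  simp only [mem_conjMap, Subgroup.mem_centralizer_iff, SetLike.mem_coe]
  constructor
  · intro h u hu
    have h1 := h (g * u * g⁻¹) (by simpa [mul_assoc] using hu)
    simpa [mul_assoc] using congrArg (fun z => g⁻¹ * z * g) h1
  · intro h u hu
    have h1 := h (g⁻¹ * u * g) hu
    simpa [mul_assoc] using congrArg (fun z => g * z * g⁻¹) h1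

theorem lrg_conj (g : G) {H : Subgroup G} (h : Lrg H) : Lrg (H.map (MulAut.conj g).toMonoidHom) :=
  (isCentralizerLarge_iff _).2 fun K => by
    rw [cdMeasure_conjMap]; exact (isCentralizerLarge_iff H).1 h K

theorem lrg_cent {H : Subgroup G} (h : Lrg H) : Lrg C[H] := (centralizer_centralizer_of_large h).1

theorem cent_cent {H : Subgroup G} (h : Lrg H) : C[C[H]] = H :=
  (centralizer_centralizer_of_large h).2.symm

theorem lrg_inf {H K : Subgroup G} (hH : Lrg H) (hK : Lrg K) : Lrg (H ⊓ K) :=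
  (isCentralizerLarge_sup_inf hH hK).2.1

theorem lrg_sup {H K : Subgroup G} (hH : Lrg H) (hK : Lrg K) : Lrg (H ⊔ K) :=
  (isCentralizerLarge_sup_inf hH hK).1

theorem lrg_mem_sup {H K : Subgroup G} (hH : Lrg H) (hK : Lrg K) {x : G} (hx : x ∈ H ⊔ K) :
    ∃ a ∈ H, ∃ b ∈ K, a * b = x := by
  rw [← SetLike.mem_coe, (isCentralizerLarge_sup_inf hH hK).2.2.1] at hx
  exact Set.mem_mul.1 hx

theorem normalizer_conj_eq {g : G} {H : Subgroup G} (hg : g ∈ N[H]) :
    H.map (MulAut.conj g).toMonoidHom = H := conjMap_eq_of_mem_normalizer hg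

theorem normalizes_centralizer {g : G} {H : Subgroup G} (hg : g ∈ N[H]) : g ∈ N[C[H]] :=
  mem_normalizer_of_conjMap_le (by rw [← conjMap_centralizer, normalizer_conj_eq hg])

theorem normalizes_sup {g : G} {H K : Subgroup G} (hH : g ∈ N[H]) (hK : g ∈ N[K]) :
    g ∈ N[H ⊔ K] :=
  mem_normalizer_of_conjMap_le (by rw [Subgroup.map_sup, normalizer_conj_eq hH, normalizer_conj_eq hK])

theorem normalizes_inf {g : G} {H K : Subgroup G} (hH : g ∈ N[H]) (hK : g ∈ N[K]) :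
    g ∈ N[H ⊓ K] :=
  mem_normalizer_of_conj_mem fun _ hx =>
    ⟨conj_mem_of_normalizer hH hx.1, conj_mem_of_normalizer hK hx.2⟩

/-- The smallest member of the lattice above `U`. -/
theorem exists_hull {M U : Subgroup G} (hM : Lrg M) (hU : U ≤ M) :
    ∃ E : Subgroup G, Lrg E ∧ U ≤ E ∧ E ≤ M ∧ (∀ M', Lrg M' → U ≤ M' → E ≤ M') ∧
      ∀ g, g ∈ N[U] → g ∈ N[E] := by
  obtain ⟨E, hEM, ⟨hE, hUE⟩, hmin⟩ :=
    Finite.exists_le_minimal (p := fun E : Subgroup G => Lrg E ∧ U ≤ E) ⟨hM, hU⟩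
  have hle : ∀ M', Lrg M' → U ≤ M' → E ≤ M' := fun M' h h' =>
    (hmin ⟨lrg_inf hE h, le_inf hUE h'⟩ inf_le_left).trans inf_le_right
  refine ⟨E, hE, hUE, hEM, hle, fun g hg => ?_⟩
  have hg' : g⁻¹ ∈ N[U] := inv_mem hg
  refine inv_mem_iff.1 (mem_normalizer_of_conjMap_le ?_)
  have h1 : E ≤ E.map (MulAut.conj g⁻¹).toMonoidHom := hle _ (lrg_conj _ hE)
    ((normalizer_conj_eq hg').ge.trans (Subgroup.map_mono hUE))
  exact (Subgroup.eq_of_le_of_card_ge h1 (conjMap_card g⁻¹ E).le).ge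

theorem abelian_of_cl {Q : Subgroup G} (hQ : Cfsg.IsCentrallyLarge Q) : C[Q] ≤ C[C[Q]] := by
  obtain ⟨hl, hc⟩ := (isCentrallyLarge_iff Q).1 hQ
  exact hc.trans (cent_cent hl).ge

theorem cl_of_abelian {T : Subgroup G} (hT : Lrg T) (hTab : T ≤ C[T]) :
    Cfsg.IsCentrallyLarge C[T] :=
  (isCentrallyLarge_iff _).2 ⟨lrg_cent hT, (cent_cent hT).le.trans hTab⟩

theorem minCL_derived {Q R : Subgroup G} (hQ : Cfsg.IsMinimalCentrallyLarge Q)
    (hR : Cfsg.IsMinimalCentrallyLarge R) : ⁅Q, Q⁆ = ⁅R, R⁆ := by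
  rw [minCL_commutator hQ hR, inf_comm, ← minCL_commutator hR hQ]

theorem minCL_conj (g : G) {Q : Subgroup G} (hQ : Cfsg.IsMinimalCentrallyLarge Q) :
    Cfsg.IsMinimalCentrallyLarge (Q.map (MulAut.conj g).toMonoidHom) := by
  have hcl : ∀ (h : G) {R : Subgroup G}, Cfsg.IsCentrallyLarge R →
      Cfsg.IsCentrallyLarge (R.map (MulAut.conj h).toMonoidHom) := by
    intro h R hR
    obtain ⟨hl, hc⟩ := (isCentrallyLarge_iff R).1 hR
    exact (isCentrallyLarge_iff _).2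
      ⟨lrg_conj h hl, (conjMap_centralizer h R).le.trans (Subgroup.map_mono hc)⟩
  refine ⟨hcl g hQ.1, fun R' hle hR' => ?_⟩
  have h1 : R'.map (MulAut.conj g⁻¹).toMonoidHom ≤ Q := by
    intro y hy
    obtain ⟨x, hx, rfl⟩ := hy
    have := mem_conjMap.1 (hle hx)
    simpa [mul_assoc] using this
  have h2 := hQ.2 _ h1 (hcl g⁻¹ hR')
  rw [← h2, conjMap_conjMap, mul_inv_cancel, conjMap_one]

theorem mcl_normal (g : G) : g ∈ N[Cfsg.minimalCentrallyLargeJoin G] := by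
  refine mem_normalizer_of_conjMap_le ?_
  rw [Cfsg.minimalCentrallyLargeJoin, sSup_eq_iSup, Subgroup.map_iSup]
  refine iSup_le fun Q => ?_
  rw [Subgroup.map_iSup]
  exact iSup_le fun hQ => le_iSup₂_of_le _ (minCL_conj g hQ) le_rfl

theorem maxAb_conj (g : G) {A : Subgroup G} (hA : A ∈ Cfsg.maxAbelianSubgroups G) :
    A.map (MulAut.conj g).toMonoidHom ∈ Cfsg.maxAbelianSubgroups G := by
  refine ⟨?_, fun B hB => (hA.2 B hB).trans (conjMap_card g A).ge⟩
  haveI := hA.1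
  refine Subgroup.le_centralizer_iff_isMulCommutative.1 ?_
  rw [conjMap_centralizer]
  exact Subgroup.map_mono (Subgroup.le_centralizer_iff_isMulCommutative.2 hA.1)

theorem thompsonA_normal (g : G) : g ∈ N[Cfsg.thompsonSubgroupA G] := by
  refine mem_normalizer_of_conjMap_le ?_
  rw [Cfsg.thompsonSubgroupA, sSup_eq_iSup, Subgroup.map_iSup]
  refine iSup_le fun A => ?_
  rw [Subgroup.map_iSup]
  exact iSup_le fun hA => le_iSup₂_of_le _ (maxAb_conj g hA) le_rfl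

/-- A deepest element outside a set. -/
theorem exists_step [Group.IsNilpotent G] {W Y : Subgroup G} {S : Set G}
    (hne : ¬ Y ≤ W) (hS : ∀ s ∈ S, s ∈ N[Y]) :
    ∃ v ∈ Y, v ∉ W ∧ ∀ s ∈ S, ⁅s, v⁆ ∈ W := by
  classical
  obtain ⟨y, hy, hyW⟩ := SetLike.not_le_iff_exists.1 hne
  have hex : ∃ i, ∃ v ∈ Y, v ∉ W ∧ v ∈ Subgroup.upperCentralSeries G i := by
    obtain ⟨n, hn⟩ := Group.IsNilpotent.nilpotent G
    exact ⟨n, y, hy, hyW, by rw [hn]; exact Subgroup.mem_top y⟩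
  obtain ⟨v, hv, hvW, hvi⟩ := Nat.find_spec hex
  refine ⟨v, hv, hvW, fun s hs => ?_⟩
  by_contra hc
  cases hfi : Nat.find hex with
  | zero =>
    rw [hfi] at hvi
    simp at hvi
    exact hvW (hvi ▸ W.one_mem)
  | succ i =>
    rw [hfi] at hvi
    refine Nat.find_min hex (by omega : i < Nat.find hex) ⟨_, ?_, hc, ?_⟩
    · rw [commutatorElement_def]
      exact Y.mul_mem (conj_mem_of_normalizer (hS s hs) hv) (Y.inv_mem hv)
    · rw [← commutatorElement_inv]
      exact inv_mem (Subgroup.mem_upperCentralSeries_succ_iff.1 hvi s)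

local notation "MCL" => Cfsg.minimalCentrallyLargeJoin G

/-- If `T` is maximal among abelian lattice members normalized by the join of the minimal
centrally large subgroups, its centralizer is minimal centrally large. -/
theorem stage [Group.IsNilpotent G] {T : Subgroup G} (hT : Lrg T) (hTab : T ≤ C[T])
    (hMT : C[MCL] ≤ T) (hMn : MCL ≤ N[T])
    (hmax : ∀ E : Subgroup G, Lrg E → E ≤ C[E] → T ≤ E → MCL ≤ N[E] → E = T) :
    Cfsg.IsMinimalCentrallyLarge C[T] := by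
  set Y := C[T] with hYd
  have hYl : Lrg Y := lrg_cent hT
  have hCY : C[Y] = T := cent_cent hT
  have hMl : Lrg MCL := ((isCentrallyLarge_iff _).1 minimalCentrallyLargeJoin_cl).1
  have hYM : Y ≤ MCL :=
    (Subgroup.centralizer_le (SetLike.coe_subset_coe.2 hMT)).trans (cent_cent hMl).le
  have hMY : MCL ≤ N[Y] := fun m hm => normalizes_centralizer (hMn hm)
  obtain ⟨Q0, hQ0Y, hQ0⟩ := exists_isMinimalCentrallyLarge_le (cl_of_abelian hT hTab)
  set D := ⁅Q0, Q0⁆ with hD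
  set R := T ⊔ D with hR
  have hTQ : ∀ {Q : Subgroup G}, Cfsg.IsMinimalCentrallyLarge Q → Q ≤ Y → T ≤ Q := fun hQ hle =>
    hCY.ge.trans ((Subgroup.centralizer_le (SetLike.coe_subset_coe.2 hle)).trans
      ((isCentrallyLarge_iff _).1 hQ.1).2)
  have hDn : ∀ g : G, g ∈ N[D] := fun g => mem_normalizer_of_conjMap_le (by
    rw [hD, Subgroup.map_commutator]
    exact (minCL_derived (minCL_conj g hQ0) hQ0).le)
  have hRn : ∀ m ∈ MCL, m ∈ N[R] := fun m hm => normalizes_sup (hMn hm) (hDn m)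
  have hDQ : ∀ {Q : Subgroup G}, Cfsg.IsMinimalCentrallyLarge Q → D ≤ Q := fun hQ =>
    (minCL_derived hQ0 hQ).le.trans (Subgroup.commutator_le.2 fun x hx y hy => by
      rw [commutatorElement_def]
      exact mul_mem (mul_mem (mul_mem hx hy) (inv_mem hx)) (inv_mem hy))
  have hRQ0 : R ≤ Q0 := sup_le (hTQ hQ0 hQ0Y) (hDQ hQ0)
  have hRY : R ≤ Y := hRQ0.trans hQ0Y
  let W : Subgroup G :=
    { carrier := {y | y ∈ Y ∧ ∀ m ∈ MCL, ⁅m, y⁆ ∈ R}
      one_mem' := ⟨Y.one_mem, fun m _ => by simp⟩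
      mul_mem' := fun {x y} hx hy => ⟨Y.mul_mem hx.1 hy.1, fun m hm => by
        rw [show ⁅m, x * y⁆ = ⁅m, x⁆ * (x * ⁅m, y⁆ * x⁻¹) by rw [commutatorElement_def, commutatorElement_def, commutatorElement_def]; group]
        exact mul_mem (hx.2 m hm) (conj_mem_of_normalizer (hRn x (hYM hx.1)) (hy.2 m hm))⟩
      inv_mem' := fun {x} hx => ⟨Y.inv_mem hx.1, fun m hm => by
        rw [show ⁅m, x⁻¹⁆ = x⁻¹ * ⁅m, x⁆⁻¹ * (x⁻¹)⁻¹ by rw [commutatorElement_def, commutatorElement_def]; group]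
        exact conj_mem_of_normalizer (hRn _ (hYM (Y.inv_mem hx.1))) (inv_mem (hx.2 m hm))⟩ }
  by_cases hYW : Y ≤ W
  · have hQn : MCL ≤ N[Q0] := fun m hm => mem_normalizer_of_conj_mem fun y hy => by
      rw [show m * y * m⁻¹ = ⁅m, y⁆ * y by rw [commutatorElement_def]; group]
      exact mul_mem (hRQ0 ((hYW (hQ0Y hy)).2 m hm)) hy
    obtain ⟨hQl, -⟩ := (isCentrallyLarge_iff Q0).1 hQ0.1
    have hE : C[Q0] = T := hmax _ (lrg_cent hQl) (abelian_of_cl hQ0.1)
      (hCY.ge.trans (Subgroup.centralizer_le (SetLike.coe_subset_coe.2 hQ0Y)))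
      (fun m hm => normalizes_centralizer (hQn hm))
    have : Q0 = Y := by rw [hYd, ← hE, cent_cent hQl]
    exact this ▸ hQ0
  · exfalso
    obtain ⟨v, hvY, hvW, hv⟩ := exists_step (W := W) (S := (MCL : Set G)) hYW hMY
    obtain ⟨Q', hQ', q, hqQ', hqv⟩ :
        ∃ Q' : Subgroup G, Cfsg.IsMinimalCentrallyLarge Q' ∧ ∃ q ∈ Q', ⁅q, v⁆ ∉ R := by
      by_contra hno
      simp only [not_exists, not_and, not_not] at hno
      let S : Subgroup G :=
        { carrier := {m | m ∈ MCL ∧ ⁅m, v⁆ ∈ R}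
          one_mem' := ⟨one_mem _, by simp⟩
          mul_mem' := fun {a b} ha hb => ⟨mul_mem ha.1 hb.1, by
            rw [show ⁅a * b, v⁆ = a * ⁅b, v⁆ * a⁻¹ * ⁅a, v⁆ by rw [commutatorElement_def, commutatorElement_def, commutatorElement_def]; group]
            exact mul_mem (conj_mem_of_normalizer (hRn a ha.1) hb.2) ha.2⟩
          inv_mem' := fun {a} ha => ⟨inv_mem ha.1, by
            rw [show ⁅a⁻¹, v⁆ = a⁻¹ * ⁅a, v⁆⁻¹ * (a⁻¹)⁻¹ by rw [commutatorElement_def, commutatorElement_def]; group]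
            exact conj_mem_of_normalizer (hRn _ (inv_mem ha.1)) (inv_mem ha.2)⟩ }
      have hle : MCL ≤ S := sSup_le fun Q hQ q hq =>
        ⟨(le_sSup (s := {R : Subgroup G | Cfsg.IsMinimalCentrallyLarge R}) hQ) hq, hno Q hQ q hq⟩
      exact hvW ⟨hvY, fun m hm => (hle hm).2⟩
    have hQ'M : Q' ≤ MCL := le_sSup hQ'
    set U := Subgroup.closure ((fun x => ⁅x, v⁆) '' (Q' : Set G) ∪ (R : Set G)) with hU
    have hRU : R ≤ U := fun x hx => Subgroup.subset_closure (Or.inr hx)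
    have hgU : ∀ x ∈ Q', ⁅x, v⁆ ∈ U := fun x hx => Subgroup.subset_closure (Or.inl ⟨x, hx, rfl⟩)
    have hUW : U ≤ W := by
      rw [hU, Subgroup.closure_le]
      rintro x (⟨y, hy, rfl⟩ | hx)
      · exact hv y (hQ'M hy)
      · exact ⟨hRY hx, fun m hm => by
          rw [commutatorElement_def]
          exact mul_mem (conj_mem_of_normalizer (hRn m hm) hx) (inv_mem hx)⟩
    have hUn : MCL ≤ N[U] := fun m hm => mem_normalizer_of_conj_mem fun u hu => by
      rw [show m * u * m⁻¹ = ⁅m, u⁆ * u by rw [commutatorElement_def]; group]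
      exact mul_mem (hRU ((hUW hu).2 m hm)) hu
    have hTR : T ≤ R := le_sup_left
    set X := Q' ⊔ T with hX
    set H := X ⊔ X.map (MulAut.conj v).toMonoidHom with hHd
    have hXl : Lrg X := lrg_sup ((isCentrallyLarge_iff _).1 hQ'.1).1 hT
    have hHl : Lrg H := lrg_sup hXl (lrg_conj v hXl)
    have hUH : U ≤ H := by
      rw [hU, Subgroup.closure_le]
      rintro x (⟨y, hy, rfl⟩ | hx)
      · dsimp only
        rw [show ⁅y, v⁆ = y * (v * y⁻¹ * v⁻¹) by rw [commutatorElement_def]; group]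
        exact mul_mem (le_sup_left (α := Subgroup G) (le_sup_left (α := Subgroup G) hy))
          (le_sup_right (α := Subgroup G)
            (conjMap_apply_mem (le_sup_left (α := Subgroup G) (inv_mem hy))))
      · exact (sup_le le_sup_right ((hDQ hQ').trans le_sup_left) : R ≤ X).trans le_sup_left hx
    have hHU : H ≤ Q' ⊔ U := by
      refine sup_le (sup_le le_sup_left ((hTR.trans hRU).trans le_sup_right)) ?_
      rw [hX, Subgroup.map_sup]
      refine sup_le ?_ ?_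
      · rw [conjMap_le_iff]
        intro y hy
        rw [show v * y * v⁻¹ = y * ⁅y⁻¹, v⁆ by rw [commutatorElement_def]; group]
        exact Subgroup.mul_mem_sup hy (hgU _ (inv_mem hy))
      · rw [conjMap_le_iff]
        intro t ht
        rw [← Subgroup.mem_centralizer_iff.1 hvY t ht, mul_inv_cancel_right]
        exact le_sup_right (α := Subgroup G) (hRU (hTR ht))
    have hQU : ((Q' ⊔ U : Subgroup G) : Set G) = (Q' : Set G) * (U : Set G) :=
      Subgroup.coe_mul_of_left_le_normalizer_right _ _ (hQ'M.trans hUn)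
    have hK : ∀ k ∈ H ⊓ Y, ∀ x ∈ Q', ⁅x, k⁆ ∈ R := by
      intro k hk x hx
      have hk1 := hHU hk.1
      rw [← SetLike.mem_coe, hQU] at hk1
      obtain ⟨y, hy, u, hu, rfl⟩ := Set.mem_mul.1 hk1
      rw [show ⁅x, y * u⁆ = ⁅x, y⁆ * (y * ⁅x, u⁆ * y⁻¹) by rw [commutatorElement_def, commutatorElement_def, commutatorElement_def]; group]
      refine mul_mem ?_ (conj_mem_of_normalizer (hRn y (hQ'M hy)) ((hUW hu).2 x (hQ'M hx)))
      exact (le_sup_right : D ≤ R) ((minCL_derived hQ0 hQ').ge (Subgroup.commutator_mem_commutator hx hy))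
    obtain ⟨E, hEl, hUE, hEK, -, hEn⟩ :=
      exists_hull (lrg_inf hHl hYl) (le_inf hUH (fun u hu => (hUW hu).1) : U ≤ H ⊓ Y)
    have hEY : E ≤ Y := hEK.trans inf_le_right
    have hMCE : MCL ≤ N[C[E]] := fun m hm => normalizes_centralizer (hEn m (hUn hm))
    have hTE : T ≤ E := (hTR.trans hRU).trans hUE
    have hTCE : T ≤ C[E] := hCY.ge.trans (Subgroup.centralizer_le (SetLike.coe_subset_coe.2 hEY))
    have hDE : E ⊓ C[E] = T := hmax _ (lrg_inf hEl (lrg_cent hEl))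
      (inf_le_right.trans (Subgroup.centralizer_le (SetLike.coe_subset_coe.2 inf_le_left)))
      (le_inf hTE hTCE) fun m hm => normalizes_inf (hEn m (hUn hm)) (hMCE hm)
    have hjoin : E ⊔ C[E] = Y := by
      rw [← cent_cent (lrg_sup hEl (lrg_cent hEl)), centralizer_sup, cent_cent hEl, inf_comm, hDE]
    obtain ⟨e, he, f, hf, hef⟩ := lrg_mem_sup hEl (lrg_cent hEl) (hjoin.ge hvY)
    have hc : ⁅q, f⁆ ∈ C[E] := by
      rw [commutatorElement_def]
      exact mul_mem (conj_mem_of_normalizer (hMCE (hQ'M hqQ')) hf) (inv_mem hf)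
    have h1 : ⁅q, v⁆ = ⁅q, e⁆ * ⁅q, f⁆ := by
      have h2 := Subgroup.mem_centralizer_iff.1 hc e he
      calc ⁅q, v⁆ = ⁅q, e⁆ * (e * ⁅q, f⁆ * e⁻¹) := by
            rw [← hef, commutatorElement_def, commutatorElement_def, commutatorElement_def]; group
        _ = _ := by rw [h2, mul_inv_cancel_right]
    have heR : ⁅q, e⁆ ∈ R := hK e (hEK he) q hqQ'
    have hcE : ⁅q, f⁆ ∈ E := by
      rw [show ⁅q, f⁆ = ⁅q, e⁆⁻¹ * ⁅q, v⁆ by rw [h1, inv_mul_cancel_left]]
      exact mul_mem (inv_mem (hRU.trans hUE heR)) (hUE (hgU q hqQ'))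
    refine hqv ?_
    rw [h1]
    exact mul_mem heR (hTR (hDE.le ⟨hcE, hc⟩))

theorem card_sup_eq {H K : Subgroup G} (h : H ≤ N[K]) :
    Nat.card ↥(H ⊔ K) * Nat.card ↥(H ⊓ K) = Nat.card ↥H * Nat.card ↥K := by
  have hle : H ⊔ K ≤ N[K] := sup_le h Subgroup.le_normalizer
  haveI : (K.subgroupOf (H ⊔ K)).Normal := Subgroup.normal_subgroupOf_of_le_normalizer hle
  have h1 := Subgroup.relIndex_sup_right (H := H.subgroupOf (H ⊔ K)) (K := K.subgroupOf (H ⊔ K))
  rw [← Subgroup.subgroupOf_sup le_sup_left le_sup_right, Subgroup.relIndex_subgroupOf le_rfl,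
    Subgroup.relIndex_subgroupOf le_sup_left] at h1
  have h2 := card_mul_relIndex (le_sup_right : K ≤ H ⊔ K)
  have h3 := card_mul_relIndex (inf_le_left : H ⊓ K ≤ H)
  rw [h1] at h2
  rw [inf_comm, Subgroup.inf_relIndex_right] at h3
  rw [← h2, ← h3, inf_comm H K]
  ring

/-- Elements commuting modulo `T`, closed under products. -/
def commSub (T : Subgroup G) (Y : Subgroup G) (hYT : Y ≤ N[T]) (z : G) : Subgroup G where
  carrier := {y | y ∈ Y ∧ ⁅z, y⁆ ∈ T}
  one_mem' := ⟨Y.one_mem, by simp⟩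
  mul_mem' := fun {x y} hx hy => ⟨Y.mul_mem hx.1 hy.1, by
    rw [show ⁅z, x * y⁆ = ⁅z, x⁆ * (x * ⁅z, y⁆ * x⁻¹) by rw [commutatorElement_def, commutatorElement_def, commutatorElement_def]; group]
    exact mul_mem hx.2 (conj_mem_of_normalizer (hYT hx.1) hy.2)⟩
  inv_mem' := fun {x} hx => ⟨Y.inv_mem hx.1, by
    rw [show ⁅z, x⁻¹⁆ = x⁻¹ * ⁅z, x⁆⁻¹ * (x⁻¹)⁻¹ by rw [commutatorElement_def, commutatorElement_def]; group]
    exact conj_mem_of_normalizer (hYT (Y.inv_mem hx.1)) (inv_mem hx.2)⟩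

/-- In a group that is abelian modulo `T` and generated by the `a`-conjugates of `E`, at most `|E|`
elements are fixed by `a` modulo `T`. -/
theorem fixed_card_le {Y Lg E T : Subgroup G} {a : G} (hYT : Y ≤ N[T]) (hTE : T ≤ E) (hEL : E ≤ Lg)
    (hLY : Lg ≤ Y) (haL : a ∈ N[Lg])
    (hgen : ∀ R : Subgroup G, E ≤ R → a ∈ N[R] → Lg ≤ R)
    (hcomm : ∀ x ∈ Lg, ∀ y ∈ Lg, ⁅x, y⁆ ∈ T) :
    Nat.card ↥(Lg ⊓ commSub T Y hYT a) ≤ Nat.card ↥E := by
  haveI hn : (T.subgroupOf Lg).Normal := Subgroup.normal_subgroupOf_of_le_normalizer (hLY.trans hYT)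
  set π : ↥Lg →* ↥Lg ⧸ T.subgroupOf Lg := QuotientGroup.mk' _ with hπ
  have hc : ∀ u w : ↥Lg ⧸ T.subgroupOf Lg, u * w = w * u := by
    intro u w
    obtain ⟨x, rfl⟩ := QuotientGroup.mk_surjective u
    obtain ⟨y, rfl⟩ := QuotientGroup.mk_surjective w
    rw [← QuotientGroup.mk_mul, ← QuotientGroup.mk_mul]
    refine (QuotientGroup.eq.2 ?_)
    rw [Subgroup.mem_subgroupOf]
    have := hcomm _ (y.2 |> inv_mem) _ (x.2 |> inv_mem)
    simpa [commutatorElement_def, mul_assoc] using this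
  have hca : ∀ x : ↥Lg, ⁅a, (x : G)⁆ ∈ Lg := fun x => by
    rw [commutatorElement_def]
    exact mul_mem (conj_mem_of_normalizer haL x.2) (inv_mem x.2)
  let f : ↥Lg →* ↥Lg ⧸ T.subgroupOf Lg := MonoidHom.mk' (fun x => π ⟨⁅a, (x : G)⁆, hca x⟩) fun x y => by
    rw [show (⟨⁅a, ((x * y : ↥Lg) : G)⁆, hca (x * y)⟩ : ↥Lg)
        = ⟨⁅a, (x : G)⁆, hca x⟩ * (x * ⟨⁅a, (y : G)⁆, hca y⟩ * x⁻¹) from
      Subtype.ext (by simp only [Subgroup.coe_mul, InvMemClass.coe_inv, commutatorElement_def]; group)]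
    rw [map_mul, map_mul, map_mul, map_inv, hc (π x), mul_inv_cancel_right]
  set Eb := (E.subgroupOf Lg).map π with hEb
  have hR : Lg ≤ ((Eb ⊔ f.range).comap π).map Lg.subtype := by
    refine hgen _ (fun e he => ⟨⟨e, hEL he⟩, le_sup_left (α := Subgroup (↥Lg ⧸ T.subgroupOf Lg))
      ⟨⟨e, hEL he⟩, Subgroup.mem_subgroupOf.2 he, rfl⟩, rfl⟩) (mem_normalizer_of_conj_mem ?_)
    rintro _ ⟨x, hx, rfl⟩
    refine ⟨⟨⁅a, (x : G)⁆, hca x⟩ * x, ?_, by simp [commutatorElement_def]⟩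
    exact mul_mem (le_sup_right (α := Subgroup (↥Lg ⧸ T.subgroupOf Lg)) ⟨x, rfl⟩) hx
  have htop : Eb ⊔ f.range = ⊤ := by
    refine eq_top_iff.2 fun u _ => ?_
    obtain ⟨x, rfl⟩ := QuotientGroup.mk_surjective u
    obtain ⟨y, hy, hyx⟩ := hR x.2
    have : y = x := Subtype.ext hyx
    exact this ▸ hy
  haveI hEbn : Eb.Normal := ⟨fun u hu w => by rw [hc w u, mul_inv_cancel_right]; exact hu⟩
  have hq : Nat.card (↥Lg ⧸ T.subgroupOf Lg) ≤ Nat.card ↥Eb * Nat.card ↥f.range := by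
    have h1 : Eb.relIndex (Eb ⊔ f.range) ≤ Nat.card ↥f.range := by
      rw [sup_comm, Subgroup.relIndex_sup_right]
      exact Nat.le_of_dvd Nat.card_pos (Eb.relIndex_dvd_card f.range)
    have h2 := card_mul_relIndex (le_sup_left : Eb ≤ Eb ⊔ f.range)
    rw [← Subgroup.card_top (G := ↥Lg ⧸ T.subgroupOf Lg), ← htop, ← h2]
    exact Nat.mul_le_mul_left _ h1
  have hT' : Nat.card ↥(T.subgroupOf Lg) = Nat.card ↥T :=
    Nat.card_congr (Subgroup.subgroupOfEquivOfLe (hTE.trans hEL)).toEquiv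
  have hE' : Nat.card ↥(E.subgroupOf Lg) = Nat.card ↥E :=
    Nat.card_congr (Subgroup.subgroupOfEquivOfLe hEL).toEquiv
  have hcomap : Eb.comap π = E.subgroupOf Lg := by
    rw [hEb, Subgroup.comap_map_eq, QuotientGroup.ker_mk', sup_eq_left]
    exact fun x hx => hTE hx
  have hEcard : Nat.card ↥Eb * Nat.card ↥T = Nat.card ↥E := by
    have h1 : (E.subgroupOf Lg).index = Eb.index := by
      rw [← hcomap, Subgroup.index_comap_of_surjective _ (QuotientGroup.mk'_surjective _)]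
    have h2 := Subgroup.card_mul_index (E.subgroupOf Lg)
    have h3 := Subgroup.card_mul_index Eb
    have h4 := Subgroup.card_eq_card_quotient_mul_card_subgroup (T.subgroupOf Lg)
    rw [h4, ← h3, h1, hE', hT'] at h2
    refine Nat.eq_of_mul_eq_mul_right (Nat.pos_of_ne_zero (Subgroup.index_ne_zero_of_finite (H := Eb))) ?_
    rw [h2]; ring
  have hker : Nat.card ↥(Lg ⊓ commSub T Y hYT a) = Nat.card ↥f.ker := by
    have he : f.ker = (commSub T Y hYT a).subgroupOf Lg := by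
      ext x
      rw [MonoidHom.mem_ker, Subgroup.mem_subgroupOf]
      exact ((QuotientGroup.eq_one_iff _).trans Subgroup.mem_subgroupOf).trans
        ⟨fun h => ⟨hLY x.2, h⟩, fun h => h.2⟩
    rw [he, Nat.card_congr (Subgroup.subgroupOfEquivOfLe (inf_le_left :
      Lg ⊓ commSub T Y hYT a ≤ Lg)).toEquiv.symm, Subgroup.inf_subgroupOf_left]
  rw [hker]
  have h5 := Subgroup.card_mul_index f.ker
  rw [Subgroup.index_ker, Subgroup.card_eq_card_quotient_mul_card_subgroup (T.subgroupOf Lg), hT'] at h5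
  refine Nat.le_of_mul_le_mul_right ?_ (Nat.card_pos (α := ↥f.range))
  rw [h5, ← hEcard]
  calc _ ≤ Nat.card ↥Eb * Nat.card ↥f.range * Nat.card ↥T := Nat.mul_le_mul_right _ hq
    _ = _ := by ring

/-- `(A ⊓ Y) ⊔ C(Y)` is abelian of largest order for a centrally large `Y`. -/
theorem maxAb_project {Y A : Subgroup G} (hY : Cfsg.IsCentrallyLarge Y)
    (hA : A ∈ Cfsg.maxAbelianSubgroups G) : (A ⊓ Y) ⊔ C[Y] ∈ Cfsg.maxAbelianSubgroups G := by
  obtain ⟨-, hYA, hc⟩ := cl_sup_maxAbelian hY hA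
  obtain ⟨hYl, hYc⟩ := (isCentrallyLarge_iff Y).1 hY
  rw [inf_comm A Y]
  refine ⟨Subgroup.le_centralizer_iff_isMulCommutative.1 hc.ge, fun B hB => (hA.2 B hB).trans ?_⟩
  have hm : cdMeasure (Y ⊔ A) = cdMeasure Y :=
    le_antisymm ((isCentralizerLarge_iff Y).1 hYl _)
      ((isCentralizerLarge_iff _).1 ((isCentrallyLarge_iff _).1 hYA).1 _)
  unfold cdMeasure at hm
  rw [centralizer_sup, maxAbelian_centralizer hA] at hm
  have i1 := card_mul_card_le Y A
  have i2 := card_mul_card_le (Y ⊓ A) C[Y]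
  rw [show (Y ⊓ A) ⊓ C[Y] = C[Y] ⊓ A by rw [inf_comm Y A, inf_assoc, inf_eq_right.2 hYc, inf_comm]] at i2
  set c := Nat.card ↥(C[Y] ⊓ A)
  refine Nat.le_of_mul_le_mul_left ?_ (Nat.mul_pos (Nat.card_pos (α := ↥Y)) (Nat.card_pos (α := ↥(C[Y] ⊓ A : Subgroup G))))
  calc Nat.card ↥Y * c * Nat.card ↥A = Nat.card ↥Y * Nat.card ↥A * c := by ring
    _ ≤ Nat.card ↥(Y ⊔ A) * Nat.card ↥(Y ⊓ A) * c := Nat.mul_le_mul_right _ i1
    _ = Nat.card ↥(Y ⊔ A) * c * Nat.card ↥(Y ⊓ A) := by ring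
    _ = Nat.card ↥Y * (Nat.card ↥(Y ⊓ A) * Nat.card ↥C[Y]) := by rw [hm]; ring
    _ ≤ Nat.card ↥Y * (Nat.card ↥((Y ⊓ A) ⊔ C[Y]) * c) := Nat.mul_le_mul_left _ i2
    _ = _ := by ring

/-- The extension step: an element of an abelian subgroup of largest order can be added to a
subgroup that normalizes a proper abelian extension of `T`. -/
theorem step [Group.IsNilpotent G] {T : Subgroup G} (hT : Lrg T) (hTab : T ≤ C[T])
    (hMT : C[MCL] ≤ T) {A : Subgroup G} (hA : A ∈ Cfsg.maxAbelianSubgroups G) {a : G} (ha : a ∈ A)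
    {K : Subgroup G} (hMK : MCL ≤ K) (haK : a ∈ N[K]) (haT : a ∈ N[T]) (hKT : K ≤ N[T])
    (hex : ∃ E : Subgroup G, Lrg E ∧ E ≤ C[E] ∧ T < E ∧ K ≤ N[E]) :
    ∃ E : Subgroup G, Lrg E ∧ E ≤ C[E] ∧ T < E ∧ K ⊔ Subgroup.zpowers a ≤ N[E] := by
  obtain ⟨E, ⟨hEl, hEab, hTE, hKE⟩, hEmin⟩ :=
    (Set.toFinite {E : Subgroup G | Lrg E ∧ E ≤ C[E] ∧ T < E ∧ K ≤ N[E]}).exists_minimal hex
  set Y := C[T] with hYd
  have hCY : C[Y] = T := cent_cent hT
  have hMl : Lrg MCL := ((isCentrallyLarge_iff _).1 minimalCentrallyLargeJoin_cl).1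
  have hYK : Y ≤ K :=
    ((Subgroup.centralizer_le (SetLike.coe_subset_coe.2 hMT)).trans (cent_cent hMl).le).trans hMK
  set S := Subgroup.zpowers a
  have hST : S ≤ N[T] := Subgroup.zpowers_le.2 haT
  have hSK : S ≤ N[K] := Subgroup.zpowers_le.2 haK
  let Es : ↥S → Subgroup G := fun s => E.map (MulAut.conj (s : G)).toMonoidHom
  have hEsl : ∀ s, Lrg (Es s) := fun s => lrg_conj _ hEl
  have hEsK : ∀ s, K ≤ N[Es s] := fun s k hk => mem_normalizer_of_conj_mem fun x hx => by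
    have hx' := mem_conjMap.1 hx
    have hk' : (s : G)⁻¹ * k * s ∈ K := by
      simpa using conj_mem_of_normalizer (inv_mem (hSK s.2)) hk
    refine mem_conjMap.2 ?_
    simpa [mul_assoc] using conj_mem_of_normalizer (hKE hk') hx'
  have hTEs : ∀ s, T ≤ Es s := fun s =>
    (normalizer_conj_eq (hST s.2)).ge.trans (Subgroup.map_mono hTE.le)
  have hEsY : ∀ s, Es s ≤ Y := fun s => by
    have h1 : Es s ≤ C[Es s] := (Subgroup.map_mono hEab).trans (conjMap_centralizer _ _).ge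
    exact h1.trans (Subgroup.centralizer_le (SetLike.coe_subset_coe.2 (hTEs s)))
  set Lg := ⨆ s, Es s with hLg
  have hLgl : Lrg Lg := by
    have h := exists_sSup_eq (S := {H : Subgroup G | Lrg H ∧ H ≤ Lg})
      ⟨_, hEsl 1, le_iSup Es 1⟩ fun H hH H' hH' => ⟨lrg_sup hH.1 hH'.1, sup_le hH.2 hH'.2⟩
    have he : sSup {H : Subgroup G | Lrg H ∧ H ≤ Lg} = Lg :=
      le_antisymm (sSup_le fun H hH => hH.2) (iSup_le fun s => le_sSup ⟨hEsl s, le_iSup Es s⟩)
    exact he ▸ h.1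
  have hELg : E ≤ Lg := (conjMap_one E).ge.trans (le_iSup Es 1)
  have hTLg : T ≤ Lg := hTE.le.trans hELg
  have hLY : Lg ≤ Y := iSup_le hEsY
  have haLg : a ∈ N[Lg] := mem_normalizer_of_conjMap_le (by
    rw [hLg, Subgroup.map_iSup]
    refine iSup_le fun s => ?_
    rw [conjMap_conjMap]
    exact le_iSup Es ⟨a * s, mul_mem (Subgroup.mem_zpowers a) s.2⟩)
  have hKLg : K ≤ N[Lg] := fun k hk => mem_normalizer_of_conjMap_le (by
    rw [hLg, Subgroup.map_iSup]
    exact iSup_le fun s => (normalizer_conj_eq (hEsK s hk)).le.trans (le_iSup Es s))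
  have hKS : K ⊔ S ≤ N[Lg] := sup_le hKLg (Subgroup.zpowers_le.2 haLg)
  by_cases hZ : Lg ⊓ C[Lg] = T
  swap
  · exact ⟨_, lrg_inf hLgl (lrg_cent hLgl),
      inf_le_right.trans (Subgroup.centralizer_le (SetLike.coe_subset_coe.2 inf_le_left)),
      lt_of_le_of_ne (le_inf hTLg (hCY.ge.trans (Subgroup.centralizer_le (SetLike.coe_subset_coe.2 hLY))))
        (Ne.symm hZ),
      fun g hg => normalizes_inf (hKS hg) (normalizes_centralizer (hKS hg))⟩
  have hYT : Y ≤ N[T] := hYK.trans hKT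
  have hpair : ∀ s r, ∀ x ∈ Es s, ∀ y ∈ Es r, ⁅x, y⁆ ∈ T := by
    intro s r x hx y hy
    have hmem : ⁅x, y⁆ ∈ Es s ⊓ Es r := by
      refine ⟨?_, ?_⟩
      · rw [show ⁅x, y⁆ = x * (y * x⁻¹ * y⁻¹) by rw [commutatorElement_def]; group]
        exact mul_mem hx (conj_mem_of_normalizer (hEsK s (hYK (hEsY r hy))) (inv_mem hx))
      · rw [commutatorElement_def]
        exact (Es r).mul_mem (conj_mem_of_normalizer (hEsK r (hYK (hEsY s hx))) hy) ((Es r).inv_mem hy)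
    by_cases hD : Es s ⊓ Es r = T
    · exact hD ▸ hmem
    set D := Es s ⊓ Es r
    have hDl : Lrg D := lrg_inf (hEsl s) (hEsl r)
    have hsr : Es s ≤ Es r := by
      set D' := D.map (MulAut.conj (s : G)⁻¹).toMonoidHom
      have hD'E : D' ≤ E := by
        rintro _ ⟨z, hz, rfl⟩
        simpa [mul_assoc] using mem_conjMap.1 hz.1
      have hTD : T < D := lt_of_le_of_ne (le_inf (hTEs s) (hTEs r)) (Ne.symm hD)
      have hTD' : T < D' := lt_of_le_of_ne
        ((normalizer_conj_eq (inv_mem (hST s.2))).ge.trans (Subgroup.map_mono hTD.le))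
        (fun h => hTD.not_ge (Subgroup.eq_of_le_of_card_ge hTD.le
          (by rw [h, conjMap_card])).ge)
      have hKD' : K ≤ N[D'] := fun k hk => mem_normalizer_of_conj_mem fun z hz => by
        have hz' := mem_conjMap.1 hz
        have hk' : (s : G) * k * (s : G)⁻¹ ∈ K := conj_mem_of_normalizer (hSK s.2) hk
        refine mem_conjMap.2 ?_
        have h3 := conj_mem_of_normalizer (normalizes_inf (hEsK s hk') (hEsK r hk')) hz'
        simpa [D, mul_assoc] using h3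
      have heq : E ≤ D' := hEmin ⟨lrg_conj _ hDl,
        hD'E.trans (hEab.trans (Subgroup.centralizer_le (SetLike.coe_subset_coe.2 hD'E))), hTD', hKD'⟩ hD'E
      calc Es s ≤ D'.map (MulAut.conj (s : G)).toMonoidHom := Subgroup.map_mono heq
        _ = D := by rw [conjMap_conjMap, mul_inv_cancel, conjMap_one]
        _ ≤ Es r := inf_le_right
    have hab : Es r ≤ C[Es r] := (Subgroup.map_mono hEab).trans (conjMap_centralizer _ _).ge
    rw [commutatorElement_eq_one_iff_mul_comm.2 (Subgroup.mem_centralizer_iff.1 (hab hy) x (hsr hx))]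
    exact T.one_mem
  have hcomm : ∀ x ∈ Lg, ∀ y ∈ Lg, ⁅x, y⁆ ∈ T := by
    have h1 : ∀ s, ∀ x ∈ Es s, ∀ y ∈ Lg, ⁅x, y⁆ ∈ T := fun s x hx y hy =>
      ((iSup_le fun r z hz => ⟨hEsY r hz, hpair s r x hx z hz⟩ : Lg ≤ commSub T Y hYT x) hy).2
    intro x hx y hy
    rw [← commutatorElement_inv]
    refine inv_mem ((iSup_le fun s z hz => ⟨hEsY s hz, ?_⟩ : Lg ≤ commSub T Y hYT y) hx).2
    rw [← commutatorElement_inv]
    exact inv_mem (h1 s z hz y hy)
  have hgen : ∀ R : Subgroup G, E ≤ R → a ∈ N[R] → Lg ≤ R := fun R hER haR =>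
    iSup_le fun s => (Subgroup.map_mono hER).trans
      (normalizer_conj_eq ((Subgroup.zpowers_le.2 haR) s.2)).le
  set F := Lg ⊓ commSub T Y hYT a with hF
  have hFE : Nat.card ↥F ≤ Nat.card ↥E := fixed_card_le hYT hTE.le hELg hLY haLg hgen hcomm
  set CL := C[Lg] with hCL
  have hCLl : Lrg CL := lrg_cent hLgl
  have hCLY : CL ≤ Y := Subgroup.centralizer_le (SetLike.coe_subset_coe.2 hTLg)
  have hTCL : T ≤ CL := hCY.ge.trans (Subgroup.centralizer_le (SetLike.coe_subset_coe.2 hLY))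
  have hjoin : Lg ⊔ CL = Y := by
    rw [← cent_cent (lrg_sup hLgl hCLl), centralizer_sup, cent_cent hLgl, inf_comm, hZ]
  set B := (A ⊓ Y) ⊔ C[Y] with hB
  have hBm : B ∈ Cfsg.maxAbelianSubgroups G := maxAb_project (cl_of_abelian hT hTab) hA
  have hBY : B ≤ Y := sup_le inf_le_right (hCY.le.trans hTab)
  have hTB : T ≤ B := hCY.ge.trans le_sup_right
  have hBab : B ≤ C[B] := Subgroup.le_centralizer_iff_isMulCommutative.2 hBm.1
  have hBfix : ∀ b ∈ B, ⁅a, b⁆ ∈ T := by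
    intro b hb
    refine ((sup_le (fun z hz => ⟨hz.2, ?_⟩) fun z hz => ⟨hTab (hCY.le hz), ?_⟩ :
      B ≤ commSub T Y hYT a) hb).2
    · have hA' : A ≤ C[A] := Subgroup.le_centralizer_iff_isMulCommutative.2 hA.1
      rw [commutatorElement_eq_one_iff_mul_comm.2 (Subgroup.mem_centralizer_iff.1 (hA' hz.1) a ha)]
      exact T.one_mem
    · rw [commutatorElement_def]
      exact mul_mem (conj_mem_of_normalizer haT (hCY.le hz)) (inv_mem (hCY.le hz))
  have haCL : a ∈ N[CL] := normalizes_centralizer haLg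
  have hBn : B ≤ N[CL] := fun b hb => normalizes_centralizer (hKLg (hYK (hBY hb)))
  set BL := (B ⊔ CL) ⊓ Lg with hBL
  have hBLF : BL ≤ F := by
    rintro x ⟨hx, hxL⟩
    refine ⟨hxL, hLY hxL, ?_⟩
    replace hx : x ∈ ((B ⊔ CL : Subgroup G) : Set G) := hx
    rw [Subgroup.coe_mul_of_left_le_normalizer_right _ _ hBn] at hx
    obtain ⟨b, hb, m, hm, rfl⟩ := Set.mem_mul.1 hx
    obtain ⟨l, hl, m', hm', hlm⟩ := lrg_mem_sup hLgl hCLl (hjoin.ge (hBY hb))
    have hal : ⁅a, l⁆ ∈ T := by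
      refine hZ.le (Subgroup.mem_inf.2 ⟨?_, ?_⟩)
      · rw [commutatorElement_def]
        exact mul_mem (conj_mem_of_normalizer haLg hl) (inv_mem hl)
      have hm'' : ⁅a, m'⁆ ∈ CL := by
        rw [commutatorElement_def]
        exact mul_mem (conj_mem_of_normalizer haCL hm') (inv_mem hm')
      have hsplit : ⁅a, b⁆ = ⁅a, l⁆ * ⁅a, m'⁆ := by
        calc ⁅a, b⁆ = ⁅a, l⁆ * (l * ⁅a, m'⁆ * l⁻¹) := by
              rw [← hlm, commutatorElement_def, commutatorElement_def, commutatorElement_def]; group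
          _ = _ := by rw [Subgroup.mem_centralizer_iff.1 hm'' l hl, mul_inv_cancel_right]
      rw [show ⁅a, l⁆ = ⁅a, b⁆ * ⁅a, m'⁆⁻¹ by rw [hsplit, mul_inv_cancel_right]]
      exact mul_mem (hTCL (hBfix b hb)) (inv_mem hm'')
    have ht : m' * m ∈ T := by
      refine hZ.le (Subgroup.mem_inf.2 ⟨?_, mul_mem hm' hm⟩)
      rw [show m' * m = l⁻¹ * (b * m) by rw [← hlm]; group]
      exact mul_mem (inv_mem hl) hxL
    have hal' : l * (m' * m) ∈ commSub T Y hYT a :=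
      mul_mem (show l ∈ commSub T Y hYT a from ⟨hLY hl, hal⟩) ⟨hTab ht, by
        rw [commutatorElement_def]
        exact mul_mem (conj_mem_of_normalizer haT ht) (inv_mem ht)⟩
    rw [show b * m = l * (m' * m) by rw [← hlm]; group]
    exact hal'.2
  set K0 := B ⊓ CL with hK0
  have hTBL : T ≤ BL := le_inf (hTB.trans le_sup_left) hTLg
  have hEK0 : IsMulCommutative ↥(E ⊔ K0) := by
    refine Subgroup.le_centralizer_iff_isMulCommutative.1 ?_
    rw [centralizer_sup]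
    refine sup_le (le_inf hEab ?_) (le_inf ?_ ?_)
    · exact Subgroup.le_centralizer_iff.1 ((inf_le_right : K0 ≤ CL).trans
        (Subgroup.centralizer_le (SetLike.coe_subset_coe.2 hELg)))
    · exact (inf_le_right : K0 ≤ CL).trans (Subgroup.centralizer_le (SetLike.coe_subset_coe.2 hELg))
    · exact (inf_le_left : K0 ≤ B).trans (hBab.trans (Subgroup.centralizer_le (SetLike.coe_subset_coe.2 inf_le_left)))
  have hEK0T : E ⊓ K0 = T := le_antisymm (fun x hx => hZ.le ⟨hELg hx.1, hx.2.2⟩) (le_inf hTE.le (le_inf hTB hTCL))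
  have hCLn : ∀ {H : Subgroup G}, H ≤ Lg → H ≤ N[CL] := fun {H} hH =>
    hH.trans fun l hl => normalizes_centralizer (Subgroup.le_normalizer hl)
  have e1 := card_sup_eq hBn
  have hBC : B ⊔ CL = BL ⊔ CL := by
    refine le_antisymm (sup_le (fun b hb => ?_) le_sup_right) (sup_le inf_le_left le_sup_right)
    obtain ⟨l, hl, m', hm', hlm⟩ := lrg_mem_sup hLgl hCLl (hjoin.ge (hBY hb))
    rw [← hlm]
    refine Subgroup.mul_mem_sup ⟨?_, hl⟩ hm'
    rw [show l = b * m'⁻¹ by rw [← hlm, mul_inv_cancel_right]]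
    exact Subgroup.mul_mem_sup hb (inv_mem hm')
  have hBLC : BL ⊓ CL = T := le_antisymm (fun x hx => hZ.le ⟨hx.1.2, hx.2⟩) (le_inf hTBL hTCL)
  have e2 := card_sup_eq (hCLn (inf_le_right : BL ≤ Lg))
  rw [hBC] at e1
  rw [hBLC] at e2
  have eB : Nat.card ↥B * Nat.card ↥T = Nat.card ↥BL * Nat.card ↥K0 := by
    refine Nat.eq_of_mul_eq_mul_right (Nat.card_pos (α := ↥CL)) ?_
    calc Nat.card ↥B * Nat.card ↥T * Nat.card ↥CL = Nat.card ↥B * Nat.card ↥CL * Nat.card ↥T := by ring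
      _ = Nat.card ↥(BL ⊔ CL) * Nat.card ↥K0 * Nat.card ↥T := by rw [← e1]
      _ = Nat.card ↥(BL ⊔ CL) * Nat.card ↥T * Nat.card ↥K0 := by ring
      _ = _ := by rw [e2]; ring
  have hK0n : E ≤ N[K0] := fun e he => mem_normalizer_of_conj_mem fun k hk => by
    rw [Subgroup.mem_centralizer_iff.1 hk.2 e (hELg he), mul_inv_cancel_right]
    exact hk
  have e3 := card_sup_eq hK0n
  rw [hEK0T] at e3
  have hle : Nat.card ↥(E ⊔ K0) ≤ Nat.card ↥B := hBm.2 _ hEK0
  have hEBL : Nat.card ↥E ≤ Nat.card ↥BL := by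
    refine Nat.le_of_mul_le_mul_right ?_ (Nat.card_pos (α := ↥K0))
    rw [← e3, ← eB]
    exact Nat.mul_le_mul_right _ hle
  have hBLeq : BL = F := Subgroup.eq_of_le_of_card_ge hBLF (hFE.trans hEBL)
  have hcE : Nat.card ↥BL = Nat.card ↥E := le_antisymm (hBLeq ▸ hFE) hEBL
  have hmaxEK : E ⊔ K0 ∈ Cfsg.maxAbelianSubgroups G := by
    refine ⟨hEK0, fun X hX => (hBm.2 X hX).trans (Nat.le_of_mul_le_mul_right ?_ (Nat.card_pos (α := ↥T)))⟩
    rw [e3, eB, hcE]
  have hself : C[E ⊔ K0] = E ⊔ K0 := maxAbelian_centralizer hmaxEK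
  have hcomK : ∀ l ∈ Lg, ∀ k ∈ K0, k * l = l * k := fun l hl k hk =>
    (Subgroup.mem_centralizer_iff.1 hk.2 l hl).symm
  have hsplitEK : ∀ x ∈ E ⊔ K0, ∃ e ∈ E, ∃ k ∈ K0, e * k = x := fun x hx => by
    rw [← SetLike.mem_coe, Subgroup.coe_mul_of_left_le_normalizer_right _ _ hK0n] at hx
    exact Set.mem_mul.1 hx
  have hFB : F ≤ B := by
    intro x hx
    obtain ⟨hx1, hxL⟩ : x ∈ BL := hBLeq.ge hx
    replace hx1 : x ∈ ((B ⊔ CL : Subgroup G) : Set G) := hx1
    rw [Subgroup.coe_mul_of_left_le_normalizer_right _ _ hBn] at hx1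
    obtain ⟨b, hb, m, hm, rfl⟩ := Set.mem_mul.1 hx1
    have hmK : m ∈ C[E ⊔ K0] := by
      rw [centralizer_sup]
      refine ⟨Subgroup.centralizer_le (SetLike.coe_subset_coe.2 hELg) hm, Subgroup.mem_centralizer_iff.2 fun k hk => ?_⟩
      have h1 : k * b = b * k := Subgroup.mem_centralizer_iff.1 (hBab hb) k hk.1
      have h2 := hcomK _ hxL k hk
      calc k * m = k * b⁻¹ * (b * m) := by group
        _ = b⁻¹ * (k * (b * m)) := by
          rw [show k * b⁻¹ = b⁻¹ * k from (Commute.inv_right h1).eq]; group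
        _ = m * k := by rw [h2]; group
    rw [hself] at hmK
    obtain ⟨e, he, k, hk, rfl⟩ := hsplitEK m hmK
    have het : e ∈ T := hZ.le ⟨hELg he, by simpa using mul_mem hm (inv_mem hk.2)⟩
    exact mul_mem hb (mul_mem (hTB het) hk.1)
  have hFab : F ≤ C[F] := hFB.trans (hBab.trans (Subgroup.centralizer_le (SetLike.coe_subset_coe.2 hFB)))
  have hCE : C[E] ≤ E ⊔ CL := by
    intro y hy
    have hyY : y ∈ Y := Subgroup.centralizer_le (SetLike.coe_subset_coe.2 hTE.le) hy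
    obtain ⟨l, hl, m', hm', hlm⟩ := lrg_mem_sup hLgl hCLl (hjoin.ge hyY)
    have hlE : l ∈ C[E] := by
      rw [show l = y * m'⁻¹ by rw [← hlm, mul_inv_cancel_right]]
      exact mul_mem hy (inv_mem (Subgroup.centralizer_le (SetLike.coe_subset_coe.2 hELg) hm'))
    have hlK : l ∈ C[E ⊔ K0] := by
      rw [centralizer_sup]
      exact ⟨hlE, Subgroup.mem_centralizer_iff.2 fun k hk => hcomK l hl k hk⟩
    rw [hself] at hlK
    obtain ⟨e, he, k, hk, rfl⟩ := hsplitEK l hlK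
    have hkT : k ∈ T := hZ.le ⟨by simpa using mul_mem (inv_mem (hELg he)) hl, hk.2⟩
    rw [← hlm]
    exact Subgroup.mul_mem_sup (mul_mem he (hTE.le hkT)) hm'
  have hFl : Lrg F := by
    refine (isCentralizerLarge_iff F).2 fun X => ((isCentralizerLarge_iff E).1 hEl X).trans ?_
    have hcF : Nat.card ↥E = Nat.card ↥F := by rw [← hcE, hBLeq]
    have h1 : F ⊔ CL ≤ C[F] := sup_le hFab (Subgroup.centralizer_le (SetLike.coe_subset_coe.2 inf_le_left))
    have e4 : Nat.card ↥(F ⊔ CL) * Nat.card ↥(F ⊓ CL) = Nat.card ↥F * Nat.card ↥CL :=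
      card_sup_eq (hCLn inf_le_left)
    have e5 := card_sup_eq (hCLn hELg)
    rw [← hBLeq, hBLC, hBLeq] at e4
    rw [show E ⊓ CL = T from le_antisymm (fun x hx => hZ.le ⟨hELg hx.1, hx.2⟩) (le_inf hTE.le hTCL)] at e5
    have hcard : Nat.card ↥(E ⊔ CL) = Nat.card ↥(F ⊔ CL) :=
      Nat.eq_of_mul_eq_mul_right (Nat.card_pos (α := ↥T)) (by rw [e4, e5, hcF])
    unfold cdMeasure
    rw [hcF]
    exact Nat.mul_le_mul_left _ ((Subgroup.card_le_of_le hCE).trans
      (hcard.le.trans (Subgroup.card_le_of_le h1)))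
  obtain ⟨x, hxL, hxT, hx⟩ := exists_step (W := T) (S := ((K ⊔ S : Subgroup G) : Set G))
    (fun h => hTE.not_ge (hELg.trans h)) hKS
  have haKS : a ∈ K ⊔ S := le_sup_right (α := Subgroup G) (Subgroup.mem_zpowers a)
  have hxF : x ∈ F := ⟨hxL, hLY hxL, hx a haKS⟩
  set U := Subgroup.closure (insert x (T : Set G)) with hU
  have hTU : T ≤ U := fun t ht => Subgroup.subset_closure (Set.mem_insert_of_mem _ ht)
  have hxU : x ∈ U := Subgroup.subset_closure (Set.mem_insert _ _)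
  obtain ⟨E', hE'l, hUE', hE'F, -, hE'n⟩ := exists_hull hFl (show U ≤ F by
    rw [hU, Subgroup.closure_le]
    rintro y (rfl | hy)
    · exact hxF
    · exact hBLF (hTBL hy))
  refine ⟨E', hE'l, hE'F.trans (hFab.trans (Subgroup.centralizer_le (SetLike.coe_subset_coe.2 hE'F))),
    lt_of_le_of_ne (hTU.trans hUE') (fun h => hxT (h ▸ hUE' hxU)), fun g hg => hE'n g ?_⟩
  refine mem_normalizer_of_conjMap_le ?_
  rw [conjMap_le_iff]
  have hgT : g ∈ N[T] := sup_le hKT hST hg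
  intro y hy
  induction hy using Subgroup.closure_induction with
  | mem z hz =>
    rcases hz with rfl | hz
    · rw [show g * z * g⁻¹ = ⁅g, z⁆ * z by rw [commutatorElement_def]; group]
      exact mul_mem (hTU (hx g hg)) hxU
    · exact hTU (conj_mem_of_normalizer hgT hz)
  | one => simp
  | mul z w _ _ hz hw =>
    rw [show g * (z * w) * g⁻¹ = g * z * g⁻¹ * (g * w * g⁻¹) by group]
    exact mul_mem hz hw
  | inv z _ hz =>
    rw [show g * z⁻¹ * g⁻¹ = (g * z * g⁻¹)⁻¹ by group]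
    exact inv_mem hz

/-- Some minimal centrally large subgroup is normalized by `J(G)` and by the join of all of them. -/
theorem exists_normalized [Group.IsNilpotent G] :
    ∃ Q : Subgroup G, Cfsg.IsMinimalCentrallyLarge Q ∧ Cfsg.thompsonSubgroupA G ≤ N[Q] ∧ MCL ≤ N[Q] := by
  set J := Cfsg.thompsonSubgroupA G
  set L := MCL ⊔ J
  have hMcl := minimalCentrallyLargeJoin_cl (G := G)
  obtain ⟨hMl, -⟩ := (isCentrallyLarge_iff _).1 hMcl
  set 𝒯 : Set (Subgroup G) := {T | Lrg T ∧ T ≤ C[T] ∧ C[MCL] ≤ T ∧ L ≤ N[T]}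
  obtain ⟨T, ⟨hTl, hTab, hMT, hLT⟩, hTmax⟩ := (Set.toFinite 𝒯).exists_maximal
    ⟨C[MCL], lrg_cent hMl, abelian_of_cl hMcl, le_rfl, fun g _ => normalizes_centralizer (mcl_normal g)⟩
  obtain ⟨T', ⟨hT'l, hT'ab, hTT', hMT'⟩, hT'max⟩ :=
    (Set.toFinite {E : Subgroup G | Lrg E ∧ E ≤ C[E] ∧ T ≤ E ∧ MCL ≤ N[E]}).exists_maximal
      ⟨T, hTl, hTab, le_rfl, le_sup_left.trans hLT⟩
  have hQ := stage hT'l hT'ab (hMT.trans hTT') hMT' fun E h1 h2 h3 h4 =>
    le_antisymm (hT'max ⟨h1, h2, hTT'.trans h3, h4⟩ h3) h3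
  by_cases hTe : T = T'
  · refine ⟨C[T'], hQ, ?_, fun g hg => normalizes_centralizer (hMT' hg)⟩
    exact fun g hg => normalizes_centralizer (hTe ▸ hLT (le_sup_right (α := Subgroup G) hg))
  exfalso
  set 𝒢 : Set G := {g | ∃ A ∈ Cfsg.maxAbelianSubgroups G, g ∈ A}
  set P : Subgroup G → Prop := fun K => MCL ≤ K ∧ K ≤ L ∧ K ≤ MCL ⊔ Subgroup.closure (𝒢 ∩ (K : Set G)) ∧
    ∃ E : Subgroup G, Lrg E ∧ E ≤ C[E] ∧ T < E ∧ K ≤ N[E]
  obtain ⟨K, ⟨hMK, hKL, hKgen, hKex⟩, hKmax⟩ := (Set.toFinite {K | P K}).exists_maximal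
    ⟨MCL, le_rfl, le_sup_left, le_sup_left, T', hT'l, hT'ab, lt_of_le_of_ne hTT' hTe, hMT'⟩
  by_cases hall : 𝒢 ⊆ (K : Set G)
  · have hLK : L ≤ K := sup_le hMK (sSup_le fun A hA a ha => hall ⟨A, hA, ha⟩)
    obtain ⟨E, h1, h2, h3, h4⟩ := hKex
    exact h3.not_ge (hTmax ⟨h1, h2, hMT.trans h3.le, hLK.trans h4⟩ h3.le)
  obtain ⟨g0, hg0, hg0K⟩ := Set.not_subset.1 hall
  obtain ⟨H, ⟨hKH, hH⟩, hHmax⟩ :=
    (Set.toFinite {H : Subgroup G | K ≤ H ∧ ∀ g ∈ 𝒢, g ∈ H → g ∈ K}).exists_maximal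
      ⟨K, le_rfl, fun g _ h => h⟩
  have hHtop : H < ⊤ := lt_top_iff_ne_top.2 fun h => hg0K (hH g0 hg0 (h ▸ Subgroup.mem_top g0))
  have hlt : H < N[H] := Group.normalizerCondition_of_isNilpotent H hHtop
  obtain ⟨a, ⟨A, hA, haA⟩, haN, haK⟩ : ∃ a, a ∈ 𝒢 ∧ a ∈ N[H] ∧ a ∉ K := by
    by_contra hno
    simp only [not_exists, not_and, not_not] at hno
    exact hlt.not_ge (hHmax ⟨hKH.trans hlt.le, hno⟩ hlt.le)
  have haKn : a ∈ N[K] := mem_normalizer_of_conj_mem fun x hx => by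
    have h0 := hKgen hx
    have hle : MCL ⊔ Subgroup.closure (𝒢 ∩ (K : Set G)) ≤ K.comap (MulAut.conj a).toMonoidHom := by
      refine sup_le (fun m hm => ?_) ((Subgroup.closure_le _).2 ?_)
      · simpa using hMK (conj_mem_of_normalizer (mcl_normal a) hm)
      · rintro y ⟨⟨B, hB, hyB⟩, hyK⟩
        simpa using hH _ ⟨_, maxAb_conj a hB, conjMap_apply_mem hyB⟩
          (conj_mem_of_normalizer haN (hKH hyK))
    simpa using hle h0
  have haJ : a ∈ J := le_sSup (s := Cfsg.maxAbelianSubgroups G) hA haA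
  have haL : a ∈ L := le_sup_right (α := Subgroup G) haJ
  obtain ⟨E, h1, h2, h3, h4⟩ :=
    step hTl hTab hMT hA haA hMK haKn (hLT haL) (hKL.trans hLT) hKex
  refine haK ((hKmax (show P (K ⊔ Subgroup.zpowers a) from ⟨hMK.trans le_sup_left,
    sup_le hKL (Subgroup.zpowers_le.2 haL), sup_le (hKgen.trans (sup_le_sup_left
      (Subgroup.closure_mono (Set.inter_subset_inter_right _ (SetLike.coe_subset_coe.2 le_sup_left))) _)) ?_,
    E, h1, h2, h3, h4⟩) le_sup_left) (le_sup_right (α := Subgroup G) (Subgroup.mem_zpowers a)))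
  exact Subgroup.zpowers_le.2 (le_sup_right (α := Subgroup G)
    (Subgroup.subset_closure ⟨⟨A, hA, haA⟩, le_sup_right (α := Subgroup G) (Subgroup.mem_zpowers a)⟩))

end Cfsg.Agent.CLNormal
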