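import Cfsg.Agent.Lib.Components.NormalLiftGroup
import Cfsg.Agent.Lib.Fusion.NormalizerModel
import Cfsg.Agent.Lib.Fusion.CenterJ
import Cfsg.Agent.Lib.Transfer.Replacement
import Cfsg.Agent.Lib.Transfer.MaxAbelian

/-!
For a normal subsystem `E` over `T` and `p` odd, `C_S(T) = Z(T) C_S(E)`: every element of
`C_S(T)` differs by an element of `Z(T)` from one centralizing `E`.
-/

set_option autoImplicit false
set_option linter.style.haveILetI false
set_option linter.unusedSectionVars false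
set_option linter.unusedVariables false

namespace Cfsg.Agent.Components.CentralizerInT

open Cfsg.FusionSystem (centralizerIn normalizerIn imageAlong)
open Cfsg.Agent.Fusion
open Cfsg.Agent.Transfer (JAb)
open Cfsg.Agent.Components.NormalLiftGroup
open Cfsg.Agent.Components.CentralizerOfNormal (fixed_of_mem_cSet img_zpowers)
open Cfsg.Agent.Components.ResidualExtension
  (ht_of_isCentric isCentric_of_isConj isFullyNormalized_sub)

universe u

variable {Ω : Type u} [Group Ω] {S T P Q : Subgroup Ω} {F : FusionSystem S} {E : FusionSystem T}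
variable {p : ℕ} {u : Ω} [Finite S] [Fact p.Prime]

theorem map_subtype_jab (hT : T ≤ S) :
    (JAb 0 (T.subgroupOf S)).map S.subtype = JAb 0 T := by
  rw [Transfer.map_JAb _ _ S.subtype_injective.injOn, Subgroup.map_subgroupOf_eq_of_le hT]

theorem jab_eq_of_le {R : Subgroup Ω} (hRT : R ≤ T) (hT : T ≤ S) (hJ : JAb 0 T ≤ R) :
    JAb 0 R = JAb 0 T := by
  rw [← map_subtype_jab (hRT.trans hT), ← map_subtype_jab hT,
    Transfer.JAb_eq_of_le (S := T.subgroupOf S) (T := R.subgroupOf S)
    (fun x hx => hRT hx) fun x hx => hJ ?_]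
  rw [← map_subtype_jab hT]
  exact ⟨x, hx, rfl⟩

theorem mem_jab_of_commute (hT : T ≤ S) {c : Ω} (hc : c ∈ T)
    (h : ∀ x ∈ JAb 0 T, Commute x c) : c ∈ JAb 0 T := by
  obtain ⟨A, hA⟩ := Transfer.exists_isMaxAbIn (e := 0) (T.subgroupOf S)
  have hle := Transfer.le_JAb hA
  rw [← map_subtype_jab hT]
  refine ⟨⟨c, hT hc⟩, hle (Transfer.mem_of_commute_maxAb hA hc (pow_zero _) fun a ha => ?_), rfl⟩
  exact Subtype.ext (h a (map_subtype_jab hT ▸ ⟨a, hle ha, rfl⟩))

/-- All automorphisms of `Q` in `E` extend fixing `u`. -/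
def Good (F : FusionSystem S) (E : FusionSystem T) (u : Ω) (Q : Subgroup Ω) : Prop :=
  ∀ α ∈ E.autGroup Q, ExtFix F (Subgroup.zpowers u) Q (autFun α)

/-- The lifts of order prime to `p` over `nclT` fix `u`. -/
def FixLifts (F : FusionSystem S) (E : FusionSystem T) (p : ℕ) (u : Ω) (P Q : Subgroup Ω) : Prop :=
  ∀ θ : MulAut Q, IsLift F E P Q θ → (orderOf θ).Coprime p → ∀ α ∈ nclT E P,
    (∀ x ∈ P, autFun θ x = autFun α x) → autFun θ u = u

/-- The starting elements. -/
def Start (F : FusionSystem S) (E : FusionSystem T) (u : Ω) : Prop :=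
  u ∈ centralizerIn S T ∧ Good F E u T ∧ Good F E u (JAb 0 T)

theorem fix_zpowers {D : Subgroup Ω} {g : Ω → Ω} (hg : MapTo F D g) (hu : u ∈ D) (hgu : g u = u) :
    ∀ z ∈ Subgroup.zpowers u, g z = z := by
  rintro _ ⟨n, rfl⟩
  obtain ⟨φ, -, hφ⟩ := id hg
  have h2 : φ ((⟨u, hu⟩ : D) ^ n) = g (u ^ n) := (hφ _).trans (by rw [SubgroupClass.coe_zpow])
  show g (u ^ n) = u ^ n
  rw [← h2, map_zpow, hφ, hgu]

/-- A fully normalized subgroup containing its centraliser in `T` does so in all conjugates. -/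
theorem ht_of_fn (hS : IsPGroup p S) (hF : F.IsSaturated p) (hsc : F.StronglyClosed T)
    (hQT : Q ≤ T) (hQ : F.IsFullyNormalized Q) (hC : centralizerIn T Q ≤ Q) : HT F T Q := by
  refine ⟨hQT, fun R hR z hz => ?_⟩
  have hQS := hQT.trans hsc.1
  obtain ⟨g, hg, hgQ⟩ := exists_map_normalizerIn hS (isFullyAutomized_of_isFullyNormalized hS hF hQ)
    (isReceptive_of_isFullyNormalized hS hF hQ) (isConj_symm hR)
  have hRS : R ≤ S := isConj_le_right hR
  have hzS : z ∈ centralizerIn S R := ⟨hsc.1 hz.1, hz.2⟩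
  have hzN := centralizerIn_le_normalizerIn hzS
  have h1 := hg.map_mem_centralizerIn (le_normalizerIn hRS) hzN hzS
  rw [hgQ] at h1
  have h2 := hC (mem_centralizerIn.mpr
    ⟨StronglyClosed.map_mem hsc hg hzN hz.1, (mem_centralizerIn.mp h1).2⟩)
  rw [← hgQ] at h2
  obtain ⟨w, hw, hwz⟩ := (hg.mem_img_iff (le_normalizerIn hRS)).mp h2
  exact hg.inj (le_normalizerIn hRS hw) hzN hwz ▸ hw

/-- Good elements are transported along maps of `F`. -/
theorem good_transport (hi : E.IsInvariantIn F) {D : Subgroup Ω} {a : Ω → Ω} (ha : MapTo F D a)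
    (hQT : Q ≤ T) (hQD : Q ⊔ Subgroup.zpowers u ≤ D) (hu : Good F E u Q) :
    Good F E (a u) (img a Q) := by
  intro β hβ
  have hsc := hi.2.1
  have haQ : MapTo F Q a := ha.restrict (le_sup_left.trans hQD)
  haveI := finite_of_le haQ.le
  obtain ⟨b, hb, hba, -, hbimg⟩ := (ha.restrict hQD).exists_iso_inverse
  have hQ'T : img a Q ≤ T :=
    img_le_of_forall fun x hx => StronglyClosed.map_mem hsc haQ hx (hQT hx)
  have hu' : u ∈ Q ⊔ Subgroup.zpowers u := Subgroup.mem_sup_right (Subgroup.mem_zpowers u)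
  have hdom : img a (Q ⊔ Subgroup.zpowers u) = img a Q ⊔ Subgroup.zpowers (a u) := by
    rw [(ha.restrict hQD).img_sup le_sup_left le_sup_right, img_zpowers (ha.restrict hQD) hu']
  rw [hdom] at hb
  have hbQ : MapTo F (img a Q) b := hb.restrict le_sup_left
  obtain ⟨g, hg, hgx⟩ := IsInvariantIn.conj hi le_rfl hQ'T (mapTo_of_mem_autGroup hQ'T hβ)
    (fun x hx => autFun_mem β hx) hbQ
  have hbQimg : img b (img a Q) = Q := hbimg Q le_sup_left
  rw [hbQimg] at hg
  have hgQ : ∀ x ∈ Q, g x ∈ Q := fun x hx => by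
    obtain ⟨y, hy, rfl⟩ := (hbQ.mem_img_iff le_rfl).mp (hbQimg.ge hx)
    rw [hgx y hy]
    exact hbQimg.le (mem_img_of_mem (autFun_mem β hy))
  have hgimg := img_eq_self_of_forall hg hgQ
  obtain ⟨e, he, hex, hefix⟩ := hu _ (autOf_mem hg hgimg)
  have hbmem : ∀ y ∈ img a Q ⊔ Subgroup.zpowers (a u), b y ∈ Q ⊔ Subgroup.zpowers u := fun y hy => by
    rw [← hdom] at hy
    obtain ⟨x, hx, rfl⟩ := ((ha.restrict hQD).mem_img_iff le_rfl).mp hy
    rw [hba x hx]; exact hx
  have hemem : ∀ x ∈ Q ⊔ Subgroup.zpowers u, e x ∈ Q ⊔ Subgroup.zpowers u := fun x hx => by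
    have h1 : img e (Q ⊔ Subgroup.zpowers u) ≤ Q ⊔ Subgroup.zpowers u := by
      rw [he.img_sup le_sup_left le_sup_right, img_congr hefix, img_id]
      refine sup_le_sup_right (img_le_of_forall fun y hy => ?_) _
      rw [hex y hy]; exact autFun_mem _ hy
    exact h1 (mem_img_of_mem hx)
  have hm : MapTo F (img a Q ⊔ Subgroup.zpowers (a u)) (fun y => a (e (b y))) :=
    (hb.comp he hbmem).comp (ha.restrict hQD) fun y hy => hemem _ (hbmem y hy)
  refine ⟨_, hm, fun y hy => ?_,
    fix_zpowers hm (Subgroup.mem_sup_right (Subgroup.mem_zpowers _)) ?_⟩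
  · obtain ⟨x, hx, rfl⟩ := (haQ.mem_img_iff le_rfl).mp hy
    have hxu : x ∈ Q ⊔ Subgroup.zpowers u := Subgroup.mem_sup_left hx
    show a (e (b (a x))) = autFun β (a x)
    rw [hba x hxu, hex x hx, autFun_autOf hg hgimg hx]
    have h2 := hgx (a x) hy
    rw [hba x hxu] at h2
    rw [h2]
    obtain ⟨w, hw, hwe⟩ := (haQ.mem_img_iff le_rfl).mp (autFun_mem β hy)
    rw [← hwe, hba w (Subgroup.mem_sup_left hw)]
  · show a (e (b (a u))) = a u
    rw [hba u hu', hefix u (Subgroup.mem_zpowers u)]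

/-- The starting elements are invariant. -/
theorem start_transport (hS : IsPGroup p S) (hF : F.IsSaturated p) (hi : E.IsInvariantIn F)
    {a : Ω → Ω} (ha : MapTo F (T ⊔ centralizerIn S T) a) (haT : img a T = T) (hu : Start F E u) :
    Start F E (a u) := by
  obtain ⟨huC, huT, huJ⟩ := hu
  have hTS := hi.2.1.1
  have hz : Subgroup.zpowers u ≤ centralizerIn S T := Subgroup.zpowers_le.mpr huC
  refine ⟨haT ▸ ha.map_mem_centralizerIn le_sup_left (Subgroup.mem_sup_right huC) huC, ?_, ?_⟩
  · have := good_transport hi ha le_rfl (sup_le_sup_left hz T) huT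
    rwa [haT] at this
  · have h1 := img_JAb (ha.restrict (le_sup_left : T ≤ _))
    rw [haT] at h1
    have := good_transport hi ha (Transfer.JAb_le T)
      (sup_le_sup (Transfer.JAb_le T) hz) huJ
    rwa [h1] at this

/-- Every map of `E` on a large subgroup extends fixing `u`. -/
theorem extFix_big (hS : IsPGroup p S) (hE : E.IsWeaklyNormalIn F p) (hu : u ∈ centralizerIn S T)
    (huT : Good F E u T) (n : ℕ)
    (h : ∀ R, HT F T R → R < T → n < Nat.card R → Good F E u R) {P : Subgroup Ω} {g : Ω → Ω}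
    (hg : MapTo E P g) (hn : n < Nat.card P) : ExtFix F (Subgroup.zpowers u) P g := by
  obtain ⟨hEs, hF, hi⟩ := hE
  have hTS := hi.2.1.1
  haveI := finite_of_le hTS
  have hTp := hS.to_le hTS
  refine alperin_prop hTp hEs (fun P g => n < Nat.card P → ExtFix F (Subgroup.zpowers u) P g)
    (fun _ hC hfg hn => (hC hn).congr' hfg) (fun {P s} hP hs _ => ?_)
    (fun {P R f g} hf _ hfR h₁ h₂ hn => (h₁ hn).comp (h₂ ?_) hfR)
    (fun {P f g} hf _ hgf h₁ hn => (h₁ ?_).inverse rfl hgf) (fun R hR α hα hn => ?_) hg hn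
  · refine ⟨cj s, mapTo_cj (sup_le (hP.trans hTS) (Subgroup.zpowers_le.mpr hu.1)) (hTS hs),
      fun _ _ => rfl, fun z hz => ?_⟩
    rw [cj_apply, (mem_centralizerIn.mp (Subgroup.zpowers_le.mpr hu hz)).2 s hs,
      mul_inv_cancel_right]
  · refine hn.trans_le ?_
    rw [← hf.card_img le_rfl]
    haveI : Finite R := by
      by_cases hRT : R ≤ T
      · exact finite_of_le (hRT.trans hTS)
      · exact finite_of_le ((show R ≤ T from (‹MapTo E R g›).le).trans hTS)
    exact Subgroup.card_le_of_le (img_le_of_forall hfR)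
  · rwa [hf.card_img le_rfl] at hn
  · rcases hR with rfl | hR
    · exact huT α hα
    · rcases eq_or_lt_of_le hR.1.1 with rfl | hlt
      · exact huT α hα
      · exact h R (ht_of_isCentric hi hR.1) hlt hn α hα

/-- `FixLifts` and the extension of the maps on `N_T(P)` give `Good`. -/
theorem good_of_fixLifts (hS : IsPGroup p S) (hE : E.IsWeaklyNormalIn F p) (hP : HT F T P)
    (hPfn : F.IsFullyNormalized P) (hu : u ∈ centralizerIn S T)
    (hfix : FixLifts F E p u P (P ⊔ centralizerIn S P))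
    (hN : ∀ g, MapTo E (normalizerIn T P) g →
      ExtFix F (Subgroup.zpowers u) (normalizerIn T P) g) : Good F E u P := by
  obtain ⟨hEs, hF, hi⟩ := id hE
  have hTS := hi.2.1.1
  have hPT := hP.1
  have hPS := hPT.trans hTS
  haveI := finite_of_le hTS
  haveI := finite_of_le hPS
  haveI := finite_mulAut P
  have hTp := hS.to_le hTS
  have hzS : Subgroup.zpowers u ≤ S := Subgroup.zpowers_le.mpr hu.1
  have huP : u ∈ centralizerIn S P := centralizerIn_anti hPT hu
  let G : Subgroup (MulAut P) :=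
    { carrier := {α | α ∈ E.autGroup P ∧ ExtFix F (Subgroup.zpowers u) P (autFun α)}
      one_mem' := ⟨Subgroup.one_mem _, fun x => x, mapTo_id F (sup_le hPS hzS),
        fun x hx => (autFun_one hx).symm, fun _ _ => rfl⟩
      mul_mem' := by
        rintro a b ⟨ha, ha'⟩ ⟨hb, hb'⟩
        exact ⟨Subgroup.mul_mem _ ha hb, (hb'.comp ha' fun x hx => autFun_mem b hx).congr'
          fun x hx => autFun_mul _ _ hx⟩
      inv_mem' := by
        rintro a ⟨ha, ha'⟩
        exact ⟨Subgroup.inv_mem _ ha, ha'.inverse (img_autFun a)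
          fun x hx => autFun_inv_autFun a hx⟩ }
  have hGinn : autInducedBy T P ≤ G := by
    intro α hα
    obtain ⟨t, ht, htx⟩ := mem_autInducedBy_iff_cj.mp hα
    refine ⟨autInducedBy_le_autGroup hPT hα, cj t, mapTo_cj (sup_le hPS hzS) (hTS ht),
      fun x hx => (htx x hx).symm, fun z hz => ?_⟩
    rw [cj_apply, (mem_centralizerIn.mp (Subgroup.zpowers_le.mpr hu hz)).2 t ht,
      mul_inv_cancel_right]
  have hEfn := isFullyNormalized_sub hS hF hi hPT hPfn
  obtain ⟨-, Rs, hRs⟩ := isFullyAutomized_of_isFullyNormalized hTp hEs hEfn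
  have hJG : nclT E P ≤ G := by
    set J' := (nclT E P).subgroupOf (E.autGroup P) with hJ'
    have hRJ : (Rs : Subgroup (E.autGroup P)) ≤ J' := by
      rw [hRs]; exact Subgroup.comap_mono autInducedBy_le_nclT
    have hsyl := Transfer.pResidual_sup_sylow (p := p) (Rs.subtype hRJ)
    intro α hα
    have h1 : (⟨⟨α, nclT_le hPT hα⟩, hα⟩ : J') ∈
        (G.comap ((E.autGroup P).subtype.comp J'.subtype) : Subgroup J') := by
      refine (sup_le ?_ ?_ : pResidual p J' ⊔ _ ≤ _) (hsyl.ge (Subgroup.mem_top _))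
      · rw [pResidual, Subgroup.closure_le]
        intro w hw
        set β : MulAut P := ((w : E.autGroup P) : MulAut P) with hβ
        have hβn : β ∈ nclT E P := w.2
        have hcop : (orderOf β).Coprime p := by
          rw [hβ, Subgroup.orderOf_coe, Subgroup.orderOf_coe]; exact hw
        obtain ⟨θ, hθ, hθβ⟩ := exists_lift_of_nclT hS hE hP hPfn rfl hβn
        obtain ⟨θ', hθ', hθ'cop, hθ'β⟩ := exists_coprime_lift hPT hTS rfl hcop hθ hθβ
        have hfu := hfix θ' hθ' hθ'cop β hβn hθ'β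
        have hQS : P ⊔ centralizerIn S P ≤ S := sup_le hPS centralizerIn_le
        have hm := mapTo_of_mem_autGroup hQS hθ'.1
        exact ⟨(w : E.autGroup P).2, autFun θ',
          hm.restrict (sup_le_sup_left (Subgroup.zpowers_le.mpr huP) P), hθ'β,
          fix_zpowers hm (Subgroup.mem_sup_right huP) hfu⟩
      · intro w hw
        rw [Sylow.coe_subtype, Subgroup.mem_subgroupOf, hRs] at hw
        exact hGinn hw
    exact h1
  haveI := nclT_normal (E := E) (P := P)
  have hRJ : (Rs : Subgroup (E.autGroup P)) ≤ (nclT E P).subgroupOf (E.autGroup P) := by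
    rw [hRs]; exact Subgroup.comap_mono autInducedBy_le_nclT
  have htop := Sylow.normalizer_sup_eq_top' Rs hRJ
  have hnorm : Subgroup.normalizer ((Rs : Subgroup (E.autGroup P)) : Set (E.autGroup P)) ≤
      G.subgroupOf (E.autGroup P) := by
    intro n hn
    have hnm : MapTo E P (autFun (n : MulAut P)) := mapTo_of_mem_autGroup hPT n.2
    obtain ⟨g, hg, hgn⟩ := (isReceptive_iff.mp (isReceptive_of_isFullyNormalized hTp hEs hEfn)).2
      P _ hnm (img_autFun _)
    have hext' : normalizerIn T P ≤ extSub T hnm := by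
      intro k hk
      obtain ⟨κ, hκ⟩ := exists_conjAut hk.2
      have hκT : κ ∈ autInducedBy T P := mem_autInducedBy_iff_cj.mpr ⟨k, hk.1, hκ⟩
      have hkR : (⟨κ, autInducedBy_le_autGroup hPT hκT⟩ : E.autGroup P) ∈
          (Rs : Subgroup (E.autGroup P)) := by
        rw [hRs]; exact hκT
      have h1 := (Subgroup.mem_normalizer_iff.mp hn _).mp hkR
      rw [hRs] at h1
      obtain ⟨h, hh, hx'⟩ := mem_autInducedBy_iff_cj.mp (Subgroup.mem_subgroupOf.mp h1)
      refine ⟨hk, h, hh, fun x hx => ?_⟩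
      have h2 := hx' _ (autFun_mem (n : MulAut P) hx)
      simp only [Subgroup.coe_mul, Subgroup.coe_inv] at h2
      rw [autFun_mul _ _ (autFun_mem _ hx), autFun_inv_autFun _ hx, autFun_mul _ _ hx,
        hκ x hx, cj_apply, cj_apply] at h2
      exact h2
    obtain ⟨e, he, heg, heu⟩ := hN g (hg.restrict hext')
    refine ⟨n.2, e, he.restrict (sup_le_sup_right (le_normalizerIn hPT) _), fun x hx => ?_, heu⟩
    rw [heg x (le_normalizerIn hPT hx), hgn x hx]
    rfl
  intro α hα
  exact (Subgroup.mem_subgroupOf.mp ((sup_le hnorm (Subgroup.comap_mono hJG) :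
    _ ≤ G.subgroupOf (E.autGroup P)) (htop.ge (Subgroup.mem_top (⟨α, hα⟩ : E.autGroup P))))).2

/-- Each coset of `Z(T)` in `C_S(T)` contains a starting element. -/
theorem exists_start (hS : IsPGroup p S) (hE : E.IsNormalIn F p) {y : Ω}
    (hy : y ∈ centralizerIn S T) : ∃ z ∈ T, Start F E (y * z) := by
  obtain ⟨hEw, hext⟩ := hE
  obtain ⟨hEs, hF, hi⟩ := id hEw
  have hsc := hi.2.1
  have hTS := hsc.1
  haveI := finite_of_le hTS
  have hTp := hS.to_le hTS
  set J₀ := JAb 0 T with hJ₀
  have hJT : J₀ ≤ T := Transfer.JAb_le T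
  have hTfn : F.IsFullyNormalized T := StronglyClosed.isFullyNormalized hsc
  have hSn : S ≤ Subgroup.normalizer (J₀ : Set Ω) :=
    (StronglyClosed.le_normalizer hsc).trans (Transfer.normalizer_le_normalizer_JAb T)
  have hJfn : F.IsFullyNormalized J₀ := isFullyNormalized_of_normal (hJT.trans hTS) hSn
  have hJHT : HT F T J₀ := ht_of_fn hS hF hsc hJT hJfn fun c hc =>
    mem_jab_of_commute hTS hc.1 fun x hx => (mem_centralizerIn.mp hc).2 x hx
  have hNJ : normalizerIn T J₀ = T :=
    le_antisymm normalizerIn_le fun t ht => ⟨ht, hSn (hTS ht)⟩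
  set Q₀ := J₀ ⊔ centralizerIn S J₀ with hQ₀
  have hQ₀S : Q₀ ≤ S := sup_le (hJT.trans hTS) centralizerIn_le
  have hCT0 : centralizerIn S T ≤ Q₀ := (centralizerIn_anti hJT).trans le_sup_right
  obtain ⟨z₂, hz₂, hz₂c, hz₂N, hfix₂⟩ := exists_fixed hS hEw hJHT hJfn hQ₀ hy (V := ⊤)
    fun θ _ => Subgroup.mem_top _
  have hz₂T : z₂ ∈ centralizerIn S T := mem_centralizerIn.mpr
    ⟨hTS (hJT hz₂.1), fun t ht => hz₂N t (hNJ.symm ▸ ht)⟩
  set u₂ := y * z₂ with hu₂
  have hu₂C : u₂ ∈ centralizerIn S T := Subgroup.mul_mem _ hy hz₂T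
  have hJfc := isFullyCentralized_of_isFullyNormalized hS hF hJfn
  let V₀ : Subgroup Ω :=
    { carrier := {z | z ∈ T ∧ z ∈ centralizerIn S T ∧ ∀ κ : MulAut Q₀, IsLift F E J₀ Q₀ κ →
        (orderOf κ).Coprime p → ∀ α ∈ nclT E J₀, (∀ x ∈ J₀, autFun κ x = autFun α x) →
        autFun κ z = z}
      one_mem' := ⟨T.one_mem, Subgroup.one_mem _, fun κ hκ _ α _ _ =>
        (mapTo_of_mem_autGroup hQ₀S hκ.1).map_one⟩
      mul_mem' := fun {a b} ha hb => ⟨T.mul_mem ha.1 hb.1, Subgroup.mul_mem _ ha.2.1 hb.2.1,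
        fun κ hκ hc α hα hαx => by
          rw [(mapTo_of_mem_autGroup hQ₀S hκ.1).map_mul (hCT0 ha.2.1) (hCT0 hb.2.1),
            ha.2.2 κ hκ hc α hα hαx, hb.2.2 κ hκ hc α hα hαx]⟩
      inv_mem' := fun {a} ha => ⟨T.inv_mem ha.1, Subgroup.inv_mem _ ha.2.1,
        fun κ hκ hc α hα hαx => by
          rw [(mapTo_of_mem_autGroup hQ₀S hκ.1).map_inv (hCT0 ha.2.1),
            ha.2.2 κ hκ hc α hα hαx]⟩ }
  set U := T ⊔ centralizerIn S T with hU
  have hUS : U ≤ S := sup_le hTS centralizerIn_le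
  obtain ⟨z₃, hz₃, hz₃c, hz₃N, hfix₃⟩ := exists_fixed hS hEw (HT.top hsc) hTfn hU hu₂C (V := V₀)
    fun θ hθ => by
      obtain ⟨hθF, ⟨γ, hγ, hθγ⟩, hθc⟩ := hθ
      have hm := mapTo_of_mem_autGroup hUS hθF
      have hθT : img (autFun θ) T = T := (img_congr hθγ).trans (img_autFun γ)
      set u₃ := autFun θ u₂ with hu₃
      have hu₃C : u₃ ∈ centralizerIn S T :=
        hθT ▸ hm.map_mem_centralizerIn le_sup_left (Subgroup.mem_sup_right hu₂C) hu₂C
      refine ⟨hθc u₂ hu₂C, Subgroup.mul_mem _ (Subgroup.inv_mem _ hu₂C) hu₃C,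
        fun κ hκ hκc α hα hκα => ?_⟩
      have hκm := mapTo_of_mem_autGroup hQ₀S hκ.1
      rw [hκm.map_mul (Q₀.inv_mem (hCT0 hu₂C)) (hCT0 hu₃C), hκm.map_inv (hCT0 hu₂C),
        hfix₂ κ hκ hκc]
      suffices h : autFun κ u₃ = u₃ by rw [h]
      have hθJ : img (autFun θ) J₀ = J₀ := by
        rw [hJ₀, img_JAb (hm.restrict (le_sup_left : T ≤ U)), hθT]
      haveI := finite_of_le (hJT.trans hTS)
      have hγJm : MapTo F J₀ (autFun θ) := hm.restrict (hJT.trans le_sup_left)
      set γ₀ := autOf hγJm hθJ with hγ₀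
      have hnorm := IsInvariantIn.normal_autGroup hi hJT
      have hconj : ∀ δ ∈ E.autGroup J₀, γ₀⁻¹ * δ * γ₀ ∈ E.autGroup J₀ := fun δ hδ => by
        have h1 := hnorm.conj_mem ⟨δ, IsSubsystemOf.autGroup_le hi.1 _ hδ⟩ hδ
          ⟨γ₀⁻¹, Subgroup.inv_mem _ (autOf_mem hγJm hθJ)⟩
        have h2 : γ₀⁻¹ * δ * γ₀⁻¹⁻¹ ∈ E.autGroup J₀ := Subgroup.mem_subgroupOf.mp h1
        rwa [inv_inv] at h2
      have hα' : γ₀⁻¹ * α * γ₀ ∈ nclT E J₀ := by
        clear hκα
        induction hα using Subgroup.closure_induction with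
        | one => simp
        | mul a b _ _ ha hb => simpa [mul_assoc] using Subgroup.mul_mem _ ha hb
        | inv a _ ha => simpa [mul_assoc] using Subgroup.inv_mem _ ha
        | mem x hx =>
          obtain ⟨b, hb, c, hc, rfl⟩ := hx
          refine Subgroup.subset_closure ⟨γ₀⁻¹ * b * γ₀, hconj b hb, γ₀⁻¹ * c * γ₀, ?_, by group⟩
          obtain ⟨t, ht, htc⟩ := mem_autInducedBy_iff_cj.mp hc
          refine mem_autInducedBy_iff_cj.mpr ⟨autFun γ⁻¹ t, autFun_mem _ ht, fun x hx => ?_⟩
          have hTm := hm.restrict (le_sup_left : T ≤ U)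
          set v := autFun γ⁻¹ t * x * (autFun γ⁻¹ t)⁻¹ with hv
          have hvT : v ∈ T :=
            T.mul_mem (T.mul_mem (autFun_mem _ ht) (hJT hx)) (T.inv_mem (autFun_mem _ ht))
          have hvJ : v ∈ J₀ := by
            have := hSn (hTS (autFun_mem γ⁻¹ ht))
            exact (Subgroup.mem_normalizer_iff.mp this x).mp hx
          have hgv : autFun γ₀ v = autFun c (autFun γ₀ x) := by
            rw [hγ₀, autFun_autOf hγJm hθJ hvJ, autFun_autOf hγJm hθJ hx, hv,
              hTm.map_conj (autFun_mem _ ht) (hJT hx), hθγ _ (autFun_mem _ ht),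
              autFun_autFun_inv γ ht, ← cj_apply,
              ← htc _ ((mem_img_of_mem hx : autFun θ x ∈ img (autFun θ) J₀) |> hθJ.le)]
          rw [cj_apply, autFun_mul _ _ hx, autFun_mul _ _ (autFun_mem _ hx), ← hgv,
            autFun_inv_autFun γ₀ hvJ]
      have hcop' : (orderOf (γ₀⁻¹ * α * γ₀)).Coprime p := by
        have hαo : orderOf α ∣ orderOf κ := orderOf_dvd_of_pow_eq_one (autFun_ext fun x hx => by
          have hpow : ∀ n : ℕ, ∀ x ∈ J₀, autFun (κ ^ n) x = autFun (α ^ n) x := by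
            intro n
            induction n with
            | zero => intro x hx; rw [pow_zero, pow_zero, autFun_one hx,
                autFun_one ((le_sup_left : J₀ ≤ Q₀) hx)]
            | succ n ih =>
              intro x hx
              rw [pow_succ' κ, pow_succ' α, autFun_mul _ _ ((le_sup_left : J₀ ≤ Q₀) hx),
                autFun_mul _ _ hx, ih x hx, hκα _ (autFun_mem _ hx)]
          rw [← hpow _ x hx, pow_orderOf_eq_one, autFun_one ((le_sup_left : J₀ ≤ Q₀) hx),
            autFun_one hx])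
        have he : γ₀⁻¹ * α * γ₀ = MulAut.conj γ₀⁻¹ α := by simp [MulAut.conj_apply]
        rw [he, MulEquiv.orderOf_eq]
        exact Nat.Coprime.coprime_dvd_left hαo hκc
      obtain ⟨κ₁, hκ₁, hκ₁x⟩ := exists_lift_of_nclT hS hEw hJHT hJfn hQ₀ hα'
      obtain ⟨κ', hκ', hκ'c, hκ'x⟩ := exists_coprime_lift hJT hTS hQ₀ hcop' hκ₁ hκ₁x
      have hκ'u := hfix₂ κ' hκ' hκ'c
      have hκ'm := mapTo_of_mem_autGroup hQ₀S hκ'.1
      have hd : J₀ ⊔ Subgroup.zpowers u₂ ≤ Q₀ :=
        sup_le le_sup_left (Subgroup.zpowers_le.mpr (hCT0 hu₂C))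
      have hdU : J₀ ⊔ Subgroup.zpowers u₂ ≤ U :=
        sup_le (hJT.trans le_sup_left)
          (Subgroup.zpowers_le.mpr (Subgroup.mem_sup_right hu₂C))
      have hgood : ExtFix F (Subgroup.zpowers u₂) J₀ (autFun (γ₀⁻¹ * α * γ₀)) :=
        ⟨autFun κ', hκ'm.restrict hd, hκ'x, fix_zpowers hκ'm (hCT0 hu₂C) hκ'u⟩
      -- conjugate by `θ`
      obtain ⟨e, he, hex, hefix⟩ := hgood
      obtain ⟨b, hb, hbθ, -, -⟩ := (hm.restrict hdU).exists_iso_inverse
      have hu₂d : u₂ ∈ J₀ ⊔ Subgroup.zpowers u₂ :=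
        Subgroup.mem_sup_right (Subgroup.mem_zpowers u₂)
      have hdimg : img (autFun θ) (J₀ ⊔ Subgroup.zpowers u₂) = J₀ ⊔ Subgroup.zpowers u₃ := by
        rw [(hm.restrict hdU).img_sup le_sup_left le_sup_right, hθJ,
          img_zpowers (hm.restrict hdU) hu₂d]
      rw [hdimg] at hb
      have hbmem : ∀ w ∈ J₀ ⊔ Subgroup.zpowers u₃, b w ∈ J₀ ⊔ Subgroup.zpowers u₂ := by
        intro w hw
        rw [← hdimg] at hw
        obtain ⟨x, hx, rfl⟩ := ((hm.restrict hdU).mem_img_iff le_rfl).mp hw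
        rw [hbθ x hx]; exact hx
      have hemem : ∀ w ∈ J₀ ⊔ Subgroup.zpowers u₂, e w ∈ J₀ ⊔ Subgroup.zpowers u₂ := by
        intro w hw
        have h1 : img e (J₀ ⊔ Subgroup.zpowers u₂) ≤ J₀ ⊔ Subgroup.zpowers u₂ := by
          rw [he.img_sup le_sup_left le_sup_right, img_congr hefix, img_id]
          refine sup_le_sup_right (img_le_of_forall fun x hx => ?_) _
          rw [hex x hx]; exact autFun_mem _ hx
        exact h1 (mem_img_of_mem hw)
      have hm' : MapTo F (J₀ ⊔ Subgroup.zpowers u₃) (fun w => autFun θ (e (b w))) :=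
        (hb.comp he hbmem).comp (hm.restrict hdU) fun w hw => hemem _ (hbmem w hw)
      have hgood' : ExtFix F (Subgroup.zpowers u₃) J₀ (autFun α) := by
        refine ⟨_, hm', fun x hx => ?_,
          fix_zpowers hm' (Subgroup.mem_sup_right (Subgroup.mem_zpowers _)) ?_⟩
        · have hv : autFun γ₀⁻¹ x ∈ J₀ := autFun_mem _ hx
          have hθv : autFun θ (autFun γ₀⁻¹ x) = x := by
            rw [← autFun_autOf hγJm hθJ hv]; exact autFun_autFun_inv γ₀ hx
          show autFun θ (e (b x)) = autFun α x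
          conv_lhs => rw [← hθv, hbθ _ (Subgroup.mem_sup_left hv), hex _ hv]
          rw [← autFun_autOf hγJm hθJ (autFun_mem _ hv), ← hγ₀,
            autFun_mul _ _ hv, autFun_autFun_inv γ₀ hx, autFun_mul γ₀⁻¹ α hx,
            autFun_autFun_inv γ₀ (autFun_mem α hx)]
        · show autFun θ (e (b u₃)) = u₃
          rw [hu₃, hbθ u₂ hu₂d, hefix u₂ (Subgroup.mem_zpowers u₂)]
      exact fixed_of_mem_cSet hS hF hJfc hQ₀ hκ.1 hκc
        (fun x hx => by rw [hκα x hx]; exact autFun_mem α hx) hκ.2.2 hJT hgood' hu₃C hκα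
  set v := u₂ * z₃ with hv
  have hvC : v ∈ centralizerIn S T := Subgroup.mul_mem _ hu₂C hz₃.2.2.1
  have hvT : Good F E v T := by
    refine good_of_fixLifts hS hEw (HT.top hsc) hTfn hvC
      (fun θ hθ hc α _ _ => hfix₃ θ hθ hc) fun g hg => ?_
    rw [show normalizerIn T T = T from le_antisymm normalizerIn_le (le_normalizerIn le_rfl)]
      at hg ⊢
    have himg : img g T = T := img_eq_self_of_forall hg fun x hx => hg.mem hx
    set α := autOf hg himg with hα
    have hαE : α ∈ E.autGroup T := autOf_mem hg himg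
    obtain ⟨a, b, -, -, hab, ⟨j, hj⟩, hbc⟩ :=
      Transfer.exists_pPart_mul (p := p) (⟨α, hαE⟩ : E.autGroup T)
    have hab' : (a : MulAut T) * (b : MulAut T) = α := congrArg Subtype.val hab
    have haI : (a : MulAut T) ∈ autInducedBy T T := by
      rw [← inn_eq_autInducedBy]
      refine mem_of_pow_eq_one_of_normal hTp
        (isFullyAutomized_of_isFullyNormalized hTp hEs isFullyNormalized_top)
        (normal_inn_subgroupOf E T) (autInducedBy_self_eq_inn).le a.2 (k := j) ?_
      rw [← SubgroupClass.coe_pow, orderOf_dvd_iff_pow_eq_one.mp hj]; rfl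
    obtain ⟨β, hβ, hβT, hβc⟩ := hext b b.2
    have hTU : T ≤ U := le_sup_left
    have hβx : ∀ x ∈ T, autFun β x = autFun (b : MulAut T) x := fun x hx => by
      rw [autFun_apply β (hTU hx), autFun_apply _ hx]
      exact hβT ⟨x, hx⟩
    have hβl : IsLift F E T U β := ⟨hβ, ⟨b, b.2, hβx⟩, fun c hc => by
      have hcU : c ∈ U := Subgroup.mem_sup_right hc
      rw [autFun_apply β hcU]
      exact (hβc ⟨c, hcU⟩ hc).1⟩
    obtain ⟨θ, hθ, hθc, hθx⟩ :=
      exists_coprime_lift le_rfl hTS hU (by rw [Subgroup.orderOf_coe]; exact hbc) hβl hβx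
    have hθv := hfix₃ θ hθ hθc
    have hθm := mapTo_of_mem_autGroup hUS hθ.1
    have hd : T ⊔ Subgroup.zpowers v ≤ U :=
      sup_le_sup_left (Subgroup.zpowers_le.mpr hvC) T
    obtain ⟨t, ht, htx⟩ := mem_autInducedBy_iff_cj.mp haI
    have h2 : ExtFix F (Subgroup.zpowers v) T (autFun (a : MulAut T)) :=
      ⟨cj t, mapTo_cj (hd.trans hUS) (hTS ht), fun x hx => (htx x hx).symm, fun z hz => by
        rw [cj_apply, (mem_centralizerIn.mp (Subgroup.zpowers_le.mpr hvC hz)).2 t ht,
          mul_inv_cancel_right]⟩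
    have h3 : ExtFix F (Subgroup.zpowers v) T (autFun (b : MulAut T)) :=
      ⟨autFun θ, hθm.restrict hd, hθx, fix_zpowers hθm (Subgroup.mem_sup_right hvC) hθv⟩
    refine (h3.comp h2 fun x hx => autFun_mem _ hx).congr' fun x hx => ?_
    rw [← autFun_autOf hg himg hx, ← hα, ← hab', autFun_mul _ _ hx]
  refine ⟨z₂ * z₃, T.mul_mem (hJT hz₂.1) hz₃.1, ?_⟩
  rw [← mul_assoc]
  refine ⟨hvC, hvT, ?_⟩
  refine good_of_fixLifts hS hEw hJHT hJfn hvC (fun θ hθ hc α hα hαx => ?_) fun g hg => ?_
  · have hm := mapTo_of_mem_autGroup hQ₀S hθ.1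
    rw [hm.map_mul (hCT0 hu₂C) (hCT0 hz₃.2.2.1), hfix₂ θ hθ hc, hz₃.2.2.2 θ hθ hc α hα hαx]
  · rw [hNJ] at hg ⊢
    have himg : img g T = T := img_eq_self_of_forall hg fun x hx => hg.mem hx
    exact (hvT _ (autOf_mem hg himg)).congr' fun x hx => (autFun_autOf hg himg hx).symm

/-- `p` odd: starting elements centralise `E`. -/
theorem good_of_start (hS : IsPGroup p S) (hp : p ≠ 2) (hE : E.IsNormalIn F p) :
    ∀ (Q : Subgroup Ω), HT F T Q → Q < T → ∀ u, Start F E u → Good F E u Q := by
  classical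
  obtain ⟨hEs, hF, hi⟩ := id hE.1
  have hsc := hi.2.1
  have hTS := hsc.1
  haveI := finite_of_le hTS
  have hTp := hS.to_le hTS
  let μ : Subgroup Ω → ℕ := fun R =>
    Nat.card (normalizerIn T R) * (Nat.card T + 1) + Nat.card R
  let K := (Nat.card T + 1) * (Nat.card T + 1) + 1
  intro Q
  induction hn : K - μ Q using Nat.strong_induction_on generalizing Q with
  | h n ih =>
  intro hQ hQlt u hu
  have hμle : ∀ {R : Subgroup Ω}, R ≤ T → μ R < K := by
    intro R hR
    haveI := finite_of_le (hR.trans hTS)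
    have h1 : Nat.card R ≤ Nat.card T := Subgroup.card_le_of_le hR
    have h2 : Nat.card (normalizerIn T R) ≤ Nat.card T := Subgroup.card_le_of_le normalizerIn_le
    have h3 := Nat.mul_le_mul_right (Nat.card T + 1) h2
    show Nat.card (normalizerIn T R) * (Nat.card T + 1) + Nat.card R < K
    simp only [K]
    nlinarith
  have hIH : ∀ R : Subgroup Ω, HT F T R → R < T → μ Q < μ R → ∀ w, Start F E w → Good F E w R := by
    intro R hR hRlt hlt w hw
    have h1 := hμle hR.1
    exact ih _ (by omega) R rfl hR hRlt w hw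
  have hμlt : ∀ {R : Subgroup Ω}, R ≤ T → Nat.card R ≤ Nat.card T := fun hR => by
    exact Subgroup.card_le_of_le hR
  set N := normalizerIn T Q with hN
  have hNT : N ≤ T := normalizerIn_le
  haveI := finite_of_le (hNT.trans hTS)
  haveI := finite_of_le (hQ.1.trans hTS)
  have hQN : Q < N := lt_normalizerIn hTp hQlt
  have hcardQN : Nat.card Q < Nat.card N := card_lt_of_lt hQN (hNT.trans hTS)
  have hbigN : ∀ w, Start F E w → ∀ {P : Subgroup Ω} {g : Ω → Ω}, MapTo E P g →
      Nat.card N ≤ Nat.card P → ExtFix F (Subgroup.zpowers w) P g := by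
    intro w hw P g hg hP
    have hpos : 0 < Nat.card N := Nat.card_pos
    refine extFix_big hS hE.1 hw.1 hw.2.1 (Nat.card N - 1) (fun R hR hRlt hRn => ?_) hg (by omega)
    refine hIH R hR hRlt ?_ w hw
    haveI := finite_of_le (hR.1.trans hTS)
    haveI := finite_of_le ((normalizerIn_le (S := T) (P := R)).trans hTS)
    have h1 : Nat.card R < Nat.card (normalizerIn T R) :=
      card_lt_of_lt (lt_normalizerIn hTp hRlt) (normalizerIn_le.trans hTS)
    have h2 := hμlt hQ.1
    have h4 : Nat.card N + 1 ≤ Nat.card (normalizerIn T R) := by omega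
    have h5 := Nat.mul_le_mul_right (Nat.card T + 1) h4
    show Nat.card N * (Nat.card T + 1) + Nat.card Q <
      Nat.card (normalizerIn T R) * (Nat.card T + 1) + Nat.card R
    nlinarith
  -- pulling back along a map of `N`
  have hpull : ∀ φ : Ω → Ω, MapTo F (normalizerIn S Q) φ →
      (∀ w, Start F E w → Good F E w (img φ Q)) → ∀ w, Start F E w → Good F E w Q := by
    intro φ hφ hgood w hw
    have hNS : N ≤ normalizerIn S Q := fun x hx => ⟨hTS hx.1, hx.2⟩
    obtain ⟨a, ha, e, he, hae⟩ := IsInvariantIn.frattini hi hNT (hφ.restrict hNS)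
    obtain ⟨ge, hge, hgee, hgew⟩ := hbigN w hw he le_rfl
    obtain ⟨at', hat, hata, hatC⟩ :=
      ResidualExtension.exists_ext_top hS hF hsc ha
    have hatT : img at' T = T := (img_congr hata).trans (img_autFun a)
    have hw' := start_transport hS hF hi hat hatT hw
    have hQle : Q ≤ N := le_normalizerIn hQ.1
    have hwz : Subgroup.zpowers w ≤ centralizerIn S T := Subgroup.zpowers_le.mpr hw.1
    have hgeU : ∀ y ∈ N ⊔ Subgroup.zpowers w, ge y ∈ T ⊔ centralizerIn S T := fun y hy => by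
      have hle : img ge (N ⊔ Subgroup.zpowers w) ≤ T ⊔ centralizerIn S T := by
        rw [hge.img_sup le_sup_left le_sup_right, img_congr hgew, img_id]
        exact sup_le_sup (img_le_of_forall fun x hx => by rw [hgee x hx]; exact he.mem hx) hwz
      exact hle (mem_img_of_mem hy)
    set h := fun y => at' (ge y) with hh
    have hhm : MapTo F (N ⊔ Subgroup.zpowers w) h := hge.comp hat hgeU
    have hwD : w ∈ N ⊔ Subgroup.zpowers w := Subgroup.mem_sup_right (Subgroup.mem_zpowers w)
    have hhQ : img h Q = img φ Q := img_congr fun x hx => by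
      show at' (ge x) = φ x
      rw [hgee x (hQle hx), hata _ (he.mem (hQle hx)), ← hae x (hQle hx)]
    have hhw : h w = at' w := by show at' (ge w) = _; rw [hgew w (Subgroup.mem_zpowers w)]
    obtain ⟨b, hb, hbh, -, hbimg⟩ := hhm.exists_iso_inverse
    have hg1 : Good F E (h w) (img h Q) := by rw [hhQ, hhw]; exact hgood _ hw'
    have hQ'T : img h Q ≤ T := hhQ ▸ img_le_of_forall fun x hx =>
      StronglyClosed.map_mem hsc (hφ.restrict hNS) (hQle hx) (hQ.1 hx)
    have hdom : img h Q ⊔ Subgroup.zpowers (h w) ≤ img h (N ⊔ Subgroup.zpowers w) :=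
      sup_le (img_mono (hQle.trans le_sup_left))
        (Subgroup.zpowers_le.mpr (mem_img_of_mem hwD))
    have h2 := good_transport hi hb hQ'T hdom hg1
    rwa [hbimg Q (hQle.trans le_sup_left), hbh w hwD] at h2
  have hNμ : ∀ {φ : Ω → Ω} {Q' : Subgroup Ω}, MapTo F N φ → img φ Q = Q' →
      img φ N ≤ normalizerIn T Q' := by
    intro φ Q' hφ hQ'
    refine img_le_of_forall fun x hx => ⟨StronglyClosed.map_mem hsc hφ hx hx.1, ?_⟩
    rw [← hQ']
    exact (hφ.map_mem_normalizerIn (le_normalizerIn hQ.1) hx ⟨hTS hx.1, hx.2⟩).2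
  -- reduction to a fully normalised subgroup
  have hmove : ∀ φ : Ω → Ω, MapTo F (normalizerIn S Q) φ →
      μ Q < μ (img φ Q) → ∀ w, Start F E w → Good F E w Q := by
    intro φ hφ hlt
    have hQ' : HT F T (img φ Q) :=
      hQ.img hsc (hφ.restrict (le_normalizerIn (hQ.1.trans hTS)))
    refine hpull φ hφ fun w hw => ?_
    rcases eq_or_lt_of_le hQ'.1 with he | hlt'
    · rw [he]; exact hw.2.1
    · exact hIH _ hQ' hlt' hlt w hw
  -- the case of a fully normalised `J(N) ≤ Q`
  have hcore2 : ∀ (Q₁ : Subgroup Ω), HT F T Q₁ → Q₁ < T → F.IsFullyNormalized Q₁ →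
      μ Q₁ = μ Q → Nat.card (normalizerIn T Q₁) = Nat.card N → ∀ (U : Subgroup Ω),
      U = JAb 0 (normalizerIn T Q₁) → (U ≤ Q₁ → F.IsFullyNormalized U) → ∀ w, Start F E w →
      Good F E w Q₁ := by
    intro Q₁ hQ₁ hQ₁lt hQ₁fn hμ₁ hN₁c U hU hUfn w hw
    set N₁ := normalizerIn T Q₁ with hN₁
    have hN₁T : N₁ ≤ T := normalizerIn_le
    have hQ₁N : Q₁ ≤ N₁ := le_normalizerIn hQ₁.1
    have hQ₁S := hQ₁.1.trans hTS
    haveI := finite_of_le (hN₁T.trans hTS)
    haveI := finite_of_le hQ₁S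
    haveI := finite_mulAut Q₁
    set R := Q₁ ⊔ centralizerIn S Q₁ with hR
    refine good_of_fixLifts hS hE.1 hQ₁ hQ₁fn hw.1 (fun (θ : MulAut R) hθ hθc α hα hθα => ?_)
      fun g hg => hbigN w hw hg hN₁c.ge
    have hRS : R ≤ S := sup_le hQ₁S centralizerIn_le
    have hθm := mapTo_of_mem_autGroup hRS hθ.1
    have hwQ : w ∈ centralizerIn S Q₁ := centralizerIn_anti hQ₁.1 hw.1
    have hwR : w ∈ R := Subgroup.mem_sup_right hwQ
    have hpow : ∀ n : ℕ, ∀ x ∈ Q₁, autFun (θ ^ n) x = autFun (α ^ n) x := by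
      intro n
      induction n with
      | zero => intro x hx; rw [pow_zero, pow_zero, autFun_one hx,
          autFun_one ((le_sup_left : Q₁ ≤ R) hx)]
      | succ n ih' =>
        intro x hx
        rw [pow_succ' θ, pow_succ' α, autFun_mul _ _ ((le_sup_left : Q₁ ≤ R) hx),
          autFun_mul _ _ hx, ih' x hx, hθα _ (autFun_mem _ hx)]
    have hUN : U ≤ N₁ := hU ▸ Transfer.JAb_le _
    have hUT := hUN.trans hN₁T
    haveI := finite_of_le (hUT.trans hTS)
    by_cases hUQ : U ≤ Q₁
    · -- `J(N) ≤ Q`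
      have hUfn' := hUfn hUQ
      have hUJ : U = JAb 0 Q₁ := by
        rw [hU, ← jab_eq_of_le hQ₁N (hN₁T.trans hTS) (hU ▸ hUQ)]
      have hUinv : ∀ {β : MulAut Q₁}, β ∈ E.autGroup Q₁ → img (autFun β) U = U := by
        intro β hβ
        rw [hUJ, img_JAb (mapTo_of_mem_autGroup hQ₁.1 hβ), img_autFun]
      have hQn : Q₁ ≤ Subgroup.normalizer (U : Set Ω) := by
        rw [hUJ]; exact Subgroup.le_normalizer.trans (Transfer.normalizer_le_normalizer_JAb _)
      have hCU : centralizerIn T U ≤ U := by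
        intro c hc
        by_contra hcU
        set X := Q₁ ⊔ centralizerIn T U with hX
        have hXT : X ≤ T := sup_le hQ₁.1 centralizerIn_le
        haveI := finite_of_le (hXT.trans hTS)
        have hlt' : Q₁ < X := by
          refine lt_of_le_of_ne le_sup_left fun he => hcU ?_
          have hcQ : c ∈ Q₁ := he.ge (Subgroup.mem_sup_right hc)
          rw [hU]
          exact mem_jab_of_commute (hN₁T.trans hTS) (hQ₁N hcQ) fun x hx =>
            (mem_centralizerIn.mp hc).2 x (hU.symm ▸ hx)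
        obtain ⟨y, hy, hyQ⟩ := SetLike.exists_of_lt (lt_normalizerIn (hTp.to_le hXT) hlt')
        have hCn : Q₁ ≤ Subgroup.normalizer ((centralizerIn T U : Subgroup Ω) : Set Ω) := by
          intro q hq
          haveI := finite_of_le ((centralizerIn_le (S := T) (P := U)).trans hTS)
          refine mem_normalizer_of_forall fun x hx => mem_centralizerIn.mpr
            ⟨T.mul_mem (T.mul_mem (hQ₁.1 hq) hx.1) (T.inv_mem (hQ₁.1 hq)), fun z hz => ?_⟩
          have hz' := (Subgroup.mem_normalizer_iff''.mp (hQn hq) z).mp hz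
          calc z * (q * x * q⁻¹) = q * ((q⁻¹ * z * q) * x) * q⁻¹ := by group
            _ = q * (x * (q⁻¹ * z * q)) * q⁻¹ := by rw [(mem_centralizerIn.mp hx).2 _ hz']
            _ = q * x * q⁻¹ * z := by group
        have h1 : y ∈ ((Q₁ ⊔ centralizerIn T U : Subgroup Ω) : Set Ω) := hy.1
        rw [Subgroup.coe_mul_of_left_le_normalizer_right Q₁ _ hCn] at h1
        obtain ⟨q, hq, d, hd, rfl⟩ := h1
        refine hyQ (Q₁.mul_mem hq (hUQ ?_))
        have hdN : d ∈ N₁ := by
          refine ⟨(mem_centralizerIn.mp hd).1, ?_⟩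
          have := Subgroup.mul_mem _ (Subgroup.inv_mem _ (Subgroup.le_normalizer hq)) hy.2
          rwa [inv_mul_cancel_left] at this
        rw [hU]
        exact mem_jab_of_commute (hN₁T.trans hTS) hdN fun x hx =>
          (mem_centralizerIn.mp hd).2 x (hU.symm ▸ hx)
      have hUHT := ht_of_fn hS hF hsc hUT hUfn' hCU
      have hUlt : U < T := lt_of_le_of_lt hUQ hQ₁lt
      have hwU : Good F E w U := by
        rcases eq_or_lt_of_le hN₁T with he | hlt'
        · rw [hU, he]; exact hw.2.2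
        · refine hIH U hUHT hUlt ?_ w hw
          have hNn : normalizerIn T N₁ ≤ normalizerIn T U := fun y hy =>
            ⟨hy.1, hU ▸ Transfer.normalizer_le_normalizer_JAb N₁ hy.2⟩
          haveI := finite_of_le ((normalizerIn_le (S := T) (P := U)).trans hTS)
          have h1 : Nat.card N₁ < Nat.card (normalizerIn T U) :=
            (card_lt_of_lt (lt_normalizerIn hTp hlt') (normalizerIn_le.trans hTS)).trans_le
              (Subgroup.card_le_of_le hNn)
          have h2 := hμlt hQ₁.1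
          have h5 := Nat.mul_le_mul_right (Nat.card T + 1) (show Nat.card N₁ + 1 ≤ _ from h1)
          rw [← hμ₁]
          show Nat.card N₁ * (Nat.card T + 1) + Nat.card Q₁ <
            Nat.card (normalizerIn T U) * (Nat.card T + 1) + Nat.card U
          nlinarith
      haveI := finite_mulAut U
      have hαE := nclT_le hQ₁.1 hα
      have hαm := mapTo_of_mem_autGroup hQ₁.1 hαE
      -- restriction to `U`
      have hres : ∀ {γ : MulAut Q₁}, γ ∈ nclT E Q₁ →
          ∃ β ∈ nclT E U, ∀ x ∈ U, autFun β x = autFun γ x := by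
        intro γ hγ
        induction hγ using Subgroup.closure_induction with
        | one => exact ⟨1, Subgroup.one_mem _, fun x hx => by
            rw [autFun_one hx, autFun_one (hUQ hx)]⟩
        | mul a b _ _ ha hb =>
          obtain ⟨a', ha', hax⟩ := ha
          obtain ⟨b', hb', hbx⟩ := hb
          exact ⟨a' * b', Subgroup.mul_mem _ ha' hb', fun x hx => by
            rw [autFun_mul _ _ hx, autFun_mul _ _ (hUQ hx), hax _ (autFun_mem b' hx), hbx x hx]⟩
        | inv a _ ha =>
          obtain ⟨a', ha', hax⟩ := ha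
          refine ⟨a'⁻¹, Subgroup.inv_mem _ ha', fun x hx => ?_⟩
          conv_rhs => rw [← autFun_autFun_inv a' hx, hax _ (autFun_mem _ hx)]
          exact (autFun_inv_autFun a (hUQ (autFun_mem _ hx))).symm
        | mem x hx =>
          obtain ⟨c', hc', d, hd, rfl⟩ := hx
          have hc'm := (mapTo_of_mem_autGroup hQ₁.1 hc').restrict hUQ
          set c'' := autOf hc'm (hUinv hc') with hc''
          obtain ⟨t, ht, htd⟩ := mem_autInducedBy_iff_cj.mp hd
          have hdU := hUinv (autInducedBy_le_autGroup hQ₁.1 hd)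
          have htU : t ∈ Subgroup.normalizer (U : Set Ω) := mem_normalizer_of_forall fun z hz => by
            have h1 : autFun d z ∈ img (autFun d) U := mem_img_of_mem hz
            rwa [hdU, htd z (hUQ hz)] at h1
          obtain ⟨d', hd'⟩ := exists_conjAut htU
          have hiU : ∀ z ∈ U, autFun c''⁻¹ z = autFun c'⁻¹ z := fun z hz => by
            conv_rhs => rw [← autFun_autFun_inv c'' hz, hc'',
              autFun_autOf hc'm (hUinv hc') (autFun_mem _ hz)]
            exact (autFun_inv_autFun c' (hUQ (autFun_mem _ hz))).symm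
          refine ⟨c'' * d' * c''⁻¹, Subgroup.subset_closure ⟨c'', autOf_mem hc'm (hUinv hc'), d',
            mem_autInducedBy_iff_cj.mpr ⟨t, ht, hd'⟩, rfl⟩, fun z hz => ?_⟩
          rw [autFun_mul _ _ hz, autFun_mul _ _ (autFun_mem _ hz), autFun_mul _ _ (hUQ hz),
            autFun_mul _ _ (autFun_mem _ (hUQ hz)), ← hiU z hz,
            htd _ (hUQ (autFun_mem _ hz)), ← hd' _ (autFun_mem _ hz), hc'',
            autFun_autOf hc'm (hUinv hc') (autFun_mem _ (autFun_mem _ hz))]
      obtain ⟨β, hβ, hβα⟩ := hres hα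
      have hUR : U ≤ R := hUQ.trans le_sup_left
      have hβθ : ∀ x ∈ U, autFun θ x = autFun β x := fun x hx => by
        rw [hθα x (hUQ hx), hβα x hx]
      have hβc : (orderOf β).Coprime p := by
        refine Nat.Coprime.coprime_dvd_left (orderOf_dvd_of_pow_eq_one (autFun_ext fun x hx => ?_))
          hθc
        have hb : ∀ n : ℕ, ∀ x ∈ U, autFun (θ ^ n) x = autFun (β ^ n) x := by
          intro n
          induction n with
          | zero => intro x hx; rw [pow_zero, pow_zero, autFun_one hx, autFun_one (hUR hx)]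
          | succ n ih' =>
            intro x hx
            rw [pow_succ' θ, pow_succ' β, autFun_mul _ _ (hUR hx), autFun_mul _ _ hx, ih' x hx,
              hβθ _ (autFun_mem _ hx)]
        rw [← hb _ x hx, pow_orderOf_eq_one, autFun_one (hUR hx), autFun_one hx]
      obtain ⟨θ₁, hθ₁, hθ₁x⟩ := exists_lift_of_nclT hS hE.1 hUHT hUfn' rfl hβ
      obtain ⟨θU, hθU, hθUc, hθUx⟩ := exists_coprime_lift hUT hTS rfl hβc hθ₁ hθ₁x
      obtain ⟨g, hg, hgβ, hgw⟩ := hwU β (nclT_le hUT hβ)
      obtain ⟨k, hk, hkg, -, -⟩ := hg.exists_iso_inverse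
      rw [hg.img_sup le_sup_left le_sup_right, img_congr hgβ, img_autFun, img_congr hgw, img_id]
        at hk
      have hkβ : ∀ x ∈ U, k x = autFun β⁻¹ x := fun x hx => by
        conv_lhs => rw [← autFun_autFun_inv β hx, ← hgβ _ (autFun_mem _ hx)]
        exact hkg _ (Subgroup.mem_sup_left (autFun_mem _ hx))
      set δ := w⁻¹ * autFun θ w with hδ
      have hδQ : δ ∈ Q₁ := hθ.2.2 w hwQ
      have hθwC : autFun θ w ∈ centralizerIn S Q₁ := by
        have h1 := hθm.map_mem_centralizerIn le_sup_left hwR hwQ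
        rwa [img_congr hθα, img_autFun] at h1
      have hδC : δ ∈ centralizerIn S Q₁ := Subgroup.mul_mem _ (Subgroup.inv_mem _ hwQ) hθwC
      have hδU : δ ∈ U := hCU (mem_centralizerIn.mpr
        ⟨hQ₁.1 hδQ, fun x hx => (mem_centralizerIn.mp hδC).2 x (hUQ hx)⟩)
      have hDle : U ⊔ Subgroup.zpowers w ≤ R := sup_le hUR (Subgroup.zpowers_le.mpr hwR)
      have hθmem : ∀ x ∈ U ⊔ Subgroup.zpowers w, autFun θ x ∈ U ⊔ Subgroup.zpowers w := by
        intro x hx
        have hm' := hθm.restrict hDle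
        have h1 : img (autFun θ) (U ⊔ Subgroup.zpowers w) ≤ U ⊔ Subgroup.zpowers w := by
          rw [hm'.img_sup le_sup_left le_sup_right,
            img_zpowers hm' (Subgroup.mem_sup_right (Subgroup.mem_zpowers w))]
          refine sup_le (le_trans (img_le_of_forall fun z hz => ?_) le_sup_left)
            (Subgroup.zpowers_le.mpr ?_)
          · rw [hβθ z hz]; exact autFun_mem β hz
          · rw [show autFun θ w = w * δ by rw [hδ]; group]
            exact Subgroup.mul_mem _ (Subgroup.mem_sup_right (Subgroup.mem_zpowers w))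
              (Subgroup.mem_sup_left hδU)
        exact h1 (mem_img_of_mem hx)
      have hhm : MapTo F (U ⊔ Subgroup.zpowers w) fun x => k (autFun θ x) :=
        (hθm.restrict hDle).comp hk hθmem
      have hUfc := isFullyCentralized_of_isFullyNormalized hS hF hUfn'
      have hfixU : ∀ x ∈ U, k (autFun θ x) = x := fun x hx => by
        rw [hβθ x hx, hkβ _ (autFun_mem β hx), autFun_inv_autFun β hx]
      have hzU : Subgroup.zpowers w ≤ centralizerIn S U :=
        Subgroup.zpowers_le.mpr (centralizerIn_anti hUQ hwQ)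
      have hD : MapTo (cSys F hUfc.1) (Subgroup.zpowers w) fun x => k (autFun θ x) := by
        refine (mapTo_cSys_iff (isCentralizerSystem_cSys F hUfc.1)).mpr ⟨hzU, fun x hx => ?_, _,
          (by rwa [sup_comm]), fun _ _ => rfl, hfixU⟩
        have h1 := hhm.map_mem_centralizerIn (le_sup_left : U ≤ _) (Subgroup.mem_sup_right hx)
          (hzU hx)
        rwa [img_congr hfixU, img_id] at h1
      have hfix := focal_fixed hS hF hUfc rfl hθU.1 hθUc
        (fun x hx => by rw [hθUx x hx]; exact autFun_mem β hx) hθU.2.2 hD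
        (Subgroup.mem_zpowers w)
      have hkw : k (autFun θ w) = w * autFun β⁻¹ δ := by
        rw [show autFun θ w = w * δ by rw [hδ]; group,
          hk.map_mul (Subgroup.mem_sup_right (Subgroup.mem_zpowers w))
            (Subgroup.mem_sup_left hδU), hkβ δ hδU]
        congr 1
        conv_lhs => rw [← hgw w (Subgroup.mem_zpowers w)]
        exact hkg w (Subgroup.mem_sup_right (Subgroup.mem_zpowers w))
      rw [show w⁻¹ * (fun x => k (autFun θ x)) w = autFun β⁻¹ δ by
        show w⁻¹ * k (autFun θ w) = _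
        rw [hkw, inv_mul_cancel_left], hθUx _ (autFun_mem _ hδU),
        autFun_autFun_inv β hδU] at hfix
      -- `δ` is fixed, hence trivial
      have hδfix : autFun θ δ = δ := by
        rw [hβθ δ hδU]
        conv_lhs => rw [hfix]
        rw [autFun_autFun_inv β hδU]
      have hpw : ∀ n : ℕ, autFun (θ ^ n) w = w * δ ^ n := by
        intro n
        induction n with
        | zero => rw [pow_zero, pow_zero, mul_one, autFun_one hwR]
        | succ n ih' =>
          have hdn : autFun θ (δ ^ n) = δ ^ n := by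
            clear ih'
            induction n with
            | zero => rw [pow_zero, hθm.map_one]
            | succ n ih'' =>
              rw [pow_succ, hθm.map_mul (R.pow_mem (hUR hδU) n) (hUR hδU), hδfix, ih'']
          rw [pow_succ' θ, autFun_mul _ _ hwR, ih', hθm.map_mul hwR (R.pow_mem (hUR hδU) n), hdn,
            pow_succ', ← mul_assoc, hδ, mul_inv_cancel_left]
      have h1 := hpw (orderOf θ)
      rw [pow_orderOf_eq_one, autFun_one hwR, left_eq_mul] at h1
      obtain ⟨e, he⟩ := hS ⟨δ, hTS (hUT hδU)⟩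
      have hd1 : δ = 1 := Transfer.eq_one_of_pow_of_coprime (p := p)
        ⟨e, orderOf_dvd_of_pow_eq_one (congrArg Subtype.val he)⟩
        (Nat.Coprime.coprime_dvd_left (orderOf_dvd_of_pow_eq_one h1) hθc)
      exact (inv_mul_eq_one.mp hd1).symm
    · -- Glauberman's theorem in a model
      obtain ⟨z, hz, hzc, hzN, hzfix⟩ := exists_fixed hS hE.1 hQ₁ hQ₁fn hR hw.1 (V := ⊤)
        fun θ _ => Subgroup.mem_top _
      have hzN' : z ∈ N₁ := hQ₁N hz.1
      have hfc₁ := isFullyCentralized_of_isFullyNormalized hS hF hQ₁fn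
      have hEfn := isFullyNormalized_sub hS hF hi hQ₁.1 hQ₁fn
      have hEc := isCentric_of_isConj hi hQ₁
      obtain ⟨NS, hNS⟩ : ∃ NS : FusionSystem N₁, E.IsNormalizerSystem Q₁ NS :=
        ⟨_, isNormalizerSystem_nSys E hQ₁.1⟩
      obtain ⟨G, _, ι, hmod⟩ := exists_model (hTp.to_le hN₁T)
        (isConstrained_normalizerSystem hTp hEs hEfn hEc hNS)
      obtain ⟨hGfin, hreal, ⟨Ps, hPs⟩, hC⟩ := id hmod
      haveI := hGfin
      have hinj := hreal.1
      have hQnorm := IsModel.normal_imageAlong hmod (isNormal_normalizerSystem hQ₁.1 hNS)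
      let G₀ : Subgroup G :=
        { carrier := {a | ∃ γ ∈ nclT E Q₁, ∀ x ∈ Q₁, a * th ι x * a⁻¹ = th ι (autFun γ x)}
          one_mem' := ⟨1, Subgroup.one_mem _, fun x hx => by rw [autFun_one hx]; group⟩
          mul_mem' := by
            rintro a b ⟨γ, hγ, hγx⟩ ⟨γ', hγ', hγ'x⟩
            refine ⟨γ * γ', Subgroup.mul_mem _ hγ hγ', fun x hx => ?_⟩
            rw [autFun_mul _ _ hx, ← hγx _ (autFun_mem _ hx), ← hγ'x x hx]
            group
          inv_mem' := by
            rintro a ⟨γ, hγ, hγx⟩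
            refine ⟨γ⁻¹, Subgroup.inv_mem _ hγ, fun x hx => ?_⟩
            have h1 := hγx _ (autFun_mem γ⁻¹ hx)
            rw [autFun_autFun_inv γ hx] at h1
            rw [← h1]
            group }
      have hrange : ι.range ≤ G₀ := by
        intro a ha
        obtain ⟨n₀, hn₀, rfl⟩ := exists_th_eq ha
        obtain ⟨γ, hγ⟩ := exists_conjAut hn₀.2
        refine ⟨γ, autInducedBy_le_nclT (mem_autInducedBy_iff_cj.mpr ⟨n₀, hn₀.1, hγ⟩),
          fun x hx => ?_⟩
        rw [hγ x hx, cj_apply, th_conj ι hn₀ (hQ₁N hx)]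
      set S₀ : Sylow p G₀ := Ps.subtype (hPs.le.trans hrange) with hS₀
      have hS₀map : ((S₀ : Subgroup G₀)).map G₀.subtype = ι.range := by
        rw [hS₀, Sylow.coe_subtype, Subgroup.map_subgroupOf_eq_of_le (hPs.le.trans hrange), hPs]
      have hJmap : (JAb 0 (S₀ : Subgroup G₀)).map G₀.subtype = imageAlong ι U := by
        rw [Transfer.map_JAb _ _ G₀.subtype_injective.injOn, hS₀map, hU, imageAlong_JAb hinj]
      have hzS₀ : (⟨th ι z, hrange (th_mem_range ι z)⟩ : G₀) ∈ (S₀ : Subgroup G₀) := by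
        have h1 : th ι z ∈ ι.range := th_mem_range ι z
        rw [← hS₀map] at h1
        obtain ⟨s, hs, hse⟩ := h1
        exact (Subtype.ext hse : s = ⟨th ι z, hrange (th_mem_range ι z)⟩) ▸ hs
      set z₀ : G₀ := ⟨th ι z, hrange (th_mem_range ι z)⟩ with hz₀
      have hcomm₀ : ∀ a : G₀, a ∈ (S₀ : Subgroup G₀) → a * z₀ = z₀ * a := by
        intro a ha
        have h1 : (a : G) ∈ ι.range := hS₀map ▸ ⟨a, ha, rfl⟩
        obtain ⟨t, ht, hta⟩ := exists_th_eq h1
        refine Subtype.ext ?_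
        show (a : G) * th ι z = th ι z * (a : G)
        rw [← hta, ← th_mul ι ht hzN', ← th_mul ι hzN' ht, hzN t ht]
      -- the normaliser of `J`
      have hNJ : ∀ a : G₀, a ∈ Subgroup.normalizer
          ((JAb 0 (S₀ : Subgroup G₀) : Subgroup G₀) : Set G₀) → (orderOf a).Coprime p →
          a * z₀ = z₀ * a := by
        intro a ha hac
        obtain ⟨γ, hγ, hγx⟩ := a.2
        have hUa : ∀ x ∈ U, (a : G) * th ι x * (a : G)⁻¹ ∈ imageAlong ι U := by
          intro x hx
          have h1 : th ι x ∈ imageAlong ι U := th_mem_imageAlong hUN hx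
          rw [← hJmap] at h1
          obtain ⟨s, hs, hsx⟩ := h1
          rw [← hJmap]
          refine ⟨a * s * a⁻¹, (Subgroup.mem_normalizer_iff.mp ha s).mp hs, ?_⟩
          rw [← hsx]; simp
        set V := Q₁ ⊔ U with hV
        have hVN : V ≤ N₁ := sup_le hQ₁N hUN
        have hQa : ∀ x ∈ Q₁, (a : G) * th ι x * (a : G)⁻¹ ∈ imageAlong ι Q₁ := fun x hx => by
          rw [hγx x hx]; exact th_mem_imageAlong hQ₁N (autFun_mem γ hx)
        let Kc : Subgroup N₁ := ((imageAlong ι V).comap (MulAut.conj (a : G)).toMonoidHom).comap ι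
        have hVK : V ≤ Kc.map N₁.subtype := by
          refine sup_le (fun x hx => ⟨⟨x, hQ₁N hx⟩, ?_, rfl⟩) fun x hx => ⟨⟨x, hUN hx⟩, ?_, rfl⟩
          · show (a : G) * ι ⟨x, hQ₁N hx⟩ * (a : G)⁻¹ ∈ imageAlong ι V
            rw [← th_apply ι (hQ₁N hx)]
            exact Subgroup.map_mono (Subgroup.comap_mono le_sup_left) (hQa x hx)
          · show (a : G) * ι ⟨x, hUN hx⟩ * (a : G)⁻¹ ∈ imageAlong ι V
            rw [← th_apply ι (hUN hx)]
            exact Subgroup.map_mono (Subgroup.comap_mono le_sup_right) (hUa x hx)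
        have hVa : ∀ x ∈ V, (a : G) * th ι x * (a : G)⁻¹ ∈ imageAlong ι V := fun x hx => by
          obtain ⟨s, hs, rfl⟩ := hVK hx
          show (a : G) * th ι (s : Ω) * (a : G)⁻¹ ∈ _
          rw [th_coe]; exact hs
        obtain ⟨f, hf, hfa⟩ := IsRealizedBy.exists_mapTo hreal hVN (a : G)
          fun x hx => imageAlong_le_range (hVa x hx)
        have hfV : ∀ x ∈ V, f x ∈ V := fun x hx => by
          obtain ⟨v, hv, hve⟩ := (mem_imageAlong hVN).mp (hfa x hx ▸ hVa x hx)
          rwa [← th_inj hinj (hVN hv) (hf.mem hx) hve]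
        obtain ⟨-, -, f', hf', hf'x, -⟩ := (mapTo_nSys_iff hNS).mp hf
        have hfE : MapTo E V f := (hf'.restrict le_sup_left).congr' fun x hx => (hf'x x hx).symm
        haveI := finite_of_le ((hVN.trans hN₁T).trans hTS)
        have hfimg := img_eq_self_of_forall hfE hfV
        have hgoodV : Good F E w V := by
          rcases eq_or_lt_of_le (hVN.trans hN₁T) with he | hlt'
          · rw [he]; exact hw.2.1
          · refine hIH V (hQ₁.mono le_sup_left (hVN.trans hN₁T)) hlt' ?_ w hw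
            have hN₁V : N₁ ≤ normalizerIn T V := fun y hy => ⟨hy.1, by
              refine mem_normalizer_of_forall fun x hx => ?_
              have hUy : y ∈ Subgroup.normalizer (U : Set Ω) :=
                hU ▸ Transfer.normalizer_le_normalizer_JAb N₁ (Subgroup.le_normalizer hy)
              have hle : V ≤ V.comap (MulAut.conj y).toMonoidHom := sup_le
                (fun v hv => Subgroup.mem_sup_left ((Subgroup.mem_normalizer_iff.mp hy.2 v).mp hv))
                (fun v hv => Subgroup.mem_sup_right ((Subgroup.mem_normalizer_iff.mp hUy v).mp hv))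
              exact hle hx⟩
            have hQV : Q₁ < V := lt_of_le_of_ne le_sup_left fun he =>
              hUQ (he ▸ le_sup_right)
            have h1 : Nat.card Q₁ < Nat.card V := card_lt_of_lt hQV (hVN.trans hN₁T |>.trans hTS)
            haveI := finite_of_le ((normalizerIn_le (S := T) (P := V)).trans hTS)
            have h2 : Nat.card N₁ ≤ Nat.card (normalizerIn T V) := Subgroup.card_le_of_le hN₁V
            have h5 := Nat.mul_le_mul_right (Nat.card T + 1) h2
            rw [← hμ₁]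
            show Nat.card N₁ * (Nat.card T + 1) + Nat.card Q₁ <
              Nat.card (normalizerIn T V) * (Nat.card T + 1) + Nat.card V
            omega
        obtain ⟨e, he, hef, hew⟩ := hgoodV _ (autOf_mem hfE hfimg)
        have hfγ : ∀ x ∈ Q₁, f x = autFun γ x := fun x hx =>
          th_inj hinj (hf.mem (Subgroup.mem_sup_left hx)) (hQ₁N (autFun_mem γ hx))
            (by rw [hfa x (Subgroup.mem_sup_left hx), hγx x hx])
        have hextγ : ExtFix F (Subgroup.zpowers w) Q₁ (autFun γ) :=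
          ⟨e, he.restrict (sup_le_sup_right le_sup_left _), fun x hx => by
            rw [hef x (Subgroup.mem_sup_left hx),
              autFun_autOf hfE hfimg (Subgroup.mem_sup_left hx), hfγ x hx], hew⟩
        have hγc : (orderOf γ).Coprime p := by
          refine Nat.Coprime.coprime_dvd_left ?_ hac
          refine orderOf_dvd_of_pow_eq_one (autFun_ext fun x hx => ?_)
          have hp' : ∀ n : ℕ, ∀ x ∈ Q₁,
              (a : G) ^ n * th ι x * ((a : G) ^ n)⁻¹ = th ι (autFun (γ ^ n) x) := by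
            intro n
            induction n with
            | zero => intro x hx; rw [pow_zero, pow_zero, autFun_one hx]; group
            | succ n ih' =>
              intro x hx
              rw [pow_succ' γ, autFun_mul _ _ hx, ← hγx _ (autFun_mem _ hx), ← ih' x hx, pow_succ']
              group
          refine th_inj hinj (hQ₁N (autFun_mem _ hx)) (hQ₁N (autFun_mem _ hx)) ?_
          rw [← hp' _ x hx, ← SubmonoidClass.coe_pow, pow_orderOf_eq_one, autFun_one hx]
          simp
        obtain ⟨κ₁, hκ₁, hκ₁x⟩ := exists_lift_of_nclT hS hE.1 hQ₁ hQ₁fn hR hγ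
        obtain ⟨κ, hκ, hκc, hκx⟩ := exists_coprime_lift hQ₁.1 hTS hR hγc hκ₁ hκ₁x
        have hκw := fixed_of_mem_cSet hS hF hfc₁ hR hκ.1 hκc
          (fun x hx => by rw [hκx x hx]; exact autFun_mem γ hx) hκ.2.2 hQ₁.1 hextγ hw.1 hκx
        have hκm := mapTo_of_mem_autGroup hRS hκ.1
        have h1 := hzfix κ hκ hκc
        rw [hκm.map_mul hwR ((le_sup_left : Q₁ ≤ R) hz.1), hκw, mul_right_inj, hκx z hz.1] at h1
        refine Subtype.ext ?_
        show (a : G) * th ι z = th ι z * (a : G)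
        refine mul_inv_eq_iff_eq_mul.mp ?_
        rw [hγx z hz.1, h1]
      have hNle : Subgroup.normalizer ((JAb 0 (S₀ : Subgroup G₀) : Subgroup G₀) : Set G₀) ≤
          Subgroup.centralizer ({z₀} : Set G₀) := by
        set M := Subgroup.normalizer ((JAb 0 (S₀ : Subgroup G₀) : Subgroup G₀) : Set G₀) with hM
        have hSM : (S₀ : Subgroup G₀) ≤ M :=
          Subgroup.le_normalizer.trans (Transfer.normalizer_le_normalizer_JAb _)
        intro a ha
        have h1 : (⟨a, ha⟩ : M) ∈ (Subgroup.centralizer ({z₀} : Set G₀)).comap M.subtype := by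
          refine (sup_le ?_ ?_ : pResidual p M ⊔ _ ≤ _)
            ((Transfer.pResidual_sup_sylow (p := p) (S₀.subtype hSM)).ge (Subgroup.mem_top _))
          · rw [pResidual, Subgroup.closure_le]
            intro b hb
            refine Subgroup.mem_centralizer_iff.mpr fun c hc => ?_
            rw [Set.mem_singleton_iff.mp hc]
            exact (hNJ b b.2 (by rw [Subgroup.orderOf_coe]; exact hb)).symm
          · intro b hb
            rw [Sylow.coe_subtype, Subgroup.mem_subgroupOf] at hb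
            refine Subgroup.mem_centralizer_iff.mpr fun c hc => ?_
            rw [Set.mem_singleton_iff.mp hc]
            exact (hcomm₀ _ hb).symm
        exact h1
      have hQcore : (imageAlong ι Q₁).subgroupOf G₀ ≤ pCore p G₀ := by
        haveI := hQnorm
        refine le_pCore inferInstance ?_
        have hp' : IsPGroup p (imageAlong ι Q₁) := by
          rw [imageAlong]
          exact ((hS.to_le hQ₁S).of_equiv (Subgroup.subgroupOfEquivOfLe hQ₁N).symm).map _
        exact hp'.comap_of_injective _ (Subgroup.subtype_injective _)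
      have hC₀ : Subgroup.centralizer ((pCore p G₀ : Subgroup G₀) : Set G₀) ≤ pCore p G₀ := by
        intro c hc
        obtain ⟨q, hq, -, hqc⟩ := IsModel.centralizer_eq hmod
          (isNormal_normalizerSystem hQ₁.1 hNS) (isCentric_normalizerSystem hEc hNS) (c := (c : G))
          fun x hx => by
            have hmem : (⟨th ι x, hrange (th_mem_range ι x)⟩ : G₀) ∈ pCore p G₀ :=
              hQcore (Subgroup.mem_subgroupOf.mpr (th_mem_imageAlong hQ₁N hx))
            exact (congrArg Subtype.val ((Subgroup.mem_centralizer_iff.mp hc) _ hmem)).symm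
        refine hQcore (Subgroup.mem_subgroupOf.mpr ?_)
        rw [hqc]; exact th_mem_imageAlong hQ₁N hq
      have hall := Transfer.commute_of_normalizer_J S₀ z₀ hzS₀
        (Subgroup.mem_centralizer_iff.mpr fun a ha => hcomm₀ a ha) hC₀ hNle (Or.inl hp)
      -- so `α` fixes `z`
      have hαE := nclT_le hQ₁.1 hα
      have hαNS : MapTo NS Q₁ (autFun α) := (mapTo_nSys_iff hNS).mpr
        ⟨hQ₁N, fun x hx => hQ₁N (autFun_mem α hx), autFun α,
          by rw [sup_idem]; exact mapTo_of_mem_autGroup hQ₁.1 hαE, fun _ _ => rfl, img_autFun α⟩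
      obtain ⟨a, ha⟩ := IsRealizedBy.exists_conj hreal hαNS
      have haG : a ∈ G₀ := ⟨α, hα, fun x hx => (ha x hx).symm⟩
      have hαz : autFun α z = z := by
        refine th_inj hinj (hQ₁N (autFun_mem α hz.1)) hzN' ?_
        have h1 : a * th ι z = th ι z * a := congrArg Subtype.val (hall ⟨a, haG⟩)
        rw [ha z hz.1, h1, mul_inv_cancel_right]
      have h1 := hzfix θ hθ hθc
      rw [hθm.map_mul hwR ((le_sup_left : Q₁ ≤ R) hz.1), hθα z hz.1, hαz, mul_left_inj] at h1
      exact h1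
  -- assembling
  have hQS := hQ.1.trans hTS
  obtain ⟨Q₀, hQ₀c, hQ₀fn⟩ := exists_isFullyNormalized (F := F) hQS
  obtain ⟨φ, hφ, hφQ⟩ := exists_map_normalizerIn hS
    (isFullyAutomized_of_isFullyNormalized hS hF hQ₀fn)
    (isReceptive_of_isFullyNormalized hS hF hQ₀fn) hQ₀c
  have hNS : N ≤ normalizerIn S Q := fun x hx => ⟨hTS hx.1, hx.2⟩
  have hge : ∀ {ψ : Ω → Ω}, MapTo F (normalizerIn S Q) ψ →
      μ Q ≤ μ (img ψ Q) ∧ (μ Q = μ (img ψ Q) →
        Nat.card (normalizerIn T (img ψ Q)) = Nat.card N ∧ img ψ N = normalizerIn T (img ψ Q)) := by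
    intro ψ hψ
    haveI := finite_of_le ((normalizerIn_le (S := T) (P := img ψ Q)).trans hTS)
    have hle := hNμ (hψ.restrict hNS) rfl
    have h1 : Nat.card N ≤ Nat.card (normalizerIn T (img ψ Q)) := by
      rw [← hψ.card_img hNS]; exact Subgroup.card_le_of_le hle
    have h2 : Nat.card (img ψ Q) = Nat.card Q := hψ.card_img (le_normalizerIn hQS)
    have h5 := Nat.mul_le_mul_right (Nat.card T + 1) h1
    refine ⟨?_, fun he => ?_⟩
    · show Nat.card N * (Nat.card T + 1) + Nat.card Q ≤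
        Nat.card (normalizerIn T (img ψ Q)) * (Nat.card T + 1) + Nat.card (img ψ Q)
      omega
    · change Nat.card N * (Nat.card T + 1) + Nat.card Q =
        Nat.card (normalizerIn T (img ψ Q)) * (Nat.card T + 1) + Nat.card (img ψ Q) at he
      have h6 : Nat.card (normalizerIn T (img ψ Q)) = Nat.card N := by
        have : Nat.card N * (Nat.card T + 1) =
            Nat.card (normalizerIn T (img ψ Q)) * (Nat.card T + 1) := by omega
        exact (Nat.eq_of_mul_eq_mul_right (by omega) this).symm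
      exact ⟨h6, Subgroup.eq_of_le_of_card_ge hle
        (le_of_eq (by rw [hψ.card_img hNS]; exact h6))⟩
  obtain ⟨hle, heq⟩ := hge hφ
  rcases lt_or_eq_of_le hle with hlt' | hμeq
  · exact hmove φ hφ hlt' u hu
  obtain ⟨hcard₀, himgN⟩ := heq hμeq
  rw [hφQ] at hμeq hcard₀ himgN
  set U₀ := JAb 0 (normalizerIn T Q₀) with hU₀
  by_cases hU₀Q : U₀ ≤ Q₀
  · -- move to a fully normalised conjugate of `J`
    have hQ₀T : Q₀ ≤ T := by
      rw [← hφQ]
      exact (hQ.img hsc (hφ.restrict (le_normalizerIn hQS))).1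
    have hU₀S : U₀ ≤ S := (hU₀Q.trans hQ₀T).trans hTS
    obtain ⟨U₁, hU₁c, hU₁fn⟩ := exists_isFullyNormalized (F := F) hU₀S
    obtain ⟨ψ, hψ, hψU⟩ := exists_map_normalizerIn hS
      (isFullyAutomized_of_isFullyNormalized hS hF hU₁fn)
      (isReceptive_of_isFullyNormalized hS hF hU₁fn) hU₁c
    have hN₀S : normalizerIn S Q₀ ≤ normalizerIn S U₀ := fun y hy => ⟨hy.1, by
      refine Transfer.normalizer_le_normalizer_JAb _ ?_
      haveI := finite_of_le ((normalizerIn_le (S := T) (P := Q₀)).trans hTS)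
      refine mem_normalizer_of_forall fun x hx =>
        ⟨(Subgroup.mem_normalizer_iff.mp (StronglyClosed.le_normalizer hsc hy.1) x).mp hx.1,
          Subgroup.mul_mem _ (Subgroup.mul_mem _ hy.2 hx.2) (Subgroup.inv_mem _ hy.2)⟩⟩
    have hφmem : ∀ x ∈ normalizerIn S Q, φ x ∈ normalizerIn S Q₀ := fun x hx => by
      rw [← hφQ]; exact hφ.map_mem_normalizerIn (le_normalizerIn hQS) hx hx
    have hχ : MapTo F (normalizerIn S Q) fun x => ψ (φ x) :=
      hφ.comp hψ fun x hx => hN₀S (hφmem x hx)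
    set Q₁ := img (fun x => ψ (φ x)) Q with hQ₁
    obtain ⟨hle₁, heq₁⟩ := hge hχ
    rcases lt_or_eq_of_le hle₁ with hlt₁ | hμeq₁
    · exact hmove _ hχ hlt₁ u hu
    obtain ⟨hcard₁, himgN₁⟩ := heq₁ hμeq₁
    refine hpull _ hχ (fun w hw => ?_) u hu
    have hQ₁HT : HT F T Q₁ := hQ.img hsc (hχ.restrict (le_normalizerIn hQS))
    rcases eq_or_lt_of_le hQ₁HT.1 with he | hQ₁lt
    · show Good F E w Q₁
      rw [he]; exact hw.2.1
    have hQ₁e : Q₁ = img ψ Q₀ := by
      rw [hQ₁, ← hφQ, (hφ.restrict (le_normalizerIn hQS)).img_img le_rfl]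
    have hQ₀N : Q₀ ≤ normalizerIn S U₀ := (le_normalizerIn (hQ₀T.trans hTS)).trans hN₀S
    have hQ₁fn : F.IsFullyNormalized Q₁ := by
      refine ⟨hQ₁HT.1.trans hTS, fun Z hZ => ?_⟩
      have hc1 : F.IsConj Q₀ Q₁ := hQ₁e ▸ (hψ.restrict hQ₀N).isConj
      refine (hQ₀fn.2 Z (isConj_trans hc1 hZ)).trans ?_
      rw [← hψ.card_img hN₀S]
      haveI := finite_of_le (normalizerIn_le (S := S) (P := Q₁))
      refine Subgroup.card_le_of_le (img_le_of_forall fun x hx => ?_)
      rw [hQ₁e]
      exact hψ.map_mem_normalizerIn hQ₀N (hN₀S hx) hx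
    refine hcore2 Q₁ hQ₁HT hQ₁lt hQ₁fn hμeq₁.symm hcard₁ U₁ ?_ (fun _ => hU₁fn) w hw
    have hN₀S' : normalizerIn T Q₀ ≤ normalizerIn S U₀ :=
      fun x hx => hN₀S ⟨hTS hx.1, hx.2⟩
    rw [← hψU, hU₀, img_JAb (hψ.restrict hN₀S')]
    congr 1
    rw [← himgN₁, ← himgN, (hφ.restrict hNS).img_img le_rfl]
  · refine hpull φ hφ (fun w hw => ?_) u hu
    rw [hφQ]
    have hQ₀HT : HT F T Q₀ := hφQ ▸ hQ.img hsc (hφ.restrict (le_normalizerIn hQS))
    rcases eq_or_lt_of_le hQ₀HT.1 with he | hQ₀lt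
    · rw [he]; exact hw.2.1
    exact hcore2 Q₀ hQ₀HT hQ₀lt hQ₀fn hμeq.symm hcard₀ U₀ hU₀ (fun h => absurd h hU₀Q) w hw

/-- For `p` odd every element of `C_S(T)` is, up to `Z(T)`, centralized by `E`. -/
theorem exists_centralizing (hS : IsPGroup p S) (hp : p ≠ 2) (hE : E.IsNormalIn F p) {y : Ω}
    (hy : y ∈ centralizerIn S T) : ∃ z ∈ T, y * z ∈ CentralizerOfNormal.cSet F E := by
  haveI : Finite T := finite_of_le hE.1.2.2.2.1.1
  obtain ⟨z, hz, hu⟩ := exists_start hS hE hy
  refine ⟨z, hz, hu.1, fun P f hf => ?_⟩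
  haveI := finite_of_le hf.le
  exact extFix_big hS hE.1 hu.1 hu.2.1 0
    (fun R hR hRlt _ => good_of_start hS hp hE R hR hRlt _ hu) hf Nat.card_pos

end Cfsg.Agent.Components.CentralizerInT
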