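import Cfsg.Agent.Lib.Fusion.FocalCentralizerMain

/-!
For a normal subsystem `E` over `T` of `F`: the subgroup `C_S(E)`.
-/

set_option autoImplicit false
set_option linter.style.haveILetI false
set_option linter.unusedSimpArgs false
set_option linter.unusedSectionVars false
set_option linter.unusedVariables false

namespace Cfsg.Agent.Components.CentralizerOfNormal

open Cfsg.FusionSystem (centralizerIn normalizerIn)
open Cfsg.Agent.Fusion

universe u

variable {Ω : Type u} [Group Ω] {S T : Subgroup Ω} {F : FusionSystem S} {E : FusionSystem T}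
variable {p : ℕ} [Finite S] [Fact p.Prime]

/-- The elements of `C_S(T)` fixed by extensions of all maps of `E`. -/
def cSet (F : FusionSystem S) (E : FusionSystem T) : Set Ω :=
  {c | c ∈ centralizerIn S T ∧
    ∀ (P : Subgroup Ω) (f : Ω → Ω), MapTo E P f → ExtFix F (Subgroup.zpowers c) P f}

/-- An automorphism of order prime to `p` of `P C_S(P)`, trivial modulo `P` on `C_S(P)`, fixes each
element over which its restriction to `P` extends trivially. -/
theorem fixed_of_mem_cSet (hS : IsPGroup p S) (hF : F.IsSaturated p) {P : Subgroup Ω}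
    (hP : F.IsFullyCentralized P) {Q : Subgroup Ω} (hQdef : Q = P ⊔ centralizerIn S P)
    {θ : MulAut Q} (hθ : θ ∈ F.autGroup Q) (hcop : (orderOf θ).Coprime p)
    (hθP : ∀ x ∈ P, autFun θ x ∈ P) (hθC : ∀ c ∈ centralizerIn S P, c⁻¹ * autFun θ c ∈ P)
    (hPT : P ≤ T) {α : MulAut P} {c : Ω}
    (hext : ExtFix F (Subgroup.zpowers c) P (autFun α)) (hc : c ∈ centralizerIn S T)
    (hθα : ∀ x ∈ P, autFun θ x = autFun α x) : autFun θ c = c := by
  obtain ⟨g, hg, hgα, hgc⟩ := hext
  have hPQ : P ≤ Q := hQdef ▸ le_sup_left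
  have hCQ : centralizerIn S P ≤ Q := hQdef ▸ le_sup_right
  have hcP : c ∈ centralizerIn S P := centralizerIn_anti hPT hc
  have hZ : Subgroup.zpowers c ≤ centralizerIn S P := Subgroup.zpowers_le.mpr hcP
  have hQS : Q ≤ S := hQdef ▸ sup_le hP.1 centralizerIn_le
  have hm := mapTo_of_mem_autGroup hQS hθ
  have hDQ : P ⊔ Subgroup.zpowers c ≤ Q := sup_le hPQ (hZ.trans hCQ)
  haveI := finite_of_le hP.1
  obtain ⟨k, hk, hkg, -, -⟩ := hg.exists_iso_inverse
  rw [hg.img_sup le_sup_left le_sup_right, img_congr hgα, img_autFun, img_congr hgc, img_id] at hk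
  have hkc : k c = c := by
    conv_lhs => rw [← hgc c (Subgroup.mem_zpowers c)]
    exact hkg c (Subgroup.mem_sup_right (Subgroup.mem_zpowers c))
  have hkP : ∀ x ∈ P, k x = autFun α⁻¹ x := fun x hx => by
    conv_lhs => rw [← autFun_autFun_inv α hx, ← hgα _ (autFun_mem _ hx)]
    exact hkg _ (Subgroup.mem_sup_left (autFun_mem _ hx))
  have hkQ : ∀ y ∈ P ⊔ Subgroup.zpowers c, k y ∈ Q := by
    intro y hy
    have h1 : img k (P ⊔ Subgroup.zpowers c) ≤ Q := by
      rw [hk.img_sup le_sup_left le_sup_right]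
      refine sup_le (img_le_of_forall fun x hx => hPQ (by rw [hkP x hx]; exact autFun_mem _ hx))
        (img_le_of_forall fun z hz => ?_)
      have hzfix : k z = z := by
        conv_lhs => rw [← hgc z hz]
        exact hkg z (Subgroup.mem_sup_right hz)
      rw [hzfix]; exact hCQ (hZ hz)
    exact h1 (mem_img_of_mem hy)
  set e : Ω → Ω := fun y => autFun θ (k y) with he
  have hem : MapTo F (P ⊔ Subgroup.zpowers c) e := hk.comp hm hkQ
  have heP : ∀ x ∈ P, e x = x := fun x hx => by
    show autFun θ (k x) = x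
    rw [hkP x hx, hθα _ (autFun_mem _ hx), autFun_autFun_inv α hx]
  have heC : ∀ z ∈ Subgroup.zpowers c, e z ∈ centralizerIn S P := fun z hz => by
    have h1 := hem.map_mem_centralizerIn (le_sup_left : P ≤ P ⊔ Subgroup.zpowers c)
      (Subgroup.mem_sup_right hz) (hZ hz)
    rwa [img_congr heP, img_id] at h1
  have hD : MapTo (cSys F hP.1) (Subgroup.zpowers c) e :=
    (mapTo_cSys_iff (isCentralizerSystem_cSys F hP.1)).mpr
      ⟨hZ, heC, e, by rwa [sup_comm], fun _ _ => rfl, heP⟩
  have hfix := focal_fixed hS hF hP hQdef hθ hcop hθP hθC hD (Subgroup.mem_zpowers c)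
  have hec : e c = autFun θ c := by show autFun θ (k c) = _; rw [hkc]
  rw [hec] at hfix
  set z := c⁻¹ * autFun θ c with hz
  have hzP : z ∈ P := hθC c hcP
  have hpow : ∀ n : ℕ, autFun (θ ^ n) c = c * z ^ n := by
    intro n
    induction n with
    | zero => rw [pow_zero, pow_zero, mul_one, autFun_one (hCQ hcP)]
    | succ n ih =>
      have hzn : autFun θ (z ^ n) = z ^ n := by
        clear ih
        induction n with
        | zero => rw [pow_zero, hm.map_one]
        | succ n ih' => rw [pow_succ, hm.map_mul (Q.pow_mem (hPQ hzP) n) (hPQ hzP), hfix, ih']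
      rw [pow_succ' θ, autFun_mul _ _ (hCQ hcP), ih,
        hm.map_mul (hCQ hcP) (Q.pow_mem (hPQ hzP) n), hzn, pow_succ', ← mul_assoc]
      congr 1
      rw [hz, mul_inv_cancel_left]
  have h1 := hpow (orderOf θ)
  rw [pow_orderOf_eq_one, autFun_one (hCQ hcP), left_eq_mul] at h1
  obtain ⟨e', he'⟩ := hS ⟨z, hP.1 hzP⟩
  have he'' : z ^ p ^ e' = 1 := congrArg Subtype.val he'
  have hz1 : z = 1 := Transfer.eq_one_of_pow_of_coprime (p := p)
    ⟨e', orderOf_dvd_of_pow_eq_one he''⟩
    (Nat.Coprime.coprime_dvd_left (orderOf_dvd_of_pow_eq_one h1) hcop)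
  exact (inv_mul_eq_one.mp hz1).symm

omit [Finite S] [Fact p.Prime] in
theorem img_zpowers {D : Subgroup Ω} {a : Ω → Ω} (ha : MapTo F D a) {c : Ω} (hc : c ∈ D) :
    img a (Subgroup.zpowers c) = Subgroup.zpowers (a c) := by
  refine le_antisymm (img_le_of_forall ?_)
    (Subgroup.zpowers_le.mpr (mem_img_of_mem (Subgroup.mem_zpowers c)))
  rintro _ ⟨n, rfl⟩
  obtain ⟨φ, -, hφ⟩ := id ha
  refine ⟨n, ?_⟩
  show a c ^ n = a (c ^ n)
  have h2 : φ ((⟨c, hc⟩ : D) ^ n) = a (c ^ n) := (hφ _).trans (by rw [SubgroupClass.coe_zpow])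
  rw [← h2, map_zpow, hφ]

/-- `cSet` is invariant under maps normalizing `T`. -/
theorem cSet_transport (hS : IsPGroup p S) (hF : F.IsSaturated p) (hi : E.IsInvariantIn F)
    {a : Ω → Ω} {c : Ω} (ha : MapTo F (T ⊔ Subgroup.zpowers c) a) (haT : img a T = T)
    (hc : c ∈ cSet F E) : a c ∈ cSet F E := by
  obtain ⟨hcC, hcE⟩ := hc
  refine ⟨haT ▸ ha.map_mem_centralizerIn le_sup_left (Subgroup.mem_sup_right (Subgroup.mem_zpowers c)) hcC,
    fun P f hf => ?_⟩
  have hTS := hi.2.1.1
  have haT' : MapTo F T a := ha.restrict le_sup_left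
  set α := autOf haT' haT with hα
  have hαG : α ∈ F.autGroup T := autOf_mem haT' haT
  have hPT : P ≤ T := hf.le
  obtain ⟨g, hg, hgx⟩ := IsInvariantIn.transport hi hPT hf (Subgroup.inv_mem _ hαG)
  obtain ⟨e, he, heg, hec⟩ := hcE _ g hg
  obtain ⟨b, hb, hba, -, -⟩ := ha.exists_iso_inverse
  have hαi : ∀ x ∈ T, a (autFun α⁻¹ x) = x := fun x hx => by
    rw [← autFun_autOf haT' haT (autFun_mem _ hx)]
    exact autFun_autFun_inv α hx
  have hbT : ∀ x ∈ T, b x = autFun α⁻¹ x := fun x hx => by
    conv_lhs => rw [← hαi x hx]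
    exact hba _ (Subgroup.mem_sup_left (autFun_mem _ hx))
  have hbc : ∀ z ∈ Subgroup.zpowers (a c), z ∈ img a (T ⊔ Subgroup.zpowers c) ∧
      b z ∈ Subgroup.zpowers c := by
    intro z hz
    have hzp : Subgroup.zpowers (a c) = img a (Subgroup.zpowers c) :=
      (img_zpowers ha (Subgroup.mem_sup_right (Subgroup.mem_zpowers c))).symm
    rw [hzp] at hz
    have hle : Subgroup.zpowers c ≤ T ⊔ Subgroup.zpowers c :=
      Subgroup.zpowers_le.mpr (Subgroup.mem_sup_right (Subgroup.mem_zpowers c))
    obtain ⟨w, hw, rfl⟩ := (ha.mem_img_iff hle).mp hz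
    exact ⟨mem_img_of_mem (hle hw), by rw [hba w (hle hw)]; exact hw⟩
  have hdom : P ⊔ Subgroup.zpowers (a c) ≤ img a (T ⊔ Subgroup.zpowers c) :=
    sup_le (hPT.trans (haT.ge.trans (img_mono le_sup_left))) fun z hz => (hbc z hz).1
  have hb' := hb.restrict hdom
  have hbmem : ∀ y ∈ P ⊔ Subgroup.zpowers (a c),
      b y ∈ img (autFun α⁻¹) P ⊔ Subgroup.zpowers c := by
    intro y hy
    have h1 : img b (P ⊔ Subgroup.zpowers (a c)) ≤
        img (autFun α⁻¹) P ⊔ Subgroup.zpowers c := by
      rw [hb'.img_sup le_sup_left le_sup_right]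
      refine sup_le (le_trans (img_le_of_forall fun x hx => ?_) le_sup_left)
        (le_trans (img_le_of_forall fun z hz => (hbc z hz).2) le_sup_right)
      rw [hbT x (hPT hx)]
      exact mem_img_of_mem hx
    exact h1 (mem_img_of_mem hy)
  have heU : ∀ y ∈ img (autFun α⁻¹) P ⊔ Subgroup.zpowers c,
      e y ∈ T ⊔ Subgroup.zpowers c := by
    intro y hy
    have h1 : img e (img (autFun α⁻¹) P ⊔ Subgroup.zpowers c) ≤ T ⊔ Subgroup.zpowers c := by
      rw [he.img_sup le_sup_left le_sup_right, img_congr hec, img_id]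
      refine sup_le (le_trans (img_le_of_forall fun x hx => ?_) le_sup_left)
        (Subgroup.zpowers_le.mpr (Subgroup.mem_sup_right (Subgroup.mem_zpowers c)))
      rw [heg x hx]; exact hg.mem hx
    exact h1 (mem_img_of_mem hy)
  refine ⟨fun y => a (e (b y)), (hb'.comp he hbmem).comp ha fun y hy => heU _ (hbmem y hy),
    fun x hx => ?_, fun z hz => ?_⟩
  · show a (e (b x)) = f x
    rw [hbT x (hPT hx), heg _ (mem_img_of_mem hx), hgx x hx, hαi _ (hf.mem hx)]
  · obtain ⟨h1, h2⟩ := hbc z hz
    show a (e (b z)) = z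
    rw [hec _ h2]
    obtain ⟨w, hw, rfl⟩ := (ha.mem_img_iff le_rfl).mp h1
    rw [hba w hw]

/-- `cSet` is invariant under the automorphisms of `T C_S(T)` stabilizing `T`. -/
theorem cSet_invariant (hS : IsPGroup p S) (hF : F.IsSaturated p) (hi : E.IsInvariantIn F)
    {a : Ω → Ω} (ha : MapTo F (T ⊔ centralizerIn S T) a) (haT : img a T = T) {c : Ω}
    (hc : c ∈ cSet F E) : a c ∈ cSet F E :=
  cSet_transport hS hF hi (ha.restrict (sup_le_sup_left (Subgroup.zpowers_le.mpr hc.1) T)) haT hc

/-- The subgroup generated by the elements centralizing `E` centralizes `E`. -/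
theorem extFix_cSet (hS : IsPGroup p S) (hE : E.IsNormalIn F p) (hTS : T ≤ S)
    {P : Subgroup Ω} {f : Ω → Ω} (hf : MapTo E P f) :
    ExtFix F (Subgroup.closure (cSet F E)) P f := by
  classical
  obtain ⟨⟨hEs, hFs, hEi⟩, hext⟩ := hE
  haveI : Finite T := finite_of_le hTS
  have hTp : IsPGroup p T := hS.to_le hTS
  have hTn : S ≤ Subgroup.normalizer (T : Set Ω) := StronglyClosed.le_normalizer hEi.2.1
  have hTfn : F.IsFullyNormalized T := isFullyNormalized_of_normal hTS hTn
  set X := Subgroup.closure (cSet F E) with hXdef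
  have hXC : X ≤ centralizerIn S T := (Subgroup.closure_le _).mpr fun c hc => hc.1
  have hXS : X ≤ S := hXC.trans centralizerIn_le
  have hXfix : ∀ {t x : Ω}, t ∈ T → x ∈ X → t * x * t⁻¹ = x := fun ht hx => by
    rw [(mem_centralizerIn.mp (hXC hx)).2 _ ht, mul_inv_cancel_right]
  -- `X` is invariant under `Aut_F(T ⊔ C_S(T))`
  set U := T ⊔ centralizerIn S T with hUdef
  have hXU : X ≤ U := hXC.trans le_sup_right
  have hinvX : ∀ {a : Ω → Ω}, MapTo F U a → img a T = T → ∀ x ∈ X, a x ∈ X := by
    intro a ha haT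
    intro y hy
    rw [hXdef] at hy
    induction hy using Subgroup.closure_induction with
    | mem w hw =>
      exact Subgroup.subset_closure (cSet_invariant hS hFs hEi ha haT hw)
    | one => rw [ha.map_one]; exact X.one_mem
    | mul b c hb hc ihb ihc =>
      rw [← hXdef] at hb hc
      rw [ha.map_mul (hXU hb) (hXU hc)]
      exact X.mul_mem ihb ihc
    | inv b hb ihb =>
      rw [← hXdef] at hb
      rw [ha.map_inv (hXU hb)]
      exact X.inv_mem ihb
  -- fully normalized in `F` implies fully normalized in `E`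
  have hfnE : ∀ {P : Subgroup Ω}, P ≤ T → F.IsFullyNormalized P → E.IsFullyNormalized P := by
    intro P hPT hPfn
    refine ⟨hPT, fun P' hP' => ?_⟩
    obtain ⟨g, hg, hgP⟩ := exists_isStd hS hFs hPfn
      (isConj_symm (IsSubsystemOf.isConj hEi.1 hP'))
    haveI : Finite ↥(normalizerIn T P) := finite_of_le (inf_le_left.trans hTS)
    have hle : normalizerIn T P' ≤ normalizerIn S P' := inf_le_inf_right _ hTS
    refine Nat.card_le_card_of_injective (fun x => ⟨g x, ?_⟩) ?_
    · refine ⟨StronglyClosed.map_mem hEi.2.1 hg (hle x.2) x.2.1, ?_⟩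
      have hP'le : P' ≤ normalizerIn S P' := le_normalizerIn (isConj_le_right (IsSubsystemOf.isConj hEi.1 hP'))
      haveI : Finite P := finite_of_le (hPT.trans hTS)
      refine mem_normalizer_of_forall fun y hy => ?_
      obtain ⟨w, hw, rfl⟩ := (hg.mem_img_iff hP'le).mp (hgP.ge hy)
      rw [← hg.map_conj (hle x.2) (hP'le hw)]
      exact hgP.le (mem_img_of_mem (conj_mem_of_mem_normalizerIn (hle x.2) hw))
    · intro x y hxy
      exact Subtype.ext (hg.inj (hle x.2) (hle y.2) (congrArg Subtype.val hxy))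
  -- the main step
  have hcore : ∀ P ≤ T, F.IsFullyNormalized P → centralizerIn T P ≤ P →
      (∀ (R : Subgroup Ω) (g : Ω → Ω), Nat.card P < Nat.card R → MapTo E R g → ExtFix F X R g) →
      ∀ α ∈ E.autGroup P, ExtFix F X P (autFun α) := by
    intro P hPT hPfn hCTP hIH
    have hPS : P ≤ S := hPT.trans hTS
    haveI := finite_of_le hPS
    haveI := finite_mulAut P
    have hPfc : F.IsFullyCentralized P := isFullyCentralized_of_isFullyNormalized hS hFs hPfn
    have hEfn := hfnE hPT hPfn
    have hXP : X ≤ centralizerIn S P := hXC.trans (centralizerIn_anti hPT)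
    let G : Subgroup (MulAut P) :=
      { carrier := {α | α ∈ E.autGroup P ∧ ExtFix F X P (autFun α)}
        one_mem' := ⟨Subgroup.one_mem _, fun x => x, mapTo_id F (sup_le hPS hXS),
          fun x hx => (autFun_one hx).symm, fun _ _ => rfl⟩
        mul_mem' := by
          rintro a b ⟨ha, ha'⟩ ⟨hb, hb'⟩
          exact ⟨Subgroup.mul_mem _ ha hb, (hb'.comp ha' fun x hx => autFun_mem b hx).congr'
            fun x hx => autFun_mul _ _ hx⟩
        inv_mem' := by
          rintro a ⟨ha, ha'⟩
          exact ⟨Subgroup.inv_mem _ ha, ha'.inverse (img_autFun a)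
            fun x hx => autFun_inv_autFun a hx⟩ }
    have hGinn : autInducedBy T P ≤ G := by
      intro α hα
      obtain ⟨t, ht, htx⟩ := mem_autInducedBy_iff_cj.mp hα
      exact ⟨autInducedBy_le_autGroup hPT hα, cj t,
        mapTo_cj (sup_le hPS hXS) (hTS ht), fun x hx => (htx x hx).symm, fun x hx => hXfix ht hx⟩
    -- automorphisms with a lift centralizing `C_S(P)` modulo `P`
    set Q := P ⊔ centralizerIn S P with hQdef
    have hQS : Q ≤ S := sup_le hPS centralizerIn_le
    haveI := finite_of_le hQS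
    haveI := finite_mulAut Q
    have hlift : ∀ (α : MulAut P) (θ : MulAut Q), α ∈ E.autGroup P → θ ∈ F.autGroup Q →
        (∀ x ∈ P, autFun θ x = autFun α x) → (orderOf α).Coprime p →
        (∀ c ∈ centralizerIn S P, c⁻¹ * autFun θ c ∈ P) → α ∈ G := by
      intro α θ hα hθ hθα hcop hθc
      obtain ⟨a, b, ha, hb, hab, ⟨j, hj⟩, hbc⟩ := Transfer.exists_pPart_mul (p := p) θ
      have hθP : ∀ x ∈ P, autFun θ x ∈ P := fun x hx => hθα x hx ▸ autFun_mem α hx
      have hQP : P ≤ Q := le_sup_left
      have hm := mapTo_of_mem_autGroup hQS hθ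
      -- powers of `θ` behave like `θ`
      have hpow : ∀ n : ℕ, (∀ x ∈ P, autFun (θ ^ n) x = autFun (α ^ n) x) ∧
          ∀ c ∈ centralizerIn S P, c⁻¹ * autFun (θ ^ n) c ∈ P := by
        intro n
        induction n with
        | zero => exact ⟨fun x hx => by rw [pow_zero, pow_zero, autFun_one hx, autFun_one (hQP hx)],
            fun c hc => by rw [pow_zero, autFun_one ((le_sup_right : centralizerIn S P ≤ Q) hc),
              inv_mul_cancel]; exact P.one_mem⟩
        | succ n ih =>
          refine ⟨fun x hx => ?_, fun c hc => ?_⟩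
          · rw [pow_succ' θ, pow_succ' α, autFun_mul _ _ (hQP hx), autFun_mul _ _ hx, ih.1 x hx,
              hθα _ (autFun_mem (α ^ n) hx)]
          · have hcQ := (le_sup_right : centralizerIn S P ≤ Q) hc
            have hv : c⁻¹ * autFun (θ ^ n) c ∈ P := ih.2 c hc
            rw [pow_succ' θ, autFun_mul _ _ hcQ,
              show autFun (θ ^ n) c = c * (c⁻¹ * autFun (θ ^ n) c) by group,
              hm.map_mul hcQ (hQP hv), ← mul_assoc]
            exact P.mul_mem (hθc c hc) (hθP _ hv)
      obtain ⟨i, rfl⟩ := Submonoid.mem_powers_iff _ _ |>.mp ((mem_powers_iff_mem_zpowers).mpr hb)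
      obtain ⟨k, rfl⟩ := Submonoid.mem_powers_iff _ _ |>.mp ((mem_powers_iff_mem_zpowers).mpr ha)
      have hak : α ^ k = 1 := by
        refine Transfer.eq_one_of_pow_of_coprime (p := p) ⟨j, orderOf_dvd_of_pow_eq_one ?_⟩
          (Nat.Coprime.coprime_dvd_left (orderOf_dvd_of_pow_eq_one ?_) hcop)
        · refine autFun_ext fun x hx => ?_
          rw [← pow_mul, ← (hpow _).1 x hx, pow_mul, orderOf_dvd_iff_pow_eq_one.mp hj,
            autFun_one (hQP hx), autFun_one hx]
        · rw [← pow_mul, mul_comm, pow_mul, pow_orderOf_eq_one, one_pow]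
      have hαi : ∀ x ∈ P, autFun (θ ^ i) x = autFun α x := fun x hx => by
        have h1 := hθα x hx
        rw [← hab, autFun_mul _ _ (hQP hx), (hpow i).1 x hx,
          (hpow k).1 _ (autFun_mem (α ^ i) hx), hak, autFun_one (autFun_mem _ hx)] at h1
        rw [(hpow i).1 x hx]; exact h1
      refine ⟨hα, autFun (θ ^ i), (mapTo_of_mem_autGroup hQS (Subgroup.pow_mem _ hθ i)).restrict
        (sup_le hQP (hXP.trans le_sup_right)), hαi, ?_⟩
      intro y hy
      have hbF : θ ^ i ∈ F.autGroup Q := Subgroup.pow_mem _ hθ i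
      have hmi := mapTo_of_mem_autGroup hQS hbF
      have hXQ : X ≤ Q := hXP.trans le_sup_right
      rw [hXdef] at hy
      induction hy using Subgroup.closure_induction with
      | mem w hw =>
        exact fixed_of_mem_cSet hS hFs hPfc hQdef hbF hbc
          (fun z hz => (hαi z hz).symm ▸ autFun_mem α hz) (hpow i).2 hPT
          (hw.2 P _ (mapTo_of_mem_autGroup hPT hα)) hw.1 hαi
      | one => exact hmi.map_one
      | mul b c hb hc ihb ihc =>
        rw [hmi.map_mul (hXQ hb) (hXQ hc), ihb, ihc]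
      | inv b hb ihb => rw [hmi.map_inv (hXQ hb), ihb]
    obtain ⟨-, Rs, hRs⟩ := isFullyAutomized_of_isFullyNormalized hTp hEs hEfn
    by_cases hPeq : P = T
    · subst hPeq
      intro α hα
      obtain ⟨a, b, -, -, hab, ⟨j, hj⟩, hb⟩ :=
        Transfer.exists_pPart_mul (p := p) (⟨α, hα⟩ : E.autGroup P)
      have hab' : (a : MulAut P) * (b : MulAut P) = α := congrArg Subtype.val hab
      rw [← hab']
      refine (G.mul_mem ?_ ?_).2
      · refine hGinn ?_
        rw [← inn_eq_autInducedBy]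
        refine mem_of_pow_eq_one_of_normal hTp
          (isFullyAutomized_of_isFullyNormalized hTp hEs hEfn)
          (normal_inn_subgroupOf E P) (autInducedBy_self_eq_inn).le a.2 (k := j) ?_
        rw [← SubgroupClass.coe_pow, orderOf_dvd_iff_pow_eq_one.mp hj]; rfl
      · obtain ⟨β, hβ, hβT, hβc⟩ := hext b b.2
        refine hlift b β b.2 hβ (fun x hx => ?_) (by rwa [Subgroup.orderOf_coe]) fun c hc => ?_
        · rw [autFun_apply β ((le_sup_left : P ≤ P ⊔ centralizerIn S P) hx), autFun_apply _ hx]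
          exact hβT ⟨x, hx⟩
        · have hcU := (le_sup_right : centralizerIn S P ≤ P ⊔ centralizerIn S P) hc
          rw [autFun_apply β hcU]
          exact (hβc ⟨c, hcU⟩ hc).1
    -- `P < T`
    let J : Subgroup (MulAut P) :=
      { carrier := {α | α ∈ E.autGroup P ∧ ∃ θ ∈ F.autGroup Q, (∀ x ∈ P, autFun θ x = autFun α x) ∧
          ∀ c ∈ centralizerIn S P, c⁻¹ * autFun θ c ∈ P}
        one_mem' := ⟨Subgroup.one_mem _, 1, Subgroup.one_mem _,
          fun x hx => by rw [autFun_one hx, autFun_one ((le_sup_left : P ≤ Q) hx)],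
          fun c hc => by rw [autFun_one ((le_sup_right : centralizerIn S P ≤ Q) hc), inv_mul_cancel]
                         exact P.one_mem⟩
        mul_mem' := by
          rintro a b ⟨ha, θa, hθa, hax, hac⟩ ⟨hb, θb, hθb, hbx, hbc⟩
          refine ⟨Subgroup.mul_mem _ ha hb, θa * θb, Subgroup.mul_mem _ hθa hθb, fun x hx => ?_,
            fun c hc => ?_⟩
          · rw [autFun_mul _ _ ((le_sup_left : P ≤ Q) hx), autFun_mul _ _ hx, hbx x hx,
              hax _ (autFun_mem b hx)]
          · have hcQ := (le_sup_right : centralizerIn S P ≤ Q) hc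
            have hv := hbc c hc
            have hm := mapTo_of_mem_autGroup hQS hθa
            rw [autFun_mul _ _ hcQ, show autFun θb c = c * (c⁻¹ * autFun θb c) by group,
              hm.map_mul hcQ ((le_sup_left : P ≤ Q) hv), ← mul_assoc]
            exact P.mul_mem (hac c hc) (by rw [hax _ hv]; exact autFun_mem a hv)
        inv_mem' := by
          rintro a ⟨ha, θ, hθ, hx', hc'⟩
          refine ⟨Subgroup.inv_mem _ ha, θ⁻¹, Subgroup.inv_mem _ hθ, fun x hx => ?_, fun c hc => ?_⟩
          · have h1 := hx' _ (autFun_mem a⁻¹ hx)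
            rw [autFun_autFun_inv a hx] at h1
            have h2 := congrArg (autFun θ⁻¹) h1
            rw [autFun_inv_autFun θ ((le_sup_left : P ≤ Q) (autFun_mem a⁻¹ hx))] at h2
            exact h2.symm
          · have hcQ := (le_sup_right : centralizerIn S P ≤ Q) hc
            have hv := hc' c hc
            have hvQ : c⁻¹ * autFun θ c ∈ Q := (le_sup_left : P ≤ Q) hv
            have hm := mapTo_of_mem_autGroup hQS (Subgroup.inv_mem _ hθ)
            have h1 : autFun θ⁻¹ (c * (c⁻¹ * autFun θ c)) = c := by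
              rw [mul_inv_cancel_left, autFun_inv_autFun θ hcQ]
            rw [hm.map_mul hcQ hvQ] at h1
            rw [eq_mul_inv_of_mul_eq h1, inv_mul_cancel_left]
            refine P.inv_mem ?_
            have h2 : autFun θ⁻¹ (c⁻¹ * autFun θ c) = autFun a⁻¹ (c⁻¹ * autFun θ c) := by
              have h3 := hx' _ (autFun_mem a⁻¹ hv)
              rw [autFun_autFun_inv a hv] at h3
              have h4 := congrArg (autFun θ⁻¹) h3
              rw [autFun_inv_autFun θ ((le_sup_left : P ≤ Q) (autFun_mem a⁻¹ hv))] at h4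
              exact h4.symm
            rw [h2]; exact autFun_mem a⁻¹ hv }
    have hJA : J ≤ E.autGroup P := fun α hα => hα.1
    have hTJ : autInducedBy T P ≤ J := by
      intro α hα
      obtain ⟨t, ht, htx⟩ := mem_autInducedBy_iff_cj.mp hα
      have htP : t ∈ Subgroup.normalizer (P : Set Ω) := mem_normalizer_of_forall fun y hy => by
        have := autFun_mem α hy; rwa [htx y hy] at this
      have htC : ∀ c ∈ centralizerIn S P, t * c * t⁻¹ ∈ centralizerIn S P := fun c hc =>
        mem_centralizerIn.mpr ⟨S.mul_mem (S.mul_mem (hTS ht) hc.1) (S.inv_mem (hTS ht)),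
          fun y hy => by
            have hy' := (Subgroup.mem_normalizer_iff.mp (Subgroup.inv_mem _ htP) y).mp hy
            have h1 := (mem_centralizerIn.mp hc).2 _ hy'
            calc y * (t * c * t⁻¹) = t * ((t⁻¹ * y * t⁻¹⁻¹) * c) * t⁻¹ := by group
              _ = t * c * t⁻¹ * y := by rw [h1]; group⟩
      have htQ : ∀ y ∈ Q, t * y * t⁻¹ ∈ Q := by
        intro y hy
        have hle : Q ≤ Q.comap (MulAut.conj t).toMonoidHom := sup_le
          (fun w hw => (le_sup_left : P ≤ Q) ((Subgroup.mem_normalizer_iff.mp htP w).mp hw))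
          (fun w hw => (le_sup_right : centralizerIn S P ≤ Q) (htC w hw))
        exact hle hy
      obtain ⟨θ, hθ⟩ := exists_conjAut (mem_normalizer_of_forall htQ)
      refine ⟨autInducedBy_le_autGroup hPT hα, θ,
        autInducedBy_le_autGroup hQS (mem_autInducedBy_iff_cj.mpr ⟨t, hTS ht, hθ⟩),
        fun x hx => (hθ x ((le_sup_left : P ≤ Q) hx)).trans (htx x hx).symm, fun c hc => ?_⟩
      rw [hθ c ((le_sup_right : centralizerIn S P ≤ Q) hc), cj_apply]
      refine hCTP (mem_centralizerIn.mpr ⟨?_, ?_⟩)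
      · rw [show c⁻¹ * (t * c * t⁻¹) = (c⁻¹ * t * c⁻¹⁻¹) * t⁻¹ by group]
        exact T.mul_mem (StronglyClosed.conj_mem hEi.2.1 (S.inv_mem hc.1) ht) (T.inv_mem ht)
      · exact (mem_centralizerIn.mp
          ((centralizerIn S P).mul_mem ((centralizerIn S P).inv_mem hc) (htC c hc))).2
    -- `J` lies in `G`
    have hJG : J ≤ G := by
      set J' := J.subgroupOf (E.autGroup P) with hJ'
      have hRJ : (Rs : Subgroup (E.autGroup P)) ≤ J' := by rw [hRs]; exact Subgroup.comap_mono hTJ
      have hsyl := Transfer.pResidual_sup_sylow (p := p) (Rs.subtype hRJ)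
      intro α hα
      have h1 : (⟨⟨α, hJA hα⟩, hα⟩ : J') ∈
          (G.comap ((E.autGroup P).subtype.comp J'.subtype) : Subgroup J') := by
        refine (sup_le ?_ ?_ : pResidual p J' ⊔ _ ≤ _) (hsyl.ge (Subgroup.mem_top _))
        · rw [pResidual, Subgroup.closure_le]
          intro w hw
          obtain ⟨hwE, θ, hθ, hx', hc'⟩ := w.2
          refine hlift _ θ hwE hθ hx' ?_ hc'
          show (orderOf (((w : J') : E.autGroup P) : MulAut P)).Coprime p
          rw [Subgroup.orderOf_coe, Subgroup.orderOf_coe]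
          exact hw
        · intro w hw
          rw [Sylow.coe_subtype, Subgroup.mem_subgroupOf, hRs] at hw
          exact hGinn hw
      exact h1
    have hJn : (J.subgroupOf (E.autGroup P)).Normal := by
      refine ⟨fun β hβ γ => ?_⟩
      obtain ⟨hβE, θ, hθ, hx', hc'⟩ := hβ
      have hγm : MapTo F P (autFun (γ : MulAut P)) :=
        IsSubsystemOf.mapTo hEi.1 (mapTo_of_mem_autGroup hPT γ.2)
      obtain ⟨g, hg, hgγ⟩ := (isReceptive_iff.mp (isReceptive_of_isFullyNormalized hS hFs hPfn)).2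
        P _ hγm (img_autFun _)
      have hgQ : MapTo F Q g :=
        hg.restrict (sup_le (le_extSub hγm) (centralizerIn_le_extSub hγm))
      have hgC : ∀ c ∈ centralizerIn S P, g c ∈ centralizerIn S P := fun c hc =>
        mem_centralizerIn.mpr ⟨hgQ.mem ((le_sup_right : centralizerIn S P ≤ Q) hc), fun y hy => by
          have hy2 : autFun (γ : MulAut P)⁻¹ y ∈ P := autFun_mem _ hy
          rw [show y = g (autFun (γ : MulAut P)⁻¹ y) by rw [hgγ _ hy2, autFun_autFun_inv _ hy],
            ← hgQ.map_mul ((le_sup_left : P ≤ Q) hy2) ((le_sup_right : centralizerIn S P ≤ Q) hc),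
            ← hgQ.map_mul ((le_sup_right : centralizerIn S P ≤ Q) hc) ((le_sup_left : P ≤ Q) hy2),
            (mem_centralizerIn.mp hc).2 _ hy2]⟩
      have himgQ : img g Q = Q := by
        refine img_eq_self_of_forall hgQ fun y hy => ?_
        have hle : img g Q ≤ Q := by
          rw [hQdef, hgQ.img_sup le_sup_left le_sup_right]
          exact sup_le ((img_congr hgγ).trans (img_autFun _) |>.le.trans le_sup_left)
            ((img_le_of_forall hgC).trans le_sup_right)
        exact hle (mem_img_of_mem hy)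
      set θg := autOf hgQ himgQ with hθg
      have hgCimg : img g (centralizerIn S P) = centralizerIn S P := by
        haveI : Finite ↥(centralizerIn S P) := finite_of_le centralizerIn_le
        exact img_eq_self_of_forall (hgQ.restrict le_sup_right) hgC
      refine ⟨((γ * β * γ⁻¹ : E.autGroup P)).2, θg * θ * θg⁻¹,
        Subgroup.mul_mem _ (Subgroup.mul_mem _ (autOf_mem hgQ himgQ) hθ)
          (Subgroup.inv_mem _ (autOf_mem hgQ himgQ)), fun y hy => ?_, fun c hc => ?_⟩
      · obtain ⟨x, hx, rfl⟩ : ∃ x ∈ P, autFun (γ : MulAut P) x = y :=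
          ⟨_, autFun_mem _ hy, autFun_autFun_inv _ hy⟩
        have hxQ := (le_sup_left : P ≤ Q) hx
        have hgx : autFun θg x = autFun (γ : MulAut P) x := by
          rw [hθg, autFun_autOf hgQ himgQ hxQ, hgγ x hx]
        simp only [MonoidHom.coe_comp, Subgroup.coe_subtype, Subgroup.coe_mul, Subgroup.coe_inv]
        rw [← hgx, autFun_mul _ _ (autFun_mem θg hxQ), autFun_inv_autFun θg hxQ,
          autFun_mul _ _ hxQ, hx' x hx, hgx, autFun_mul _ _ (autFun_mem _ hx),
          autFun_inv_autFun _ hx, autFun_mul _ _ hx,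
          hθg, autFun_autOf hgQ himgQ ((le_sup_left : P ≤ Q) (autFun_mem _ hx)),
          hgγ _ (autFun_mem _ hx)]
        rfl
      · obtain ⟨c₀, hc₀, rfl⟩ := (hgQ.mem_img_iff le_sup_right).mp (hgCimg.ge hc)
        have hc₀Q := (le_sup_right : centralizerIn S P ≤ Q) hc₀
        have hgc : autFun θg c₀ = g c₀ := by rw [hθg, autFun_autOf hgQ himgQ hc₀Q]
        have hv := hc' c₀ hc₀
        rw [← hgc, autFun_mul _ _ (autFun_mem θg hc₀Q), autFun_inv_autFun θg hc₀Q,
          autFun_mul _ _ hc₀Q, hgc, hθg, autFun_autOf hgQ himgQ (autFun_mem θ hc₀Q),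
          show autFun θ c₀ = c₀ * (c₀⁻¹ * autFun θ c₀) by group,
          hgQ.map_mul hc₀Q ((le_sup_left : P ≤ Q) hv), inv_mul_cancel_left, hgγ _ hv]
        exact autFun_mem _ hv
    intro α hα
    haveI := hJn
    have hRJ : (Rs : Subgroup (E.autGroup P)) ≤ J.subgroupOf (E.autGroup P) := by
      rw [hRs]; exact Subgroup.comap_mono hTJ
    have htop := Sylow.normalizer_sup_eq_top' Rs hRJ
    have hPlt : P < T := lt_of_le_of_ne hPT hPeq
    have hnorm : Subgroup.normalizer ((Rs : Subgroup (E.autGroup P)) : Set (E.autGroup P)) ≤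
        G.subgroupOf (E.autGroup P) := by
      intro n hn
      have hnm : MapTo E P (autFun (n : MulAut P)) := mapTo_of_mem_autGroup hPT n.2
      obtain ⟨g, hg, hgn⟩ := (isReceptive_iff.mp (isReceptive_of_isFullyNormalized hTp hEs hEfn)).2
        P _ hnm (img_autFun _)
      have hext' : normalizerIn T P ≤ extSub T hnm := by
        intro k hk
        obtain ⟨κ, hκ⟩ := exists_conjAut hk.2
        have hκT : κ ∈ autInducedBy T P := mem_autInducedBy_iff_cj.mpr ⟨k, hk.1, hκ⟩
        have hkR : (⟨κ, autInducedBy_le_autGroup hPT hκT⟩ : E.autGroup P) ∈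
            (Rs : Subgroup (E.autGroup P)) := by
          rw [hRs]; exact hκT
        have h1 := (Subgroup.mem_normalizer_iff.mp hn _).mp hkR
        rw [hRs] at h1
        obtain ⟨h, hh, hx'⟩ := mem_autInducedBy_iff_cj.mp (Subgroup.mem_subgroupOf.mp h1)
        refine ⟨hk, h, hh, fun x hx => ?_⟩
        have h2 := hx' _ (autFun_mem (n : MulAut P) hx)
        simp only [Subgroup.coe_mul, Subgroup.coe_inv] at h2
        rw [autFun_mul _ _ (autFun_mem _ hx), autFun_inv_autFun _ hx, autFun_mul _ _ hx,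
          hκ x hx, cj_apply, cj_apply] at h2
        exact h2
      have hlt : Nat.card P < Nat.card (normalizerIn T P) := by
        haveI : Finite ↥(normalizerIn T P) := finite_of_le (inf_le_left.trans hTS)
        exact lt_of_not_ge fun h =>
          (lt_normalizerIn hTp hPlt).ne (Subgroup.eq_of_le_of_card_ge (le_normalizerIn hPT) h)
      obtain ⟨e, he, heg, heX⟩ := hIH _ g hlt (hg.restrict hext')
      refine ⟨n.2, e, he.restrict (sup_le_sup_right (le_normalizerIn hPT) X), fun x hx => ?_, heX⟩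
      rw [heg x (le_normalizerIn hPT hx), hgn x hx]
      rfl
    exact (Subgroup.mem_subgroupOf.mp ((sup_le hnorm (Subgroup.comap_mono hJG) :
      _ ≤ G.subgroupOf (E.autGroup P)) (htop.ge (Subgroup.mem_top (⟨α, hα⟩ : E.autGroup P))))).2
  refine alperin_prop_strong hTp hEs (fun P f => ExtFix F X P f)
    (fun _ hC hfg => hC.congr' hfg)
    (fun {P g} hP hg => ⟨cj g, mapTo_cj (sup_le (hP.trans hTS) hXS) (hTS hg), fun _ _ => rfl,
      fun x hx => hXfix hg hx⟩)
    (fun _ _ hfQ h₁ h₂ => h₁.comp h₂ hfQ)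
    (fun _ _ hgf h₁ => h₁.inverse rfl hgf)
    (fun P hP hIH α hα => ?_) hf
  have hPT : P ≤ T := by
    rcases hP with rfl | h
    · exact le_rfl
    · exact h.1.1
  have hcent : centralizerIn T P ≤ P := by
    rcases hP with rfl | h
    · exact inf_le_left
    · exact centralizerIn_le_of_isCentric h.1
  by_cases hPeq : P = T
  · subst hPeq
    exact hcore P le_rfl hTfn hcent hIH α hα
  have hPlt : P < T := lt_of_le_of_ne hPT hPeq
  obtain ⟨P₁, hconj, hfn₁⟩ := exists_isFullyNormalized (F := F) (hPT.trans hTS)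
  obtain ⟨f₀, hf₀, hf₀P⟩ := exists_isStd hS hFs hfn₁ hconj
  set K := normalizerIn T P with hK
  have hKS : K ≤ normalizerIn S P := inf_le_inf_right _ hTS
  have hKT : K ≤ T := inf_le_left
  have hPK : P ≤ K := le_normalizerIn hPT
  obtain ⟨a, ha, e, he, hae⟩ := IsInvariantIn.frattini hEi hKT (hf₀.restrict hKS)
  have hcard : Nat.card P < Nat.card K := by
    haveI : Finite K := finite_of_le (hKT.trans hTS)
    exact lt_of_not_ge fun h =>
      (lt_normalizerIn hTp hPlt).ne (Subgroup.eq_of_le_of_card_ge (le_normalizerIn hPT) h)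
  obtain ⟨ge, hge, hgee, hgeX⟩ := hIH K e hcard he
  have ham := mapTo_of_mem_autGroup hTS ha
  obtain ⟨at', hat, hata⟩ := (isReceptive_iff.mp (isReceptive_of_isFullyNormalized hS hFs hTfn)).2
    T _ ham (img_autFun a)
  have hatU : MapTo F U at' := hat.restrict (sup_le (le_extSub ham) (centralizerIn_le_extSub ham))
  have hatT : img at' T = T := (img_congr hata).trans (img_autFun a)
  have hge' : MapTo F (P ⊔ X) ge := hge.restrict (sup_le_sup_right hPK X)
  have hgeU : ∀ y ∈ P ⊔ X, ge y ∈ U := fun y hy => by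
    have hle : img ge (P ⊔ X) ≤ U := by
      rw [hge'.img_sup le_sup_left le_sup_right, img_congr (f := ge) (P := X) hgeX, img_id]
      refine sup_le ?_ hXU
      exact (img_le_of_forall fun x hx => by rw [hgee x (hPK hx)]; exact he.mem (hPK hx)).trans
        le_sup_left
    exact hle (mem_img_of_mem hy)
  set h := fun y => at' (ge y) with hhdef
  have hh : MapTo F (P ⊔ X) h := hge'.comp hatU hgeU
  have hhP : ∀ x ∈ P, h x = f₀ x := fun x hx => by
    show at' (ge x) = f₀ x
    rw [hgee x (hPK hx), hata _ (he.mem (hPK hx)), ← hae x (hPK hx)]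
  have hhX : ∀ x ∈ X, h x ∈ X := fun x hx => by
    show at' (ge x) ∈ X
    rw [hgeX x hx]; exact hinvX hatU hatT x hx
  have himgP : img h P = P₁ := (img_congr hhP).trans hf₀P
  have hP₁T : P₁ ≤ T := by
    rw [← hf₀P]
    exact img_le_of_forall fun x hx =>
      StronglyClosed.map_mem hEi.2.1 (hf₀.restrict hKS) (hPK hx) (hPT hx)
  haveI : Finite X := finite_of_le hXS
  have himgX : img h X = X := img_eq_self_of_forall (hh.restrict le_sup_right) hhX
  have hcent₁ : centralizerIn T P₁ ≤ P₁ := by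
    rw [← hf₀P]
    intro c hc
    have h1 : autFun a⁻¹ c ∈ centralizerIn T (img e P) := mem_centralizerIn.mpr
      ⟨autFun_mem _ hc.1, fun y hy => by
        obtain ⟨x, hx, rfl⟩ := ((he.restrict hPK).mem_img_iff le_rfl).mp hy
        have h2 := (mem_centralizerIn.mp hc).2 _ (mem_img_of_mem (f := f₀) hx)
        rw [hae x (hPK hx)] at h2
        have ham' := mapTo_of_mem_autGroup (F := F) hTS (Subgroup.inv_mem _ ha)
        have h3 := congrArg (autFun a⁻¹) h2
        rw [ham'.map_mul (autFun_mem a (he.mem (hPK hx))) hc.1,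
          ham'.map_mul hc.1 (autFun_mem a (he.mem (hPK hx))),
          autFun_inv_autFun a (he.mem (hPK hx))] at h3
        exact h3⟩
    have hEcen : centralizerIn T (img e P) ≤ img e P := by
      rcases hP with rfl | hess
      · exact absurd rfl hPeq
      · exact hess.1.2 _ (isConj_iff.mpr ⟨e, he.restrict hPK, rfl⟩)
    obtain ⟨x, hx, hxe⟩ := ((he.restrict hPK).mem_img_iff le_rfl).mp (hEcen h1)
    have : c = f₀ x := by rw [hae x (hPK hx), hxe, autFun_autFun_inv a hc.1]
    exact this ▸ mem_img_of_mem hx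
  -- the conjugated automorphism
  obtain ⟨g₁, hg₁, hg₁x⟩ := IsInvariantIn.conj hEi le_rfl hPT (mapTo_of_mem_autGroup hPT hα)
    (fun x hx => autFun_mem α hx) ((hh.restrict le_sup_left))
  rw [himgP] at hg₁
  have hg₁img : img g₁ P₁ = P₁ := by
    haveI : Finite P₁ := finite_of_le (hP₁T.trans hTS)
    refine img_eq_self_of_forall hg₁ fun y hy => ?_
    obtain ⟨x, hx, rfl⟩ := ((hh.restrict le_sup_left).mem_img_iff le_rfl).mp (himgP.ge hy)
    rw [hg₁x x hx]; exact himgP.le (mem_img_of_mem (autFun_mem α hx))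
  have hcard₁ : Nat.card P₁ = Nat.card P := by
    rw [← himgP, (hh.restrict le_sup_left).card_img le_rfl]
  obtain ⟨g, hg, hgg, hgX⟩ := hcore P₁ hP₁T hfn₁ hcent₁
    (fun R g hR hg => hIH R g (hcard₁ ▸ hR) hg) _ (autOf_mem hg₁ hg₁img)
  obtain ⟨k, hk, hkh, -, -⟩ := hh.exists_iso_inverse
  rw [hh.img_sup le_sup_left le_sup_right, himgP, himgX] at hk
  have hgmem : ∀ y ∈ P₁ ⊔ X, g y ∈ P₁ ⊔ X := fun y hy => by
    have hle : img g (P₁ ⊔ X) ≤ P₁ ⊔ X := by
      rw [hg.img_sup le_sup_left le_sup_right, img_congr (f := g) (P := X) hgX, img_id,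
        img_congr (f := g) (P := P₁) hgg, img_autFun]
    exact hle (mem_img_of_mem hy)
  have hhmem : ∀ y ∈ P ⊔ X, h y ∈ P₁ ⊔ X := fun y hy => by
    have hle : img h (P ⊔ X) ≤ P₁ ⊔ X := by
      rw [hh.img_sup le_sup_left le_sup_right, himgP, himgX]
    exact hle (mem_img_of_mem hy)
  refine ⟨fun y => k (g (h y)), (hh.comp hg hhmem).comp hk fun y hy => hgmem _ (hhmem y hy),
    fun x hx => ?_, fun x hx => ?_⟩
  · show k (g (h x)) = autFun α x
    have hhx : h x ∈ P₁ := himgP.le (mem_img_of_mem hx)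
    rw [hgg _ hhx, autFun_autOf hg₁ hg₁img hhx, hg₁x x hx,
      hkh _ ((le_sup_left : P ≤ P ⊔ X) (autFun_mem α hx))]
  · show k (g (h x)) = x
    rw [hgX _ (hhX x hx), hkh x ((le_sup_right : X ≤ P ⊔ X) hx)]

end Cfsg.Agent.Components.CentralizerOfNormal
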