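import Cfsg.Agent.Lib.Components.ResidualExtension

/-!
`O^{p'}` of a weakly normal subsystem is normal: the climb and the main theorem.
-/

set_option autoImplicit false
set_option linter.style.haveILetI false
set_option linter.unusedSectionVars false

namespace Cfsg.Agent.Components.ResidualExtension

open Cfsg.FusionSystem (centralizerIn normalizerIn)
open Cfsg.Agent.Fusion

universe u

variable {Ω : Type u} [Group Ω] {S T P Q R X : Subgroup Ω} {F : FusionSystem S}
variable {E D : FusionSystem T} {f g : Ω → Ω} {p : ℕ}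
variable [Finite S] [Fact p.Prime]

omit [Finite S] in
/-- A group which is the product of two `p`-subgroups is a `p`-group. -/
theorem isPGroup_of_forall_mul {G : Type*} [Group G] [Finite G] {A B : Subgroup G}
    (hA : IsPGroup p A) (hB : IsPGroup p B) (h : ∀ g : G, ∃ a ∈ A, ∃ b ∈ B, g = b * a) :
    IsPGroup p G := by
  have hsur : Function.Surjective fun b : B => ((b : G) : G ⧸ A) := by
    intro q
    obtain ⟨g, rfl⟩ := QuotientGroup.mk_surjective q
    obtain ⟨a, ha, b, hb, rfl⟩ := h g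
    exact ⟨⟨b, hb⟩, QuotientGroup.eq.mpr (by simpa using ha)⟩
  have : MulAction.IsPretransitive B (G ⧸ A) :=
    ⟨fun x y => by
      obtain ⟨b, rfl⟩ := hsur x
      obtain ⟨c, rfl⟩ := hsur y
      exact ⟨c * b⁻¹, show (((c * b⁻¹ : B) : G) * (b : G) : G ⧸ A) = ((c : G) : G ⧸ A) by simp⟩⟩
  have h1 := MulAction.index_stabilizer_of_transitive B ((1 : G) : G ⧸ A)
  obtain ⟨i, hi⟩ := IsPGroup.iff_card.mp hB
  obtain ⟨j, -, hj⟩ := (Nat.dvd_prime_pow Fact.out).mp
    (hi ▸ (MulAction.stabilizer B ((1 : G) : G ⧸ A)).index_dvd_card)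
  obtain ⟨k, hk⟩ := IsPGroup.iff_card.mp hA
  refine IsPGroup.of_card (n := j + k) ?_
  rw [pow_add, ← hj, ← hk, h1, ← Subgroup.index, Subgroup.index_mul_card]

/-- The automorphisms of `T` whose restriction to `R` lifts. -/
theorem exists_liftGroup (hS : IsPGroup p S) (hF : F.IsSaturated p) (hsc : F.StronglyClosed T)
    (hR : HT F T R) :
    ∃ Γ : Subgroup (MulAut T), ∀ γ, γ ∈ Γ ↔ γ ∈ F.autGroup T ∧ Lift F T R (autFun γ) := by
  have := finite_of_le hsc.1
  have := finite_mulAut T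
  let M : Submonoid (MulAut T) :=
    { carrier := {γ | γ ∈ F.autGroup T ∧ Lift F T R (autFun γ)}
      one_mem' := ⟨Subgroup.one_mem _, (lift_id (hR.1.trans hsc.1)).congr
        fun x hx => autFun_one (hR.1 hx)⟩
      mul_mem' := by
        rintro a b ⟨ha, hLa⟩ ⟨hb, hLb⟩
        refine ⟨Subgroup.mul_mem _ ha hb, (hLa.comp hsc hR
          (hLb.transport hS hF hsc hR.1 ha)).congr fun x hx => ?_⟩
        rw [autFun_mul _ _ (hR.1 hx), autFun_inv_autFun a (hR.1 hx)] }
  refine ⟨{ toSubmonoid := M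
            inv_mem' := fun {a} ha => ?_ }, fun γ => Iff.rfl⟩
  obtain ⟨n, hn⟩ : ∃ n : ℕ, a ^ n = a⁻¹ := by
    refine ⟨orderOf a - 1, eq_inv_of_mul_eq_one_left ?_⟩
    rw [← pow_succ, Nat.sub_add_cancel (orderOf_pos a), pow_orderOf_eq_one]
  show a⁻¹ ∈ M
  exact hn ▸ M.pow_mem ha n

theorem lift_of_ezero (hS : IsPGroup p S) (hE : E.IsWeaklyNormalIn F p)
    (hf : Ezero E p {P : Subgroup Ω | E.IsCentric P} P f) : HT F T P → Lift F T P f := by
  obtain ⟨hEs, hF, hi⟩ := id hE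
  have hsc := hi.2.1
  induction hf with
  | base Q α hQ hQT hα P hP g hg =>
    intro hHT
    have hQHT : HT F T Q := ht_of_isCentric hi hQ
    refine (Lift.restrict ?_ hP).congr hg
    clear hg
    obtain ⟨a, ha, rfl⟩ := hα
    induction ha using Subgroup.closure_induction with
    | one => exact (lift_id (hQT.trans hsc.1)).congr fun x hx => autFun_one hx
    | mem a ha =>
      obtain ⟨k, hk⟩ := ha
      exact lift_of_pow_eq_one hS hE hQ hQHT a.2 (k := k)
        (by rw [← hk, Subgroup.coe_subtype, ← SubmonoidClass.coe_pow, pow_orderOf_eq_one]; rfl)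
    | mul a b _ _ ha hb =>
      refine (hb.comp hsc hQHT (g := autFun (a : MulAut Q))
        ((img_autFun (b : MulAut Q)).symm ▸ ha)).congr fun x hx => ?_
      exact autFun_mul _ _ hx
    | inv a _ ha =>
      have h := ha.inverse hsc hQHT (k := autFun ((a : MulAut Q))⁻¹)
        fun x hx => autFun_inv_autFun _ hx
      rwa [Subgroup.coe_subtype, img_autFun] at h
  | cj P s g hP hs hg =>
    intro hHT
    exact (lift_cj hsc.1 hP hs).congr hg
  | comp P f g h _ _ hh ih ih' =>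
    intro hHT
    have h1 := ih hHT
    exact (h1.comp hsc hHT (ih' (hHT.img hsc h1.mapTo))).congr hh

/-- Some `p`-power of an automorphism whose restriction lifts, lifts. -/
theorem exists_pow_lift (hS : IsPGroup p S) (hE : E.IsWeaklyNormalIn F p) :
    ∀ (R : Subgroup Ω), HT F T R → ∀ γ ∈ F.autGroup T, Lift F T R (autFun γ) →
      ∃ k : ℕ, Lift F T T (autFun (γ ^ p ^ k)) := by
  obtain ⟨hEs, hF, hi⟩ := id hE
  have hsc := hi.2.1
  have hTS : T ≤ S := hsc.1
  haveI := finite_of_le hTS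
  have := finite_mulAut T
  have hTp := hS.to_le hTS
  obtain ⟨ΓT, hΓT⟩ := exists_liftGroup (p := p) hS hF hsc (HT.top hsc)
  intro R
  induction hn : Nat.card T - Nat.card R using Nat.strong_induction_on generalizing R with
  | h n ih =>
  intro hR γ hγ hLγ
  rcases eq_or_lt_of_le hR.1 with rfl | hlt
  · exact ⟨0, by rw [pow_zero, pow_one]; exact hLγ⟩
  obtain ⟨R₂, hc, hR2fn⟩ := exists_isFullyNormalized (F := F) (hR.1.trans hTS)
  obtain ⟨f, hf, rfl⟩ := isConj_iff.mp hc
  obtain ⟨α, hα, d, hd, hfx⟩ := IsInvariantIn.frattini hi hR.1 hf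
  obtain ⟨b, hb, z, hz, hdx⟩ := frat_of_mapTo hTp hEs isFamily_centric hd
  have hzL := lift_of_ezero hS hE hz hR
  set a := α * b with ha
  have haG : a ∈ F.autGroup T :=
    Subgroup.mul_mem _ hα (IsSubsystemOf.autGroup_le hi.1 _ hb)
  have haz : ∀ x ∈ R, f x = autFun a (z x) := fun x hx => by
    rw [hfx x hx, hdx x hx, ha, autFun_mul α b (hz.mapTo.mem hx)]
  set γ' := a * γ * a⁻¹ with hγ'
  have hγ'G : γ' ∈ F.autGroup T :=
    Subgroup.mul_mem _ (Subgroup.mul_mem _ haG hγ) (Subgroup.inv_mem _ haG)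
  have hLγ' : Lift F T (img f R) (autFun γ') := by
    obtain ⟨k, -, hkz, -, -⟩ := hzL.mapTo.exists_iso_inverse
    have hHz := hR.img hsc hzL.mapTo
    have hzT : img z R ≤ T := hHz.1
    have hkR : img k (img z R) = R := by
      rw [hzL.mapTo.img_img le_rfl]
      exact (img_congr fun x hx => hkz x hx).trans img_id
    have h1 : Lift F T (img z R) (autFun γ) := by
      have hki := hzL.inverse hsc hR hkz
      have h2 := hLγ.comp hsc hR (hzL.transport hS hF hsc hR.1 hγ)
      refine (hki.comp hsc hHz (g := fun x => autFun γ (z (autFun γ⁻¹ (autFun γ x))))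
        (hkR.symm ▸ h2)).congr fun y hy => ?_
      obtain ⟨x, hx, rfl⟩ := (hzL.mapTo.mem_img_iff le_rfl).mp hy
      show autFun γ (z x) = autFun γ (z (autFun γ⁻¹ (autFun γ (k (z x)))))
      rw [hkz x hx, autFun_inv_autFun γ (hR.1 hx)]
    have he : img (autFun a) (img z R) = img f R := by
      rw [hzL.mapTo.img_img le_rfl]
      exact img_congr fun x hx => (haz x hx).symm
    have h2 := h1.transport hS hF hsc hzT haG
    rw [he] at h2
    refine h2.congr fun y hy => ?_
    have hyT : y ∈ T := (hR.img hsc hf).1 hy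
    rw [hγ', autFun_mul _ _ hyT, autFun_mul _ _ (autFun_mem _ hyT)]
  suffices h : ∃ k, Lift F T T (autFun (γ' ^ p ^ k)) by
    obtain ⟨k, hk⟩ := h
    refine ⟨k, ?_⟩
    have h1 := hk.transport hS hF hsc le_rfl (Subgroup.inv_mem _ haG)
    rw [img_autFun, inv_inv] at h1
    refine h1.congr fun y hy => ?_
    rw [hγ', conj_pow, ← autFun_mul _ a hy, inv_mul_cancel_right, autFun_mul a _ hy,
      autFun_inv_autFun a (autFun_mem _ hy)]
  -- at the fully normalised subgroup
  set R₂ := img f R with hR2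
  have hHT : HT F T R₂ := hR.img hsc hf
  have hR2T : R₂ ≤ T := hHT.1
  have hR2lt : R₂ < T := by
    refine lt_of_le_of_ne hR2T fun he => hlt.ne ?_
    haveI := finite_of_le (hR.1.trans hTS)
    exact Subgroup.eq_of_le_of_card_ge hR.1
      (le_of_eq (by rw [← hf.card_img le_rfl, ← hR2, he]))
  have hR2S : R₂ ≤ S := hR2T.trans hTS
  set C := centralizerIn S T with hC
  set N₁ := normalizerIn T R₂ with hN₁
  have hN₁T : N₁ ≤ T := normalizerIn_le
  have hR2N : R₂ < N₁ := lt_normalizerIn hTp hR2lt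
  have hN₁N : N₁ ≤ normalizerIn S R₂ := fun z hz => ⟨hTS hz.1, hz.2⟩
  obtain ⟨Γ₂, hΓ₂⟩ := exists_liftGroup (p := p) hS hF hsc hHT
  obtain ⟨Γ₁, hΓ₁⟩ := exists_liftGroup (p := p) hS hF hsc (hHT.mono hR2N.le hN₁T)
  have hTn : ∀ y ∈ S, y ∈ Subgroup.normalizer (T : Set Ω) := fun y hy =>
    StronglyClosed.le_normalizer hsc hy
  -- the subgroup `R₂ C_S(T)`
  set R' := R₂ ⊔ C with hR'
  have hCnorm : C ≤ Subgroup.normalizer (R₂ : Set Ω) := fun c hc =>
    mem_normalizer_of_forall_centralize hR2T hc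
  have hR'N : R' ≤ normalizerIn S R₂ :=
    sup_le (le_normalizerIn hR2S) fun c hc => ⟨hc.1, hCnorm hc⟩
  have hR'U : R' ≤ T ⊔ C := sup_le_sup_right hR2T _
  have hconjC : ∀ y ∈ S, ∀ c ∈ C, y * c * y⁻¹ ∈ C := by
    intro y hy c hc
    refine mem_centralizerIn.mpr ⟨S.mul_mem (S.mul_mem hy hc.1) (S.inv_mem hy), fun t ht => ?_⟩
    have ht' := (Subgroup.mem_normalizer_iff''.mp (hTn y hy) t).mp ht
    calc t * (y * c * y⁻¹) = y * ((y⁻¹ * t * y) * c) * y⁻¹ := by group
      _ = y * (c * (y⁻¹ * t * y)) * y⁻¹ := by rw [(mem_centralizerIn.mp hc).2 _ ht']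
      _ = y * c * y⁻¹ * t := by group
  haveI := finite_of_le (hR'N.trans normalizerIn_le)
  have hnorm' : normalizerIn S R₂ ≤ Subgroup.normalizer (R' : Set Ω) := by
    intro y hy
    refine mem_normalizer_of_forall fun x hx => ?_
    have h1 : img (cj y) R' ≤ R' := by
      rw [hR', (mapTo_cj (F := F) (hR'N.trans normalizerIn_le) hy.1).img_sup le_sup_left
        le_sup_right]
      exact sup_le (le_trans (img_le_of_forall fun z hz => conj_mem_of_mem_normalizerIn hy hz)
        le_sup_left) (le_trans (img_le_of_forall (hconjC y hy.1)) le_sup_right)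
    exact h1 (mem_img_of_mem hx)
  have hprod : ∀ x ∈ R', ∃ c ∈ C, ∃ r ∈ R₂, x = c * r := by
    intro x hx
    have h1 : x ∈ ((C ⊔ R₂ : Subgroup Ω) : Set Ω) := by rw [sup_comm]; exact hx
    rw [Subgroup.coe_mul_of_left_le_normalizer_right C R₂ hCnorm] at h1
    obtain ⟨c, hc, r, hr, rfl⟩ := h1
    exact ⟨c, hc, r, hr, rfl⟩
  obtain ⟨NS, hNS⟩ : ∃ NS : FusionSystem (normalizerIn S R₂), F.IsNormalizerSystem R₂ NS :=
    ⟨_, isNormalizerSystem_nSys F hR2S⟩
  have hNSsat := isSaturated_normalizerSystem hS hF hR2fn hNS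
  haveI := finite_of_le (normalizerIn_le (S := S) (P := R₂))
  have hNp : IsPGroup p (normalizerIn S R₂) := hS.to_le normalizerIn_le
  haveI := finite_of_le (S := normalizerIn S R₂)
    (normalizerIn_le (S := normalizerIn S R₂) (P := R'))
  have hR'fn : NS.IsFullyNormalized R' :=
    ⟨hR'N, fun Z _ => Subgroup.card_le_of_le fun y hy => ⟨hy.1, hnorm' hy.1⟩⟩
  have hR'rec := isReceptive_of_isFullyNormalized hNp hNSsat hR'fn
  -- the automorphisms of `T` induced by `C_S(R₂)`
  set W : Subgroup (MulAut T) := autInducedBy (centralizerIn S R₂) T with hW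
  have hWp : IsPGroup p W := isPGroup_autInducedBy (hS.to_le centralizerIn_le) T
  have hWG : W ≤ F.autGroup T :=
    (autInducedBy_mono centralizerIn_le T).trans (autInducedBy_le_autGroup hTS)
  have hWΓ : W ≤ Γ₂ := fun τ hτ => by
    obtain ⟨y, hy, hyt⟩ := mem_autInducedBy_iff_cj.mp hτ
    refine (hΓ₂ τ).mpr ⟨hWG hτ, (lift_id hR2S).congr fun x hx => ?_⟩
    rw [hyt x (hR2T hx), cj_apply, ← (mem_centralizerIn.mp hy).2 x hx]
    group
  have hfac : ∀ η ∈ Γ₂, ∃ τ ∈ W, η * τ ∈ Γ₁ := by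
    intro η hη
    obtain ⟨hηG, g, hg, hgη, hgC⟩ := (hΓ₂ η).mp hη
    obtain ⟨β, hβ, hβt, hβC⟩ := exists_ext_top hS hF hsc hηG
    haveI := finite_of_le (centralizerIn_le (S := S) (P := T))
    have hUimg : img β (T ⊔ C) = T ⊔ C := by
      rw [hβ.img_sup le_sup_left le_sup_right, img_congr hβt, img_autFun,
        img_eq_self_of_forall (hβ.restrict le_sup_right) hβC]
    obtain ⟨bi, hbi, hbiβ, -, -⟩ := hβ.exists_iso_inverse
    rw [hUimg] at hbi
    have hβbi : ∀ x ∈ T ⊔ C, β (bi x) = x := fun x hx => by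
      obtain ⟨y, hy, rfl⟩ := (hβ.mem_img_iff le_rfl).mp (hUimg.symm ▸ hx)
      rw [hbiβ y hy]
    have hgmem : ∀ c ∈ C, c⁻¹ * g c ∈ img g R₂ := fun c hc =>
      mem_img_of_lift hsc hHT hg hgC hc
    have hgU : ∀ x ∈ R', g x ∈ T ⊔ C := by
      intro x hx
      obtain ⟨c, hc, r, hr, rfl⟩ := hprod x hx
      rw [hg.map_mul (Subgroup.mem_sup_right hc) (Subgroup.mem_sup_left hr), hgη r hr,
        ← mul_inv_cancel_left c (g c)]
      exact Subgroup.mul_mem _ (Subgroup.mul_mem _ (Subgroup.mem_sup_right hc)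
        (Subgroup.mem_sup_left (hgC c hc))) (Subgroup.mem_sup_left (autFun_mem η (hR2T hr)))
    set h : Ω → Ω := fun x => bi (g x) with hh
    have hhm : MapTo F R' h := hg.comp hbi hgU
    have hhfix : ∀ x ∈ R₂, h x = x := fun x hx => by
      show bi (g x) = x
      rw [hgη x hx, ← hβt x (hR2T hx), hbiβ x (Subgroup.mem_sup_left (hR2T hx))]
    have hbiC : ∀ c ∈ C, bi c ∈ C := fun c hc => by
      have hci : c ∈ img β C :=
        (img_eq_self_of_forall (hβ.restrict le_sup_right) hβC).symm ▸ hc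
      obtain ⟨d, hd, rfl⟩ := (hβ.mem_img_iff le_sup_right).mp hci
      rw [hbiβ d (Subgroup.mem_sup_right hd)]
      exact hd
    have hhR : ∀ x ∈ R', h x ∈ R' := by
      intro x hx
      obtain ⟨c, hc, r, hr, rfl⟩ := hprod x hx
      rw [hhm.map_mul (Subgroup.mem_sup_right hc) (Subgroup.mem_sup_left hr), hhfix r hr]
      refine R'.mul_mem ?_ (Subgroup.mem_sup_left hr)
      show bi (g c) ∈ R'
      obtain ⟨r', hr', hrc⟩ := ((hg.restrict le_sup_left).mem_img_iff le_rfl).mp (hgmem c hc)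
      rw [← mul_inv_cancel_left c (g c), ← hrc, hbi.map_mul (Subgroup.mem_sup_right hc)
        (Subgroup.mem_sup_left (hrc ▸ hgC c hc))]
      refine R'.mul_mem (Subgroup.mem_sup_right (hbiC c hc)) (Subgroup.mem_sup_left ?_)
      rw [hgη r' hr', ← hβt _ (hR2T hr'), hbiβ _ (Subgroup.mem_sup_left (hR2T hr'))]
      exact hr'
    have hhimg : img h R' = R' := img_eq_self_of_forall hhm hhR
    obtain ⟨h', hh', hh'h, -, -⟩ := hhm.exists_iso_inverse
    rw [hhimg] at hh'
    have hhh' : ∀ x ∈ R', h (h' x) = x ∧ h' x ∈ R' := fun x hx => by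
      obtain ⟨y, hy, rfl⟩ := (hhm.mem_img_iff le_rfl).mp (hhimg.symm ▸ hx)
      rw [hh'h y hy]
      exact ⟨rfl, hy⟩
    have hh'fix : ∀ x ∈ R₂, h' x = x := fun x hx => by
      conv_lhs => rw [← hhfix x hx]
      exact hh'h x (Subgroup.mem_sup_left hx)
    have hhNS : MapTo NS R' h := (mapTo_nSys_iff hNS).mpr ⟨hR'N, fun x hx => hR'N (hhR x hx), h,
      by rwa [sup_eq_left.mpr (le_sup_left : R₂ ≤ R')], fun _ _ => rfl,
      by rw [img_congr hhfix, img_id]⟩
    have hext : N₁ ≤ extSub (normalizerIn S R₂) hhNS := by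
      intro y hy
      have hyS := hTS hy.1
      have hyN := hN₁N hy
      have hcy : ∀ x ∈ R', y * x * y⁻¹ ∈ R' :=
        fun x hx => (Subgroup.mem_normalizer_iff.mp (hnorm' hyN) x).mp hx
      have hcy' : ∀ x ∈ R', y⁻¹ * x * y ∈ R' :=
        fun x hx => (Subgroup.mem_normalizer_iff''.mp (hnorm' hyN) x).mp hx
      set w : Ω → Ω := fun x => h (cj y (h' (cj y⁻¹ x))) with hw
      have hm1 : MapTo F R' (cj y⁻¹) := mapTo_cj (hR'N.trans normalizerIn_le) (S.inv_mem hyS)
      have hm1' : ∀ x ∈ R', cj y⁻¹ x ∈ R' := fun x hx => by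
        rw [cj_apply, inv_inv]; exact hcy' x hx
      have hwm : MapTo F R' w :=
        ((hm1.comp hh' hm1').comp (mapTo_cj (hR'N.trans normalizerIn_le) hyS)
          fun x hx => (hhh' _ (hm1' x hx)).2).comp hhm
          fun x hx => hcy _ (hhh' _ (hm1' x hx)).2
      have hwfix : ∀ x ∈ R₂, w x = x := fun x hx => by
        have hx' : cj y⁻¹ x ∈ R₂ := by
          rw [cj_apply]
          exact conj_mem_of_mem_normalizerIn (Subgroup.inv_mem _ hyN) hx
        show h (cj y (h' (cj y⁻¹ x))) = x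
        rw [hh'fix _ hx', cj_cancel_inv, hhfix x hx]
      have hwmod : ∀ x ∈ R', x⁻¹ * w x ∈ R₂ := by
        intro x hx
        obtain ⟨c, hc, r, hr, rfl⟩ := hprod x hx
        rw [hwm.map_mul (Subgroup.mem_sup_right hc) (Subgroup.mem_sup_left hr), hwfix r hr]
        suffices hkey : c⁻¹ * w c ∈ R₂ by
          have := R₂.mul_mem (R₂.mul_mem (R₂.inv_mem hr) hkey) hr
          rwa [show r⁻¹ * (c⁻¹ * w c) * r = (c * r)⁻¹ * (w c * r) by group] at this
        have hfixc : cj y⁻¹ c = c := by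
          rw [cj_apply, inv_inv, mul_assoc, ← (mem_centralizerIn.mp hc).2 y hy.1, ← mul_assoc,
            inv_mul_cancel, one_mul]
        have hcR : c ∈ R' := Subgroup.mem_sup_right hc
        obtain ⟨c', hc', s, hs, hcs⟩ := hprod _ (hhh' c hcR).2
        have hys := conj_mem_of_mem_normalizerIn hyN hs
        have hcyc : cj y (c' * s) = c' * (y * s * y⁻¹) := by
          rw [cj_apply, ← mul_assoc y c' s, (mem_centralizerIn.mp hc').2 y hy.1]; group
        have h1 := (hhh' c hcR).1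
        rw [hcs, hhm.map_mul (Subgroup.mem_sup_right hc') (Subgroup.mem_sup_left hs),
          hhfix s hs] at h1
        show c⁻¹ * h (cj y (h' (cj y⁻¹ c))) ∈ R₂
        rw [hfixc, hcs, hcyc,
          hhm.map_mul (Subgroup.mem_sup_right hc') (Subgroup.mem_sup_left hys), hhfix _ hys,
          show h c' = c * s⁻¹ by rw [eq_mul_inv_iff_mul_eq]; exact h1, ← mul_assoc,
          inv_mul_cancel_left]
        exact R₂.mul_mem (R₂.inv_mem hs) hys
      obtain ⟨y'', hy'', hwy⟩ :=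
        exists_conj_of_stab hS hF hR2fn le_sup_left hR'N hnorm' hwm hwfix hwmod
      refine ⟨⟨hyN, hnorm' hyN⟩, y'' * y,
        Subgroup.mul_mem _ (centralizerIn_le_normalizerIn hy'') hyN, fun x hx => ?_⟩
      have h1 := hwy _ (hcy _ (hhR x hx))
      have h2 : w (y * h x * y⁻¹) = h (y * x * y⁻¹) := by
        show h (cj y (h' (cj y⁻¹ (y * h x * y⁻¹)))) = _
        rw [← cj_apply y (h x), cj_inv_cancel, hh'h x hx, cj_apply]
      rw [h2] at h1
      rw [h1]
      group
    obtain ⟨e, he, heh⟩ := (isReceptive_iff.mp hR'rec).2 R' h hhNS hhimg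
    have hdom : N₁ ⊔ C ≤ extSub (normalizerIn S R₂) hhNS :=
      sup_le hext ((le_sup_right : C ≤ R').trans (le_extSub hhNS))
    have heNS := he.restrict hdom
    obtain ⟨e', he', he'x, -⟩ := ((mapTo_nSys_iff hNS).mp heNS).2.2
    have heF : MapTo F (N₁ ⊔ C) e :=
      (he'.restrict le_sup_left).congr' fun x hx => (he'x x hx).symm
    have heT : ∀ n ∈ N₁, e n ∈ T := fun n hn =>
      StronglyClosed.map_mem hsc heF (Subgroup.mem_sup_left hn) hn.1
    have hefix : ∀ x ∈ R₂, e x = x := fun x hx => by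
      rw [heh x (Subgroup.mem_sup_left hx), hhfix x hx]
    have hemod : ∀ n ∈ N₁, n⁻¹ * e n ∈ R₂ := fun n hn => by
      refine hHT.2 _ (isConj_refl hR2S) (mem_centralizerIn.mpr
        ⟨T.mul_mem (T.inv_mem hn.1) (heT n hn), fun x hx => ?_⟩)
      have hm := conj_mem_of_mem_normalizerIn hn hx
      have h1 := heF.map_conj (Subgroup.mem_sup_left hn) (Subgroup.mem_sup_left (hR2N.le hx))
      rw [hefix _ hm, hefix x hx] at h1
      calc x * (n⁻¹ * e n) = n⁻¹ * (n * x * n⁻¹) * e n := by group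
        _ = n⁻¹ * (e n * x * (e n)⁻¹) * e n := by rw [h1]
        _ = n⁻¹ * e n * x := by group
    have hnormN : normalizerIn S R₂ ≤ Subgroup.normalizer (N₁ : Set Ω) := fun y hy => by
      haveI := finite_of_le (hN₁T.trans hTS)
      exact mem_normalizer_of_forall fun z hz =>
        ⟨(Subgroup.mem_normalizer_iff.mp (hTn y hy.1) z).mp hz.1,
          Subgroup.mul_mem _ (Subgroup.mul_mem _ hy.2 hz.2) (Subgroup.inv_mem _ hy.2)⟩
    obtain ⟨y', hy', hey⟩ := exists_conj_of_stab hS hF hR2fn hR2N.le hN₁N hnormN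
      (heF.restrict le_sup_left) hefix hemod
    set τ : MulAut T := T.normalizerMonoidHom ⟨y', hTn y' hy'.1⟩ with hτ
    have hτt : ∀ t ∈ T, autFun τ t = y' * t * y'⁻¹ := fun t ht => by
      rw [autFun_apply τ ht]; rfl
    have hτW : τ ∈ W := mem_autInducedBy_iff_cj.mpr ⟨y', hy', fun t ht => by
      rw [hτt t ht, cj_apply]⟩
    have heU : ∀ x ∈ N₁ ⊔ C, e x ∈ T ⊔ C := by
      intro x hx
      have h1 : img e (N₁ ⊔ C) ≤ T ⊔ C := by
        rw [heF.img_sup le_sup_left le_sup_right]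
        refine sup_le (le_trans (img_le_of_forall heT) le_sup_left)
          (img_le_of_forall fun c hc => ?_)
        rw [heh c (Subgroup.mem_sup_right hc)]
        exact hR'U (hhR c (Subgroup.mem_sup_right hc))
      exact h1 (mem_img_of_mem hx)
    refine ⟨τ, hτW, (hΓ₁ _).mpr ⟨Subgroup.mul_mem _ hηG (hWG hτW), fun x => β (e x),
      heF.comp hβ heU, fun n hn => ?_, fun c hc => ?_⟩⟩
    · show β (e n) = _
      rw [hβt _ (heT n hn), autFun_mul η τ hn.1, hτt n hn.1, hey n hn]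
    · show c⁻¹ * β (e c) ∈ T
      rw [heh c (Subgroup.mem_sup_right hc)]
      show c⁻¹ * β (bi (g c)) ∈ T
      rw [hβbi _ (hgU c (Subgroup.mem_sup_right hc))]
      exact hgC c hc
  -- the `p`-powers
  have hK : (ΓT.subgroupOf (F.autGroup T)).Normal := by
    refine ⟨fun x hx u => (hΓT _).mpr ⟨Subgroup.mul_mem _ (Subgroup.mul_mem _ u.2 x.2)
      (Subgroup.inv_mem _ u.2), ?_⟩⟩
    have h1 := ((hΓT _).mp hx).2.transport hS hF hsc le_rfl u.2
    rw [img_autFun] at h1
    refine h1.congr fun y hy => ?_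
    show autFun ((u : MulAut T) * (x : MulAut T) * (u : MulAut T)⁻¹) y = _
    rw [autFun_mul _ _ hy, autFun_mul _ _ (autFun_mem _ hy)]
    rfl
  let q : ↥(F.autGroup T) →* ↥(F.autGroup T) ⧸ ΓT.subgroupOf (F.autGroup T) :=
    QuotientGroup.mk' _
  have hq : ∀ η : F.autGroup T, q η = 1 ↔ Lift F T T (autFun (η : MulAut T)) := fun η =>
    ((QuotientGroup.eq_one_iff η).trans (hΓT _)).trans ⟨fun h => h.2, fun h => ⟨η.2, h⟩⟩
  have hlt' : Nat.card T - Nat.card N₁ < n := by
    rw [← hn]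
    haveI := finite_of_le (hN₁T.trans hTS)
    have h1 := card_lt_of_lt hR2N (hN₁T.trans hTS)
    have h2 : Nat.card N₁ ≤ Nat.card T := Subgroup.card_le_of_le hN₁T
    have h3 : Nat.card R₂ = Nat.card R := hf.card_img le_rfl
    omega
  have hp₁ : IsPGroup p ((Γ₁.subgroupOf (F.autGroup T)).map q) := by
    rintro ⟨_, η, hη, rfl⟩
    obtain ⟨-, hηD⟩ := (hΓ₁ η).mp hη
    obtain ⟨k, hk⟩ := ih _ hlt' N₁ rfl (hHT.mono hR2N.le hN₁T) η η.2 hηD
    refine ⟨k, Subtype.ext ?_⟩
    show q η ^ p ^ k = 1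
    rw [← map_pow, hq]
    exact hk
  have hp₂ : IsPGroup p ((W.subgroupOf (F.autGroup T)).map q) :=
    ((hWp.of_equiv (Subgroup.subgroupOfEquivOfLe hWG).symm).map q)
  set H := (Γ₂.subgroupOf (F.autGroup T)).map q with hH
  have hle₂ : (W.subgroupOf (F.autGroup T)).map q ≤ H :=
    Subgroup.map_mono fun τ hτ => hWΓ hτ
  have hle₁ : (Γ₁.subgroupOf (F.autGroup T)).map q ≤ H :=
    Subgroup.map_mono fun η hη => by
      obtain ⟨h1, h2⟩ := (hΓ₁ η).mp hη
      exact (hΓ₂ η).mpr ⟨h1, h2.restrict hR2N.le⟩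
  have hHp : IsPGroup p H := by
    refine isPGroup_of_forall_mul (A := ((W.subgroupOf _).map q).subgroupOf H)
      (B := ((Γ₁.subgroupOf _).map q).subgroupOf H)
      (hp₂.of_equiv (Subgroup.subgroupOfEquivOfLe hle₂).symm)
      (hp₁.of_equiv (Subgroup.subgroupOfEquivOfLe hle₁).symm) ?_
    rintro ⟨_, η, hη, rfl⟩
    obtain ⟨τ, hτ, hητ⟩ := hfac η hη
    refine ⟨⟨q ⟨τ, hWG hτ⟩⁻¹, hle₂ ⟨_, ?_, rfl⟩⟩, ⟨_, ?_, rfl⟩,
      ⟨q (η * ⟨τ, hWG hτ⟩), hle₁ ⟨_, hητ, rfl⟩⟩, ⟨_, hητ, rfl⟩, Subtype.ext ?_⟩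
    · exact W.inv_mem hτ
    · exact W.inv_mem hτ
    · show q η = q (η * ⟨τ, hWG hτ⟩) * q ⟨τ, hWG hτ⟩⁻¹
      rw [← map_mul, mul_inv_cancel_right]
  obtain ⟨k, hk⟩ := hHp ⟨q ⟨γ', hγ'G⟩, ⟨γ', hγ'G⟩, (hΓ₂ γ').mpr ⟨hγ'G, hLγ'⟩, rfl⟩
  refine ⟨k, ?_⟩
  have h1 := congrArg Subtype.val hk
  simp only [SubmonoidClass.coe_pow, OneMemClass.coe_one] at h1
  rw [← map_pow, hq] at h1
  exact h1

/-- The elementary maps of `E` are permuted by `Aut_F(T)`. -/
theorem ezero_transport (hi : E.IsInvariantIn F) {z : Ω → Ω} {a : MulAut T}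
    (hz : Ezero E p {P : Subgroup Ω | E.IsCentric P} P z) (ha : a ∈ F.autGroup T) : P ≤ T →
    Ezero E p {P : Subgroup Ω | E.IsCentric P} (img (autFun a) P)
      (fun y => autFun a (z (autFun a⁻¹ y))) := by
  have hTS := hi.2.1.1
  have hm := mapTo_of_mem_autGroup hTS ha
  haveI := finite_of_le hTS
  induction hz with
  | base Q α hQ hQT hα P hP g hg =>
    intro hPT
    have hmQ := hm.restrict hQT
    have hQc : E.IsCentric (img (autFun a) Q) :=
      isCentric_of_isConj hi ((ht_of_isCentric hi hQ).img hi.2.1 hmQ)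
    have hQ'T : img (autFun a) Q ≤ T := img_le_of_forall fun x hx => autFun_mem a (hQT hx)
    have hgen : MulAut.congr (isoEquiv hmQ rfl) α ∈ ppP E p (img (autFun a) Q) := by
      clear hg
      obtain ⟨b, hb, rfl⟩ := hα
      induction hb using Subgroup.closure_induction with
      | one => rw [map_one, map_one]; exact Subgroup.one_mem _
      | mul x y _ _ hx hy => rw [map_mul, map_mul]; exact Subgroup.mul_mem _ hx hy
      | inv x _ hx => rw [map_inv, map_inv]; exact Subgroup.inv_mem _ hx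
      | mem x hx =>
        obtain ⟨k, hk⟩ := hx
        obtain ⟨χ, hχ, hχx⟩ :=
          IsInvariantIn.transport hi hQT (mapTo_of_mem_autGroup hQT x.2) ha
        refine mem_ppP_of_pow (k := k) ((mem_autGroup_iff hQ'T).mpr
          (hχ.congr' fun y hy => ?_)) ?_
        · obtain ⟨u, hu, rfl⟩ := (hmQ.mem_img_iff le_rfl).mp hy
          rw [autFun_congr hmQ rfl _ hu, hχx u hu, Subgroup.coe_subtype]
        · rw [← map_pow, Subgroup.coe_subtype, ← SubmonoidClass.coe_pow, ← hk,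
            pow_orderOf_eq_one]
          exact map_one _
    refine .base _ _ hQc hQ'T hgen _ (img_mono hP) _ fun y hy => ?_
    obtain ⟨u, hu, rfl⟩ := (hm.mem_img_iff hPT).mp hy
    rw [autFun_congr hmQ rfl α (hP hu)]
    show autFun a (g (autFun a⁻¹ (autFun a u))) = _
    rw [autFun_inv_autFun a (hPT hu), hg u hu]
  | cj P s g hP hs hg =>
    intro hPT
    refine .cj _ (autFun a s) _ (img_le_of_forall fun x hx => autFun_mem a (hPT hx))
      (autFun_mem a hs) fun y hy => ?_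
    obtain ⟨u, hu, rfl⟩ := (hm.mem_img_iff hPT).mp hy
    show autFun a (g (autFun a⁻¹ (autFun a u))) = _
    rw [autFun_inv_autFun a (hPT hu), hg u hu, cj_apply, cj_apply]
    exact hm.map_conj hs (hPT hu)
  | comp P f g h hf hg hh ih ih' =>
    intro hPT
    have hfm := hf.mapTo
    have h1 := ih hPT
    have h2 := ih' (img_le_of_forall fun x hx => hfm.mem hx)
    refine .comp _ _ _ _ h1 (h2.restrict (img_le_of_forall fun y hy => ?_)) fun y hy => ?_
    · obtain ⟨u, hu, rfl⟩ := (hm.mem_img_iff hPT).mp hy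
      show autFun a (f (autFun a⁻¹ (autFun a u))) ∈ _
      rw [autFun_inv_autFun a (hPT hu)]
      exact mem_img_of_mem (mem_img_of_mem hu)
    · obtain ⟨u, hu, rfl⟩ := (hm.mem_img_iff hPT).mp hy
      show autFun a (h (autFun a⁻¹ (autFun a u))) =
        autFun a (g (autFun a⁻¹ (autFun a (f (autFun a⁻¹ (autFun a u))))))
      rw [autFun_inv_autFun a (hPT hu), autFun_inv_autFun a (hfm.mem hu), hh u hu]

/-- `O^{p'}` of a weakly normal subsystem is normal. -/
theorem isNormalIn_residual (hS : IsPGroup p S) (hE : E.IsWeaklyNormalIn F p)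
    (hD : E.IsPPrimeResidual p D) : D.IsNormalIn F p := by
  obtain ⟨hEs, hF, hi⟩ := id hE
  obtain ⟨hDs, hDi, hDl⟩ := hD
  have hsc := hi.2.1
  have hTS := hsc.1
  haveI := finite_of_le hTS
  have := finite_mulAut T
  have hTp := hS.to_le hTS
  have hℋ : IsFamily E p {P : Subgroup Ω | E.IsCentric P} := isFamily_centric
  set A := aZero E p {P : Subgroup Ω | E.IsCentric P} with hAdef
  have hD0 : ∀ {P : Subgroup Ω} {f : Ω → Ω},
      Ezero E p {P : Subgroup Ω | E.IsCentric P} P f → MapTo D P f :=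
    fun hf => mapTo_of_ezero D le_rfl (fun Q _ hQT => hDi.2 Q hQT) hf
  have hAD : A ≤ D.autGroup T := by
    refine (Subgroup.closure_le _).mpr ?_
    rintro b ⟨hb, Q, hQ, hQb⟩
    exact (mem_autGroup_iff le_rfl).mpr (mapTo_top_of_centric' hTp hEs hDs hDi.1
      (mapTo_of_mem_autGroup le_rfl hb) hQ (hD0 hQb))
  have hform : ∀ {P : Subgroup Ω} {f : Ω → Ω}, MapTo D P f →
      ∃ a ∈ A, ∃ z, Ezero E p {P : Subgroup Ω | E.IsCentric P} P z ∧
        ∀ x ∈ P, f x = autFun a (z x) := fun hf =>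
    ((mapTo_hSys_iff hℋ aZero_le).mp (IsSubsystemOf.mapTo (hDl _
      (isSaturated_hSys hℋ aZero_le hTp hEs le_rfl)
      (hasPrimeToPIndex_hSys hℋ aZero_le hTp hEs)) hf)).2
  have hAn : ∀ a ∈ F.autGroup T, ∀ b ∈ A, a * b * a⁻¹ ∈ A := by
    intro a ha b hb
    induction hb using Subgroup.closure_induction with
    | one => simp
    | mul x y _ _ hx hy => simpa [mul_assoc] using Subgroup.mul_mem _ hx hy
    | inv x _ hx => simpa [mul_assoc] using Subgroup.inv_mem _ hx
    | mem x hx =>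
      obtain ⟨hxE, Q, hQ, hQx⟩ := hx
      refine Subgroup.subset_closure ⟨?_, img (autFun a) Q, isCentric_of_isConj hi
        ((ht_of_isCentric hi hQ).img hsc ((mapTo_of_mem_autGroup hTS ha).restrict hQ.1)), ?_⟩
      · exact (IsInvariantIn.normal_autGroup hi (le_refl T)).conj_mem
          ⟨x, IsSubsystemOf.autGroup_le hi.1 _ hxE⟩ hxE ⟨a, ha⟩
      · refine (ezero_transport hi hQx ha hQ.1).congr_fun fun y hy => ?_
        have hyT : y ∈ T := img_le_of_forall (fun u hu => autFun_mem a (hQ.1 hu)) hy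
        rw [autFun_mul _ _ hyT, autFun_mul _ _ (autFun_mem _ hyT)]
  have hAL : ∀ b ∈ A, Lift F T T (autFun b) := by
    obtain ⟨ΓT, hΓT⟩ := exists_liftGroup (p := p) hS hF hsc (HT.top hsc)
    suffices h : A ≤ ΓT from fun b hb => ((hΓT b).mp (h hb)).2
    refine (Subgroup.closure_le _).mpr ?_
    rintro b ⟨hb, Q, hQ, hQb⟩
    have hbF := IsSubsystemOf.autGroup_le hi.1 T hb
    obtain ⟨k, hk⟩ := exists_pow_lift hS hE Q (ht_of_isCentric hi hQ) b hbF
      (lift_of_ezero hS hE hQb (ht_of_isCentric hi hQ))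
    set n := orderOf b with hn
    set m := n / p ^ n.factorization p with hm
    have hbm : Lift F T T (autFun (b ^ m)) := by
      refine lift_of_pow_eq_one hS hE isCentric_top (HT.top hsc) (Subgroup.pow_mem _ hb m)
        (k := n.factorization p) ?_
      rw [← pow_mul, hm, Nat.div_mul_cancel (Nat.ordProj_dvd n p), hn, pow_orderOf_eq_one]
    have hcop : Nat.Coprime (p ^ k) m :=
      Nat.Coprime.pow_left k (Nat.coprime_ordCompl Fact.out (orderOf_pos b).ne')
    obtain ⟨x, y, hxy⟩ := hcop.isCoprime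
    show b ∈ ΓT
    rw [← zpow_one b, ← hxy, zpow_add, mul_comm x, mul_comm y, zpow_mul, zpow_mul, zpow_natCast,
      zpow_natCast]
    exact Subgroup.mul_mem _
      (Subgroup.zpow_mem _ ((hΓT _).mpr ⟨Subgroup.pow_mem _ hbF _, hk⟩) x)
      (Subgroup.zpow_mem _ ((hΓT _).mpr ⟨Subgroup.pow_mem _ hbF _, hbm⟩) y)
  refine ⟨⟨hDs, hF, ?_, hsc, ?_, ?_⟩, ?_⟩
  · exact fun P φ hφ => hi.1 P (hDi.1 P hφ)
  · intro P hPT φ hφ a ha
    obtain ⟨b, hb, z, hz, hfx⟩ := hform (mapTo_ev hφ)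
    have h1 := ezero_transport hi hz ha hPT
    have h2 : MapTo D (img (autFun a) P)
        (fun y => autFun (a * b * a⁻¹) (autFun a (z (autFun a⁻¹ y)))) :=
      (hD0 h1).comp (mapTo_of_mem_autGroup le_rfl (hAD (hAn a ha b hb)))
        fun y hy => (hD0 h1).mem hy
    have he : (P.subgroupOf T).map (T.subtype.comp a.toMonoidHom) = img (autFun a) P :=
      map_subgroupOf_eq_img (fun x => (autFun_coe a x).symm) hPT
    rw [← he] at h2
    obtain ⟨χ, hχ, hχx⟩ := h2
    refine ⟨χ, hχ, fun x hφx hax => ?_⟩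
    have hxT : (x : Ω) ∈ T := hPT x.2
    rw [hχx, ← autFun_apply a hφx, ← ev_coe φ x, hfx x x.2]
    show autFun (a * b * a⁻¹) (autFun a (z (autFun a⁻¹ ((a ⟨x, hxT⟩ : T) : Ω)))) = _
    have hzT : z x ∈ T := hz.mapTo.mem x.2
    rw [← autFun_apply a hxT, autFun_inv_autFun a hxT, autFun_mul _ _ (autFun_mem a hzT),
      autFun_inv_autFun a hzT, autFun_mul _ _ hzT]
  · intro P hPT φ hφ
    obtain ⟨α, hα, d, hd, hx⟩ := IsInvariantIn.frattini hi hPT (mapTo_ev hφ)
    obtain ⟨b, hb, z, hz, hdx⟩ := frat_of_mapTo hTp hEs hℋ hd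
    obtain ⟨φ₀, hφ₀, hφ₀x⟩ := hD0 hz
    refine ⟨α * b, Subgroup.mul_mem _ hα (IsSubsystemOf.autGroup_le hi.1 _ hb), φ₀, hφ₀,
      fun x hxT => ?_⟩
    rw [← autFun_apply (α * b) hxT, hφ₀x, autFun_mul _ _ (hz.mapTo.mem x.2), ← hdx x x.2,
      ← hx x x.2, ev_coe]
  · intro α hα
    obtain ⟨a, ha, z, hz, hzx⟩ := hform (mapTo_of_mem_autGroup le_rfl hα)
    have hαA : α ∈ A := by
      have h1 : a⁻¹ * α ∈ A := Subgroup.subset_closure
        ⟨Subgroup.mul_mem _ (Subgroup.inv_mem _ (aZero_le ha))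
          (IsSubsystemOf.autGroup_le hDi.1 T hα), T, isCentric_top,
          hz.congr_fun fun x hx => by
            rw [autFun_mul _ _ hx, hzx x hx, autFun_inv_autFun a (hz.mapTo.mem hx)]⟩
      have h2 := A.mul_mem ha h1
      rwa [mul_inv_cancel_left] at h2
    obtain ⟨g, hg, hgα, hgc⟩ := hAL α hαA
    haveI := finite_of_le hg.le
    have hgimg : img g (T ⊔ centralizerIn S T) = T ⊔ centralizerIn S T := by
      refine img_eq_self_of_forall hg fun x hx => ?_
      have h1 : img g (T ⊔ centralizerIn S T) ≤ T ⊔ centralizerIn S T := by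
        rw [hg.img_sup le_sup_left le_sup_right]
        refine sup_le (le_trans (img_le_of_forall fun t ht => ?_) le_sup_left)
          (img_le_of_forall fun c hc => ?_)
        · rw [hgα t ht]; exact autFun_mem α ht
        · rw [← mul_inv_cancel_left c (g c)]
          exact Subgroup.mul_mem _ (Subgroup.mem_sup_right hc) (Subgroup.mem_sup_left (hgc c hc))
      exact h1 (mem_img_of_mem hx)
    refine ⟨autOf hg hgimg, autOf_mem _ _, fun x => ?_, fun c hc => ?_⟩
    · rw [← autFun_coe α x, ← hgα x x.2, ← autFun_autOf hg hgimg (Subgroup.mem_sup_left x.2),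
        autFun_apply _ (Subgroup.mem_sup_left x.2)]
      rfl
    · rw [← autFun_coe (autOf hg hgimg) c, autFun_autOf hg hgimg c.2]
      refine ⟨hgc _ hc, Subgroup.mem_centralizer_iff.mpr fun t ht => ?_⟩
      have h1 : g c ∈ centralizerIn S (img g T) :=
        hg.map_mem_centralizerIn le_sup_left c.2 hc
      rw [img_congr hgα, img_autFun] at h1
      exact (mem_centralizerIn.mp ((centralizerIn S T).mul_mem
        ((centralizerIn S T).inv_mem hc) h1)).2 t ht

end Cfsg.Agent.Components.ResidualExtension
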