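import Cfsg.Agent.Lib.Components.CentralizerOfNormal
import Cfsg.Agent.Lib.Components.ResidualExtensionMain

/-!
For a normal subsystem `E` over `T` of `F`, the subgroup `C_S(E)` is strongly closed.
-/

set_option autoImplicit false
set_option linter.style.haveILetI false
set_option linter.unusedSectionVars false
set_option linter.unusedVariables false

namespace Cfsg.Agent.Components.CentralizerOfNormal

open Cfsg.FusionSystem (centralizerIn normalizerIn)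
open Cfsg.Agent.Fusion
open Cfsg.Agent.Components.ResidualExtension
  (ht_of_isCentric isCentric_of_isConj isFullyNormalized_sub mem_normalizer_of_forall_centralize)

universe u

variable {Ω : Type u} [Group Ω] {S T Q Q₀ : Subgroup Ω} {F : FusionSystem S} {E : FusionSystem T}
variable {p : ℕ}

theorem inf_zpowers_eq (hsc : F.StronglyClosed T) (hQ : HT F T Q) {c : Ω}
    (hc : c ∈ centralizerIn S T) : (Q ⊔ Subgroup.zpowers c) ⊓ T = Q := by
  refine le_antisymm ?_ (le_inf le_sup_left hQ.1)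
  rintro x ⟨hx, hxT⟩
  have hn : Subgroup.zpowers c ≤ Subgroup.normalizer (Q : Set Ω) := fun z hz =>
    mem_normalizer_of_forall_centralize hQ.1 (Subgroup.zpowers_le.mpr hc hz)
  have h1 : x ∈ ((Subgroup.zpowers c ⊔ Q : Subgroup Ω) : Set Ω) := by rw [sup_comm]; exact hx
  rw [Subgroup.coe_mul_of_left_le_normalizer_right _ Q hn] at h1
  obtain ⟨z, hz, q, hq, rfl⟩ := h1
  refine Q.mul_mem ?_ hq
  have hzC : z ∈ centralizerIn S T := Subgroup.zpowers_le.mpr hc hz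
  have hzT : z ∈ T := by
    have := T.mul_mem hxT (T.inv_mem (hQ.1 hq))
    rwa [mul_inv_cancel_right] at this
  exact hQ.2 _ (isConj_refl (hQ.1.trans hsc.1))
    (mem_centralizerIn.mpr ⟨hzT, fun y hy => (mem_centralizerIn.mp hzC).2 y (hQ.1 hy)⟩)

theorem normalizerIn_le_normalizer (hQ : Q ≤ T) {c : Ω} (hc : c ∈ centralizerIn S T) :
    normalizerIn T Q ≤ Subgroup.normalizer ((Q ⊔ Subgroup.zpowers c : Subgroup Ω) : Set Ω) := by
  intro y hy
  have hyc : y * c * y⁻¹ = c := by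
    rw [(mem_centralizerIn.mp hc).2 y hy.1, mul_inv_cancel_right]
  refine Subgroup.mem_normalizer_iff_map_conj_eq.mpr ?_
  rw [Subgroup.map_sup, Subgroup.mem_normalizer_iff_map_conj_eq.mp hy.2, MonoidHom.map_zpowers]
  exact congrArg (fun z => Q ⊔ Subgroup.zpowers z) hyc

variable [Finite S] [Fact p.Prime]

/-- The maps moving an element of `cSet`, from a subgroup of `T` containing its centraliser. -/
theorem map_mem_cSet (hS : IsPGroup p S) (hE : E.IsNormalIn F p) :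
    ∀ (Q : Subgroup Ω), HT F T Q → ∀ c ∈ cSet F E, ∀ f : Ω → Ω,
      MapTo F (Q ⊔ Subgroup.zpowers c) f → f c ∈ cSet F E := by
  obtain ⟨hEs, hF, hi⟩ := id hE.1
  have hsc := hi.2.1
  have hTS : T ≤ S := hsc.1
  haveI := finite_of_le hTS
  have hTp := hS.to_le hTS
  intro Q
  induction hn : Nat.card T - Nat.card Q using Nat.strong_induction_on generalizing Q with
  | h n ih =>
  intro hQ c hc f hf
  have hcC := hc.1
  rcases eq_or_lt_of_le hQ.1 with rfl | hlt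
  · exact cSet_transport hS hF hi hf (StronglyClosed.img_eq hsc hf le_sup_left) hc
  have hQS := hQ.1.trans hTS
  haveI := finite_of_le hQS
  -- the induction step
  have hstep : ∀ (R : Subgroup Ω), HT F T R → Nat.card Q < Nat.card R → ∀ d ∈ cSet F E,
      ∀ g : Ω → Ω, MapTo F (R ⊔ Subgroup.zpowers d) g → g d ∈ cSet F E := by
    intro R hR hlt' d hd g hg
    refine ih _ ?_ R rfl hR d hd g hg
    haveI := finite_of_le (hR.1.trans hTS)
    have h2 : Nat.card R ≤ Nat.card T := Subgroup.card_le_of_le hR.1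
    omega
  have hbig : ∀ {R : Subgroup Ω}, HT F T R → R < T → Nat.card R = Nat.card Q →
      HT F T (normalizerIn T R) ∧ Nat.card Q < Nat.card (normalizerIn T R) := by
    intro R hR hRlt hcard
    refine ⟨hR.mono (le_normalizerIn hR.1) normalizerIn_le, ?_⟩
    haveI := finite_of_le ((normalizerIn_le (S := T) (P := R)).trans hTS)
    rw [← hcard]
    exact card_lt_of_lt (lt_normalizerIn hTp hRlt) (normalizerIn_le.trans hTS)
  have hfQ := hf.restrict (le_sup_left : Q ≤ _)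
  set Q' := img f Q with hQ'
  have hQ'HT : HT F T Q' := hQ.img hsc hfQ
  have hQ'c : Nat.card Q' = Nat.card Q := hfQ.card_img le_rfl
  obtain ⟨Q₀, hQ₀c, hQ₀⟩ := exists_isFullyNormalized (F := F) hQS
  obtain ⟨χ₀, hχ₀, hχ₀Q⟩ := exists_map_normalizerIn hS (isFullyAutomized_of_isFullyNormalized hS hF hQ₀)
    (isReceptive_of_isFullyNormalized hS hF hQ₀) hQ₀c
  obtain ⟨χ, hχ, hχQ⟩ := exists_map_normalizerIn hS (isFullyAutomized_of_isFullyNormalized hS hF hQ₀)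
    (isReceptive_of_isFullyNormalized hS hF hQ₀) (isConj_trans (isConj_symm hfQ.isConj) hQ₀c)
  have hQ₀HT : HT F T Q₀ := hχ₀Q ▸ hQ.img hsc (hχ₀.restrict (le_normalizerIn hQS))
  have hQ₀T := hQ₀HT.1
  have hQ₀S := hQ₀T.trans hTS
  have hQ₀card : Nat.card Q₀ = Nat.card Q := by
    rw [← hχ₀Q]; exact (hχ₀.restrict (le_normalizerIn hQS)).card_img le_rfl
  have hcard_lt : ∀ {R : Subgroup Ω}, HT F T R → Nat.card R = Nat.card Q → R < T := by
    intro R hR hcard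
    refine lt_of_le_of_ne hR.1 fun he => hlt.ne ?_
    exact Subgroup.eq_of_le_of_card_ge hQ.1 (by rw [← he, hcard])
  -- the two conjugates
  have hN : ∀ {R : Subgroup Ω} {d : Ω}, R ≤ T → d ∈ S →
      (∀ x ∈ R, x * d = d * x) →
      normalizerIn T R ⊔ Subgroup.zpowers d ≤ normalizerIn S R := by
    intro R d hR hd hcomm
    haveI := finite_of_le (hR.trans hTS)
    refine sup_le (fun y hy => ⟨hTS hy.1, hy.2⟩) (Subgroup.zpowers_le.mpr ⟨hd,
      mem_normalizer_of_forall fun x hx => by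
        rw [← hcomm x hx, mul_inv_cancel_right]; exact hx⟩)
  have hcQ : ∀ x ∈ Q, x * c = c * x := fun x hx => (mem_centralizerIn.mp hcC).2 x (hQ.1 hx)
  have hχ₀m := hχ₀.restrict (hN hQ.1 hcC.1 hcQ)
  have hNQ := hbig hQ hlt rfl
  set c₁ := χ₀ c with hc₁
  have hc₁m : c₁ ∈ cSet F E := hstep _ hNQ.1 hNQ.2 c hc χ₀ hχ₀m
  set c' := f c with hc'
  have hcmem : c ∈ Q ⊔ Subgroup.zpowers c := Subgroup.mem_sup_right (Subgroup.mem_zpowers c)
  have hc'Q : ∀ y ∈ Q', y * c' = c' * y := by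
    intro y hy
    obtain ⟨x, hx, rfl⟩ := (hfQ.mem_img_iff le_rfl).mp hy
    rw [hc', ← hf.map_mul (Subgroup.mem_sup_left hx) hcmem,
      ← hf.map_mul hcmem (Subgroup.mem_sup_left hx), hcQ x hx]
  have hQ'S := hQ'HT.1.trans hTS
  have hχm := hχ.restrict (hN hQ'HT.1 (hf.mem hcmem) hc'Q)
  set c₂ := χ c' with hc₂
  -- the map between them
  set X₁ := Q₀ ⊔ Subgroup.zpowers c₁ with hX₁
  have hc₁C : c₁ ∈ centralizerIn S T := hc₁m.1
  have hdom0 : Q ⊔ Subgroup.zpowers c ≤ normalizerIn T Q ⊔ Subgroup.zpowers c :=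
    sup_le_sup_right (le_normalizerIn hQ.1) _
  have hX₁img : img χ₀ (Q ⊔ Subgroup.zpowers c) = X₁ := by
    rw [(hχ₀m.restrict hdom0).img_sup le_sup_left le_sup_right, hχ₀Q,
      img_zpowers hχ₀m (hdom0 hcmem)]
  obtain ⟨k₀, hk₀, hk₀χ, -, -⟩ := (hχ₀m.restrict hdom0).exists_iso_inverse
  rw [hX₁img] at hk₀
  have hdom' : Q' ⊔ Subgroup.zpowers c' ≤ normalizerIn T Q' ⊔ Subgroup.zpowers c' :=
    sup_le_sup_right (le_normalizerIn hQ'HT.1) _
  have hfimg : img f (Q ⊔ Subgroup.zpowers c) = Q' ⊔ Subgroup.zpowers c' := by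
    rw [hf.img_sup le_sup_left le_sup_right, img_zpowers hf hcmem]
  have hk₀mem : ∀ y ∈ X₁, k₀ y ∈ Q ⊔ Subgroup.zpowers c := by
    intro y hy
    obtain ⟨x, hx, rfl⟩ := ((hχ₀m.restrict hdom0).mem_img_iff le_rfl).mp (hX₁img.symm ▸ hy)
    rw [hk₀χ x hx]; exact hx
  set ρ : Ω → Ω := fun y => χ (f (k₀ y)) with hρ
  have hρm : MapTo F X₁ ρ :=
    (hk₀.comp hf hk₀mem).comp (hχm.restrict hdom') fun y hy => by
      rw [← hfimg]; exact mem_img_of_mem (hk₀mem y hy)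
  have hρc : ρ c₁ = c₂ := by show χ (f (k₀ (χ₀ c))) = c₂; rw [hk₀χ c hcmem]
  have hρQ : img ρ Q₀ = Q₀ := by
    refine le_antisymm (img_le_of_forall fun y hy => ?_) ?_
    · obtain ⟨x, hx, rfl⟩ :=
        ((hχ₀.restrict (le_normalizerIn hQS)).mem_img_iff le_rfl).mp (hχ₀Q.symm ▸ hy)
      show χ (f (k₀ (χ₀ x))) ∈ Q₀
      rw [hk₀χ x (Subgroup.mem_sup_left hx), ← hχQ]
      exact mem_img_of_mem (mem_img_of_mem hx)
    · intro y hy
      obtain ⟨z, hz, rfl⟩ :=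
        ((hχ.restrict (le_normalizerIn hQ'S)).mem_img_iff le_rfl).mp (hχQ.symm ▸ hy)
      obtain ⟨x, hx, rfl⟩ := (hfQ.mem_img_iff le_rfl).mp hz
      have h1 : ρ (χ₀ x) ∈ img ρ Q₀ := mem_img_of_mem (hχ₀Q ▸ mem_img_of_mem hx)
      have h2 : ρ (χ₀ x) = χ (f x) := by
        show χ (f (k₀ (χ₀ x))) = χ (f x)
        rw [hk₀χ x (Subgroup.mem_sup_left hx)]
      exact h2 ▸ h1
  haveI := finite_of_le hQ₀S
  haveI := finite_mulAut Q₀
  have hNQ₀ := hbig hQ₀HT (hcard_lt hQ₀HT hQ₀card) hQ₀card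
  set N₁ := normalizerIn T Q₀ with hN₁
  -- it suffices to work at `Q₀`
  suffices hmain : c₂ ∈ cSet F E by
    have hNQ' := hbig hQ'HT (hcard_lt hQ'HT hQ'c) hQ'c
    obtain ⟨k, hk, hkχ, -, -⟩ := hχm.exists_iso_inverse
    rw [hχm.img_sup le_sup_left le_sup_right, img_zpowers hχm
      (Subgroup.mem_sup_right (Subgroup.mem_zpowers _))] at hk
    have hHT' : HT F T (img χ (normalizerIn T Q')) :=
      hNQ'.1.img hsc (hχm.restrict le_sup_left)
    have h1 := hstep _ hHT' (by rw [hχm.card_img le_sup_left]; exact hNQ'.2) c₂ hmain k hk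
    rwa [hc₂, hkχ c' (Subgroup.mem_sup_right (Subgroup.mem_zpowers _))] at h1
  -- inside the normalizer system of `Q₀`
  obtain ⟨NS, hNS⟩ : ∃ NS : FusionSystem (normalizerIn S Q₀), F.IsNormalizerSystem Q₀ NS :=
    ⟨_, isNormalizerSystem_nSys F hQ₀S⟩
  have hNSsat := isSaturated_normalizerSystem hS hF hQ₀ hNS
  haveI := finite_of_le (normalizerIn_le (S := S) (P := Q₀))
  have hNp : IsPGroup p (normalizerIn S Q₀) := hS.to_le normalizerIn_le
  have hN₁NS : N₁ ≤ normalizerIn S Q₀ := fun y hy => ⟨hTS hy.1, hy.2⟩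
  have hX₁NS : X₁ ≤ normalizerIn S Q₀ := sup_le (le_normalizerIn hQ₀S)
    (Subgroup.zpowers_le.mpr ⟨hc₁C.1, mem_normalizer_of_forall_centralize hQ₀T hc₁C⟩)
  set X₂ := img ρ X₁ with hX₂
  have hX₂eq : X₂ = Q₀ ⊔ Subgroup.zpowers c₂ := by
    rw [hX₂, hX₁, hρm.img_sup le_sup_left le_sup_right, hρQ,
      img_zpowers hρm (Subgroup.mem_sup_right (Subgroup.mem_zpowers _)), hρc]
  have hc₂X : c₂ ∈ X₂ := hX₂eq ▸ Subgroup.mem_sup_right (Subgroup.mem_zpowers _)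
  have hX₂NS : X₂ ≤ normalizerIn S Q₀ := img_le_of_forall fun x hx => ⟨hρm.mem hx, by
    refine (mem_normalizerIn_of_forall hQ₀S (hρm.mem hx) fun y hy => ?_).2
    obtain ⟨u, hu, rfl⟩ := (hρm.mem_img_iff le_sup_left).mp (hρQ.symm ▸ hy)
    rw [← hρm.map_conj hx (Subgroup.mem_sup_left hu)]
    have hm : x * u * x⁻¹ ∈ Q₀ := conj_mem_of_mem_normalizerIn (hX₁NS hx) hu
    have := mem_img_of_mem (f := ρ) hm
    rwa [hρQ] at this⟩
  have hX₁T : X₁ ⊓ T = Q₀ := inf_zpowers_eq hsc hQ₀HT hc₁C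
  have hX₂T : X₂ ⊓ T = Q₀ := by
    rw [hX₂, ← img_inf_eq hsc hρm, hX₁T, hρQ]
  have hρNS : MapTo NS X₁ ρ := (mapTo_nSys_iff hNS).mpr ⟨hX₁NS,
    fun x hx => hX₂NS (mem_img_of_mem hx), ρ, by rwa [sup_eq_left.mpr (le_sup_left : Q₀ ≤ X₁)],
    fun _ _ => rfl, hρQ⟩
  obtain ⟨X, hXc, hXfn⟩ := exists_isFullyNormalized (F := NS) hX₁NS
  have hXfa := isFullyAutomized_of_isFullyNormalized hNp hNSsat hXfn
  have hXrec := isReceptive_of_isFullyNormalized hNp hNSsat hXfn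
  obtain ⟨g₁, hg₁, hg₁X⟩ := exists_map_normalizerIn hNp hXfa hXrec hXc
  obtain ⟨g₂, hg₂, hg₂X⟩ := exists_map_normalizerIn hNp hXfa hXrec
    (isConj_trans (isConj_symm hρNS.isConj) hXc)
  have hNSF : ∀ {P : Subgroup Ω} {g : Ω → Ω}, MapTo NS P g → Q₀ ≤ P →
      MapTo F P g ∧ img g Q₀ = Q₀ := by
    intro P g hg hP
    obtain ⟨g', hg', hg'x, hg'Q⟩ := ((mapTo_nSys_iff hNS).mp hg).2.2
    exact ⟨(hg'.restrict le_sup_left).congr' fun x hx => (hg'x x hx).symm,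
      (img_congr fun x hx => (hg'x x (hP hx)).symm).trans hg'Q⟩
  have hN₁X₁ : N₁ ⊔ Subgroup.zpowers c₁ ≤ normalizerIn (normalizerIn S Q₀) X₁ :=
    sup_le (fun y hy => ⟨hN₁NS hy, normalizerIn_le_normalizer hQ₀T hc₁C hy⟩)
      (Subgroup.zpowers_le.mpr
        (le_normalizerIn hX₁NS (Subgroup.mem_sup_right (Subgroup.mem_zpowers _))))
  obtain ⟨hg₁F, hg₁Q⟩ :=
    hNSF (hg₁.restrict hN₁X₁) ((le_normalizerIn hQ₀T).trans le_sup_left)
  set cs := g₁ c₁ with hcs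
  have hcsm : cs ∈ cSet F E := hstep _ hNQ₀.1 hNQ₀.2 c₁ hc₁m g₁ hg₁F
  have hXeq : X = Q₀ ⊔ Subgroup.zpowers cs := by
    rw [← hg₁X, hX₁, (hg₁.restrict (le_normalizerIn hX₁NS)).img_sup le_sup_left le_sup_right,
      hg₁Q, img_zpowers hg₁F (Subgroup.mem_sup_right (Subgroup.mem_zpowers _))]
  have hXT : X ⊓ T = Q₀ := by rw [hXeq]; exact inf_zpowers_eq hsc hQ₀HT hcsm.1
  have hQ₀X : Q₀ ≤ X := hXeq ▸ le_sup_left
  have hXNS : X ≤ normalizerIn S Q₀ := hXfn.1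
  haveI := finite_of_le hXNS
  haveI := finite_mulAut X
  -- `N_T(Q₀)` normalises the three subgroups
  have hN₁n : ∀ {d : Ω}, d ∈ centralizerIn S Q₀ → ∀ {Y : Subgroup Ω},
      Y = Q₀ ⊔ Subgroup.zpowers d → N₁ ≤ Subgroup.normalizer (Y : Set Ω) := by
    rintro d hd Y rfl y hy
    have hm : y * d * y⁻¹ * d⁻¹ ∈ Q₀ := by
      refine hQ₀HT.2 _ (isConj_refl hQ₀S) (mem_centralizerIn.mpr ⟨?_, fun q hq => ?_⟩)
      · have := T.mul_mem hy.1 (StronglyClosed.conj_mem hsc hd.1 (T.inv_mem hy.1))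
        rwa [show y * (d * y⁻¹ * d⁻¹) = y * d * y⁻¹ * d⁻¹ by group] at this
      · have hq' : y⁻¹ * q * y ∈ Q₀ := (Subgroup.mem_normalizer_iff''.mp hy.2 q).mp hq
        have hc1 := (mem_centralizerIn.mp hd).2 _ hq'
        have hc2 := (mem_centralizerIn.mp ((centralizerIn S Q₀).inv_mem hd)).2 _ hq
        calc q * (y * d * y⁻¹ * d⁻¹) = y * ((y⁻¹ * q * y) * d) * y⁻¹ * d⁻¹ := by group
          _ = y * d * y⁻¹ * (q * d⁻¹) := by rw [hc1]; group
          _ = y * d * y⁻¹ * d⁻¹ * q := by rw [hc2]; group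
    haveI := finite_of_le (S := S) (P := Q₀ ⊔ Subgroup.zpowers d)
      (sup_le hQ₀S (Subgroup.zpowers_le.mpr hd.1))
    have hle : Q₀ ⊔ Subgroup.zpowers d ≤
        (Q₀ ⊔ Subgroup.zpowers d).comap (MulAut.conj y).toMonoidHom := by
      refine sup_le (fun q hq => ?_) (Subgroup.zpowers_le.mpr ?_)
      · exact Subgroup.mem_sup_left ((Subgroup.mem_normalizer_iff.mp hy.2 q).mp hq)
      · show y * d * y⁻¹ ∈ Q₀ ⊔ Subgroup.zpowers d
        have := Subgroup.mul_mem _ (Subgroup.mem_sup_left (T := Subgroup.zpowers d) hm)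
          (Subgroup.mem_sup_right (Subgroup.mem_zpowers d))
        rwa [inv_mul_cancel_right] at this
    exact mem_normalizer_of_forall fun x hx => hle hx
  have hc₂C : c₂ ∈ centralizerIn S Q₀ := by
    have h1 := hρm.map_mem_centralizerIn (le_sup_left : Q₀ ≤ X₁)
      (Subgroup.mem_sup_right (Subgroup.mem_zpowers _)) (centralizerIn_anti hQ₀T hc₁C)
    rwa [hρQ, hρc] at h1
  have hN₁X₂ : N₁ ⊔ Subgroup.zpowers c₂ ≤ normalizerIn (normalizerIn S Q₀) X₂ :=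
    sup_le (fun y hy => ⟨hN₁NS hy, hN₁n hc₂C hX₂eq hy⟩)
      (Subgroup.zpowers_le.mpr (le_normalizerIn hX₂NS hc₂X))
  obtain ⟨hg₂F, hg₂Q⟩ :=
    hNSF (hg₂.restrict hN₁X₂) ((le_normalizerIn hQ₀T).trans le_sup_left)
  set c₃ := g₂ c₂ with hc₃
  have hc₃C : c₃ ∈ centralizerIn S Q₀ := by
    have h1 := hg₂F.map_mem_centralizerIn ((le_normalizerIn hQ₀T).trans le_sup_left)
      (Subgroup.mem_sup_right (Subgroup.mem_zpowers _)) hc₂C
    rwa [hg₂Q] at h1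
  have hX₂le : X₂ ≤ N₁ ⊔ Subgroup.zpowers c₂ :=
    hX₂eq ▸ sup_le_sup_right (le_normalizerIn hQ₀T) _
  have hXeq₃ : X = Q₀ ⊔ Subgroup.zpowers c₃ := by
    rw [← hg₂X]
    change img g₂ X₂ = _
    rw [hX₂eq, (hg₂F.restrict (hX₂eq ▸ hX₂le)).img_sup le_sup_left le_sup_right, hg₂Q,
      img_zpowers hg₂F (Subgroup.mem_sup_right (Subgroup.mem_zpowers _))]
  -- it suffices to treat `c₃`
  suffices h3 : c₃ ∈ cSet F E by
    obtain ⟨k, hk, hkg, -, -⟩ := hg₂F.exists_iso_inverse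
    rw [hg₂F.img_sup le_sup_left le_sup_right, img_zpowers hg₂F
      (Subgroup.mem_sup_right (Subgroup.mem_zpowers _))] at hk
    have hHT' : HT F T (img g₂ N₁) := hNQ₀.1.img hsc (hg₂F.restrict le_sup_left)
    have h1 := hstep _ hHT' (by rw [hg₂F.card_img le_sup_left]; exact hNQ₀.2) c₃ h3 k hk
    rwa [hc₃, hkg c₂ (Subgroup.mem_sup_right (Subgroup.mem_zpowers _))] at h1
  -- the automorphism of `X`
  have hg₁m := hg₁.restrict (le_normalizerIn hX₁NS)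
  obtain ⟨l₁, hl₁, hl₁g, -, -⟩ := hg₁m.exists_iso_inverse
  rw [hg₁X] at hl₁
  have hl₁mem : ∀ y ∈ X, l₁ y ∈ X₁ := fun y hy => by
    obtain ⟨x, hx, rfl⟩ := (hg₁m.mem_img_iff le_rfl).mp (hg₁X.symm ▸ hy)
    rw [hl₁g x hx]; exact hx
  set σ₀ : Ω → Ω := fun y => g₂ (ρ (l₁ y)) with hσ₀
  have hσ₀m : MapTo NS X σ₀ := (hl₁.comp hρNS hl₁mem).comp
    (hg₂.restrict (le_normalizerIn hX₂NS)) fun y hy => mem_img_of_mem (hl₁mem y hy)
  have hσ₀X : img σ₀ X = X := img_eq_self_of_forall hσ₀m fun y hy => by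
    rw [← hg₂X]; exact mem_img_of_mem (mem_img_of_mem (hl₁mem y hy))
  set σ := autOf hσ₀m hσ₀X with hσ
  have hσA : σ ∈ NS.autGroup X := autOf_mem hσ₀m hσ₀X
  have hcsX : cs ∈ X := hXeq ▸ Subgroup.mem_sup_right (Subgroup.mem_zpowers _)
  have hσcs : autFun σ cs = c₃ := by
    rw [hσ, autFun_autOf hσ₀m hσ₀X hcsX]
    show g₂ (ρ (l₁ (g₁ c₁))) = c₃
    rw [hl₁g c₁ (Subgroup.mem_sup_right (Subgroup.mem_zpowers _)), hρc]
  obtain ⟨hσF, hσQ⟩ := hNSF (mapTo_of_mem_autGroup hXNS hσA) hQ₀X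
  set σ' := autOf (hσF.restrict hQ₀X) hσQ with hσ'
  have hσ'G : σ' ∈ F.autGroup Q₀ := autOf_mem _ hσQ
  -- Frattini argument in `Aut_E(Q₀)`
  have hQ₀E := isFullyNormalized_sub hS hF hi hQ₀T hQ₀
  set P₀ := autInducedBy T Q₀ with hP₀
  have hfaE := isFullyAutomized_of_isFullyNormalized hTp hEs hQ₀E
  have hP₀E : P₀ ≤ E.autGroup Q₀ := autInducedBy_le_autGroup hQ₀T
  obtain ⟨e, he, heP⟩ : ∃ e ∈ E.autGroup Q₀,
      ∀ a ∈ P₀, σ' * e⁻¹ * a * (σ' * e⁻¹)⁻¹ ∈ P₀ := by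
    have hnorm := IsInvariantIn.normal_autGroup hi hQ₀T
    set A := P₀.map (MulAut.conj σ'⁻¹).toMonoidHom with hA
    have hAE : A ≤ E.autGroup Q₀ := by
      rintro _ ⟨a, ha, rfl⟩
      exact hnorm.conj_mem ⟨a, IsSubsystemOf.autGroup_le hi.1 _ (hP₀E ha)⟩ (hP₀E ha)
        ⟨σ'⁻¹, Subgroup.inv_mem _ hσ'G⟩
    obtain ⟨β, hβ, hβA⟩ := exists_conj_le_autInducedBy hfaE hAE
      ((isPGroup_autInducedBy hTp Q₀).map _)
    refine ⟨β, hβ, ?_⟩
    have hsub : P₀.map (MulAut.conj (β * σ'⁻¹)).toMonoidHom ≤ P₀ := by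
      rintro _ ⟨a, ha, rfl⟩
      have h1 := hβA _ ⟨a, ha, rfl⟩
      show (β * σ'⁻¹) * a * (β * σ'⁻¹)⁻¹ ∈ P₀
      rw [mul_inv_rev, ← mul_assoc]
      simpa [mul_assoc] using h1
    have heq : P₀.map (MulAut.conj (β * σ'⁻¹)).toMonoidHom = P₀ := by
      refine Subgroup.eq_of_le_of_card_ge hsub (le_of_eq ?_)
      exact (Subgroup.card_map_of_injective (MulAut.conj (β * σ'⁻¹)).injective).symm
    intro a ha
    obtain ⟨b, hb, rfl⟩ := heq.ge ha
    show σ' * β⁻¹ * ((β * σ'⁻¹) * b * (β * σ'⁻¹)⁻¹) * (σ' * β⁻¹)⁻¹ ∈ P₀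
    rw [show σ' * β⁻¹ * ((β * σ'⁻¹) * b * (β * σ'⁻¹)⁻¹) * (σ' * β⁻¹)⁻¹ = b by group]
    exact hb
  obtain ⟨ge, hge, hgee, hgec⟩ := hcsm.2 Q₀ _ (mapTo_of_mem_autGroup hQ₀T he)
  rw [← hXeq] at hge
  have hgeX : img ge X = X := by
    conv_lhs => rw [hXeq]
    rw [(hXeq ▸ hge : MapTo F (Q₀ ⊔ Subgroup.zpowers cs) ge).img_sup le_sup_left le_sup_right,
      img_congr hgee, img_autFun, img_congr hgec, img_id, ← hXeq]
  have hgeNS : MapTo NS X ge := (mapTo_nSys_iff hNS).mpr ⟨hXNS, fun x hx => hXNS (by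
    rw [← hgeX]; exact mem_img_of_mem hx), ge, by rwa [sup_eq_left.mpr hQ₀X], fun _ _ => rfl,
    by rw [img_congr hgee, img_autFun]⟩
  set τ := σ * (autOf hgeNS hgeX)⁻¹ with hτ
  have hτA : τ ∈ NS.autGroup X :=
    Subgroup.mul_mem _ hσA (Subgroup.inv_mem _ (autOf_mem hgeNS hgeX))
  have hτcs : autFun τ cs = c₃ := by
    have h1 : autFun (autOf hgeNS hgeX)⁻¹ cs = cs := by
      conv_lhs => rw [← hgec cs (Subgroup.mem_zpowers cs), ← autFun_autOf hgeNS hgeX hcsX]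
      exact autFun_inv_autFun _ hcsX
    rw [hτ, autFun_mul _ _ hcsX, h1, hσcs]
  have hτQ : ∀ x ∈ Q₀, autFun τ x = autFun (σ' * e⁻¹) x := by
    intro x hx
    have h1 : autFun (autOf hgeNS hgeX)⁻¹ x = autFun e⁻¹ x := by
      have hy := autFun_mem e⁻¹ hx
      conv_lhs => rw [← autFun_autFun_inv e hx, ← hgee _ hy, ← autFun_autOf hgeNS hgeX (hQ₀X hy)]
      exact autFun_inv_autFun _ (hQ₀X hy)
    rw [hτ, autFun_mul _ _ (hQ₀X hx), h1, autFun_mul _ _ hx, hσ',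
      autFun_autOf (hσF.restrict hQ₀X) hσQ (autFun_mem _ hx)]
  -- the automorphisms fixing `Q₀`, trivial modulo it
  let Triv : Subgroup (MulAut X) :=
    { carrier := {δ | (∀ x ∈ Q₀, autFun δ x ∈ Q₀) ∧ ∀ x ∈ X, x⁻¹ * autFun δ x ∈ Q₀}
      one_mem' := ⟨fun x hx => by rwa [autFun_one (hQ₀X hx)], fun x hx => by
        rw [autFun_one hx, inv_mul_cancel]; exact Q₀.one_mem⟩
      mul_mem' := fun {a b} ha hb => ⟨fun x hx => by
          rw [autFun_mul a b (hQ₀X hx)]; exact ha.1 _ (hb.1 x hx), fun x hx => by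
          rw [autFun_mul a b hx]
          have := Q₀.mul_mem (hb.2 x hx) (ha.2 _ (autFun_mem b hx))
          rwa [mul_assoc, mul_inv_cancel_left] at this⟩
      inv_mem' := fun {a} ha => by
        have h2 : ∀ x ∈ X, x⁻¹ * autFun a⁻¹ x ∈ Q₀ := fun x hx => by
          have h := ha.2 _ (autFun_mem a⁻¹ hx)
          rw [autFun_autFun_inv a hx] at h
          simpa using Q₀.inv_mem h
        refine ⟨fun x hx => ?_, h2⟩
        have := Q₀.mul_mem hx (h2 x (hQ₀X hx))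
        rwa [mul_inv_cancel_left] at this }
  have hkeep : ∀ γ ∈ NS.autGroup X, ∀ x ∈ Q₀, autFun γ x ∈ Q₀ := fun γ hγ x hx => by
    obtain ⟨g, hg, hgx, hgQ⟩ := ((mapTo_nSys_iff hNS).mp (mapTo_of_mem_autGroup hXNS hγ)).2.2
    rw [← hgx x (hQ₀X hx), ← hgQ]
    exact mem_img_of_mem hx
  have hconjT : ∀ y ∈ N₁, ∀ κ : MulAut X, (∀ x ∈ X, autFun κ x = cj y x) → κ ∈ Triv := by
    intro y hy κ hκ
    have h2 : ∀ x ∈ X, x⁻¹ * autFun κ x ∈ Q₀ := fun x hx => by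
      have h1 : x⁻¹ * autFun κ x ∈ T := by
        rw [hκ x hx, cj_apply]
        have := T.mul_mem (StronglyClosed.conj_mem hsc (S.inv_mem (hXNS hx).1) hy.1)
          (T.inv_mem hy.1)
        rwa [show x⁻¹ * y * x⁻¹⁻¹ * y⁻¹ = x⁻¹ * (y * x * y⁻¹) by group] at this
      rw [← hXT]
      exact ⟨X.mul_mem (X.inv_mem hx) (autFun_mem κ hx), h1⟩
    refine ⟨fun x hx => ?_, h2⟩
    have := Q₀.mul_mem hx (h2 x (hQ₀X hx))
    rwa [mul_inv_cancel_left] at this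
  have hTrivConj : ∀ γ ∈ NS.autGroup X, ∀ δ ∈ Triv, γ * δ * γ⁻¹ ∈ Triv := by
    intro γ hγ δ hδ
    refine ⟨fun x hx => ?_, fun x hx => ?_⟩
    · rw [autFun_mul _ _ (hQ₀X hx), autFun_mul _ _ (autFun_mem _ (hQ₀X hx))]
      exact hkeep γ hγ _ (hδ.1 _ (hkeep _ (Subgroup.inv_mem _ hγ) x hx))
    · have hγm := mapTo_of_mem_autGroup hXNS hγ
      rw [autFun_mul _ _ hx, autFun_mul _ _ (autFun_mem _ hx)]
      have hv := autFun_mem γ⁻¹ hx
      have hd := hδ.2 _ hv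
      have h1 : autFun γ (autFun δ (autFun γ⁻¹ x)) =
          x * autFun γ ((autFun γ⁻¹ x)⁻¹ * autFun δ (autFun γ⁻¹ x)) := by
        conv_lhs => rw [← mul_inv_cancel_left (autFun γ⁻¹ x) (autFun δ (autFun γ⁻¹ x))]
        rw [hγm.map_mul hv (hQ₀X hd), autFun_autFun_inv γ hx]
      rw [h1, inv_mul_cancel_left]
      exact hkeep γ hγ _ hd
  -- conjugation by `N_T(Q₀)` goes to conjugation
  have hXn : N₁ ≤ Subgroup.normalizer (X : Set Ω) := hN₁n hc₃C hXeq₃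
  have hN₁XNS : N₁ ≤ normalizerIn (normalizerIn S Q₀) X := fun y hy => ⟨hN₁NS hy, hXn hy⟩
  obtain ⟨ee, hee⟩ := IsPGroup.iff_card.mp (hS.to_le hQ₀S)
  let St : Subgroup (MulAut X) :=
    { carrier := {δ | ∀ x ∈ Q₀, autFun δ x = x}
      one_mem' := fun x hx => autFun_one (hQ₀X hx)
      mul_mem' := fun {a b} ha hb x hx => by
        rw [autFun_mul a b (hQ₀X hx), hb x hx, ha x hx]
      inv_mem' := fun {a} ha x hx => by
        conv_lhs => rw [← ha x hx]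
        exact autFun_inv_autFun a (hQ₀X hx) }
  have hWp : IsPGroup p ↥(St ⊓ Triv ⊓ NS.autGroup X) := by
    rintro ⟨δ, ⟨hδ1, hδ2⟩, hδ3⟩
    refine ⟨ee, Subtype.ext ?_⟩
    show δ ^ p ^ ee = 1
    rw [← hee]
    exact pow_card_eq_one_of_fix hQ₀X hδ1 hδ2.2
  obtain ⟨β, hβ, hβc⟩ := exists_conj_le_autInducedBy hXfa inf_le_right hWp
  have hWind : ∀ δ ∈ St ⊓ Triv ⊓ NS.autGroup X, δ ∈ autInducedBy (normalizerIn S Q₀) X := by
    rintro δ ⟨⟨hδ1, hδ2⟩, hδ3⟩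
    have hmem : β⁻¹ * δ * β⁻¹⁻¹ ∈ St ⊓ Triv ⊓ NS.autGroup X := by
      refine ⟨⟨fun x hx => ?_, hTrivConj _ (Subgroup.inv_mem _ hβ) δ hδ2⟩,
        Subgroup.mul_mem _ (Subgroup.mul_mem _ (Subgroup.inv_mem _ hβ) hδ3)
          (Subgroup.inv_mem _ (Subgroup.inv_mem _ hβ))⟩
      rw [inv_inv, autFun_mul _ _ (hQ₀X hx), autFun_mul _ _ (autFun_mem β (hQ₀X hx)),
        hδ1 _ (hkeep β hβ x hx), autFun_inv_autFun β (hQ₀X hx)]
    have h1 := hβc _ hmem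
    rwa [show β * (β⁻¹ * δ * β⁻¹⁻¹) * β⁻¹ = δ by group] at h1
  have hext : N₁ ≤ extSub (normalizerIn S Q₀) (mapTo_of_mem_autGroup hXNS hτA) := by
    intro y hy
    obtain ⟨κ, hκ⟩ := exists_conjAut (hXn hy)
    have hκA : κ ∈ NS.autGroup X := autInducedBy_le_autGroup hXNS
      (mem_autInducedBy_iff_cj.mpr ⟨y, hN₁NS hy, hκ⟩)
    obtain ⟨κ₀, hκ₀⟩ := exists_conjAut hy.2
    have hκ₀P : κ₀ ∈ P₀ := mem_autInducedBy_iff_cj.mpr ⟨y, hy.1, hκ₀⟩
    obtain ⟨y', hy', hy'x⟩ := mem_autInducedBy_iff_cj.mp (heP κ₀ hκ₀P)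
    have hy'N : y' ∈ N₁ := ⟨hy', mem_normalizer_of_forall fun x hx => by
      rw [← cj_apply, ← hy'x x hx]; exact autFun_mem _ hx⟩
    obtain ⟨κ', hκ'⟩ := exists_conjAut (hXn hy'N)
    have hκ'A : κ' ∈ NS.autGroup X := autInducedBy_le_autGroup hXNS
      (mem_autInducedBy_iff_cj.mpr ⟨y', hN₁NS hy'N, hκ'⟩)
    set w := τ * κ * τ⁻¹ * κ'⁻¹ with hw
    have hwA : w ∈ NS.autGroup X := Subgroup.mul_mem _ (Subgroup.mul_mem _
      (Subgroup.mul_mem _ hτA hκA) (Subgroup.inv_mem _ hτA)) (Subgroup.inv_mem _ hκ'A)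
    have hwT : w ∈ Triv :=
      Triv.mul_mem (hTrivConj τ hτA κ (hconjT y hy κ hκ)) (Triv.inv_mem (hconjT y' hy'N κ' hκ'))
    have hagree : ∀ x ∈ Q₀, autFun (τ * κ * τ⁻¹) x = autFun κ' x := by
      intro x hx
      set μ := σ' * e⁻¹ with hμ
      have h1 : autFun τ⁻¹ x = autFun μ⁻¹ x := by
        have hy0 := autFun_mem μ⁻¹ hx
        conv_lhs => rw [← autFun_autFun_inv μ hx, ← hτQ _ hy0]
        exact autFun_inv_autFun τ (hQ₀X hy0)
      have hu := autFun_mem μ⁻¹ hx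
      rw [autFun_mul _ _ (hQ₀X hx), autFun_mul _ _ (autFun_mem _ (hQ₀X hx)), h1, hκ _ (hQ₀X hu),
        ← hκ₀ _ hu, hτQ _ (autFun_mem κ₀ hu), hκ' x (hQ₀X hx), ← hy'x x hx,
        autFun_mul _ _ hx, autFun_mul _ _ (autFun_mem _ hx)]
    have hwS : w ∈ St := by
      intro x hx
      have hy0 : autFun κ'⁻¹ x ∈ Q₀ := hkeep _ (Subgroup.inv_mem _ hκ'A) x hx
      rw [hw, autFun_mul _ _ (hQ₀X hx), hagree _ hy0, autFun_autFun_inv κ' (hQ₀X hx)]
    obtain ⟨s, hs, hsw⟩ := mem_autInducedBy_iff_cj.mp (hWind w ⟨⟨hwS, hwT⟩, hwA⟩)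
    refine ⟨⟨hN₁NS hy, hXn hy⟩, s * y',
      Subgroup.mul_mem _ hs (hN₁NS hy'N), fun x hx => ?_⟩
    have h1 := hsw _ (autFun_mem κ' (autFun_mem τ hx))
    rw [hw, autFun_mul _ _ (autFun_mem κ' (autFun_mem τ hx)),
      autFun_inv_autFun κ' (autFun_mem τ hx), autFun_mul _ _ (autFun_mem τ hx),
      autFun_inv_autFun τ hx, autFun_mul _ _ hx, hκ x hx, hκ' _ (autFun_mem τ hx)] at h1
    simp only [cj_apply] at h1
    rw [h1]
    group
  obtain ⟨g, hg, hgx⟩ := (isReceptive_iff.mp hXrec).2 X _ (mapTo_of_mem_autGroup hXNS hτA)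
    (img_autFun τ)
  have hdom : N₁ ⊔ Subgroup.zpowers cs ≤
      extSub (normalizerIn S Q₀) (mapTo_of_mem_autGroup hXNS hτA) :=
    sup_le hext (Subgroup.zpowers_le.mpr (le_extSub _ hcsX))
  obtain ⟨hgF, -⟩ := hNSF (hg.restrict hdom) ((le_normalizerIn hQ₀T).trans le_sup_left)
  have hfin := hstep _ hNQ₀.1 hNQ₀.2 cs hcsm g hgF
  rwa [hgx cs hcsX, hτcs] at hfin

/-- `C_S(E)`: the largest subgroup centralized by `E`, strongly closed in `F`. -/
theorem exists_centralizer (hS : IsPGroup p S) (hE : E.IsNormalIn F p) :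
    ∃ C : Subgroup Ω, C ≤ centralizerIn S T ∧ (∀ P : Subgroup Ω, E.Hom P ⊆ F.centralizerHom C P) ∧
      (∀ Y : Subgroup Ω, Y ≤ centralizerIn S T →
        (∀ P : Subgroup Ω, E.Hom P ⊆ F.centralizerHom Y P) → Y ≤ C) ∧ F.StronglyClosed C := by
  obtain ⟨hEs, hF, hi⟩ := id hE.1
  have hsc := hi.2.1
  have hTS : T ≤ S := hsc.1
  set C := Subgroup.closure (cSet F E) with hC
  have hCT : C ≤ centralizerIn S T := (Subgroup.closure_le _).mpr fun c hc => hc.1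
  have hCS : C ≤ S := hCT.trans centralizerIn_le
  have hmem : ∀ {x : Ω}, x ∈ C → x ∈ cSet F E := fun {x} hx => ⟨hCT hx, fun P f hf => by
    obtain ⟨g, hg, hgf, hgC⟩ := extFix_cSet hS hE hTS hf
    exact ⟨g, hg.restrict (sup_le_sup_left (Subgroup.zpowers_le.mpr hx) P), hgf,
      fun z hz => hgC z (Subgroup.zpowers_le.mpr hx hz)⟩⟩
  have hTC : ∀ {t : Ω}, t ∈ T → t ∈ centralizerIn S C := fun {t} ht =>
    mem_centralizerIn.mpr ⟨hTS ht, fun x hx => ((mem_centralizerIn.mp (hCT hx)).2 t ht).symm⟩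
  refine ⟨C, hCT, fun P φ hφ => ?_, fun Y hY hYE y hy => ?_, ?_⟩
  · have hφm := mapTo_ev hφ
    exact (mem_centralizerHom_iff (f := ev φ) fun x => (ev_coe φ x).symm).mpr
      ⟨fun x hx => hTC (hφm.le hx), fun x hx => hTC (hφm.mem hx), extFix_cSet hS hE hTS hφm⟩
  · refine Subgroup.subset_closure ⟨hY hy, fun P f hf => ?_⟩
    obtain ⟨φ, hφ, hφf⟩ := hf
    obtain ⟨-, -, g, hg, hgf, hgY⟩ := (mem_centralizerHom_iff hφf).mp (hYE P hφ)
    exact ⟨g, hg.restrict (sup_le_sup_left (Subgroup.zpowers_le.mpr hy) P), hgf,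
      fun z hz => hgY z (Subgroup.zpowers_le.mpr hy hz)⟩
  refine stronglyClosed_iff.mpr ⟨hCS, fun R f hR hf => ?_⟩
  haveI := finite_of_le hTS
  have key : ∀ x ∈ R, (x ∈ C ↔ f x ∈ C) := by
    have hcj : ∀ {s x : Ω}, s ∈ S → x ∈ C → s * x * s⁻¹ ∈ C := fun {s x} hs hxC =>
      Subgroup.subset_closure (map_mem_cSet hS hE T (HT.top hsc) x (hmem hxC) (cj s)
        (mapTo_cj (sup_le hTS (Subgroup.zpowers_le.mpr (hCS hxC))) hs))
    refine alperin_prop hS hF (fun P g => ∀ x ∈ P, (x ∈ C ↔ g x ∈ C))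
      (fun _ hg hgh x hx => by rw [hgh x hx]; exact hg x hx)
      (fun {P g} hP hg x hx => ⟨hcj hg, fun h => ?_⟩)
      (fun {P Q g h} _ _ hgQ h₁ h₂ x hx => (h₁ x hx).trans (h₂ _ (hgQ x hx)))
      (fun {P g k} hg _ hkg h₁ y hy => ?_) (fun P hP α hα x hx => ?_) hf
    · have := hcj (S.inv_mem hg) h
      rwa [cj_apply, show g⁻¹ * (g * x * g⁻¹) * g⁻¹⁻¹ = x by group] at this
    · obtain ⟨x, hx, rfl⟩ := (hg.mem_img_iff le_rfl).mp hy
      rw [hkg x hx]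
      exact (h₁ x hx).symm
    · have hPS : P ≤ S := by
        rcases hP with rfl | h
        · exact le_rfl
        · exact h.1.1
      have hHT : HT F T (P ⊓ T) := by
        rcases hP with rfl | h
        · rw [inf_eq_right.mpr hTS]; exact HT.top hsc
        · exact ((isFamily_twist hS hF hsc).essential P h).2
      have hone : ∀ β ∈ F.autGroup P, ∀ z ∈ P, z ∈ C → autFun β z ∈ C := fun β hβ z hz hzC =>
        Subgroup.subset_closure (map_mem_cSet hS hE _ hHT z (hmem hzC) _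
          ((mapTo_of_mem_autGroup hPS hβ).restrict
            (sup_le inf_le_left (Subgroup.zpowers_le.mpr hz))))
      refine ⟨hone α hα x hx, fun h => ?_⟩
      have := hone α⁻¹ (Subgroup.inv_mem _ hα) _ (autFun_mem α hx) h
      rwa [autFun_inv_autFun α hx] at this
  exact fun x hx => (key x hx).mp (hR hx)

end Cfsg.Agent.Components.CentralizerOfNormal
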