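import Cfsg.Agent.Lib.Components.CentralizerStronglyClosed
import Cfsg.Agent.Lib.Fusion.FocalCentralizerMain
import Cfsg.Agent.Lib.Fusion.IndexP.Main
import Cfsg.Agent.Lib.Fusion.PPowerIndex
import Cfsg.Agent.Lib.Fusion.InnerCriteria

/-!
For a normal subsystem `E` over `T`, the saturated subsystem of `p`-power index of `C_F(T)` over
`C_S(E)` is normal in `F`.
-/

set_option autoImplicit false
set_option linter.style.haveILetI false
set_option linter.unusedSectionVars false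
set_option linter.unusedVariables false

namespace Cfsg.Agent.Components.CentralizerSubsystem

open Cfsg.FusionSystem (centralizerIn normalizerIn)
open Cfsg.Agent.Fusion

universe u

variable {Ω : Type u} [Group Ω] {S T Y P R : Subgroup Ω} {F : FusionSystem S} {f : Ω → Ω}
variable {p : ℕ} [Finite S] [Fact p.Prime]

theorem conj_mem_sup {A B : Subgroup Ω} {s : Ω} (hA : ∀ x ∈ A, s * x * s⁻¹ ∈ A)
    (hB : ∀ x ∈ B, s * x * s⁻¹ ∈ B) : ∀ x ∈ A ⊔ B, s * x * s⁻¹ ∈ A ⊔ B := by
  have h : A ⊔ B ≤ (A ⊔ B).comap (MulAut.conj s).toMonoidHom :=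
    sup_le (fun x hx => Subgroup.mem_sup_left (hA x hx))
      fun x hx => Subgroup.mem_sup_right (hB x hx)
  exact h

theorem fullyNormalized_of_conj_mem (hR : R ≤ S) (h : ∀ s ∈ S, ∀ x ∈ R, s * x * s⁻¹ ∈ R) :
    F.IsFullyNormalized R := by
  haveI := finite_of_le hR
  refine isFullyNormalized_of_normal hR fun s hs => ?_
  exact mem_normalizer_of_forall (h s hs)

/-- Every map between subgroups of `C_S(T)` extends to `T`. -/
theorem exists_ext_sup (hS : IsPGroup p S) (hF : F.IsSaturated p) (hsc : F.StronglyClosed T)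
    (hYsc : F.StronglyClosed Y) (hYC : Y ≤ centralizerIn S T) (hP : P ≤ Y) (hf : MapTo F P f) :
    ∃ g, MapTo F (P ⊔ T) g ∧ (∀ x ∈ P, g x = f x) ∧ img g T = T := by
  have hTS : T ≤ S := hsc.1
  have hPS := hf.le
  have hT : ∀ {Q : Subgroup Ω}, Q ≤ Y → T ≤ centralizerIn S Q := fun {Q} hQ t ht =>
    mem_centralizerIn.mpr ⟨hTS ht, fun x hx => ((mem_centralizerIn.mp (hYC (hQ hx))).2 t ht).symm⟩
  have hP'Y : img f P ≤ Y := img_le_of_forall fun x hx => StronglyClosed.map_mem hYsc hf hx (hP hx)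
  obtain ⟨R, hRc, hR⟩ := exists_isFullyNormalized (F := F) hPS
  have hRr := isReceptive_of_isFullyNormalized hS hF hR
  obtain ⟨ψ, hψ, hψR⟩ := exists_map_normalizerIn hS (isFullyAutomized_of_isFullyNormalized hS hF hR)
    hRr (isConj_trans (isConj_symm hf.isConj) hRc)
  have hP'S : img f P ≤ S := hf.img_le
  have hdom : img f P ⊔ T ≤ normalizerIn S (img f P) :=
    sup_le (le_normalizerIn hP'S) ((hT hP'Y).trans centralizerIn_le_normalizerIn)
  have hψ' := hψ.restrict hdom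
  have hh : MapTo F P fun x => ψ (f x) :=
    hf.comp (hψ.restrict (le_normalizerIn hP'S)) fun x hx => mem_img_of_mem hx
  have hhR : img (fun x => ψ (f x)) P = R := by
    rw [← hψR, hf.img_img le_rfl]
  obtain ⟨g₁, hg₁, hg₁x⟩ := (isReceptive_iff.mp hRr).2 P _ hh hhR
  have hg₁' : MapTo F (P ⊔ T) g₁ :=
    hg₁.restrict (sup_le (le_extSub hh) ((hT hP).trans (centralizerIn_le_extSub hh)))
  obtain ⟨k, hk, hkψ, -, -⟩ := hψ'.exists_iso_inverse
  have hψT : img ψ T = T := StronglyClosed.img_eq hsc hψ' le_sup_right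
  have hg₁T : img g₁ T = T := StronglyClosed.img_eq hsc hg₁' le_sup_right
  have himg₁ : img g₁ (P ⊔ T) = R ⊔ T := by
    rw [hg₁'.img_sup le_sup_left le_sup_right, hg₁T, img_congr (f := g₁) (P := P) hg₁x, hhR]
  have himgψ : img ψ (img f P ⊔ T) = R ⊔ T := by
    rw [hψ'.img_sup le_sup_left le_sup_right, hψR, hψT]
  rw [himgψ] at hk
  have hg : MapTo F (P ⊔ T) fun x => k (g₁ x) :=
    hg₁'.comp hk fun x hx => himg₁.le (mem_img_of_mem hx)
  refine ⟨_, hg, fun x hx => ?_, StronglyClosed.img_eq hsc hg le_sup_right⟩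
  show k (g₁ x) = f x
  rw [hg₁x x hx]
  exact hkψ _ (Subgroup.mem_sup_left (mem_img_of_mem hx))

/-- Transport of a map of `C_F(T)` inside `Y` by a map of `F` on `Y`. -/
theorem cSys_transport (hS : IsPGroup p S) (hF : F.IsSaturated p) (hsc : F.StronglyClosed T)
    (hYsc : F.StronglyClosed Y) (hYC : Y ≤ centralizerIn S T) (hTS : T ≤ S) {a : Ω → Ω}
    (ha : MapTo F Y a) (hP : P ≤ Y) (hf : MapTo (cSys F hTS) P f) :
    ∃ g, MapTo (cSys F hTS) (img a P) g ∧ ∀ x ∈ P, g (a x) = a (f x) := by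
  obtain ⟨hPC, hfC, e, he, hef, heT⟩ := (mapTo_cSys_iff (isCentralizerSystem_cSys F hTS)).mp hf
  have hfF : MapTo F P f := (he.restrict le_sup_left).congr' fun x hx => (hef x hx).symm
  have hfY : ∀ x ∈ P, f x ∈ Y := fun x hx => StronglyClosed.map_mem hYsc hfF hx (hP hx)
  obtain ⟨b, hb, hba, hbT⟩ := exists_ext_sup hS hF hsc hYsc hYC le_rfl ha
  have hb' := hb.restrict (sup_le_sup_right hP T)
  obtain ⟨k, hk, hkb, -, -⟩ := hb'.exists_iso_inverse
  have hPa : img b (P ⊔ T) = img a P ⊔ T := by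
    rw [hb'.img_sup le_sup_left le_sup_right, hbT, img_congr fun x hx => hba x (hP hx)]
  rw [hPa] at hk
  have hkm : ∀ y ∈ img a P ⊔ T, k y ∈ P ⊔ T := fun y hy => by
    rw [← hPa] at hy
    obtain ⟨x, hx, rfl⟩ := (hb'.mem_img_iff le_rfl).mp hy
    rw [hkb x hx]; exact hx
  have hem : ∀ x ∈ P ⊔ T, e x ∈ Y ⊔ T := fun x hx => by
    have h1 : img e (P ⊔ T) ≤ Y ⊔ T := by
      rw [he.img_sup le_sup_left le_sup_right, img_congr (f := e) (P := T) heT, img_id,
        img_congr (f := e) (P := P) hef]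
      exact sup_le_sup_right (img_le_of_forall hfY) T
    exact h1 (mem_img_of_mem hx)
  have hm : MapTo F (img a P ⊔ T) fun y => b (e (k y)) :=
    (hk.comp he hkm).comp hb fun y hy => hem _ (hkm y hy)
  have haY : ∀ x ∈ Y, a x ∈ Y := fun x hx => StronglyClosed.map_mem hYsc ha hx hx
  have haP : ∀ x ∈ P, b (e (k (a x))) = a (f x) := fun x hx => by
    rw [← hba x (hP hx), hkb x (Subgroup.mem_sup_left hx), hef x hx, hba _ (hfY x hx)]
  refine ⟨fun y => b (e (k y)), (mapTo_cSys_iff (isCentralizerSystem_cSys F hTS)).mpr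
    ⟨img_le_of_forall fun x hx => hYC (haY x (hP hx)), fun y hy => ?_, _, hm, fun _ _ => rfl,
      fun y hy => ?_⟩, haP⟩
  · obtain ⟨x, hx, rfl⟩ := ((ha.restrict hP).mem_img_iff le_rfl).mp hy
    show b (e (k (a x))) ∈ _
    rw [haP x hx]; exact hYC (haY _ (hfY x hx))
  · obtain ⟨t, ht, rfl⟩ := (hb'.mem_img_iff le_sup_right).mp (hbT.ge hy)
    show b (e (k (b t))) = b t
    rw [hkb t (Subgroup.mem_sup_right ht), heT t ht]

variable {D : FusionSystem Y}

/-- The subsystem of `p`-power index over `Y` is invariant under the maps of `F` on `Y`. -/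
theorem subsystem_transport (hS : IsPGroup p S) (hF : F.IsSaturated p) (hsc : F.StronglyClosed T)
    (hYsc : F.StronglyClosed Y) (hYC : Y ≤ centralizerIn S T) (hTS : T ≤ S) (hD : D.IsSaturated p)
    (hi : D.HasPPowerIndexIn (cSys F hTS) p) {a : Ω → Ω} (ha : MapTo F Y a)
    (hf : MapTo D P f) : ∃ g, MapTo D (img a P) g ∧ ∀ x ∈ P, g (a x) = a (f x) := by
  have hYS : Y ≤ S := hYsc.1
  have := finite_of_le hYS
  have := finite_of_le (centralizerIn_le (S := S) (P := T))
  have haY : img a Y = Y := StronglyClosed.img_eq hYsc ha le_rfl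
  refine alperin_prop (hS.to_le hYS) hD
    (fun P f => ∃ g, MapTo D (img a P) g ∧ ∀ x ∈ P, g (a x) = a (f x)) ?_ ?_ ?_ ?_ ?_ hf
  · rintro P f g _ ⟨k, hk, hkx⟩ hfg
    exact ⟨k, hk, fun x hx => by rw [hfg x hx]; exact hkx x hx⟩
  · intro P t hP ht
    refine ⟨cj (a t), mapTo_cj ((img_mono hP).trans haY.le) (haY.le (mem_img_of_mem ht)),
      fun x hx => ?_⟩
    simp only [cj_apply]
    rw [ha.map_conj ht (hP hx)]
  · rintro P Q f g hf hg hfQ ⟨k, hk, hkx⟩ ⟨l, hl, hlx⟩
    refine ⟨fun y => l (k y), hk.comp hl ?_, fun x hx => ?_⟩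
    · intro y hy
      obtain ⟨x, hx, rfl⟩ := ((ha.restrict hf.le).mem_img_iff le_rfl).mp hy
      rw [hkx x hx]; exact mem_img_of_mem (hfQ x hx)
    · show l (k (a x)) = a (g (f x))
      rw [hkx x hx, hlx _ (hfQ x hx)]
  · rintro P f g hf hg hgf ⟨k, hk, hkx⟩
    obtain ⟨l, hl, hlk, -, -⟩ := hk.exists_iso_inverse
    have he : img a (img f P) = img k (img a P) := by
      rw [hf.img_img le_rfl a, (ha.restrict hf.le).img_img le_rfl k]
      exact img_congr fun x hx => (hkx x hx).symm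
    refine ⟨l, he ▸ hl, fun y hy => ?_⟩
    obtain ⟨x, hx, rfl⟩ := (hf.mem_img_iff le_rfl).mp hy
    rw [← hkx x hx, hlk _ (mem_img_of_mem hx), hgf x hx]
  · intro Q hQ α hα
    have hQn := isFullyNormalized_of_eq_top_or_essential hQ
    have hQY : Q ≤ Y := hQn.1
    obtain ⟨β, hβ, c, hc, rfl⟩ := exists_eq_mul_of_isFullyNormalized (hS.to_le hYS) hD hQn hα
    obtain ⟨t, ht, htc⟩ := mem_autInducedBy_iff_cj.mp hc
    have haQ := ha.restrict hQY
    have hQ' : img a Q ≤ Y := (img_mono hQY).trans haY.le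
    have hQC : Q ≤ centralizerIn S T := hQY.trans hYC
    haveI := finite_of_le (hQY.trans hYS)
    haveI := finite_of_le (hQ'.trans hYS)
    -- the transports of the elements of order prime to `p`
    have hcase : ∀ b ∈ oP (cSys F hTS) p Q, ∃ γ ∈ D.autGroup (img a Q),
        ∀ x ∈ Q, autFun γ (a x) = a (autFun b x) := by
      refine oP_induction ⟨1, Subgroup.one_mem _, fun x hx => by
        rw [autFun_one (mem_img_of_mem hx), autFun_one hx]⟩ ?_ ?_ ?_
      · rintro b₁ b₂ - - ⟨γ₁, hγ₁, h₁⟩ ⟨γ₂, hγ₂, h₂⟩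
        refine ⟨γ₁ * γ₂, Subgroup.mul_mem _ hγ₁ hγ₂, fun x hx => ?_⟩
        rw [autFun_mul _ _ (mem_img_of_mem hx), h₂ x hx, h₁ _ (autFun_mem b₂ hx),
          autFun_mul _ _ hx]
      · rintro b - ⟨γ, hγ, h⟩
        refine ⟨γ⁻¹, Subgroup.inv_mem _ hγ, fun x hx => ?_⟩
        conv_lhs => rw [← autFun_autFun_inv b hx, ← h _ (autFun_mem _ hx)]
        exact autFun_inv_autFun γ (mem_img_of_mem (autFun_mem _ hx))
      · intro b hb hbc
        obtain ⟨g, hg, hga⟩ :=
          cSys_transport hS hF hsc hYsc hYC hTS ha hQY (mapTo_of_mem_autGroup hQC hb)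
        have himg : img g (img a Q) = img a Q := img_eq_self_of_forall hg fun y hy => by
          obtain ⟨x, hx, rfl⟩ := (haQ.mem_img_iff le_rfl).mp hy
          rw [hga x hx]; exact mem_img_of_mem (autFun_mem b hx)
        have hpow : ∀ n : ℕ, ∀ x ∈ Q,
            autFun ((autOf hg himg) ^ n) (a x) = a (autFun (b ^ n) x) := by
          intro n
          induction n with
          | zero => intro x hx; rw [pow_zero, pow_zero, autFun_one (mem_img_of_mem hx), autFun_one hx]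
          | succ n ih =>
            intro x hx
            rw [pow_succ, pow_succ, autFun_mul _ _ (mem_img_of_mem hx), autFun_mul _ _ hx,
              autFun_autOf hg himg (mem_img_of_mem hx), hga x hx, ih _ (autFun_mem b hx)]
        have hcop : (orderOf (autOf hg himg)).Coprime p := by
          refine hbc.coprime_dvd_left (orderOf_dvd_of_pow_eq_one (autFun_ext fun y hy => ?_))
          obtain ⟨x, hx, rfl⟩ := (haQ.mem_img_iff le_rfl).mp hy
          rw [hpow _ x hx, pow_orderOf_eq_one, autFun_one hx, autFun_one (mem_img_of_mem hx)]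
        exact ⟨_, hi.2.2 (img a Q) hQ' (mem_oP_of_coprime (autOf_mem hg himg) hcop),
          fun x hx => by rw [autFun_autOf hg himg (mem_img_of_mem hx), hga x hx]⟩
    obtain ⟨γ, hγ, hγx⟩ := hcase β (oP_mono hi.1 Q hβ)
    have hat : a t ∈ Y := haY.le (mem_img_of_mem ht)
    have hcm : ∀ y ∈ img a Q, cj (a t) y ∈ img a Q := fun y hy => by
      obtain ⟨x, hx, rfl⟩ := (haQ.mem_img_iff le_rfl).mp hy
      have h1 : t * x * t⁻¹ ∈ Q := by
        rw [← cj_apply, ← htc x hx]; exact autFun_mem c hx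
      rw [cj_apply, ← ha.map_conj ht (hQY hx)]
      exact mem_img_of_mem h1
    refine ⟨_, (mapTo_cj hQ' hat).comp (mapTo_of_mem_autGroup hQ' hγ) hcm, fun x hx => ?_⟩
    show autFun γ (cj (a t) (a x)) = a (autFun (β * c) x)
    rw [autFun_mul _ _ hx, cj_apply, ← ha.map_conj ht (hQY hx), ← cj_apply,
      ← htc x hx, hγx _ (autFun_mem c hx)]

/-- The Frattini condition. -/
theorem subsystem_frattini (hS : IsPGroup p S) (hF : F.IsSaturated p) (hsc : F.StronglyClosed T)
    (hYsc : F.StronglyClosed Y) (hYC : Y ≤ centralizerIn S T) (hTS : T ≤ S) (hD : D.IsSaturated p)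
    (hi : D.HasPPowerIndexIn (cSys F hTS) p) (hP : P ≤ Y) (hf : MapTo F P f) :
    ∃ α ∈ F.autGroup Y, ∃ f₀, MapTo D P f₀ ∧ ∀ x ∈ P, f x = autFun α (f₀ x) := by
  have hYS : Y ≤ S := hYsc.1
  have := finite_of_le (centralizerIn_le (S := S) (P := T))
  have hfY : ∀ x ∈ P, f x ∈ Y := fun x hx => StronglyClosed.map_mem hYsc hf hx (hP hx)
  have hTfn : F.IsFullyNormalized T :=
    isFullyNormalized_of_normal hTS (StronglyClosed.le_normalizer hsc)
  obtain ⟨g, hg, hgf, hgT⟩ := exists_ext_sup hS hF hsc hYsc hYC hP hf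
  have hgT' : MapTo F T g := hg.restrict le_sup_right
  obtain ⟨e, he, hex⟩ :=
    (isReceptive_iff.mp (isReceptive_of_isFullyNormalized hS hF hTfn)).2 T g hgT' hgT
  set C := centralizerIn S T with hC
  have hCe : C ≤ extSub S hgT' := centralizerIn_le_extSub hgT'
  have heY : MapTo F (Y ⊔ T) e :=
    he.restrict (sup_le (hYC.trans hCe) (le_extSub hgT'))
  have heYY : img e Y = Y := StronglyClosed.img_eq hYsc heY le_sup_left
  set α := autOf (heY.restrict le_sup_left) heYY with hα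
  obtain ⟨k, hk, hke, -, -⟩ := heY.exists_iso_inverse
  have heYT : img e (Y ⊔ T) = Y ⊔ T := by
    rw [heY.img_sup le_sup_left le_sup_right, heYY,
      StronglyClosed.img_eq hsc heY le_sup_right]
  rw [heYT] at hk
  have hgm : ∀ x ∈ P ⊔ T, g x ∈ Y ⊔ T := fun x hx => by
    have h1 : img g (P ⊔ T) ≤ Y ⊔ T := by
      rw [hg.img_sup le_sup_left le_sup_right, hgT, img_congr (f := g) (P := P) hgf]
      exact sup_le_sup_right (img_le_of_forall hfY) T
    exact h1 (mem_img_of_mem hx)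
  have hm : MapTo F (P ⊔ T) fun x => k (g x) := hg.comp hk hgm
  have hfix : ∀ x ∈ T, k (g x) = x := fun x hx => by
    rw [← hex x hx]; exact hke x (Subgroup.mem_sup_right hx)
  have hkY : ∀ x ∈ P, k (g x) ∈ Y := fun x hx =>
    StronglyClosed.map_mem hYsc hm (Subgroup.mem_sup_left hx) (hP hx)
  have hc : MapTo (cSys F hTS) P fun x => k (g x) :=
    (mapTo_cSys_iff (isCentralizerSystem_cSys F hTS)).mpr
      ⟨hP.trans hYC, fun x hx => hYC (hkY x hx), _, hm, fun _ _ => rfl, hfix⟩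
  have hCsat := isSaturated_centralizerSystem hS hF
    (isFullyCentralized_of_isFullyNormalized hS hF hTfn) (isCentralizerSystem_cSys F hTS)
  have hYn : ∀ s ∈ C, ∀ x ∈ Y, s * x * s⁻¹ ∈ Y := fun s hs x hx =>
    StronglyClosed.conj_mem hYsc hs.1 hx
  obtain ⟨s, hs, f₀, hf₀, hx₀⟩ :=
    pPowerIndex_frattini (hS.to_le centralizerIn_le) hCsat hYC hYn hD hi hc hP
  have hsY : MapTo F Y (cj s) := mapTo_cj hYS hs.1
  have himgs : img (cj s) Y = Y := StronglyClosed.img_eq hYsc hsY le_rfl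
  refine ⟨α * autOf hsY himgs, Subgroup.mul_mem _ (autOf_mem _ heYY) (autOf_mem hsY himgs),
    f₀, hf₀, fun x hx => ?_⟩
  have hy := hf₀.mem hx
  rw [autFun_mul _ _ hy, autFun_autOf hsY himgs hy, ← hx₀ x hx, hα,
    autFun_autOf (heY.restrict le_sup_left) heYY (hkY x hx), ← hgf x hx]
  have h1 : g x ∈ img e (Y ⊔ T) := by rw [heYT]; exact hgm x (Subgroup.mem_sup_left hx)
  obtain ⟨w, hw, hwe⟩ := (heY.mem_img_iff le_rfl).mp h1
  rw [← hwe, hke w hw]

/-- The extension of an element of order prime to `p`. -/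
theorem exists_extension (hS : IsPGroup p S) (hF : F.IsSaturated p) (hsc : F.StronglyClosed T)
    (hYsc : F.StronglyClosed Y) (hYC : Y ≤ centralizerIn S T) (hTS : T ≤ S)
    (hfoc : (cSys F hTS).focalSubgroup ≤ Y) {a : MulAut Y}
    (ha : a ∈ (cSys F hTS).autGroup Y) (hcop : (orderOf a).Coprime p) :
    ∃ β ∈ F.autGroup (Y ⊔ centralizerIn S Y), (∀ x ∈ Y, autFun β x = autFun a x) ∧
      ∀ c ∈ centralizerIn S Y,
        c⁻¹ * autFun β c ∈ Y ⊓ Subgroup.centralizer (Y : Set Ω) := by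
  have hYS : Y ≤ S := hYsc.1
  haveI := finite_of_le hYS
  set C := centralizerIn S Y with hC
  set W := Y ⊔ C with hW
  have hWS : W ≤ S := sup_le hYS centralizerIn_le
  haveI := finite_of_le hWS
  haveI := finite_mulAut W
  have hYW : Y ≤ W := le_sup_left
  have hCW : C ≤ W := le_sup_right
  have hTC : T ≤ C := fun t ht => mem_centralizerIn.mpr
    ⟨hTS ht, fun x hx => ((mem_centralizerIn.mp (hYC hx)).2 t ht).symm⟩
  obtain ⟨-, -, e, he, hea, heT⟩ := (mapTo_cSys_iff (isCentralizerSystem_cSys F hTS)).mp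
    (mapTo_of_mem_autGroup hYC ha)
  have hYTn : ∀ s ∈ S, ∀ x ∈ Y ⊔ T, s * x * s⁻¹ ∈ Y ⊔ T := fun s hs => conj_mem_sup
    (fun x hx => StronglyClosed.conj_mem hYsc hs hx) fun x hx => StronglyClosed.conj_mem hsc hs hx
  have himg : img e (Y ⊔ T) = Y ⊔ T := by
    rw [he.img_sup le_sup_left le_sup_right, img_congr (f := e) (P := T) heT, img_id,
      img_congr (f := e) (P := Y) hea, img_autFun]
  obtain ⟨g, hg, hge⟩ := (isReceptive_iff.mp (isReceptive_of_isFullyNormalized hS hF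
    (fullyNormalized_of_conj_mem (F := F) (sup_le hYS hTS) hYTn))).2 (Y ⊔ T) e he himg
  have hYTc : T ≤ Subgroup.normalizer (Y : Set Ω) :=
    hTS.trans (StronglyClosed.le_normalizer hYsc)
  have hCext : C ≤ extSub S he := fun c hc => by
    refine ⟨mem_normalizerIn_of_forall (sup_le hYS hTS) hc.1 (hYTn c hc.1), c, hc.1,
      fun x hx => ?_⟩
    have hx' : x ∈ ((Y ⊔ T : Subgroup Ω) : Set Ω) := hx
    rw [Subgroup.coe_mul_of_right_le_normalizer_left _ _ hYTc] at hx'
    obtain ⟨y, hy, t, ht, rfl⟩ := hx'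
    have hcy : ∀ z ∈ Y, c * z * c⁻¹ = z := fun z hz => by
      rw [← (mem_centralizerIn.mp hc).2 z hz, mul_inv_cancel_right]
    have hct : c * t * c⁻¹ ∈ T := StronglyClosed.conj_mem hsc hc.1 ht
    rw [show c * (y * t) * c⁻¹ = (c * y * c⁻¹) * (c * t * c⁻¹) by group, hcy y hy,
      he.map_mul (Subgroup.mem_sup_left hy) (Subgroup.mem_sup_right hct),
      he.map_mul (Subgroup.mem_sup_left hy) (Subgroup.mem_sup_right ht), heT t ht, heT _ hct,
      hea y hy,
      show c * (autFun a y * t) * c⁻¹ = (c * autFun a y * c⁻¹) * (c * t * c⁻¹) by group,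
      hcy _ (autFun_mem a hy)]
  have hgW : MapTo F W g :=
    hg.restrict (sup_le ((le_sup_left : Y ≤ Y ⊔ T).trans (le_extSub he)) hCext)
  have hgY : ∀ x ∈ Y, g x = autFun a x := fun x hx => by
    rw [hge x (Subgroup.mem_sup_left hx), hea x hx]
  have hgimg : img g W = W := by
    refine img_eq_self_of_forall hgW fun x hx => ?_
    have h1 : img g W ≤ W := by
      rw [hW, hgW.img_sup hYW hCW]
      refine sup_le_sup (img_le_of_forall fun x hx => by rw [hgY x hx]; exact autFun_mem a hx)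
        (img_le_of_forall fun x hx => ?_)
      have h1 := hgW.map_mem_centralizerIn hYW (hCW hx) hx
      rwa [img_eq_self_of_forall (hgW.restrict hYW)
        fun x hx => by rw [hgY x hx]; exact autFun_mem a hx] at h1
    exact h1 (mem_img_of_mem hx)
  set γ := autOf hgW hgimg with hγd
  obtain ⟨k, hk, hkcop⟩ := exists_pow_coprime (p := p) γ hcop
  set β := γ ^ k with hβd
  have hβ : β ∈ F.autGroup W := Subgroup.pow_mem _ (autOf_mem hgW hgimg) k
  have hβm := mapTo_of_mem_autGroup hWS hβ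
  have hγT : ∀ n : ℕ, ∀ x ∈ T, autFun (γ ^ n) x = x := by
    intro n
    induction n with
    | zero => intro x hx; rw [pow_zero, autFun_one (hCW (hTC hx))]
    | succ n ih =>
      intro x hx
      rw [pow_succ, autFun_mul _ _ (hCW (hTC hx)), hγd,
        autFun_autOf hgW hgimg (hCW (hTC hx)), hge x (Subgroup.mem_sup_right hx), heT x hx,
        ← hγd, ih x hx]
  have hγY : ∀ n : ℕ, ∀ x ∈ Y, autFun (γ ^ n) x = autFun (a ^ n) x := by
    intro n
    induction n with
    | zero => intro x hx; rw [pow_zero, pow_zero, autFun_one (hYW hx), autFun_one hx]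
    | succ n ih =>
      intro x hx
      rw [pow_succ, pow_succ, autFun_mul _ _ (hYW hx), autFun_mul _ _ hx, hγd,
        autFun_autOf hgW hgimg (hYW hx), hgY x hx, ← hγd, ih _ (autFun_mem a hx)]
  have hak : a ^ k = a := by
    conv_rhs => rw [← pow_one a]
    haveI := finite_mulAut Y
    exact pow_eq_pow_iff_modEq.mpr hk
  have hβY : ∀ x ∈ Y, autFun β x = autFun a x := fun x hx => by rw [hβd, hγY k x hx, hak]
  have hβC : ∀ c ∈ C, autFun β c ∈ C := fun c hc => by
    have h1 := hβm.map_mem_centralizerIn hYW (hCW hc) hc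
    rwa [img_eq_self_of_forall (hβm.restrict hYW)
      fun x hx => by rw [hβY x hx]; exact autFun_mem a hx] at h1
  have hβT : ∀ x ∈ T, autFun β x = x := hγT k
  refine ⟨β, hβ, hβY, fun c hc => ?_⟩
  set c' := c⁻¹ * autFun β c with hc'
  have hc'C : c' ∈ C := C.mul_mem (C.inv_mem hc) (hβC c hc)
  refine ⟨?_, hc'C.2⟩
  -- `β` moves `c` by an element centralizing `T`
  have hmov : ∀ c ∈ C, c⁻¹ * autFun β c ∈ centralizerIn S T := fun c hc => by
    refine mem_centralizerIn.mpr ⟨S.mul_mem (S.inv_mem hc.1) (hWS (autFun_mem β (hCW hc))),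
      fun t ht => ?_⟩
    have hct : c * t * c⁻¹ ∈ T := StronglyClosed.conj_mem hsc hc.1 ht
    have h1 := hβm.map_conj (hCW hc) (hCW (hTC ht))
    rw [hβT _ hct, hβT t ht] at h1
    calc t * (c⁻¹ * autFun β c) = c⁻¹ * (c * t * c⁻¹) * autFun β c := by group
      _ = c⁻¹ * (autFun β c * t * (autFun β c)⁻¹) * autFun β c := by rw [h1]
      _ = c⁻¹ * autFun β c * t := by group
  -- on `C_S(Y) ∩ C_S(T)` it moves by elements of `Y`
  set C₀ := C ⊓ centralizerIn S T with hC₀
  have hC₀T : C₀ ⊔ T ≤ W := sup_le ((inf_le_left : C₀ ≤ C).trans hCW) (hTC.trans hCW)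
  have hc₀ : MapTo (cSys F hTS) C₀ (autFun β) := by
    refine (mapTo_cSys_iff (isCentralizerSystem_cSys F hTS)).mpr ⟨inf_le_right, fun x hx => ?_,
      _, hβm.restrict hC₀T, fun _ _ => rfl, hβT⟩
    have h1 := (centralizerIn S T).mul_mem hx.2 (hmov x hx.1)
    rwa [mul_inv_cancel_left] at h1
  have hmovY : ∀ x ∈ C₀, x⁻¹ * autFun β x ∈ Y := fun x hx => hfoc (mem_focal hc₀ hx)
  have hC₀mem : ∀ n : ℕ, c' ^ n ∈ C₀ := fun n =>
    C₀.pow_mem (Subgroup.mem_inf.mpr ⟨hc'C, hmov c hc⟩) n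
  have hpow : ∀ n : ℕ, ∃ y ∈ Y, autFun (β ^ n) c = c * c' ^ n * y := by
    intro n
    induction n with
    | zero => exact ⟨1, Y.one_mem, by rw [pow_zero, pow_zero, autFun_one (hCW hc), mul_one, mul_one]⟩
    | succ n ih =>
      obtain ⟨y, hy, hyn⟩ := ih
      have hcn : c' ^ n ∈ W := hCW (C.pow_mem hc'C n)
      refine ⟨(c' ^ n)⁻¹ * autFun β (c' ^ n) * autFun β y,
        Y.mul_mem (hmovY _ (hC₀mem n)) (by rw [hβY y hy]; exact autFun_mem a hy), ?_⟩
      rw [pow_succ', autFun_mul _ _ (hCW hc), hyn,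
        hβm.map_mul (W.mul_mem (hCW hc) hcn) (hYW hy), hβm.map_mul (hCW hc) hcn,
        show autFun β c = c * c' by rw [hc']; group, pow_succ']
      group
  obtain ⟨y, hy, hyn⟩ := hpow (orderOf β)
  rw [pow_orderOf_eq_one, autFun_one (hCW hc), mul_assoc, left_eq_mul] at hyn
  have h1 : c' ^ orderOf β ∈ Y := by
    rw [eq_inv_of_mul_eq_one_left hyn]
    exact Y.inv_mem hy
  obtain ⟨m, hm⟩ := hS ⟨c', centralizerIn_le hc'C⟩
  have h2 : c' ^ (p ^ m) ∈ Y := by
    rw [show c' ^ (p ^ m) = 1 from congrArg Subtype.val hm]; exact Y.one_mem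
  have hbez := Nat.gcd_eq_gcd_ab (orderOf β) (p ^ m)
  rw [Nat.Coprime.pow_right m hkcop, Nat.cast_one] at hbez
  have h3 : c' ^ (((orderOf β : ℕ) : ℤ) * Nat.gcdA (orderOf β) (p ^ m) +
      ((p ^ m : ℕ) : ℤ) * Nat.gcdB (orderOf β) (p ^ m)) ∈ Y := by
    rw [zpow_add, zpow_mul, zpow_mul, zpow_natCast, zpow_natCast]
    exact Y.mul_mem (Y.zpow_mem h1 _) (Y.zpow_mem h2 _)
  rwa [← hbez, zpow_one] at h3

/-- The subsystem of `p`-power index of `C_F(T)` over `Y` is normal in `F`. -/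
theorem subsystem_isNormalIn (hS : IsPGroup p S) (hF : F.IsSaturated p) (hsc : F.StronglyClosed T)
    (hYsc : F.StronglyClosed Y) (hYC : Y ≤ centralizerIn S T) (hTS : T ≤ S)
    (hfoc : (cSys F hTS).focalSubgroup ≤ Y) (hD : D.IsSaturated p)
    (hi : D.HasPPowerIndexIn (cSys F hTS) p) : D.IsNormalIn F p := by
  have hYS : Y ≤ S := hYsc.1
  haveI := finite_of_le hYS
  have hsub : D.IsSubsystemOf F := fun P φ hφ => (hi.1 P hφ).1
  refine ⟨⟨hD, hF, hsub, hYsc, ?_, ?_⟩, ?_⟩
  · intro P hP φ hφ α hα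
    obtain ⟨g, hg, hgx⟩ := subsystem_transport hS hF hsc hYsc hYC hTS hD hi
      (mapTo_of_mem_autGroup hYS hα) (mapTo_ev hφ)
    have he : (P.subgroupOf Y).map (Y.subtype.comp α.toMonoidHom) = img (autFun α) P :=
      map_subgroupOf_eq_img (fun x => (autFun_coe α x).symm) hP
    rw [← he] at hg
    obtain ⟨χ, hχ, hχg⟩ := hg
    refine ⟨χ, hχ, fun x hφx hαx => ?_⟩
    rw [hχg, ← autFun_apply α (hP x.2), ← autFun_apply α hφx, hgx x x.2, ev_coe]
  · intro P hP φ hφ
    obtain ⟨α, hα, f₀, ⟨φ₀, hφ₀, hφ₀x⟩, hx⟩ :=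
      subsystem_frattini hS hF hsc hYsc hYC hTS hD hi hP (mapTo_ev hφ)
    refine ⟨α, hα, φ₀, hφ₀, fun x hφx => ?_⟩
    rw [← autFun_apply _ hφx, hφ₀x, ← hx x x.2, ev_coe]
  · set C := centralizerIn S Y with hC
    set W := Y ⊔ C with hW
    have hWS : W ≤ S := sup_le hYS centralizerIn_le
    haveI := finite_of_le hWS
    have hYW : Y ≤ W := le_sup_left
    have hCW : C ≤ W := le_sup_right
    have hC' : ∀ β ∈ F.autGroup W, (∀ x ∈ Y, autFun β x ∈ Y) → ∀ c ∈ C, autFun β c ∈ C := by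
      intro β hβ hβY c hc
      have hm := mapTo_of_mem_autGroup hWS hβ
      have h1 := hm.map_mem_centralizerIn hYW (hCW hc) hc
      rwa [img_eq_self_of_forall (hm.restrict hYW) hβY] at h1
    let K : MulAut Y → Prop := fun a => ∃ β ∈ F.autGroup W,
      (∀ x ∈ Y, autFun β x = autFun a x) ∧
      ∀ c ∈ C, c⁻¹ * autFun β c ∈ Y ⊓ Subgroup.centralizer (Y : Set Ω)
    suffices hK : ∀ a ∈ D.autGroup Y, K a by
      intro a ha
      obtain ⟨β, hβ, hβx, hβc⟩ := hK a ha
      refine ⟨β, hβ, fun x => ?_, fun c hc => ?_⟩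
      · rw [← autFun_coe a x, ← hβx x x.2, autFun_apply β (hYW x.2)]; rfl
      · rw [← autFun_coe β c]; exact hβc c hc
    have hmul : ∀ a b, K a → K b → K (a * b) := by
      rintro a b ⟨β, hβ, hβx, hβc⟩ ⟨γ, hγ, hγx, hγc⟩
      refine ⟨β * γ, Subgroup.mul_mem _ hβ hγ, fun x hx => ?_, fun c hc => ?_⟩
      · rw [autFun_mul _ _ (hYW hx), autFun_mul _ _ hx, hγx x hx, hβx _ (autFun_mem b hx)]
      · have hγC : autFun γ c ∈ C :=
          hC' γ hγ (fun x hx => by rw [hγx x hx]; exact autFun_mem b hx) c hc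
        rw [autFun_mul _ _ (hCW hc),
          show c⁻¹ * autFun β (autFun γ c) =
            (c⁻¹ * autFun γ c) * ((autFun γ c)⁻¹ * autFun β (autFun γ c)) by group]
        exact Subgroup.mul_mem _ (hγc c hc) (hβc _ hγC)
    have hinv : ∀ a, K a → K a⁻¹ := by
      rintro a ⟨β, hβ, hβx, hβc⟩
      have hβi : ∀ x ∈ Y, autFun β⁻¹ x = autFun a⁻¹ x := fun x hx => by
        have h1 := hβx _ (autFun_mem a⁻¹ hx)
        rw [autFun_autFun_inv a hx] at h1
        conv_lhs => rw [← h1]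
        exact autFun_inv_autFun β (hYW (autFun_mem a⁻¹ hx))
      refine ⟨β⁻¹, Subgroup.inv_mem _ hβ, hβi, fun c hc => ?_⟩
      have hcC : autFun β⁻¹ c ∈ C := hC' _ (Subgroup.inv_mem _ hβ)
        (fun x hx => by rw [hβi x hx]; exact autFun_mem _ hx) c hc
      have h1 := Subgroup.inv_mem _ (hβc _ hcC)
      rwa [autFun_autFun_inv β (hCW hc), mul_inv_rev, inv_inv] at h1
    intro a ha
    obtain ⟨b, hb, c, hc, rfl⟩ :=
      exists_eq_mul_of_isFullyNormalized (hS.to_le hYS) hD isFullyNormalized_top ha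
    refine hmul _ _ (oP_induction (C := K) ⟨1, Subgroup.one_mem _,
        fun x hx => by rw [autFun_one (hYW hx), autFun_one hx],
        fun c hc => by rw [autFun_one (hCW hc), inv_mul_cancel]; exact Subgroup.one_mem _⟩
      (fun a b _ _ => hmul a b) (fun a _ => hinv a)
      (fun a ha hcop => exists_extension hS hF hsc hYsc hYC hTS hfoc
        (IsSubsystemOf.autGroup_le hi.1 Y ha) hcop) b hb) ?_
    obtain ⟨t, ht, htc⟩ := mem_autInducedBy_iff_cj.mp hc
    have hm : MapTo F W (cj t) := mapTo_cj hWS (hYS ht)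
    have himg : img (cj t) W = W := img_eq_self_of_forall hm fun x hx =>
      W.mul_mem (W.mul_mem (hYW ht) hx) (W.inv_mem (hYW ht))
    refine ⟨autOf hm himg, autOf_mem _ _, fun x hx => by
      rw [autFun_autOf hm himg (hYW hx), htc x hx], fun z hz => ?_⟩
    rw [autFun_autOf hm himg (hCW hz), cj_apply, (mem_centralizerIn.mp hz).2 t ht,
      mul_inv_cancel_right, inv_mul_cancel]
    exact Subgroup.one_mem _

/-- For a normal subsystem `E`, a normal subsystem over `C_S(E)` inside `C_F(T)`. -/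
theorem exists_normal_over_centralizer {E : FusionSystem T} (hS : IsPGroup p S)
    (hE : E.IsNormalIn F p) (hY : Y ≤ centralizerIn S T)
    (hEY : ∀ P : Subgroup Ω, E.Hom P ⊆ F.centralizerHom Y P)
    (hmax : ∀ Y' : Subgroup Ω, Y' ≤ centralizerIn S T →
      (∀ P : Subgroup Ω, E.Hom P ⊆ F.centralizerHom Y' P) → Y' ≤ Y) :
    ∃ D : FusionSystem Y, D.IsNormalIn F p ∧
      ∀ P : Subgroup Ω, D.Hom P ⊆ F.centralizerHom T P := by
  obtain ⟨hEs, hF, hi⟩ := id hE.1
  have hsc := hi.2.1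
  have hTS : T ≤ S := hsc.1
  obtain ⟨C, hC, hEC, hCmax, hCsc⟩ := CentralizerOfNormal.exists_centralizer hS hE
  have hCY : C = Y := le_antisymm (hmax C hC hEC) (hCmax Y hY hEY)
  rw [hCY] at hCsc
  have hXC : (cSys F hTS).focalSubgroup ≤ centralizerIn S T := focal_le_iff.mpr
    fun R g hg x hx => Subgroup.mul_mem _ (Subgroup.inv_mem _ (hg.le hx)) (hg.mem hx)
  have hfoc : (cSys F hTS).focalSubgroup ≤ Y := by
    refine hmax _ hXC fun P φ hφ => ?_
    have hTX : ∀ {t : Ω}, t ∈ T → t ∈ centralizerIn S (cSys F hTS).focalSubgroup := fun {t} ht =>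
      mem_centralizerIn.mpr ⟨hTS ht, fun x hx =>
        ((mem_centralizerIn.mp (hXC hx)).2 t ht).symm⟩
    have hφm := mapTo_ev hφ
    exact (mem_centralizerHom_iff (f := ev φ) fun x => (ev_coe φ x).symm).mpr
      ⟨fun x hx => hTX (hφm.le hx), fun x hx => hTX (hφm.mem hx), extFix_focal hS hE hTS hφm⟩
  haveI := finite_of_le (centralizerIn_le (S := S) (P := T))
  have hTfn : F.IsFullyNormalized T :=
    isFullyNormalized_of_normal hTS (StronglyClosed.le_normalizer hsc)
  have hCsat := isSaturated_centralizerSystem hS hF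
    (isFullyCentralized_of_isFullyNormalized hS hF hTfn) (isCentralizerSystem_cSys F hTS)
  obtain ⟨D, hD, hDi⟩ := IndexP.exists_pPowerIndex (hS.to_le centralizerIn_le) hCsat hY
    (hyperfocal_le_focal.trans hfoc)
  exact ⟨D, subsystem_isNormalIn hS hF hsc hCsc hY hTS hfoc hD hDi, hDi.1⟩

end Cfsg.Agent.Components.CentralizerSubsystem
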