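import Cfsg.Agent.Lib.Components.CompAction

/-!
# Components and `O_{p'}` of the centralizer of an element of order `p`
-/

set_option autoImplicit false
set_option linter.unusedSectionVars false
set_option linter.style.haveILetI false

namespace Cfsg.Agent.Components

open scoped commutatorElement Pointwise
open Subgroup Cfsg

variable {G : Type*} [Group G] [Finite G] {p : ℕ} [hp : Fact p.Prime]

theorem centralizer_zpowers_eq (x : G) :
    centralizer (zpowers x : Set G) = centralizer ({x} : Set G) := by
  ext y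
  rw [mem_centralizer_singleton_iff, mem_centralizer_iff]
  refine ⟨fun h => (h x (mem_zpowers x)).symm, fun h z hz => ?_⟩
  obtain ⟨i, rfl⟩ := mem_zpowers_iff.mp hz
  exact (Commute.zpow_left (show Commute x y from h.symm) i).eq

theorem isPGroup_zpowers_of_pow_eq_one {x : G} {k : ℕ} (hk : x ^ p ^ k = 1) :
    IsPGroup p ↥(zpowers x) := by
  intro w
  obtain ⟨i, hi⟩ := mem_zpowers_iff.mp w.2
  refine ⟨k, Subtype.ext ?_⟩
  rw [SubmonoidClass.coe_pow, ← hi, ← zpow_natCast (x ^ i), ← zpow_mul, mul_comm, zpow_mul,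
    zpow_natCast, hk, one_zpow, OneMemClass.coe_one]

theorem centralizerPPrimeCore_le_lstar (x : G) :
    Cfsg.centralizerPPrimeCore p x ≤ lstar p (normalizer (zpowers x : Set G)) := by
  have h : centralizer ({x} : Set G) ≤ normalizer (zpowers x : Set G) :=
    centralizer_zpowers_eq x ▸ centralizer_le_normalizer _
  refine le_trans (Subgroup.map_mono pPrimeCore_le_layerPre) (lstar_of_normal_in h ?_).1
  rw [← centralizer_zpowers_eq x]
  exact normalizer_le_normalizer_centralizer _

theorem centralizer_le_normalizer_centralizerPPrimeCore (x : G) :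
    centralizer ({x} : Set G) ≤ normalizer (Cfsg.centralizerPPrimeCore p x : Set G) := by
  have := le_normalizer_map (H := Cfsg.pPrimeCore p ↥(centralizer ({x} : Set G)))
    (centralizer ({x} : Set G)).subtype
  rwa [normalizer_eq_top, ← MonoidHom.range_eq_map, range_subtype] at this

theorem centralizerPPrimeCore_coprime (x : G) :
    (Nat.card ↥(Cfsg.centralizerPPrimeCore p x)).Coprime p := by
  rw [Cfsg.centralizerPPrimeCore, card_map_of_injective (Subtype.val_injective)]
  exact pPrimeCore_coprime

/-- The product of the components different from `L`. -/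
noncomputable def otherComps (L : Subgroup G) : Subgroup G :=
  ⨆ K : {K : Subgroup G // Cfsg.IsComponent K ∧ K ≠ L}, (K : Subgroup G)

theorem le_centralizer_otherComps {L : Subgroup G} (hL : Cfsg.IsComponent L) :
    otherComps L ≤ centralizer (L : Set G) :=
  iSup_le fun K => (component_eq_or_commute K.2.1 hL).elim (fun h => absurd h K.2.2)
    commutator_eq_bot_iff_le_centralizer.mp

theorem pow_mem_of_normalizes {W : Subgroup G} {a w : G} (ha : a ∈ normalizer (W : Set G))
    (hw : w ∈ W) : ∀ i : ℕ, ∃ w' ∈ W, (a * w) ^ i = a ^ i * w'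
  | 0 => ⟨1, one_mem _, by simp⟩
  | i + 1 => by
    obtain ⟨w', hw', e⟩ := pow_mem_of_normalizes ha hw i
    refine ⟨a⁻¹ * w' * a * w, W.mul_mem ?_ hw, ?_⟩
    · simpa using (mem_normalizer_iff.mp (inv_mem ha) w').mp hw'
    · rw [pow_succ, e, pow_succ]; group

theorem mul_pow_mem_otherComps {L : Subgroup G} (hL : Cfsg.IsComponent L) {x : G}
    (hx : orderOf x = p) (hxn : x ∉ normalizer (L : Set G)) {l : G} (hl : l ∈ L) :
    ∃ w ∈ otherComps L, (l * x) ^ p = l * w := by
  let Wn : ℕ → Subgroup G := fun n =>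
    ⨆ i : {i : ℕ // 1 ≤ i ∧ i < n}, L.map (MulAut.conj (x ^ (i : ℕ))).toMonoidHom
  have hconj : ∀ n, ∀ w ∈ Wn n, x * w * x⁻¹ ∈ Wn (n + 1) := by
    intro n w hw
    have : (Wn n).map (MulAut.conj x).toMonoidHom ≤ Wn (n + 1) := by
      rw [Subgroup.map_iSup]
      refine iSup_le fun i => ?_
      rw [conj_map_comp, ← pow_succ']
      exact le_iSup (fun i : {i : ℕ // 1 ≤ i ∧ i < n + 1} =>
        L.map (MulAut.conj (x ^ (i : ℕ))).toMonoidHom) ⟨(i : ℕ) + 1, by omega, by omega⟩
    exact this ⟨w, hw, rfl⟩
  have hL1 : ∀ n, 1 ≤ n → x * l * x⁻¹ ∈ Wn (n + 1) := fun n hn =>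
    le_iSup (fun i : {i : ℕ // 1 ≤ i ∧ i < n + 1} =>
      L.map (MulAut.conj (x ^ (i : ℕ))).toMonoidHom) ⟨1, le_rfl, by omega⟩
      ⟨l, hl, by simp⟩
  have hind : ∀ n, 1 ≤ n → ∃ w ∈ Wn n, (l * x) ^ n = l * w * x ^ n := by
    intro n hn
    induction n, hn using Nat.le_induction with
    | base => exact ⟨1, one_mem _, by simp⟩
    | succ n hn ih =>
      obtain ⟨w, hw, e⟩ := ih
      refine ⟨(x * l * x⁻¹) * (x * w * x⁻¹), mul_mem (hL1 n hn) (hconj n w hw), ?_⟩
      rw [pow_succ', e, pow_succ']
      group
  obtain ⟨w, hw, e⟩ := hind p hp.out.one_le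
  have hle : Wn p ≤ otherComps L := by
    refine iSup_le fun i => ?_
    refine le_iSup_of_le (f := fun K : {K : Subgroup G // Cfsg.IsComponent K ∧ K ≠ L} =>
      (K : Subgroup G)) ⟨_, isComponent_conj _ hL, fun he => ?_⟩ le_rfl
    have h1 : x ^ (i : ℕ) ∈ normalizer (L : Set G) := mem_normalizer_of_map_conj_eq he
    have hc : (i : ℕ).Coprime (orderOf x) := by
      rw [hx]
      exact ((hp.out.coprime_iff_not_dvd).mpr
        (Nat.not_dvd_of_pos_of_lt (by have := i.2.1; omega) i.2.2)).symm
    obtain ⟨m, hm⟩ := exists_pow_eq_self_of_coprime hc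
    exact hxn (hm ▸ pow_mem h1 m)
  refine ⟨w, hle hw, ?_⟩
  rw [e, show x ^ p = 1 from hx ▸ pow_orderOf_eq_one x, mul_one]

theorem component_commute_centralizerPPrimeCore (hO : Cfsg.pPrimeCore p G = ⊥) {x : G}
    (hx : orderOf x = p) {L : Subgroup G} (hL : Cfsg.IsComponent L)
    (hne : ⁅L, zpowers x⁆ ≠ L) : ⁅L, Cfsg.centralizerPPrimeCore p x⁆ = ⊥ := by
  have hperf := isComponent_commutator_eq_self hL
  set W := otherComps L with hW
  have hWC := le_centralizer_otherComps hL
  have hLW : ∀ w ∈ W, ∀ a ∈ L, Commute a w := fun w hw a ha =>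
    mem_centralizer_iff.mp (hWC hw) a ha
  set X := Cfsg.centralizerPPrimeCore p x with hX
  have hd : ∀ l ∈ L, ∃ w ∈ W, l * w ∈ centralizer ({x} : Set G) := by
    intro l hl
    by_cases hxn : x ∈ normalizer (L : Set G)
    · refine ⟨1, one_mem _, ?_⟩
      have hle : ⁅L, zpowers x⁆ ≤ L := le_normalizer_iff_commutator_le_left.mp (zpowers_le.mpr hxn)
      rcases isQuasisimple_normalized_cases hL.2
        (normalizer_commutator_ge_left L (zpowers x)) with h | h
      · exact absurd (le_antisymm hle h) hne
      · rw [inf_eq_left.mpr hle] at h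
        have h0 : ⁅L, zpowers x⁆ = ⊥ := commutator_eq_bot_of_perfect hperf
          (by rw [commutator_comm (zpowers x)]; exact commutator_eq_bot_iff_le_centralizer.mpr h)
        rw [mul_one, mem_centralizer_singleton_iff]
        exact commutator_eq_bot_iff_forall.mp h0 l hl x (mem_zpowers x)
    · obtain ⟨w, hw, e⟩ := mul_pow_mem_otherComps hL hx hxn hl
      refine ⟨w, hw, ?_⟩
      rw [mem_centralizer_singleton_iff]
      have h1 : (x * l) ^ p = l * w := by
        rw [show x * l = l⁻¹ * (l * x) * l by group]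
        have := conj_pow (i := p) (a := l⁻¹) (b := l * x)
        rw [inv_inv] at this
        rw [this, e, mul_assoc l⁻¹, mul_assoc l, ← (hLW w hw l hl).eq]
        group
      have h2 : (x * l) ^ p = x * (l * x) ^ p * x⁻¹ := by
        rw [← conj_pow]; congr 1; group
      rw [h2, e, mul_inv_eq_iff_eq_mul] at h1
      exact h1.symm
  have hnorm : ∀ K, Cfsg.IsComponent K → X ≤ normalizer (K : Set G) := fun K hK =>
    (centralizerPPrimeCore_le_lstar x).trans (lstar_normalizer_le_normalizer_component hO hK
      (isPGroup_zpowers_of_pow_eq_one (k := 1) (by rw [pow_one, ← hx, pow_orderOf_eq_one])))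
  have hXL : ∀ v ∈ X, v ∈ normalizer (L : Set G) := fun v hv => hnorm L hL hv
  have hXW : ∀ v ∈ X, v ∈ normalizer (W : Set G) := by
    intro v hv
    refine mem_normalizer_of_conj_le ?_
    rw [hW, otherComps, Subgroup.map_iSup]
    refine iSup_le fun K => ?_
    rw [map_conj_eq_of_mem_normalizer (hnorm K K.2.1 hv)]
    exact le_iSup (fun K : {K : Subgroup G // Cfsg.IsComponent K ∧ K ≠ L} => (K : Subgroup G)) K
  have hLWn : L ⊔ W ≤ normalizer (W : Set G) :=
    sup_le ((le_centralizer_iff.mp hWC).trans (centralizer_le_normalizer _)) le_normalizer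
  set J' := (X ⊓ (L ⊔ W)) ⊔ W with hJ'
  have hJn : L ≤ normalizer ((J' ⊓ L : Subgroup G) : Set G) := by
    intro l hl
    obtain ⟨w, hw, hd'⟩ := hd l hl
    refine mem_normalizer_of_conj_le ?_
    rintro _ ⟨j, hj, rfl⟩
    have hdLW : l * w ∈ L ⊔ W :=
      mul_mem (le_sup_left (b := W) hl) (le_sup_right (a := L) hw)
    have hdn : l * w ∈ normalizer (J' : Set G) := by
      apply mem_normalizer_of_map_conj_eq
      rw [hJ', Subgroup.map_sup, Subgroup.map_inf _ _ _ (MulAut.conj (l * w)).injective,
        map_conj_eq_of_mem_normalizer (centralizer_le_normalizer_centralizerPPrimeCore x hd'),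
        map_conj_eq_of_mem_normalizer (le_normalizer hdLW),
        map_conj_eq_of_mem_normalizer (hLWn hdLW)]
    have h1 := (mem_normalizer_iff.mp hdn j).mp hj.1
    have e : l * w * j * (l * w)⁻¹ = l * j * l⁻¹ := by
      rw [mul_assoc l w j, ← (hLW w hw j hj.2).eq]; group
    rw [e] at h1
    refine ⟨?_, ?_⟩
    · simpa using h1
    · simpa using L.mul_mem (L.mul_mem hl hj.2) (L.inv_mem hl)
  rcases isQuasisimple_normalized_cases hL.2 hJn with h | h
  · exfalso
    refine isQuasisimple_not_le_centralizer hL.2 (le_trans ?_ hWC)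
    refine (pGen_eq_self_of_isQuasisimple hL.2 (card_dvd_of_isPComponent_image hO hL)).ge.trans ?_
    refine (closure_le _).mpr fun a ⟨haL, k, hk⟩ => ?_
    have hn : X ⊓ (L ⊔ W) ≤ normalizer (W : Set G) := inf_le_right.trans hLWn
    have haJ : a ∈ ((X ⊓ (L ⊔ W) ⊔ W : Subgroup G) : Set G) := (h haL).1
    rw [coe_mul_of_left_le_normalizer_right _ _ hn] at haJ
    obtain ⟨v, hv, w, hw, rfl⟩ := haJ
    obtain ⟨w', hw', e⟩ := pow_mem_of_normalizes (hn hv) hw (Nat.card ↥X)
    have hv1 : v ^ Nat.card ↥X = 1 :=
      congrArg Subtype.val (pow_card_eq_one' (x := (⟨v, hv.1⟩ : ↥X)))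
    rw [hv1, one_mul] at e
    have hco : (Nat.card ↥X).Coprime (orderOf (v * w)) :=
      (Nat.Coprime.pow_right k (centralizerPPrimeCore_coprime (p := p) x)).coprime_dvd_right
        (orderOf_dvd_of_pow_eq_one hk)
    obtain ⟨m, hm⟩ := exists_pow_eq_self_of_coprime hco
    change v * w ∈ W
    rw [← hm, e]
    exact pow_mem hw' m
  · refine commutator_eq_bot_of_perfect hperf (commutator_eq_bot_iff_le_centralizer.mpr ?_)
    rw [commutator_le]
    intro v hv l hl
    obtain ⟨w, hw, hd'⟩ := hd l hl
    have hvl : ⁅v, l⁆ ∈ L := L.mul_mem ((mem_normalizer_iff.mp (hXL v hv) l).mp hl) (L.inv_mem hl)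
    refine h ⟨⟨?_, hvl⟩, hvl⟩
    · have hdLW : l * w ∈ L ⊔ W :=
        mul_mem (le_sup_left (b := W) hl) (le_sup_right (a := L) hw)
      have hvn : v ∈ normalizer ((L ⊔ W : Subgroup G) : Set G) := by
        apply mem_normalizer_of_map_conj_eq
        rw [Subgroup.map_sup, map_conj_eq_of_mem_normalizer (hXL v hv),
          map_conj_eq_of_mem_normalizer (hXW v hv)]
      have h1 : ⁅v, l * w⁆ ∈ X ⊓ (L ⊔ W) := by
        refine ⟨?_, ?_⟩
        · have := (mem_normalizer_iff.mp
            (centralizer_le_normalizer_centralizerPPrimeCore (p := p) x hd') _).mp (inv_mem hv)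
          simpa [commutatorElement_def, mul_assoc] using X.mul_mem hv this
        · exact (L ⊔ W).mul_mem ((mem_normalizer_iff.mp hvn _).mp hdLW) ((L ⊔ W).inv_mem hdLW)
      have h2 : ⁅v, w⁆ ∈ W := W.mul_mem ((mem_normalizer_iff.mp (hXW v hv) w).mp hw) (W.inv_mem hw)
      have e : ⁅v, l⁆ = ⁅v, l * w⁆ * ⁅v, w⁆⁻¹ := by
        have h3 : ⁅v, l * w⁆ = ⁅v, l⁆ * (l * ⁅v, w⁆ * l⁻¹) := by
          simp only [commutatorElement_def]; group
        rw [h3, (hLW _ h2 l hl).eq, mul_inv_cancel_right, mul_inv_cancel_right]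
      change ⁅v, l⁆ ∈ (J' : Set G)
      rw [e]
      exact mul_mem (mem_sup_left h1) (inv_mem (mem_sup_right h2))

theorem balanced_of_component_automizers (hO : Cfsg.pPrimeCore p G = ⊥)
    (h : ∀ L : Subgroup G, Cfsg.IsComponent L → ∀ H : Subgroup G, L ≤ H →
      (L.subgroupOf H).Normal → ∀ [((centralizer (L : Set G)).subgroupOf H).Normal],
      Cfsg.IsBalancedFor p (↥H ⧸ (centralizer (L : Set G)).subgroupOf H)) :
    Cfsg.IsBalancedFor p G := by
  intro x hx
  set X := Cfsg.centralizerPPrimeCore p x with hX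
  have hxp : IsPGroup p ↥(zpowers x) :=
    isPGroup_zpowers_of_pow_eq_one (k := 1) (by rw [pow_one, ← hx, pow_orderOf_eq_one])
  have hXC : X ≤ centralizer (Cfsg.pCore p G : Set G) :=
    (centralizerPPrimeCore_le_lstar x).trans (lstar_normalizer_le_centralizer_pCore hxp)
  have hXx : X ≤ centralizer ({x} : Set G) := map_subtype_le _
  have hcomp : ∀ L : Subgroup G, Cfsg.IsComponent L → ⁅L, X⁆ = ⊥ := by
    intro L hL
    by_cases hne : ⁅L, zpowers x⁆ ≠ L
    · exact component_commute_centralizerPPrimeCore hO hx hL hne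
    push Not at hne
    have hxn : x ∈ normalizer (L : Set G) := by
      have := normalizer_commutator_ge_right L (zpowers x)
      rw [hne] at this
      exact this (mem_zpowers x)
    set P := zpowers x ⊔ layerCenter G with hP
    have hPp : IsPGroup p ↥P :=
      hxp.to_sup_of_normal_right (isPGroup_pCore.to_le (layerCenter_le_pCore hO))
    set N := normalizer (P : Set G) with hN
    set Y := (Cfsg.pPrimeCore p ↥N).map N.subtype with hY
    have hYl : Y ≤ lstar p N := Subgroup.map_mono pPrimeCore_le_layerPre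
    have hYL : Y ≤ normalizer (L : Set G) :=
      hYl.trans (lstar_normalizer_le_normalizer_component hO hL hPp)
    have hYC : Y ≤ centralizer (P : Set G) := hYl.trans (lstar_normalizer_le_centralizer hPp)
    have hYn : N ≤ normalizer (Y : Set G) := by
      have := le_normalizer_map (H := Cfsg.pPrimeCore p ↥N) N.subtype
      rwa [normalizer_eq_top, ← MonoidHom.range_eq_map, range_subtype] at this
    have hYc : (Nat.card ↥Y).Coprime p := by
      rw [hY, card_map_of_injective N.subtype_injective]; exact pPrimeCore_coprime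
    have hXY : X ≤ Y := by
      set A := centralizer (P : Set G) with hA
      have hXA : X ≤ A := by
        intro v hv
        have hle : P ≤ centralizer ({v} : Set G) := by
          refine sup_le (fun u hu => ?_) (fun u hu => ?_)
          · obtain ⟨i, rfl⟩ := mem_zpowers_iff.mp hu
            rw [mem_centralizer_singleton_iff]
            exact (Commute.zpow_left (show Commute x v from
              (mem_centralizer_singleton_iff.mp (hXx hv)).symm) i).eq
          · rw [mem_centralizer_singleton_iff]
            exact mem_centralizer_iff.mp (hXC hv) u (layerCenter_le_pCore hO hu)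
        exact mem_centralizer_iff.mpr fun u hu => mem_centralizer_singleton_iff.mp (hle hu)
      have hAN : A ≤ N := centralizer_le_normalizer _
      have hAx : A ≤ centralizer ({x} : Set G) :=
        centralizer_le (Set.singleton_subset_iff.mpr (le_sup_left (b := layerCenter G) (mem_zpowers x)))
      haveI : (A.subgroupOf N).Normal :=
        normal_subgroupOf_of_le_normalizer (normalizer_le_normalizer_centralizer P)
      have hsn : (X.subgroupOf N).IsSubnormal := by
        refine IsSubnormal.step _ (A.subgroupOf N) (fun v hv => hXA hv)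
          (isSubnormal_of_normal _) (normal_subgroupOf_of_le_normalizer ?_)
        intro v hv
        rw [mem_normalizer_iff]
        intro y
        exact mem_normalizer_iff.mp
          (centralizer_le_normalizer_centralizerPPrimeCore x (hAx hv)) (y : G)
      have h1 := Subgroup.map_mono (f := N.subtype) (subnormal_coprime_le_pPrimeCore (p := p) hsn
        (by rw [Nat.card_congr (subgroupOfEquivOfLe (hXA.trans hAN)).toEquiv]
            exact centralizerPPrimeCore_coprime x))
      rwa [map_subgroupOf_eq_of_le (hXA.trans hAN)] at h1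
    refine le_bot_iff.mp (le_trans (commutator_mono le_rfl hXY) ?_)
    refine le_of_eq (commutator_eq_bot_of_perfect (isComponent_commutator_eq_self hL) ?_)
    refine commutator_eq_bot_iff_le_centralizer.mpr ?_
    set M := zpowers x ⊔ Y with hM
    have hMn : M ≤ normalizer (L : Set G) := sup_le (zpowers_le.mpr hxn) hYL
    set H := L ⊔ M with hH
    have hHn : H ≤ normalizer (L : Set G) := sup_le le_normalizer hMn
    haveI hCn : ((centralizer (L : Set G)).subgroupOf H).Normal :=
      normal_subgroupOf_of_le_normalizer (hHn.trans (normalizer_le_normalizer_centralizer L))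
    have hb := h L hL H le_sup_left (normal_subgroupOf_of_le_normalizer hHn)
    set π := QuotientGroup.mk' ((centralizer (L : Set G)).subgroupOf H) with hπ
    have hxH : x ∈ H := le_sup_right (a := L) (le_sup_left (b := Y) (mem_zpowers x))
    set xb := π ⟨x, hxH⟩ with hxb
    have hxb1 : orderOf xb = p := by
      refine orderOf_eq_prime ?_ fun he => ?_
      · rw [hxb, ← map_pow, show (⟨x, hxH⟩ : ↥H) ^ p = 1 from
          Subtype.ext (by simp [← hx, pow_orderOf_eq_one]), map_one]
      · have hmem : x ∈ centralizer (L : Set G) :=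
          (show (⟨x, hxH⟩ : ↥H) ∈ (centralizer (L : Set G)).subgroupOf H from
            (QuotientGroup.eq_one_iff _).mp he)
        refine isComponent_ne_bot hL (hne ▸ ?_)
        rw [commutator_eq_bot_iff_le_centralizer, le_centralizer_iff]
        exact zpowers_le.mpr hmem
    have hYH : Y ≤ H := le_sup_of_le_right le_sup_right
    set Yb := (Y.subgroupOf H).map π with hYb
    set Cb := centralizer ({xb} : Set (↥H ⧸ (centralizer (L : Set G)).subgroupOf H)) with hCb
    have hMC : ∀ m ∈ M, Commute m x := by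
      intro m hm
      have hle : M ≤ centralizer ({x} : Set G) := sup_le (zpowers_le.mpr (mem_centralizer_singleton_iff.mpr rfl))
        (hYC.trans (centralizer_le (Set.singleton_subset_iff.mpr
          (le_sup_left (b := layerCenter G) (mem_zpowers x)))))
      exact mem_centralizer_singleton_iff.mp (hle hm)
    have hYbC : Yb ≤ Cb := by
      rintro _ ⟨y, hy, rfl⟩
      rw [hCb, mem_centralizer_singleton_iff, hxb, ← map_mul, ← map_mul]
      congr 1
      exact Subtype.ext (hMC (y : G) (le_sup_right (a := zpowers x) hy)).eq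
    have hCbn : Cb ≤ normalizer (Yb : Set _) := by
      intro q hq
      obtain ⟨⟨g, hg⟩, rfl⟩ := QuotientGroup.mk'_surjective _ q
      have hg' : g ∈ ((L ⊔ M : Subgroup G) : Set G) := hg
      rw [coe_mul_of_right_le_normalizer_left _ _ hMn] at hg'
      obtain ⟨l, hl, m, hm, rfl⟩ := hg'
      rw [hCb, mem_centralizer_singleton_iff, hxb, ← map_mul, ← map_mul] at hq
      have h1 : (l * m * x)⁻¹ * (x * (l * m)) ∈ centralizer (L : Set G) :=
        show ((⟨l * m, hg⟩ : ↥H) * ⟨x, hxH⟩)⁻¹ * ((⟨x, hxH⟩ : ↥H) * ⟨l * m, hg⟩) ∈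
          (centralizer (L : Set G)).subgroupOf H from QuotientGroup.eq.mp hq
      have h2 : x⁻¹ * l⁻¹ * (x * l * x⁻¹) * x ∈ centralizer (L : Set G) := by
        have hmn : m ∈ normalizer (centralizer (L : Set G) : Set G) :=
          normalizer_le_normalizer_centralizer L (hMn hm)
        have h3 := (mem_normalizer_iff.mp hmn _).mp h1
        have e : m * ((l * m * x)⁻¹ * (x * (l * m))) * m⁻¹ =
            x⁻¹ * l⁻¹ * (x * l * x⁻¹) * x := by
          calc m * ((l * m * x)⁻¹ * (x * (l * m))) * m⁻¹
              = (m * x⁻¹ * m⁻¹) * l⁻¹ * x * l := by group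
            _ = x⁻¹ * l⁻¹ * x * l := by
                rw [(hMC m hm).inv_right.eq, mul_inv_cancel_right]
            _ = _ := by group
        rwa [e] at h3
      have hxl : x * l * x⁻¹ ∈ L := (mem_normalizer_iff.mp hxn l).mp hl
      have h4 : l⁻¹ * (x * l * x⁻¹) ∈ layerCenter G := by
        have hxC : x ∈ normalizer (centralizer (L : Set G) : Set G) :=
          normalizer_le_normalizer_centralizer L hxn
        have h5 := (mem_normalizer_iff.mp hxC _).mp h2
        have e : x * (x⁻¹ * l⁻¹ * (x * l * x⁻¹) * x) * x⁻¹ = l⁻¹ * (x * l * x⁻¹) := by group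
        rw [e] at h5
        have h6 := L.mul_mem (L.inv_mem hl) hxl
        refine ⟨component_le_layer hL h6, ?_⟩
        have hE : Cfsg.layer G ≤ centralizer ({l⁻¹ * (x * l * x⁻¹)} : Set G) := by
          rw [layer_le_iff]
          intro K hK a ha
          rw [mem_centralizer_singleton_iff]
          rcases component_eq_or_commute hK hL with rfl | hc
          · exact mem_centralizer_iff.mp h5 a ha
          · exact commutator_eq_bot_iff_forall.mp hc a ha _ h6
        exact mem_centralizer_iff.mpr fun a ha => mem_centralizer_singleton_iff.mp (hE ha)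
      have hlN : l ∈ N := by
        refine mem_normalizer_of_conj_le ?_
        rw [hP, Subgroup.map_sup, map_conj_eq_of_mem_normalizer
          (le_normalizer_of_normal (H := layerCenter G) (mem_top l)), MonoidHom.map_zpowers]
        refine sup_le (zpowers_le.mpr ?_) le_sup_right
        simp only [MulEquiv.coe_toMonoidHom, MulAut.conj_apply]
        have h7 := Normal.conj_mem (inferInstance : (layerCenter G).Normal) _
          ((layerCenter G).inv_mem h4) l
        have e2 : l * x * l⁻¹ = (l * (l⁻¹ * (x * l * x⁻¹))⁻¹ * l⁻¹) * x := by group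
        rw [e2]
        exact mul_mem (mem_sup_right h7) (mem_sup_left (mem_zpowers x))
      have hmN : m ∈ N := by
        have hle : M ≤ N := sup_le (zpowers_le.mpr (le_normalizer (mem_sup_left (mem_zpowers x))))
          (hYC.trans (centralizer_le_normalizer _))
        exact hle hm
      refine mem_normalizer_of_conj_le ?_
      rintro _ ⟨_, ⟨y, hy, rfl⟩, rfl⟩
      refine ⟨⟨l * m, hg⟩ * y * ⟨l * m, hg⟩⁻¹, ?_, by rw [map_mul, map_mul, map_inv]; rfl⟩
      exact (mem_normalizer_iff.mp (hYn (mul_mem hlN hmN)) (y : G)).mp hy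
    have hYbO : Yb ≤ Cfsg.centralizerPPrimeCore p xb := by
      have h1 : Yb.subgroupOf Cb ≤ Cfsg.pPrimeCore p ↥Cb := by
        refine le_pPrimeCore (normal_subgroupOf_of_le_normalizer hCbn) ?_
        rw [Nat.card_congr (subgroupOfEquivOfLe hYbC).toEquiv]
        refine hYc.coprime_dvd_left ((card_map_dvd _ _).trans ?_)
        rw [Nat.card_congr (subgroupOfEquivOfLe hYH).toEquiv]
      have h2 := Subgroup.map_mono (f := Cb.subtype) h1
      rwa [map_subgroupOf_eq_of_le hYbC] at h2
    have hYbH := hYbO.trans (hb xb hxb1)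
    set U := (Cfsg.pPrimeCore p (↥H ⧸ (centralizer (L : Set G)).subgroupOf H)).comap π with hU
    haveI : U.Normal := Normal.comap inferInstance _
    have hUn : L ≤ normalizer ((U.map H.subtype ⊓ L : Subgroup G) : Set G) := by
      intro a ha
      apply mem_normalizer_of_map_conj_eq
      have := le_normalizer_map (H := U) H.subtype
      rw [normalizer_eq_top, ← MonoidHom.range_eq_map, range_subtype] at this
      rw [Subgroup.map_inf _ _ _ (MulAut.conj a).injective,
        map_conj_eq_of_mem_normalizer (this (le_sup_left (b := M) ha)),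
        map_conj_eq_of_mem_normalizer (le_normalizer ha)]
    rcases isQuasisimple_normalized_cases hL.2 hUn with hc | hc
    · exfalso
      refine isQuasisimple_not_le_centralizer hL.2 ?_
      refine (pGen_eq_self_of_isQuasisimple hL.2 (card_dvd_of_isPComponent_image hO hL)).ge.trans ?_
      refine (closure_le _).mpr fun a ⟨haL, k, hk⟩ => ?_
      have haH : a ∈ H := le_sup_left (b := M) haL
      have hmem : π ⟨a, haH⟩ ∈ Cfsg.pPrimeCore p (↥H ⧸ (centralizer (L : Set G)).subgroupOf H) := by
        obtain ⟨b, hb', he⟩ := (hc haL).1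
        rwa [show b = ⟨a, haH⟩ from Subtype.ext he] at hb'
      have h1 : π ⟨a, haH⟩ = 1 := eq_one_of_pow_prime_pow_of_coprime pPrimeCore_coprime (k := k)
        (by rw [← map_pow, show (⟨a, haH⟩ : ↥H) ^ p ^ k = 1 from Subtype.ext (by simpa using hk),
          map_one])
        (congrArg Subtype.val (pow_card_eq_one' (x := (⟨_, hmem⟩ : ↥(Cfsg.pPrimeCore p _)))))
      have h2 : a ∈ centralizer (L : Set G) :=
        (show (⟨a, haH⟩ : ↥H) ∈ (centralizer (L : Set G)).subgroupOf H from
          (QuotientGroup.eq_one_iff _).mp h1)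
      exact h2
    · refine le_trans ?_ hc
      refine le_inf (le_inf ?_ ?_) ?_
      · rw [commutator_le]
        intro y hy l hl
        have hmem : (⟨y, hYH hy⟩ : ↥H) ∈ U :=
          hYbH (mem_map_of_mem π (show (⟨y, hYH hy⟩ : ↥H) ∈ Y.subgroupOf H from hy))
        refine ⟨⁅(⟨y, hYH hy⟩ : ↥H), (⟨l, le_sup_left (b := M) hl⟩ : ↥H)⁆, ?_, rfl⟩
        have h1 := Normal.conj_mem (inferInstance : U.Normal) _ (U.inv_mem hmem)
          (⟨l, le_sup_left (b := M) hl⟩ : ↥H)
        rw [commutatorElement_def, mul_assoc, mul_assoc]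
        have h2 := U.mul_mem hmem h1
        rw [mul_assoc (⟨l, le_sup_left (b := M) hl⟩ : ↥H)] at h2
        exact h2
      · exact le_normalizer_iff_commutator_le_right.mp hYL
      · exact le_normalizer_iff_commutator_le_right.mp hYL
  have hXE : X ≤ centralizer (Cfsg.layer G : Set G) := by
    rw [le_centralizer_iff, layer_le_iff]
    exact fun L hL => commutator_eq_bot_iff_le_centralizer.mp (hcomp L hL)
  have hXF : X ≤ centralizer (Cfsg.generalizedFittingSubgroup G : Set G) := by
    rw [le_centralizer_iff, Cfsg.generalizedFittingSubgroup]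
    refine sup_le (le_centralizer_iff.mp hXE) ?_
    rw [fitting_eq_pCore_of_core_eq_bot hO]
    exact le_centralizer_iff.mp hXC
  have h1 : X ≤ Cfsg.pCore p G := by
    intro v hv
    have hvF := centralizer_fStar_le (hXF hv)
    rw [Cfsg.generalizedFittingSubgroup] at hvF
    have hv' : v ∈ ((Cfsg.layer G ⊔ Cfsg.fittingSubgroup G : Subgroup G) : Set G) := hvF
    rw [coe_mul_of_right_le_normalizer_left _ _ le_normalizer_of_normal] at hv'
    obtain ⟨e, he, f, hf, rfl⟩ := hv'
    have heC : e ∈ centralizer (Cfsg.layer G : Set G) := by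
      simpa using mul_mem (hXE hv) (inv_mem (fitting_le_centralizer_layer hf))
    rw [← fitting_eq_pCore_of_core_eq_bot hO]
    exact mul_mem (layer_inf_centralizer_le_fitting ⟨he, heC⟩) hf
  rw [hO, le_bot_iff]
  obtain ⟨k, hk⟩ := ((isPGroup_pCore (G := G) (p := p)).to_le h1).exists_card_eq
  have hc := centralizerPPrimeCore_coprime (p := p) x
  rw [← hX, hk] at hc
  refine eq_bot_of_card_eq _ ?_
  rw [hk]
  exact Nat.eq_one_of_dvd_coprimes (Nat.Coprime.pow_right k hc) dvd_rfl dvd_rfl

end Cfsg.Agent.Components
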