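import Cfsg.Agent.Lib.Fusion.ModelExistence
import Cfsg.Agent.Lib.Fusion.ModelBasic
import Cfsg.Agent.Lib.Fusion.NormalCriteria
import Cfsg.Agent.Lib.Fusion.Group
import Cfsg.Agent.Lib.LocalEvenA.Core
import Cfsg.Agent.Lib.Basics.CoprimeAction

/-!
Constrained fusion systems of finite groups pass to normal subgroups and central quotients.
-/

set_option autoImplicit false
set_option linter.style.haveILetI false

namespace Cfsg.Agent.ConstrainedGroup

open Cfsg.Agent.Fusion
open Cfsg.FusionSystem (centralizerIn normalizerIn preimageAlong imageAlong)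

universe u

/-- An element stabilizing the series `1 ≤ R ≤ O_p(G)` lies in `O_p(G)`. -/
theorem mem_pCore_of_stab {G : Type*} [Group G] [Finite G] {p : ℕ} [Fact p.Prime]
    (h : Subgroup.centralizer (Cfsg.pCore p G : Set G) ≤ Cfsg.pCore p G) (R : Subgroup G) [R.Normal]
    (hR : R ≤ Cfsg.pCore p G) {c : G} (hc : ∀ x ∈ Cfsg.pCore p G, c * x * c⁻¹ * x⁻¹ ∈ R)
    (hcR : ∀ x ∈ R, c * x = x * c) : c ∈ Cfsg.pCore p G := by
  set O := Cfsg.pCore p G
  haveI : O.Normal := Fusion.normal_pCore p G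
  haveI : (O.map (QuotientGroup.mk' R)).Normal :=
    Subgroup.Normal.map inferInstance _ (QuotientGroup.mk'_surjective R)
  let K : Subgroup G := (Subgroup.centralizer ((O.map (QuotientGroup.mk' R) : Subgroup (G ⧸ R)) : Set (G ⧸ R))).comap
      (QuotientGroup.mk' R) ⊓ Subgroup.centralizer (R : Set G)
  haveI : ((Subgroup.centralizer ((O.map (QuotientGroup.mk' R) : Subgroup (G ⧸ R)) : Set (G ⧸ R))).comap
      (QuotientGroup.mk' R)).Normal := Subgroup.Normal.comap inferInstance _
  haveI : K.Normal := inferInstance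
  have hmem : ∀ y : G, y ∈ K ↔
      (∀ x ∈ O, y * x * y⁻¹ * x⁻¹ ∈ R) ∧ ∀ x ∈ R, y * x = x * y := by
    intro y
    simp only [K, Subgroup.mem_inf, Subgroup.mem_comap, Subgroup.mem_centralizer_iff]
    refine and_congr ⟨fun hy q hq => ?_, ?_⟩ ⟨fun hy x hx => (hy x hx).symm, fun hy x hx => (hy x hx).symm⟩
    · have := hy _ (Subgroup.mem_map_of_mem (QuotientGroup.mk' R) hq)
      rw [← QuotientGroup.eq_one_iff]
      simp only [QuotientGroup.mk'_apply] at this
      simp only [QuotientGroup.mk_mul, QuotientGroup.mk_inv, ← this]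
      group
    · rintro hy _ ⟨q, hq, rfl⟩
      have := (QuotientGroup.eq_one_iff _).mpr (hy q hq)
      simp only [QuotientGroup.mk_mul, QuotientGroup.mk_inv, mul_inv_eq_one, mul_inv_eq_iff_eq_mul] at this
      simp only [QuotientGroup.mk'_apply]
      simpa using this.symm
  have hOp : IsPGroup p O := Fusion.isPGroup_pCore p G
  have hKp : IsPGroup p K := LocalEvenA.isPGroup_of_forall_coprime fun y hy hyo => by
    obtain ⟨h1, h2⟩ := (hmem y).mp hy
    have hcop : (Nat.card (Subgroup.zpowers y)).Coprime (Nat.card R) := by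
      obtain ⟨k, hk⟩ := IsPGroup.iff_card.mp (hOp.to_le hR)
      rw [Nat.card_zpowers, hk]
      exact hyo.pow_right k
    have hyO : y ∈ O := h (Subgroup.mem_centralizer_iff.mpr fun x hx => by
      obtain ⟨d, hd, hxd⟩ := Basics.exists_centralizer_mem_coset (Subgroup.zpowers y) R
        Subgroup.le_normalizer_of_normal hcop (Or.inl inferInstance) x
        (Subgroup.le_normalizer_of_normal (Subgroup.mem_top x))
        (fun a ha => ((hmem a).mp (Subgroup.zpowers_le.mpr hy ha)).1 x hx)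
      have hd' : y * d = d * y := Subgroup.mem_centralizer_iff.mp hd y (Subgroup.mem_zpowers y)
      have hr := h2 _ hxd
      set r := x⁻¹ * d with hrdef
      have ex : x = d * r⁻¹ := by rw [hrdef]; group
      have hr' : y * r⁻¹ = r⁻¹ * y := (show Commute y r from hr).inv_right.eq
      rw [ex, mul_assoc, ← hr', ← mul_assoc, ← hd', mul_assoc])
    obtain ⟨k, hk⟩ := hOp ⟨y, hyO⟩
    exact LocalEvenA.eq_one_of_pPow_of_coprime (congrArg Subtype.val hk) hyo
  exact Fusion.le_pCore inferInstance hKp ((hmem c).mpr ⟨hc, hcR⟩)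

/-- The same in a fusion system with a model. -/
theorem mem_of_stab {Ω : Type u} [Group Ω] {S : Subgroup Ω} [Finite S] {F : FusionSystem S} {p : ℕ}
    [Fact p.Prime] {G : Type*} [Group G] {ι : S →* G} (h : F.IsModel p G ι) {R : Subgroup Ω}
    (hR : F.IsNormal R) {k : Ω} (hk : k ∈ S)
    (h1 : ∀ x ∈ preimageAlong ι (Cfsg.pCore p G), k * x * k⁻¹ * x⁻¹ ∈ R)
    (h2 : ∀ x ∈ R, k * x = x * k) : k ∈ preimageAlong ι (Cfsg.pCore p G) := by
  haveI := h.1
  haveI := IsModel.normal_imageAlong h hR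
  refine mem_preimageAlong.mpr ⟨hk, mem_pCore_of_stab h.2.2.2 (imageAlong ι R) ?_ ?_ ?_⟩
  · intro y hy
    obtain ⟨x, hx, rfl⟩ := (mem_imageAlong hR.1).mp hy
    exact (mem_preimageAlong.mp (IsModel.le_core_preimage h hR hx)).2
  · intro y hy
    obtain ⟨x, hx, rfl⟩ := exists_th_eq (IsModel.pCore_le_range h hy)
    rw [← th_conj ι hk hx, ← th_inv ι hx,
      ← th_mul ι (S.mul_mem (S.mul_mem hk hx) (S.inv_mem hk)) (S.inv_mem hx)]
    exact th_mem_imageAlong hR.1 (h1 x (mem_preimageAlong.mpr ⟨hx, hy⟩))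
  · intro y hy
    obtain ⟨x, hx, rfl⟩ := (mem_imageAlong hR.1).mp hy
    rw [← th_mul ι hk (hR.1 hx), h2 x hx, th_mul ι (hR.1 hx) hk]

variable {G : Type u} [Group G] [Finite G] {p : ℕ} [Fact p.Prime]

/-- A subgroup of `S` closed under conjugation into `S` is strongly closed. -/
theorem stronglyClosed_gfs {S : Subgroup G} {c : Subgroup G} (hc : c ≤ S)
    (h : ∀ x ∈ c, ∀ g : G, g * x * g⁻¹ ∈ S → g * x * g⁻¹ ∈ c) :
    (groupFusionSystem S).StronglyClosed c := by
  refine stronglyClosed_iff.mpr ⟨hc, fun R f hR hf x hx => ?_⟩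
  obtain ⟨-, g, hg⟩ := mapTo_gfs_iff.mp hf
  rw [(hg x hx).1]
  exact h x (hR hx) g (hg x hx).2

theorem closed_of_stronglyClosed {S c : Subgroup G} (h : (groupFusionSystem S).StronglyClosed c) :
    ∀ x ∈ c, ∀ g : G, g * x * g⁻¹ ∈ S → g * x * g⁻¹ ∈ c := by
  intro x hx g hg
  have hm : MapTo (groupFusionSystem S) (Subgroup.zpowers x) (cj g) := by
    refine mapTo_gfs_cj (Subgroup.zpowers_le.mpr (h.1 hx)) fun y hy => ?_
    obtain ⟨i, rfl⟩ := Subgroup.mem_zpowers_iff.mp hy
    rw [← conj_zpow]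
    exact zpow_mem hg i
  exact StronglyClosed.map_mem h hm (Subgroup.mem_zpowers x) hx

theorem isCentric_of_isNormal {S R : Subgroup G} [Finite S]
    (hR : (groupFusionSystem S).IsNormal R) (h : centralizerIn S R ≤ R) :
    (groupFusionSystem S).IsCentric R := by
  refine ⟨hR.1, fun T hT => ?_⟩
  obtain ⟨f, hf, rfl⟩ := isConj_iff.mp hT
  rwa [StronglyClosed.img_eq (IsNormal.stronglyClosed hR) hf le_rfl]

theorem exists_sylow_comap {H : Type u} [Group H] [Finite H] (f : H →* G) (hf : Function.Injective f)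
    [hn : f.range.Normal] (S : Sylow p G) :
    ∃ P : Sylow p H, (P : Subgroup H) = (S : Subgroup G).comap f := by
  set T := (S : Subgroup G).comap f with hT
  have hTp : IsPGroup p T := S.2.comap_of_injective f hf
  obtain ⟨P0, hP0⟩ := hTp.exists_le_sylow
  obtain ⟨S1, hS1⟩ := (P0.2.map f).exists_le_sylow
  obtain ⟨g, hg⟩ := MulAction.exists_smul_eq G S1 S
  have hTP : T = (P0 : Subgroup H) := by
    refine Subgroup.eq_of_le_of_card_ge hP0 ?_
    rw [← Subgroup.card_map_of_injective (K := (P0 : Subgroup H)) (f := f) hf,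
      ← Subgroup.card_map_of_injective (K := T) (f := f) hf,
      ← Subgroup.card_map_of_injective (K := (P0 : Subgroup H).map f) (f := (MulAut.conj g).toMonoidHom)
        (MulAut.conj g).injective]
    refine Subgroup.card_le_of_le ?_
    rintro _ ⟨_, ⟨a, ha, rfl⟩, rfl⟩
    have h1 : g * f a * g⁻¹ ∈ (S : Subgroup G) := hg ▸ ⟨f a, hS1 ⟨a, ha, rfl⟩, rfl⟩
    obtain ⟨b, hb⟩ := hn.conj_mem (f a) ⟨a, rfl⟩ g
    exact ⟨b, show f b ∈ (S : Subgroup G) from hb ▸ h1, hb⟩
  exact ⟨P0, hTP.symm⟩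

/-- Constrainedness passes to a normal subgroup. -/
theorem normal_sub {H : Type u} [Group H] [Finite H] (f : H →* G) (hf : Function.Injective f)
    [hn : f.range.Normal] (S : Sylow p G)
    (h : (groupFusionSystem (S : Subgroup G)).IsConstrained p) :
    (groupFusionSystem ((S : Subgroup G).comap f)).IsConstrained p := by
  set T := (S : Subgroup G).comap f with hT
  have hTp : IsPGroup p T := S.2.comap_of_injective f hf
  obtain ⟨P0, hP⟩ := exists_sylow_comap f hf S
  have hsat : (groupFusionSystem T).IsSaturated p := by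
    have := isSaturated_gfs P0
    rwa [hP] at this
  obtain ⟨X, _, ι, hι⟩ := exists_model S.2 h
  set F := groupFusionSystem (S : Subgroup G)
  set Q := preimageAlong ι (Cfsg.pCore p X)
  have hQn : F.IsNormal Q := IsModel.isNormal_core_preimage hι
  obtain ⟨n, h0, hlast, hmono, hnorm, hcomm⟩ := exists_normal_series S.2 hQn
  set R := Q.comap f with hRdef
  have hRn : (groupFusionSystem T).IsNormal R := by
    refine isNormal_of_stronglyClosed_series hTp hsat (n := n) (fun i => (ucs Q (i : ℕ)).comap f)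
      ?_ ?_ ?_ ?_ ?_
    · show (ucs Q 0).comap f = ⊥
      rw [h0, MonoidHom.comap_bot, (MonoidHom.ker_eq_bot_iff f).mpr hf]
    · show (ucs Q n).comap f = R
      rw [hlast]
    · exact fun a b hab => Subgroup.comap_mono (hmono hab)
    · intro i
      refine stronglyClosed_gfs (Subgroup.comap_mono (hnorm _).1) fun x hx g hg => ?_
      have := closed_of_stronglyClosed (IsNormal.stronglyClosed (hnorm _)) (f x) hx (f g)
        (by rw [← map_inv, ← map_mul, ← map_mul]; exact hg)
      rwa [← map_inv, ← map_mul, ← map_mul] at this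
    · intro i x hx k hk
      show f (x⁻¹ * (k * x * k⁻¹)) ∈ ucs Q (i : ℕ)
      simp only [map_mul, map_inv]
      exact hcomm (i : ℕ) (f x) hx (f k) hk
  refine ⟨hsat, R, hRn, isCentric_of_isNormal hRn fun k hk => ?_⟩
  obtain ⟨hkT, hkc⟩ := mem_centralizerIn.mp hk
  have hRG : F.IsNormal (Q ⊓ f.range) := by
    refine isNormal_of_stronglyClosed_series S.2 h.1 (n := n) (fun i => ucs Q (i : ℕ) ⊓ f.range)
      ?_ ?_ ?_ ?_ ?_
    · show ucs Q 0 ⊓ f.range = ⊥
      rw [h0, bot_inf_eq]
    · show ucs Q n ⊓ f.range = Q ⊓ f.range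
      rw [hlast]
    · exact fun a b hab => inf_le_inf_right _ (hmono hab)
    · intro i
      refine stronglyClosed_gfs (inf_le_left.trans (hnorm _).1) fun x hx g hg => ?_
      exact ⟨closed_of_stronglyClosed (IsNormal.stronglyClosed (hnorm _)) x hx.1 g hg,
        hn.conj_mem x hx.2 g⟩
    · intro i x hx q hq
      exact ⟨hcomm (i : ℕ) x hx.1 q hq.1,
        f.range.mul_mem (f.range.inv_mem hx.2) (hn.conj_mem x hx.2 q)⟩
  refine mem_of_stab hι hRG (hkT : f k ∈ (S : Subgroup G)) (fun x hx => ⟨?_, ?_⟩) ?_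
  · exact Q.mul_mem (StronglyClosed.conj_mem (IsNormal.stronglyClosed hQn) hkT hx) (Q.inv_mem hx)
  · rw [mul_assoc, mul_assoc, ← mul_assoc x]
    exact mul_mem ⟨k, rfl⟩ (hn.conj_mem _ (inv_mem ⟨k, rfl⟩) x)
  · rintro x ⟨hx, r, rfl⟩
    rw [← map_mul, ← map_mul, hkc r hx]

/-- A `p`-element of the centre times an element of a Sylow subgroup. -/
theorem mem_of_central_pElement (S : Sylow p G) {z : G} (hz : z ∈ Subgroup.center G) {m : ℕ}
    (hzp : z ^ p ^ m = 1) : z ∈ (S : Subgroup G) := by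
  have hp : IsPGroup p (Subgroup.zpowers z) := by
    rintro ⟨y, hy⟩
    obtain ⟨i, rfl⟩ := Subgroup.mem_zpowers_iff.mp hy
    refine ⟨m, Subtype.ext ?_⟩
    show (z ^ i) ^ p ^ m = 1
    rw [← zpow_natCast, ← zpow_mul, mul_comm, zpow_mul, zpow_natCast, hzp, one_zpow]
  haveI : (Subgroup.zpowers z).Normal := ⟨fun y hy g => by
    have hy' : y ∈ Subgroup.center G := Subgroup.zpowers_le.mpr hz hy
    rw [Subgroup.mem_center_iff.mp hy' g, mul_inv_cancel_right]; exact hy⟩
  exact (le_sup_right.trans (S.is_maximal' (S.isPGroup'.to_sup_of_normal_right hp) le_sup_left).le)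
    (Subgroup.mem_zpowers z)

/-- Constrainedness passes to a central quotient. -/
theorem central_quotient {G2 : Type u} [Group G2] [Finite G2] (f : G →* G2)
    (hf : Function.Surjective f) (hker : f.ker ≤ Subgroup.center G) (S : Sylow p G)
    (h : (groupFusionSystem (S : Subgroup G)).IsConstrained p) :
    (groupFusionSystem ((S : Subgroup G).map f)).IsConstrained p := by
  set T := (S : Subgroup G).map f with hT
  have hTp : IsPGroup p T := S.2.map f
  have hsat : (groupFusionSystem T).IsSaturated p := isSaturated_gfs (S.mapSurjective hf)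
  obtain ⟨X, _, ι, hι⟩ := exists_model S.2 h
  set F := groupFusionSystem (S : Subgroup G)
  set Q := preimageAlong ι (Cfsg.pCore p X)
  have hQn : F.IsNormal Q := IsModel.isNormal_core_preimage hι
  obtain ⟨n, h0, hlast, hmono, hnorm, hcomm⟩ := exists_normal_series S.2 hQn
  have hcen : ∀ z ∈ f.ker, ∀ g : G, g * z * g⁻¹ = z := fun z hz g => by
    rw [Subgroup.mem_center_iff.mp (hker hz) g, mul_inv_cancel_right]
  have hlift : ∀ x ∈ (S : Subgroup G), ∀ g : G, f (g * x * g⁻¹) ∈ T →
      g * x * g⁻¹ ∈ (S : Subgroup G) := by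
    rintro x hx g ⟨t, ht, hte⟩
    obtain ⟨i, hi⟩ := S.2 ⟨x, hx⟩
    obtain ⟨j, hj⟩ := S.2 ⟨t, ht⟩
    have hi' : x ^ p ^ i = 1 := congrArg Subtype.val hi
    have hj' : t ^ p ^ j = 1 := congrArg Subtype.val hj
    set z := t⁻¹ * (g * x * g⁻¹) with hzdef
    have hzk : z ∈ f.ker := by
      rw [MonoidHom.mem_ker, hzdef, map_mul f t⁻¹, map_inv, hte, inv_mul_cancel]
    have hc : Commute t z := (Subgroup.mem_center_iff.mp (hker hzk) t)
    have hxt : g * x * g⁻¹ = t * z := by rw [hzdef]; group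
    have hy : (g * x * g⁻¹) ^ p ^ (i + j) = 1 := by
      rw [conj_pow, pow_add, pow_mul, hi', one_pow, mul_one, mul_inv_cancel]
    rw [hxt, hc.mul_pow, add_comm, pow_add, pow_mul t, hj', one_pow, one_mul, ← pow_add] at hy
    rw [hxt]
    exact mul_mem ht (mem_of_central_pElement S (hker hzk) hy)
  have hRn : (groupFusionSystem T).IsNormal (Q.map f) := by
    refine isNormal_of_stronglyClosed_series hTp hsat (n := n) (fun i => (ucs Q (i : ℕ)).map f)
      ?_ ?_ ?_ ?_ ?_
    · show (ucs Q 0).map f = ⊥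
      rw [h0, Subgroup.map_bot]
    · show (ucs Q n).map f = Q.map f
      rw [hlast]
    · exact fun a b hab => Subgroup.map_mono (hmono hab)
    · intro i
      refine stronglyClosed_gfs (Subgroup.map_mono (hnorm _).1) ?_
      rintro _ ⟨x, hx, rfl⟩ g' hg
      obtain ⟨g, rfl⟩ := hf g'
      rw [← map_inv, ← map_mul, ← map_mul] at hg ⊢
      exact ⟨_, closed_of_stronglyClosed (IsNormal.stronglyClosed (hnorm _)) x hx g
        (hlift x ((hnorm _).1 hx) g hg), rfl⟩
    · rintro i _ ⟨x, hx, rfl⟩ _ ⟨k, hk, rfl⟩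
      refine ⟨_, hcomm (i : ℕ) x hx k hk, ?_⟩
      simp only [map_mul, map_inv]
  refine ⟨hsat, Q.map f, hRn, isCentric_of_isNormal hRn fun k' hk' => ?_⟩
  obtain ⟨hkT, hkc⟩ := mem_centralizerIn.mp hk'
  obtain ⟨k, hk, rfl⟩ := hkT
  have hRG : F.IsNormal ((S : Subgroup G) ⊓ f.ker) := by
    refine isNormal_of_stronglyClosed_series S.2 h.1 ![⊥, (S : Subgroup G) ⊓ f.ker] rfl rfl
      (Fin.monotone_iff_le_succ.mpr fun i => by fin_cases i; exact bot_le) (fun i => ?_)
      (fun i x hx q hq => ?_)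
    · fin_cases i
      refine stronglyClosed_gfs inf_le_left fun x hx g hg => ⟨hg, ?_⟩
      rw [hcen x hx.2]; exact hx.2
    · fin_cases i
      show x⁻¹ * (q * x * q⁻¹) ∈ (⊥ : Subgroup G)
      rw [hcen x hx.2, inv_mul_cancel]
      exact one_mem _
  refine ⟨k, mem_of_stab hι hRG hk (fun x hx => ⟨?_, ?_⟩) (fun x hx => ?_), rfl⟩
  · exact (S : Subgroup G).mul_mem ((S : Subgroup G).mul_mem ((S : Subgroup G).mul_mem hk (hQn.1 hx))
      ((S : Subgroup G).inv_mem hk)) ((S : Subgroup G).inv_mem (hQn.1 hx))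
  · show k * x * k⁻¹ * x⁻¹ ∈ f.ker
    rw [MonoidHom.mem_ker]
    simp only [map_mul, map_inv]
    rw [← hkc (f x) ⟨x, hx, rfl⟩, mul_inv_cancel_right, mul_inv_cancel]
  · exact Subgroup.mem_center_iff.mp (hker hx.2) k

/-- Constrainedness passes to subnormal subgroups. -/
theorem subnormal (S : Sylow p G) (h : (groupFusionSystem (S : Subgroup G)).IsConstrained p)
    {H : Subgroup G} (hH : H.IsSubnormal) :
    ∃ T : Sylow p H, (T : Subgroup H) = (S : Subgroup G).subgroupOf H ∧
      (groupFusionSystem (T : Subgroup H)).IsConstrained p := by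
  induction hH with
  | top =>
    haveI : (⊤ : Subgroup G).subtype.range.Normal := by rw [Subgroup.range_subtype]; infer_instance
    exact ⟨S.subtype le_top, rfl, normal_sub (⊤ : Subgroup G).subtype (Subgroup.subtype_injective _) S h⟩
  | step H K hle _ hN ih =>
    obtain ⟨TK, hTK, hK⟩ := ih
    let f : ↥H →* ↥K := Subgroup.inclusion hle
    haveI : f.range.Normal := by rw [Subgroup.inclusion_range]; exact hN
    have hc := normal_sub f (Subgroup.inclusion_injective hle) TK hK
    have e : (TK : Subgroup K).comap f = (S : Subgroup G).subgroupOf H := by rw [hTK]; rfl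
    rw [e] at hc
    obtain ⟨T, hT⟩ : ∃ T : Sylow p H, (T : Subgroup H) = (S : Subgroup G).subgroupOf H := by
      obtain ⟨P, hP⟩ := exists_sylow_comap f (Subgroup.inclusion_injective hle) TK
      exact ⟨P, hP.trans e⟩
    exact ⟨T, hT, hT ▸ hc⟩

end Cfsg.Agent.ConstrainedGroup
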