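import Cfsg.Agent.Lib.Components.PComponent
import Cfsg.Agent.Lib.Components.FStar2

/-!
# p-constraint and the p-layer
-/

set_option autoImplicit false
set_option linter.unusedSectionVars false
set_option linter.style.haveILetI false

namespace Cfsg.Agent.Components

open scoped commutatorElement
open Subgroup Cfsg

variable {G : Type*} [Group G] [Finite G] {p : ℕ} [hp : Fact p.Prime]

theorem fitting_eq_pCore_of_core_eq_bot (h : Cfsg.pPrimeCore p G = ⊥) :
    Cfsg.fittingSubgroup G = Cfsg.pCore p G := by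
  refine le_antisymm ?_ pCore_le_fitting
  rw [fitting_eq_iSup_pCore]
  refine iSup_le fun ⟨q, hq⟩ => ?_
  haveI := Fact.mk (Nat.prime_of_mem_primeFactors hq)
  rcases eq_or_ne q p with rfl | hne
  · exact le_rfl
  · obtain ⟨k, hk⟩ := (sSup_isPGroup_of_normal (p := q) (G := G)).exists_card_eq
    refine le_trans (le_pPrimeCore (p := p) inferInstance ?_) (h ▸ bot_le)
    rw [hk]
    exact Nat.Coprime.pow_left k ((Nat.coprime_primes Fact.out hp.out).mpr hne)

theorem map_pPrimePCore :
    (Cfsg.pPrimePCore p G).map (QuotientGroup.mk' (Cfsg.pPrimeCore p G)) =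
      Cfsg.pCore p (G ⧸ Cfsg.pPrimeCore p G) :=
  map_comap_eq_self_of_surjective (QuotientGroup.mk'_surjective _) _

theorem pPrimeCore_le_pPrimePCore : Cfsg.pPrimeCore p G ≤ Cfsg.pPrimePCore p G :=
  le_trans (le_of_eq (QuotientGroup.ker_mk' _).symm) (MonoidHom.ker_le_comap _ _)

instance pPrimePCore_normal : (Cfsg.pPrimePCore p G).Normal :=
  Subgroup.Normal.comap inferInstance _

theorem map_sylow_pPrimePCore (P : Sylow p ↥(Cfsg.pPrimePCore p G)) :
    ((P : Subgroup ↥(Cfsg.pPrimePCore p G)).map (Cfsg.pPrimePCore p G).subtype).map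
        (QuotientGroup.mk' (Cfsg.pPrimeCore p G)) = Cfsg.pCore p (G ⧸ Cfsg.pPrimeCore p G) := by
  have hsurj := (QuotientGroup.mk' (Cfsg.pPrimeCore p G)).subgroupMap_surjective (Cfsg.pPrimePCore p G)
  have h1 : ((P : Subgroup (Cfsg.pPrimePCore p G)).map ((QuotientGroup.mk' (Cfsg.pPrimeCore p G)).subgroupMap (Cfsg.pPrimePCore p G))).index ∣ (P : Subgroup (Cfsg.pPrimePCore p G)).index :=
    index_map_dvd _ hsurj
  have hpg : IsPGroup p ↥((Cfsg.pPrimePCore p G).map (QuotientGroup.mk' (Cfsg.pPrimeCore p G))) := by rw [map_pPrimePCore]; exact sSup_isPGroup_of_normal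
  obtain ⟨k, hk⟩ := hpg.index ((P : Subgroup (Cfsg.pPrimePCore p G)).map ((QuotientGroup.mk' (Cfsg.pPrimeCore p G)).subgroupMap (Cfsg.pPrimePCore p G)))
  have h2 : ((P : Subgroup (Cfsg.pPrimePCore p G)).map ((QuotientGroup.mk' (Cfsg.pPrimeCore p G)).subgroupMap (Cfsg.pPrimePCore p G))).index = 1 := by
    rcases Nat.eq_zero_or_pos k with rfl | hk0
    · simpa using hk
    · exfalso
      refine P.not_dvd_index (dvd_trans ?_ h1)
      rw [hk]; exact dvd_pow_self p hk0.ne'
  have h3 := congrArg (Subgroup.map ((Cfsg.pPrimePCore p G).map (QuotientGroup.mk' (Cfsg.pPrimeCore p G))).subtype) (index_eq_one.mp h2)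
  rw [map_map, ← MonoidHom.range_eq_map, range_subtype] at h3
  rw [map_map]
  change (P : Subgroup (Cfsg.pPrimePCore p G)).map ((QuotientGroup.mk' (Cfsg.pPrimeCore p G)).comp (Cfsg.pPrimePCore p G).subtype) = _
  rw [show (QuotientGroup.mk' (Cfsg.pPrimeCore p G)).comp (Cfsg.pPrimePCore p G).subtype = ((Cfsg.pPrimePCore p G).map (QuotientGroup.mk' (Cfsg.pPrimeCore p G))).subtype.comp ((QuotientGroup.mk' (Cfsg.pPrimeCore p G)).subgroupMap (Cfsg.pPrimePCore p G)) from rfl, h3, map_pPrimePCore]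

theorem isPConstrained_iff : Cfsg.IsPConstrained p G ↔
    centralizer (Cfsg.pCore p (G ⧸ Cfsg.pPrimeCore p G) : Set (G ⧸ Cfsg.pPrimeCore p G)) ≤
      Cfsg.pCore p (G ⧸ Cfsg.pPrimeCore p G) := by
  set O := Cfsg.pPrimeCore p G
  set π := QuotientGroup.mk' O
  set M := Cfsg.pPrimePCore p G with hM
  constructor
  · intro h x hx
    obtain ⟨P⟩ := (inferInstance : Nonempty (Sylow p M))
    obtain ⟨g, rfl⟩ := QuotientGroup.mk'_surjective O x
    set R := (P : Subgroup M).map M.subtype with hR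
    have hRim : R.map π = Cfsg.pCore p (G ⧸ O) := map_sylow_pPrimePCore P
    -- commutators of `g` with `R` lie in `O`
    have hgR : ∀ r ∈ R, g * r * g⁻¹ * r⁻¹ ∈ O := by
      intro r hr
      have h1 := mem_centralizer_iff.mp hx (π r) (hRim ▸ mem_map_of_mem π hr)
      change π r * π g = π g * π r at h1
      rw [← QuotientGroup.eq_one_iff (N := O)]
      change π (g * r * g⁻¹ * r⁻¹) = 1
      rw [map_mul, map_mul, map_mul, map_inv, map_inv, ← h1]
      group
    set K := R.map (MulAut.conj g).toMonoidHom with hK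
    have hKM : K ≤ R ⊔ O := by
      rintro _ ⟨r, hr, rfl⟩
      have : g * r * g⁻¹ = (g * r * g⁻¹ * r⁻¹) * r := by group
      simp only [MulEquiv.coe_toMonoidHom, MulAut.conj_apply]
      rw [this]
      exact mul_mem (mem_sup_right (hgR r hr)) (mem_sup_left hr)
    have hRM : R ⊔ O ≤ M := sup_le (map_subtype_le _) pPrimeCore_le_pPrimePCore
    have hKp : IsPGroup p ↥(K.subgroupOf M) :=
      ((P.2.map M.subtype).map (MulAut.conj g).toMonoidHom).comap_of_injective M.subtype
        M.subtype_injective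
    obtain ⟨Q, hQ⟩ := hKp.exists_le_sylow
    obtain ⟨m, hm⟩ := MulAction.exists_smul_eq M P Q
    -- write `m` as an element of `O` times an element of `R`
    have hmRO : ((m : G)) ∈ O ⊔ R := by
      have h1 : π (m : G) ∈ Cfsg.pCore p (G ⧸ O) := m.2
      rw [← hRim] at h1
      obtain ⟨r, hr, he⟩ := h1
      have : (m : G) = ((m : G) * r⁻¹) * r := by group
      rw [this]
      refine mul_mem (mem_sup_left ?_) (mem_sup_right hr)
      rw [← QuotientGroup.eq_one_iff (N := O)]
      change π ((m : G) * r⁻¹) = 1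
      rw [map_mul, map_inv, he, mul_inv_cancel]
    rw [← SetLike.mem_coe, normal_mul] at hmRO
    obtain ⟨o, ho, r₀, hr₀, hor⟩ := hmRO
    have hmem : o⁻¹ * g ∈ centralizer (R : Set G) := by
      rw [mem_centralizer_iff]
      intro r hr
      have hK1 : g * r * g⁻¹ ∈ K := mem_map_of_mem _ hr
      have hK2 : (⟨g * r * g⁻¹, hRM (hKM hK1)⟩ : M) ∈ ((m • P : Sylow p M) : Subgroup M) := by
        rw [hm]; exact hQ hK1
      rw [Sylow.coe_subgroup_smul, Subgroup.mem_pointwise_smul_iff_inv_smul_mem] at hK2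
      have hK3 : (m : G)⁻¹ * (g * r * g⁻¹) * (m : G) ∈ R :=
        ⟨_, hK2, by simp [mul_assoc]⟩
      have hR' : o⁻¹ * (g * r * g⁻¹) * o ∈ R := by
        have := mul_mem (mul_mem hr₀ hK3) (inv_mem hr₀)
        convert this using 1
        rw [← hor]
        group
      have hO : o⁻¹ * (g * r * g⁻¹) * o * r⁻¹ ∈ O := by
        rw [← QuotientGroup.eq_one_iff (N := O)]
        change π _ = 1
        have ho1 : π o = 1 := (QuotientGroup.eq_one_iff _).mpr ho
        have hr1 := (QuotientGroup.eq_one_iff (N := O) _).mpr (hgR r hr)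
        change π _ = 1 at hr1
        simp only [map_mul, map_inv, ho1, inv_one, one_mul, mul_one] at hr1 ⊢
        exact hr1
      have h1 : o⁻¹ * (g * r * g⁻¹) * o * r⁻¹ ∈ R ⊓ O := mem_inf.mpr ⟨mul_mem hR' (R.inv_mem hr), hO⟩
      have hbot : R ⊓ O = ⊥ := by
        refine eq_bot_of_card_eq _ (Nat.dvd_one.mp ?_)
        obtain ⟨k, hk⟩ := (P.2.map M.subtype).exists_card_eq
        have h2 : (Nat.card (R ⊓ O : Subgroup G)) ∣ Nat.gcd (Nat.card O) (p ^ k) :=
          Nat.dvd_gcd (card_dvd_of_le inf_le_right) (hk ▸ card_dvd_of_le inf_le_left)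
        rwa [Nat.Coprime.pow_right k pPrimeCore_coprime] at h2
      rw [hbot, mem_bot, mul_inv_eq_one] at h1
      calc r * (o⁻¹ * g) = (o⁻¹ * (g * r * g⁻¹) * o) * (o⁻¹ * g) := by rw [h1]
        _ = o⁻¹ * g * r := by group
    have := mem_map_of_mem π (h P hmem)
    rw [map_pPrimePCore, map_mul, map_inv,
      show π o = 1 from (QuotientGroup.eq_one_iff _).mpr ho, inv_one, one_mul] at this
    exact this
  · intro h P g hg
    change π g ∈ Cfsg.pCore p (G ⧸ O)
    refine h ?_
    rw [mem_centralizer_iff]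
    intro x hx
    rw [SetLike.mem_coe, ← map_sylow_pPrimePCore P] at hx
    obtain ⟨r, hr, rfl⟩ := hx
    rw [← map_mul, ← map_mul, mem_centralizer_iff.mp hg r hr]

/-- A finite group is p-constrained iff its p-layer is trivial. -/
theorem isPConstrained_iff_pLayer_eq_bot : Cfsg.IsPConstrained p G ↔ Cfsg.pLayer p G = ⊥ := by
  rw [isPConstrained_iff, pLayer_eq_bot_iff,
    ← fitting_eq_pCore_of_core_eq_bot (G := G ⧸ Cfsg.pPrimeCore p G) pPrimeCore_quotient_eq_bot]
  set Q := G ⧸ Cfsg.pPrimeCore p G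
  constructor
  · intro h
    rw [layer_eq_bot_iff]
    intro L hL
    haveI := fitting_isSolvable (G := Q)
    exact qs_not_isSolvable hL.2 (Group.isSolvable_of_isSolvable_injective
      (inclusion_injective ((component_le_layer hL).trans (layer_le_centralizer_fitting.trans h))))
  · intro h
    have := centralizer_fStar_le (G := Q)
    rwa [Cfsg.generalizedFittingSubgroup, h, bot_sup_eq] at this

theorem pLayer_eq_bot_of_isSolvable [Group.IsSolvable G] : Cfsg.pLayer p G = ⊥ := by
  rw [pLayer_eq_bot_iff, layer_eq_bot_iff]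
  exact fun L hL => qs_not_isSolvable hL.2 inferInstance

theorem isPConstrained_of_isSolvable [Group.IsSolvable G] : Cfsg.IsPConstrained p G :=
  isPConstrained_iff_pLayer_eq_bot.mpr pLayer_eq_bot_of_isSolvable

end Cfsg.Agent.Components
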