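import Cfsg.Prelude.Def_Balance
import Cfsg.Agent.Lib.Components.PComponent
import Cfsg.Agent.Lib.Components.PConstrained

/-!
# The extended 2-layer
-/

set_option autoImplicit false
set_option linter.unusedSectionVars false
set_option linter.style.haveILetI false

namespace Cfsg.Agent.Components

open Subgroup Cfsg
open scoped Pointwise

variable {X : Type*} [Group X] [Finite X]

/-- `O(C_X(T))` in the ambient group. -/
noncomputable def coreCentralizer (T : Subgroup X) : Subgroup X :=
  (Cfsg.oddCore ↥(centralizer (T : Set X))).map (centralizer (T : Set X)).subtype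

theorem coreCentralizer_le (T : Subgroup X) : coreCentralizer T ≤ centralizer (T : Set X) :=
  map_subtype_le _

theorem map_conj_centralizer (T : Subgroup X) (g : X) :
    (centralizer (T : Set X)).map (MulAut.conj g).toMonoidHom =
      centralizer (T.map (MulAut.conj g).toMonoidHom : Set X) := by
  ext x
  constructor
  · rintro ⟨y, hy, rfl⟩
    rw [mem_centralizer_iff]
    rintro _ ⟨t, ht, rfl⟩
    change (MulAut.conj g) t * (MulAut.conj g) y = (MulAut.conj g) y * (MulAut.conj g) t
    rw [← map_mul, ← map_mul, mem_centralizer_iff.mp hy t ht]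
  · intro hx
    refine ⟨(MulAut.conj g).symm x, ?_, (MulAut.conj g).apply_symm_apply x⟩
    rw [SetLike.mem_coe, mem_centralizer_iff]
    intro t ht
    apply (MulAut.conj g).injective
    rw [map_mul, map_mul, MulEquiv.apply_symm_apply]
    exact mem_centralizer_iff.mp hx _ ⟨t, ht, rfl⟩

theorem map_conj_coreCentralizer (T : Subgroup X) (g : X) :
    (coreCentralizer T).map (MulAut.conj g).toMonoidHom =
      coreCentralizer (T.map (MulAut.conj g).toMonoidHom) := by
  let e : ↥(centralizer (T : Set X)) ≃*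
      ↥(centralizer (T.map (MulAut.conj g).toMonoidHom : Set X)) :=
    ((MulAut.conj g).subgroupMap _).trans (MulEquiv.subgroupCongr (map_conj_centralizer T g))
  change ((Cfsg.pPrimeCore 2 ↥(centralizer (T : Set X))).map _).map _ =
    (Cfsg.pPrimeCore 2 ↥(centralizer (T.map (MulAut.conj g).toMonoidHom : Set X))).map _
  rw [← map_pPrimeCore_equiv e, map_map, map_map]
  rfl

theorem coreCentralizer_sylow_le (M : Subgroup X)
    (hM : M = Cfsg.pLayer 2 X ⊔ Cfsg.pPrimePCore 2 X) (T T₁ : Sylow 2 ↥M) :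
    coreCentralizer ((T₁ : Subgroup ↥M).map M.subtype) ≤ Cfsg.pLayer 2 X ⊔ Cfsg.oddCore X ⊔
      coreCentralizer ((T : Subgroup ↥M).map M.subtype) := by
  haveI : Fact (Nat.Prime 2) := ⟨Nat.prime_two⟩
  set T' := (T : Subgroup ↥M).map M.subtype
  set N := Cfsg.pLayer 2 X ⊔ Cfsg.oddCore X with hN
  haveI : N.Normal := sup_normal _ _
  obtain ⟨g, hg⟩ := MulAction.exists_smul_eq ↥M T T₁
  have he : (T₁ : Subgroup ↥M).map M.subtype = T'.map (MulAut.conj (g : X)).toMonoidHom := by
    rw [← hg]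
    change (MulAut.conj g • (T : Subgroup ↥M)).map M.subtype = _
    change ((T : Subgroup ↥M).map (MulAut.conj g).toMonoidHom).map M.subtype =
      ((T : Subgroup ↥M).map M.subtype).map _
    rw [map_map, map_map]
    rfl
  rw [he, ← map_conj_coreCentralizer]
  -- `M = N T'`
  have hNM : N ≤ M := hM ▸ sup_le le_sup_left (pPrimeCore_le_pPrimePCore.trans le_sup_right)
  have hMN : M ≤ N ⊔ T' := by
    haveI : (N.subgroupOf M).Normal := normal_subgroupOf
    have htop : N.subgroupOf M ⊔ (T : Subgroup ↥M) = ⊤ := by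
      apply index_eq_one.mp
      set π := QuotientGroup.mk' (N.subgroupOf M)
      have h1 : IsPGroup 2 (↥M ⧸ N.subgroupOf M) := by
        intro q
        obtain ⟨⟨m, hm⟩, rfl⟩ := QuotientGroup.mk'_surjective _ q
        have hm' : m ∈ ((Cfsg.pLayer 2 X ⊔ Cfsg.pPrimePCore 2 X : Subgroup X) : Set X) := hM ▸ hm
        rw [coe_mul_of_right_le_normalizer_left _ _ le_normalizer_of_normal] at hm'
        obtain ⟨l, hl, o, ho, rfl⟩ := hm'
        have hoM : o ∈ M := hM ▸ mem_sup_right ho
        obtain ⟨k, hk⟩ := (sSup_isPGroup_of_normal (p := 2) (G := X ⧸ Cfsg.pPrimeCore 2 X))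
          ⟨QuotientGroup.mk' _ o, ho⟩
        refine ⟨k, ?_⟩
        have e : π ⟨l * o, hm⟩ = π ⟨o, hoM⟩ := by
          rw [show (⟨l * o, hm⟩ : ↥M) = ⟨l, hM ▸ mem_sup_left hl⟩ * ⟨o, hoM⟩ from rfl, map_mul,
            show π ⟨l, hM ▸ mem_sup_left hl⟩ = 1 from (QuotientGroup.eq_one_iff _).mpr
              (show l ∈ N from mem_sup_left hl), one_mul]
        change (π _) ^ 2 ^ k = 1
        rw [e, ← map_pow]
        refine (QuotientGroup.eq_one_iff _).mpr (show o ^ 2 ^ k ∈ N from ?_)
        exact mem_sup_right ((QuotientGroup.eq_one_iff _).mp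
          (show QuotientGroup.mk' (Cfsg.pPrimeCore 2 X) (o ^ 2 ^ k) = 1 by
            rw [map_pow]; exact congrArg Subtype.val hk))
      obtain ⟨j, hj⟩ := h1.exists_card_eq
      have d1 : (N.subgroupOf M ⊔ (T : Subgroup ↥M)).index ∣ 2 ^ j :=
        hj ▸ index_dvd_of_le le_sup_left
      have d2 : (N.subgroupOf M ⊔ (T : Subgroup ↥M)).index ∣ (T : Subgroup ↥M).index :=
        index_dvd_of_le le_sup_right
      exact Nat.eq_one_of_dvd_coprimes (Nat.Coprime.pow_left j
        ((Nat.prime_two.coprime_iff_not_dvd).mpr T.not_dvd_index)) d1 d2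
    intro m hm
    have : (⟨m, hm⟩ : ↥M) ∈ N.subgroupOf M ⊔ (T : Subgroup ↥M) := htop ▸ mem_top _
    have h2 := mem_map_of_mem M.subtype this
    rw [Subgroup.map_sup, map_subgroupOf_eq_of_le hNM] at h2
    exact h2
  set U := N ⊔ coreCentralizer T'
  have hnorm : M ≤ normalizer (U : Set X) := by
    refine hMN.trans (sup_le (le_sup_left.trans le_normalizer) fun t ht => ?_)
    apply mem_normalizer_of_map_conj_eq
    rw [Subgroup.map_sup, map_conj_eq_of_mem_normalizer (le_normalizer_of_normal (mem_top t)),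
      map_conj_eq_of_mem_normalizer]
    refine centralizer_le_normalizer _ ?_
    rw [mem_centralizer_iff]
    exact fun c hc => (mem_centralizer_iff.mp (coreCentralizer_le T' hc) t ht).symm
  intro x hx
  have hle : (coreCentralizer T').map (MulAut.conj (g : X)).toMonoidHom ≤ U := by
    refine (Subgroup.map_mono (le_sup_right : coreCentralizer T' ≤ U)).trans ?_
    rw [map_conj_eq_of_mem_normalizer (hnorm g.2)]
  exact hle hx

theorem extendedTwoLayer_eq (T : Sylow 2 ↥(Cfsg.pLayer 2 X ⊔ Cfsg.pPrimePCore 2 X)) :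
    Cfsg.extendedTwoLayer X = Cfsg.pLayer 2 X ⊔ Cfsg.oddCore X ⊔
      coreCentralizer ((T : Subgroup ↥(Cfsg.pLayer 2 X ⊔ Cfsg.pPrimePCore 2 X)).map
        (Cfsg.pLayer 2 X ⊔ Cfsg.pPrimePCore 2 X).subtype) :=
  le_antisymm (sup_le le_sup_left (iSup_le fun T₁ => coreCentralizer_sylow_le _ rfl T T₁))
    (sup_le le_sup_left (le_trans (le_iSup (fun T₁ : Sylow 2 ↥(Cfsg.pLayer 2 X ⊔
      Cfsg.pPrimePCore 2 X) => coreCentralizer ((T₁ : Subgroup ↥(Cfsg.pLayer 2 X ⊔
      Cfsg.pPrimePCore 2 X)).map (Cfsg.pLayer 2 X ⊔ Cfsg.pPrimePCore 2 X).subtype)) T)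
      le_sup_right))

theorem exists_extendedTwoLayer_complement :
    ∃ F : Subgroup X, Odd (Nat.card ↥F) ∧ (∃ S : Sylow 2 X, (S : Subgroup X) ≤ normalizer (F : Set X)) ∧
      Cfsg.extendedTwoLayer X = Cfsg.pLayer 2 X ⊔ F := by
  haveI : Fact (Nat.Prime 2) := ⟨Nat.prime_two⟩
  set M := Cfsg.pLayer 2 X ⊔ Cfsg.pPrimePCore 2 X with hM
  obtain ⟨T⟩ : Nonempty (Sylow 2 ↥M) := inferInstance
  set T' := (T : Subgroup ↥M).map M.subtype
  refine ⟨Cfsg.oddCore X ⊔ coreCentralizer T', ?_, ?_, ?_⟩
  · rw [← Nat.coprime_two_right, sup_comm]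
    refine coprime_card_sup ?_ pPrimeCore_coprime
    rw [coreCentralizer, card_map_of_injective Subtype.val_injective]
    exact pPrimeCore_coprime
  · obtain ⟨S, hS⟩ := (T.2.map M.subtype).exists_le_sylow
    refine ⟨S, fun s hs => ?_⟩
    have hT' : (S : Subgroup X).subgroupOf M = T :=
      T.3 (S.2.comap_of_injective M.subtype M.subtype_injective)
        fun t ht => hS (mem_map_of_mem _ ht)
    have hT'eq : T' = (S : Subgroup X) ⊓ M := by
      rw [← subgroupOf_map_subtype, hT']
    apply mem_normalizer_of_map_conj_eq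
    rw [Subgroup.map_sup, map_conj_eq_of_mem_normalizer (le_normalizer_of_normal (mem_top s)),
      map_conj_coreCentralizer, hT'eq, Subgroup.map_inf _ _ _ (MulAut.conj s).injective,
      map_conj_eq_of_mem_normalizer (le_normalizer hs),
      map_conj_eq_of_mem_normalizer (le_normalizer_of_normal (mem_top s))]
  · rw [extendedTwoLayer_eq T, sup_assoc]

end Cfsg.Agent.Components
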