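import Cfsg.Agent.Lib.Components.LBalanceTwo
import Cfsg.Agent.Lib.Components.ExtLayer
import Cfsg.Agent.S1342

/-!
# Core balance for the prime 2

`O(C_X(R)) ≤ L*_{2'}(X)` for every finite group `X` and 2-subgroup `R`, without hypothesis on the
composition factors.
-/

set_option autoImplicit false
set_option linter.unusedSectionVars false
set_option linter.style.haveILetI false

namespace Cfsg.Agent.Components

open scoped commutatorElement
open Subgroup Cfsg ConjFunctor

universe u

variable {G : Type u} [Group G] [Finite G]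

local instance : Fact (Nat.Prime 2) := ⟨Nat.prime_two⟩

theorem coreCentralizer_coprime (T : Subgroup G) : (Nat.card (coreCentralizer T)).Coprime 2 := by
  rw [coreCentralizer, card_map_of_injective (centralizer (T : Set G)).subtype_injective]
  exact pPrimeCore_coprime

/-- An odd subgroup of `C(T)` normalized by `C(T)` lies in `O(C(T))`. -/
theorem le_coreCentralizer {T W : Subgroup G} (hW : W ≤ centralizer (T : Set G))
    (hn : centralizer (T : Set G) ≤ normalizer (W : Set G)) (hc : (Nat.card W).Coprime 2) :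
    W ≤ coreCentralizer T := by
  set C := centralizer (T : Set G)
  have h1 : W.subgroupOf C ≤ Cfsg.pPrimeCore 2 ↥C := by
    refine le_pPrimeCore (normal_subgroupOf_of_le_normalizer hn) ?_
    rw [← card_map_of_injective (K := W.subgroupOf C) C.subtype_injective,
      map_subgroupOf_eq_of_le hW]
    exact hc
  intro w hw
  exact ⟨⟨w, hW hw⟩, h1 hw, rfl⟩

theorem coreCentralizer_step {K T : Subgroup G} [K.Normal] {q : G} (hqK : q ∈ K)
    (hqT : q ∈ normalizer (T : Set G)) {j : ℕ} (hqj : q ^ 2 ^ j = 1) :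
    coreCentralizer T ≤ K ⊔ coreCentralizer (T ⊔ zpowers q) := by
  set C := centralizer (T : Set G) with hC
  set W := coreCentralizer T with hW
  have hqW : q ∈ normalizer (W : Set G) :=
    le_normalizer_coreOf C (normalizer_le_normalizer_centralizer T hqT)
  have hCW : C ≤ normalizer (W : Set G) := le_normalizer.trans (le_normalizer_coreOf C)
  have hWK : q ∈ normalizer ((W ⊓ K : Subgroup G) : Set G) := by
    rw [← cj_eq_iff, cj_inf, cj_eq_iff.mpr hqW,
      cj_eq_iff.mpr (le_normalizer_of_normal (mem_top q))]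
  have hWKc : (Nat.card (W ⊓ K : Subgroup G)).Coprime 2 :=
    (coreCentralizer_coprime T).coprime_dvd_left (card_dvd_of_le inf_le_left)
  set W₁ := W ⊓ centralizer ({q} : Set G) with hW₁
  have hle₁ : W₁ ≤ coreCentralizer (T ⊔ zpowers q) := by
    refine le_coreCentralizer (fun w hw => ?_) (fun g hg => ?_)
      ((coreCentralizer_coprime T).coprime_dvd_left (card_dvd_of_le inf_le_left))
    · refine mem_centralizer_iff.mpr fun t ht => mem_centralizer_singleton_iff.mp
        ((sup_le (fun t ht => ?_) (zpowers_le.mpr ?_) : T ⊔ zpowers q ≤ centralizer ({w} : Set G)) ht)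
      · exact mem_centralizer_singleton_iff.mpr
          (mem_centralizer_iff.mp (coreCentralizer_le T hw.1) t ht)
      · exact mem_centralizer_singleton_iff.mpr (mem_centralizer_singleton_iff.mp hw.2).symm
    · have hgT : g ∈ C := centralizer_le (SetLike.coe_subset_coe.mpr le_sup_left) hg
      have hgq : g ∈ centralizer ({q} : Set G) :=
        mem_centralizer_singleton_iff.mpr
          (mem_centralizer_iff.mp hg q (mem_sup_right (mem_zpowers q))).symm
      rw [← cj_eq_iff, hW₁, cj_inf, cj_eq_iff.mpr (hCW hgT), cj_eq_iff.mpr (le_normalizer hgq)]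
  intro l hl
  have hl1 : l⁻¹ * (q * l * q⁻¹) ∈ W :=
    W.mul_mem (W.inv_mem hl) ((mem_normalizer_iff.mp hqW l).mp hl)
  have hl2 : l⁻¹ * (q * l * q⁻¹) ∈ K := by
    have h1 : l⁻¹ * q * l ∈ K := by
      simpa using (inferInstance : K.Normal).conj_mem q hqK l⁻¹
    have h2 := K.mul_mem h1 (K.inv_mem hqK)
    simpa [mul_assoc] using h2
  obtain ⟨o, ho, hc⟩ := exists_commute_of_mod_odd (W ⊓ K) hWKc j q hqj hWK l ⟨hl1, hl2⟩
  have h1 : l * o ∈ W₁ := ⟨W.mul_mem hl ho.1, mem_centralizer_singleton_iff.mpr hc.eq.symm⟩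
  have h2 := mul_mem (mem_sup_right (S := K) (hle₁ h1)) (mem_sup_left (inv_mem ho.2))
  simpa using h2

/-- `O(C(T)) ≤ K O(C(T'))` for a 2-subgroup `T'` containing a Sylow 2-subgroup of `K`. -/
theorem exists_coreCentralizer_sylow {K : Subgroup G} [K.Normal] :
    ∀ (n : ℕ) (T : Subgroup G), Nat.card G ≤ Nat.card T + n → IsPGroup 2 T →
      ∃ T' : Subgroup G, IsPGroup 2 T' ∧ IsSylIn 2 (T' ⊓ K) K ∧
        coreCentralizer T ≤ K ⊔ coreCentralizer T' := by
  intro n
  induction n using Nat.strong_induction_on with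
  | _ n ih =>
  intro T hn hT
  obtain ⟨R, hR, hTR⟩ := exists_isSylIn_ge (p := 2) (le_sup_right : T ≤ K ⊔ T) hT
  by_cases hTe : T = R
  · refine ⟨R, hR.2.1, ?_, hTe ▸ le_sup_right⟩
    refine isSylIn_inf_of_conj hR.2.1 fun W hW _ hWK => ?_
    obtain ⟨c, -, hc⟩ := exists_conj_le_of_isSylIn hR (hWK.trans le_sup_left) hW
    exact ⟨c, le_normalizer_of_normal (mem_top c), hc⟩
  obtain ⟨q, hq, hqT⟩ := SetLike.exists_of_lt (lt_nS hR.2.1 hTR hTe)
  have hq' : q ∈ ((K ⊔ T : Subgroup G) : Set G) := hR.1 hq.1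
  rw [normal_mul] at hq'
  obtain ⟨k, hk, t, ht, rfl⟩ := hq'
  have hkR : k ∈ R := by simpa using R.mul_mem hq.1 (R.inv_mem (hTR ht))
  have hkN : k ∈ normalizer (T : Set G) := by
    simpa using (normalizer (T : Set G)).mul_mem hq.2
      ((normalizer (T : Set G)).inv_mem (le_normalizer ht))
  have hkT : k ∉ T := fun hkT => hqT (mul_mem hkT ht)
  obtain ⟨j, hj⟩ := hR.2.1 ⟨k, hkR⟩
  have h1 := coreCentralizer_step hk hkN (congrArg Subtype.val hj)
  have hlt : Nat.card T < Nat.card (T ⊔ zpowers k : Subgroup G) :=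
    lt_of_le_of_ne (card_le_of_le le_sup_left) fun e => hkT (by
      rw [eq_of_le_of_card_ge (le_sup_left : T ≤ T ⊔ zpowers k) e.ge]
      exact mem_sup_right (mem_zpowers k))
  have hle : Nat.card (T ⊔ zpowers k : Subgroup G) ≤ Nat.card G :=
    Subgroup.card_le_card_group _
  obtain ⟨T', h2, h3, h4⟩ := ih (Nat.card G - Nat.card (T ⊔ zpowers k : Subgroup G))
    (by omega) (T ⊔ zpowers k) (by omega) (hR.2.1.to_le (sup_le hTR (zpowers_le.mpr hkR)))
  exact ⟨T', h2, h3, h1.trans (sup_le le_sup_left h4)⟩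

/-- In a core-free group, the centralizer of a Sylow 2-subgroup of `F*` has no 2-layer, also after
extension by a 2-group. -/
theorem pLayer_eq_bot_of_centralizes_sylow (hO : Cfsg.pPrimeCore 2 G = ⊥) {S Y : Subgroup G}
    (hS : IsSylIn 2 S (Cfsg.generalizedFittingSubgroup G)) {C : Subgroup G}
    (hC : C = centralizer (S : Set G)) (hYn : Y ≤ normalizer (C : Set G))
    (hY : ∀ y ∈ Y, ∃ k : ℕ, y ^ 2 ^ k ∈ C) : Cfsg.pLayer 2 ↥Y = ⊥ := by
  haveI : (Cfsg.generalizedFittingSubgroup G).Normal := by
    rw [Cfsg.generalizedFittingSubgroup]; exact sup_normal _ _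
  rw [Cfsg.pLayer, sSup_eq_bot]
  intro J hJ
  have hJperf : ⁅J, J⁆ = J := pComponent_commutator_eq_self hJ
  -- `J` lies in `C`
  have hJC : J ≤ C.subgroupOf Y := by
    haveI : (C.subgroupOf Y).Normal := normal_subgroupOf_of_le_normalizer hYn
    set σ := QuotientGroup.mk' (C.subgroupOf Y)
    have hp : IsPGroup 2 (↥Y ⧸ C.subgroupOf Y) := by
      intro q
      obtain ⟨y, rfl⟩ := QuotientGroup.mk'_surjective _ q
      obtain ⟨k, hk⟩ := hY y y.2
      exact ⟨k, by rw [← map_pow]; exact (QuotientGroup.eq_one_iff _).mpr (by simpa [mem_subgroupOf] using hk)⟩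
    haveI := hp.isNilpotent
    by_contra hne
    have hne' : J.map σ ≠ ⊥ := by
      rw [Ne, Subgroup.map_eq_bot_iff, QuotientGroup.ker_mk']
      exact hne
    haveI := (nontrivial_iff_ne_bot _).mpr hne'
    haveI : Group.IsPerfect ↥(J.map σ) :=
      Subgroup.isPerfect_iff.mpr (by rw [← map_commutator, hJperf])
    exact Group.IsPerfect.not_isSolvable ↥(J.map σ) inferInstance
  set L := J.map Y.subtype with hL
  have hLC : L ≤ centralizer (S : Set G) := by
    rw [← hC]; exact map_le_iff_le_comap.mpr hJC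
  have hLperf : ⁅L, L⁆ = L := by rw [hL, ← map_commutator, hJperf]
  have hLF : L ≤ centralizer (Cfsg.generalizedFittingSubgroup G : Set G) := by
    rw [hL, ← pComponent_pGen hJ, map_pGen]
    refine (closure_le _).mpr ?_
    rintro u ⟨hu, j, hj⟩
    refine mem_centralizer_iff.mpr fun k hk => ?_
    have := commutator_mem_core_of_centralizes_sylow hS hLC
      (Subgroup.isPerfect_iff.mpr hLperf).commutator_eq_top hu hj hk
    rw [hO, mem_bot] at this
    exact (commutatorElement_eq_one_iff_mul_comm.mp this).symm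
  have h1 : ⁅L, L⁆ = ⊥ :=
    eq_bot_iff.mpr ((commutator_mono le_rfl (hLF.trans centralizer_fStar_le)).trans
      (commutator_eq_bot_iff_le_centralizer.mpr hLF).le)
  rw [hLperf, hL, Subgroup.map_eq_bot_iff_of_injective _ Y.subtype_injective] at h1
  exact h1

/-- `O(C(T'))` lies in `O(C(S))` for a Sylow 2-subgroup `S` of `F*` inside the 2-group `T'`. -/
theorem coreCentralizer_le_of_sylow (hO : Cfsg.pPrimeCore 2 G = ⊥) {T' : Subgroup G}
    (hT' : IsPGroup 2 T') (hS : IsSylIn 2 (T' ⊓ Cfsg.generalizedFittingSubgroup G)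
      (Cfsg.generalizedFittingSubgroup G)) :
    coreCentralizer T' ≤ coreCentralizer (T' ⊓ Cfsg.generalizedFittingSubgroup G) := by
  haveI : (Cfsg.generalizedFittingSubgroup G).Normal := by
    rw [Cfsg.generalizedFittingSubgroup]; exact sup_normal _ _
  set F := Cfsg.generalizedFittingSubgroup G
  set S := T' ⊓ F with hSdef
  set C := centralizer (S : Set G) with hC
  have hTS : T' ≤ normalizer (S : Set G) := fun t ht => by
    rw [← cj_eq_iff, hSdef, cj_inf, cj_eq_of_mem ht, cj_eq_iff.mpr (le_normalizer_of_normal (mem_top t))]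
  have hTC : T' ≤ normalizer (C : Set G) := hTS.trans (normalizer_le_normalizer_centralizer S)
  set Y := C ⊔ T' with hYdef
  have hYn : Y ≤ normalizer (C : Set G) := sup_le le_normalizer hTC
  have hYdec : ∀ y ∈ Y, ∃ c ∈ C, ∃ t ∈ T', c * t = y := by
    intro y hy
    rw [hYdef, ← SetLike.mem_coe, coe_mul_of_right_le_normalizer_left _ _ hTC] at hy
    exact hy
  have hL : Cfsg.pLayer 2 ↥Y = ⊥ := by
    refine pLayer_eq_bot_of_centralizes_sylow hO hS rfl hYn fun y hy => ?_
    obtain ⟨c, hc, t, ht, rfl⟩ := hYdec y hy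
    obtain ⟨k, hk⟩ := hT' ⟨t, ht⟩
    haveI : (C.subgroupOf Y).Normal := normal_subgroupOf_of_le_normalizer hYn
    refine ⟨k, ?_⟩
    have hcY : c ∈ Y := mem_sup_left hc
    have htY : t ∈ Y := mem_sup_right ht
    have h1 : (QuotientGroup.mk' (C.subgroupOf Y)) ((⟨c, hcY⟩ * ⟨t, htY⟩ : ↥Y) ^ 2 ^ k) = 1 := by
      rw [map_pow, map_mul, show QuotientGroup.mk' (C.subgroupOf Y) ⟨c, hcY⟩ = 1 from
        (QuotientGroup.eq_one_iff _).mpr hc, one_mul, ← map_pow]
      have h0 : (⟨t, htY⟩ : ↥Y) ^ 2 ^ k = 1 := Subtype.ext (by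
        simpa using congrArg Subtype.val hk)
      rw [h0, map_one]
    have h5 := mem_subgroupOf.mp ((QuotientGroup.eq_one_iff (N := C.subgroupOf Y) _).mp h1)
    simpa using h5
  set W := coreCentralizer T' with hW
  have hWC : W ≤ C := (coreCentralizer_le T').trans (centralizer_le (SetLike.coe_subset_coe.mpr inf_le_left))
  have hWY : W ≤ Y := hWC.trans le_sup_left
  set T₀ := T'.subgroupOf Y
  set N := normalizer (T₀ : Set ↥Y) with hN
  have hpl := (pLocal_of_pLayer_eq_bot (p := 2) hL (hT'.comap_subtype (K := Y))).2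
  -- `W` is normal of odd order in `N_Y(T')`
  have hWN : W.subgroupOf Y ≤ N := by
    refine le_trans ?_ (centralizer_le_normalizer _)
    intro w hw
    exact mem_centralizer_iff.mpr fun t ht => Subtype.ext
      (mem_centralizer_iff.mp (coreCentralizer_le T' (mem_subgroupOf.mp hw)) t (mem_subgroupOf.mp ht))
  have hNW : N ≤ normalizer (W.subgroupOf Y : Set ↥Y) := by
    intro g hg
    have hgT : (g : G) ∈ normalizer (T' : Set G) := by
      refine mem_normalizer_of_conj_le ?_
      rintro _ ⟨t, ht, rfl⟩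
      exact mem_subgroupOf.mp ((mem_normalizer_iff.mp hg ⟨t, mem_sup_right ht⟩).mp ht)
    have hgW : (g : G) ∈ normalizer (W : Set G) :=
      le_normalizer_coreOf _ (normalizer_le_normalizer_centralizer T' hgT)
    rw [mem_normalizer_iff]
    intro x
    simp only [mem_subgroupOf]
    exact mem_normalizer_iff.mp hgW x
  have h2 : (W.subgroupOf Y).subgroupOf N ≤ Cfsg.pPrimeCore 2 ↥N := by
    refine le_pPrimeCore (normal_subgroupOf_of_le_normalizer hNW) ?_
    rw [← card_map_of_injective (K := (W.subgroupOf Y).subgroupOf N) N.subtype_injective,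
      map_subgroupOf_eq_of_le hWN, ← card_map_of_injective (K := W.subgroupOf Y) Y.subtype_injective,
      map_subgroupOf_eq_of_le hWY]
    exact coreCentralizer_coprime T'
  have h3 : W.subgroupOf Y ≤ Cfsg.pPrimeCore 2 ↥Y := by
    refine le_trans ?_ hpl
    rw [← map_subgroupOf_eq_of_le hWN]
    exact Subgroup.map_mono h2
  set O' := (Cfsg.pPrimeCore 2 ↥Y).map Y.subtype with hO'
  have hWO : W ≤ O' := fun w hw => ⟨⟨w, hWY hw⟩, h3 hw, rfl⟩
  have hO'c : (Nat.card O').Coprime 2 := by
    rw [hO', card_map_of_injective Y.subtype_injective]; exact pPrimeCore_coprime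
  refine (le_inf hWO hWC).trans (le_coreCentralizer inf_le_right (fun g hg => ?_) ?_)
  · rw [← cj_eq_iff, cj_inf, cj_eq_iff.mpr (le_normalizer hg),
      cj_eq_iff.mpr (le_normalizer_coreOf Y (le_normalizer (show g ∈ Y from mem_sup_left hg)))]
  · exact hO'c.coprime_dvd_left (card_dvd_of_le inf_le_left)

/-- A preimage of the odd core under a surjection with odd kernel is in the odd core. -/
theorem comap_pPrimeCore_le {H H' : Type*} [Group H] [Finite H] [Group H'] [Finite H'] (f : H →* H')
    (hk : (Nat.card f.ker).Coprime 2) :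
    (Cfsg.pPrimeCore 2 H').comap f ≤ Cfsg.pPrimeCore 2 H := by
  refine le_pPrimeCore (Normal.comap inferInstance _) ?_
  rw [Nat.coprime_comm, Nat.prime_two.coprime_iff_not_dvd]
  intro hd
  obtain ⟨x, hx⟩ := exists_prime_orderOf_dvd_card' (G := (Cfsg.pPrimeCore 2 H').comap f) 2 hd
  have hx2 : (x : H) ^ 2 ^ 1 = 1 := orderOf_dvd_iff_pow_eq_one.mp (by rw [Subgroup.orderOf_coe, hx, pow_one])
  have h1 : f (x : H) = 1 := eq_one_of_pow_prime_pow_of_coprime pPrimeCore_coprime (k := 1)
    (by rw [← map_pow, hx2, map_one])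
    (congrArg Subtype.val (pow_card_eq_one' (x := (⟨f x, x.2⟩ : ↥(Cfsg.pPrimeCore 2 H')))))
  have h2 : (x : H) = 1 := eq_one_of_pow_prime_pow_of_coprime hk (k := 1) hx2
    (congrArg Subtype.val (pow_card_eq_one' (x := (⟨_, MonoidHom.mem_ker.mpr h1⟩ : ↥f.ker))))
  rw [show x = 1 from Subtype.ext h2, orderOf_one] at hx
  omega

/-- Core balance in a core-free group. -/
theorem coreCentralizer_le_layer_sup (hO : Cfsg.pPrimeCore 2 G = ⊥) {T : Subgroup G}
    (hT : IsPGroup 2 T) :
    ∃ S : Subgroup G, IsSylIn 2 S (Cfsg.generalizedFittingSubgroup G) ∧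
      coreCentralizer T ≤ Cfsg.layer G ⊔ coreCentralizer S := by
  haveI : (Cfsg.generalizedFittingSubgroup G).Normal := by
    rw [Cfsg.generalizedFittingSubgroup]; exact sup_normal _ _
  obtain ⟨T', h1, h2, h3⟩ := exists_coreCentralizer_sylow (K := Cfsg.generalizedFittingSubgroup G)
    (Nat.card G) T (Nat.le_add_left _ _) hT
  refine ⟨_, h2, ?_⟩
  set S := T' ⊓ Cfsg.generalizedFittingSubgroup G
  set E := Cfsg.layer G
  set V := coreCentralizer S
  set P := Cfsg.fittingSubgroup G with hP
  have hFP : P = Cfsg.pCore 2 G := fitting_eq_pCore_of_core_eq_bot hO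
  have hP2 : IsPGroup 2 P := hFP ▸ isPGroup_pCore
  have h4 : coreCentralizer T ≤ (E ⊔ V) ⊔ P := by
    refine h3.trans (sup_le ?_ ((coreCentralizer_le_of_sylow hO h1 h2).trans
      (le_sup_of_le_left le_sup_right)))
    rw [Cfsg.generalizedFittingSubgroup]
    exact sup_le (le_sup_of_le_left le_sup_left) le_sup_right
  -- `P` centralizes `E V`
  have hPS : P ≤ S := by
    have hPF : P ≤ Cfsg.generalizedFittingSubgroup G := by
      rw [Cfsg.generalizedFittingSubgroup]; exact le_sup_right
    obtain ⟨c, -, hc⟩ := exists_conj_le_of_isSylIn h2 hPF hP2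
    rwa [cj_eq_iff.mpr (le_normalizer_of_normal (mem_top c))] at hc
  have hPc : E ⊔ V ≤ centralizer (P : Set G) := by
    refine sup_le layer_le_centralizer_fitting ((coreCentralizer_le S).trans (centralizer_le ?_))
    exact SetLike.coe_subset_coe.mpr hPS
  intro w hw
  have hw' : w ∈ (((E ⊔ V) ⊔ P : Subgroup G) : Set G) := h4 hw
  rw [coe_mul_of_right_le_normalizer_left _ _
    ((le_centralizer_iff.mp hPc).trans (centralizer_le_normalizer _))] at hw'
  obtain ⟨a, ha, b, hb, rfl⟩ := hw'
  -- the odd part of `a b` avoids `b`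
  set n := Nat.card (coreCentralizer T) with hn
  have hab : Commute a b := (mem_centralizer_iff.mp (hPc ha) b hb).symm
  have hwn : (a * b) ^ n = 1 :=
    congrArg Subtype.val (pow_card_eq_one' (x := (⟨a * b, hw⟩ : ↥(coreCentralizer T))))
  rw [hab.mul_pow] at hwn
  have hbn : b ^ n ∈ E ⊔ V := by
    rw [mul_eq_one_iff_inv_eq] at hwn
    rw [← hwn]; exact inv_mem (pow_mem ha n)
  obtain ⟨j, hj⟩ := hP2 ⟨b, hb⟩
  have hbj : b ^ 2 ^ j = 1 := congrArg Subtype.val hj
  have hbEV : b ∈ E ⊔ V := by
    have hgcd : Nat.gcd n (2 ^ j) = 1 := Nat.Coprime.pow_right j (coreCentralizer_coprime T)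
    have h5 : b ^ (n : ℤ) ^ 1 ∈ E ⊔ V := by simpa using hbn
    have e : b = (b ^ n) ^ (Nat.gcdA n (2 ^ j)) * (b ^ (2 ^ j : ℕ)) ^ (Nat.gcdB n (2 ^ j)) := by
      rw [← zpow_natCast b n, ← zpow_natCast b (2 ^ j), ← zpow_mul, ← zpow_mul, ← zpow_add,
        ← Nat.gcd_eq_gcd_ab, hgcd]
      simp
    rw [e, hbj, one_zpow, mul_one]
    exact zpow_mem hbn _
  exact mul_mem ha hbEV

theorem coreCentralizer_map_quotient_le {O : Subgroup G} [O.Normal]
    (hO : (Nat.card O).Coprime 2) {P : Subgroup G} (hP : IsPGroup 2 P) :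
    coreCentralizer (P.map (QuotientGroup.mk' O)) ≤ (coreCentralizer P).map (QuotientGroup.mk' O) := by
  set π := QuotientGroup.mk' O
  set N := centralizer (P : Set G)
  set N' := centralizer ((P.map π : Subgroup (G ⧸ O)) : Set (G ⧸ O))
  have hNN : N.map π = N' := map_centralizer_of_coprime hO hP
  let f : ↥N →* ↥N' := (MulEquiv.subgroupCongr hNN).toMonoidHom.comp (π.subgroupMap N)
  have hf : Function.Surjective f :=
    (MulEquiv.subgroupCongr hNN).surjective.comp (π.subgroupMap_surjective N)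
  have hk : (Nat.card f.ker).Coprime 2 := by
    have h1 : f.ker.map N.subtype ≤ O := by
      rintro _ ⟨a, ha, rfl⟩
      exact (QuotientGroup.eq_one_iff _).mp (congrArg Subtype.val (MonoidHom.mem_ker.mp ha))
    rw [← card_map_of_injective (K := f.ker) N.subtype_injective]
    exact hO.coprime_dvd_left (card_dvd_of_le h1)
  rintro _ ⟨y, hy, rfl⟩
  obtain ⟨a, rfl⟩ := hf y
  exact ⟨(a : G), ⟨a, comap_pPrimeCore_le f hk hy, rfl⟩, rfl⟩

/-- Core balance for the prime 2. -/
theorem coreBalanceTwo {R : Subgroup G} (hR : IsPGroup 2 R) :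
    coreCentralizer R ≤ Cfsg.extendedTwoLayer G := by
  haveI hLn : (Cfsg.extendedTwoLayer G).Normal := Cfsg.Agent.S1342.result
  set O := Cfsg.pPrimeCore 2 G with hO
  set π := QuotientGroup.mk' O with hπ
  set M := Cfsg.pLayer 2 G ⊔ Cfsg.pPrimePCore 2 G with hM
  obtain ⟨T⟩ : Nonempty (Sylow 2 ↥M) := inferInstance
  set P := (T : Subgroup ↥M).map M.subtype with hP
  have hPp : IsPGroup 2 P := T.isPGroup'.map _
  have hext := extendedTwoLayer_eq T
  set Ls := Cfsg.extendedTwoLayer G with hLs
  haveI : (Ls.map π).Normal := Normal.map inferInstance _ (QuotientGroup.mk'_surjective _)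
  have hOL : O ≤ Ls := by rw [hext]; exact le_sup_of_le_left le_sup_right
  have hOM : O ≤ M := le_sup_of_le_right pPrimeCore_le_pPrimePCore
  have hO' : Cfsg.pPrimeCore 2 (G ⧸ O) = ⊥ := pPrimeCore_quotient_eq_bot
  have hMπ : M.map π = Cfsg.generalizedFittingSubgroup (G ⧸ O) := by
    rw [Cfsg.generalizedFittingSubgroup, fitting_eq_pCore_of_core_eq_bot hO', hM, Subgroup.map_sup,
      map_pLayer, Cfsg.pPrimePCore,
      map_comap_eq_self_of_surjective (QuotientGroup.mk'_surjective _)]
  have hPs : IsSylIn 2 (P.map π) (Cfsg.generalizedFittingSubgroup (G ⧸ O)) := by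
    refine ⟨hMπ ▸ Subgroup.map_mono (map_subtype_le _), hPp.map π, fun hd => ?_⟩
    rw [← hMπ, relIndex_map_map, hπ, QuotientGroup.ker_mk', sup_eq_left.mpr hOM] at hd
    refine T.not_dvd_index (hd.trans ((relIndex_dvd_of_le_left M (le_sup_left : P ≤ P ⊔ O)).trans ?_))
    rw [hP, relIndex, subgroupOf, comap_map_eq_self_of_injective M.subtype_injective]
  have hW : (coreCentralizer R).map π ≤ coreCentralizer (R.map π) := by
    refine le_coreCentralizer ?_ ?_ ((coreCentralizer_coprime R).coprime_dvd_left (card_map_dvd _ _))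
    · rw [← map_centralizer_of_coprime pPrimeCore_coprime hR]
      exact Subgroup.map_mono (coreCentralizer_le R)
    · rw [← map_centralizer_of_coprime pPrimeCore_coprime hR]
      exact (Subgroup.map_mono (le_normalizer.trans (le_normalizer_coreOf _))).trans
        (le_normalizer_map π)
  obtain ⟨S, hS, hle⟩ := coreCentralizer_le_layer_sup hO' (hR.map π)
  have hS' : coreCentralizer S ≤ Ls.map π := by
    obtain ⟨c, -, hc⟩ := isSylIn_conj hS hPs
    rw [← hc, ← map_conj_coreCentralizer, map_le_iff_le_comap]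
    have h1 : coreCentralizer (P.map π) ≤ Ls.map π :=
      (coreCentralizer_map_quotient_le pPrimeCore_coprime hPp).trans
        (Subgroup.map_mono (hext ▸ le_sup_right))
    exact fun x hx => (inferInstance : (Ls.map π).Normal).conj_mem x (h1 hx) c
  have hE : Cfsg.layer (G ⧸ O) ≤ Ls.map π := by
    rw [← map_pLayer]
    exact Subgroup.map_mono (hext ▸ le_sup_of_le_left le_sup_left)
  have h2 := (hW.trans hle).trans (sup_le hE hS')
  rw [map_le_iff_le_comap, comap_map_eq, hπ, QuotientGroup.ker_mk', sup_eq_left.mpr hOL] at h2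
  exact h2

/-- The 2-layer of a subgroup with normal range maps into the 2-layer. -/
theorem map_pLayer_le_of_normal_range {H : Type*} [Group H] [Finite H] (f : H →* G)
    (hf : Function.Injective f) (hn : f.range.Normal) :
    (Cfsg.pLayer 2 H).map f ≤ Cfsg.pLayer 2 G := by
  have h1 : Cfsg.pLayer 2 H ≤ layerPre 2 H := by
    rw [layerPre, ← map_pLayer]
    exact le_comap_map _ _
  have h2 : layerPre 2 G ≤ Cfsg.pLayer 2 G ⊔ Cfsg.pPrimeCore 2 G := by
    rw [layerPre, ← map_pLayer, comap_map_eq, QuotientGroup.ker_mk']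
  rw [← ClassK.pGen_pLayer, map_pGen]
  refine (pGen_mono ((Subgroup.map_mono h1).trans ((layerPre_of_normal_range f hf hn).1.trans h2))).trans
    (pGen_le_of_coprime_relIndex (isSubnormal_of_normal _).subgroupOf ?_)
  exact pPrimeCore_coprime.coprime_dvd_left (relIndex_self_sup_dvd _ _)

theorem map_extendedTwoLayer_le {H : Type*} [Group H] [Finite H] (f : H →* G) (W : Subgroup G)
    (h1 : (Cfsg.pLayer 2 H).map f ≤ W)
    (h2 : ∀ T : Subgroup H, IsPGroup 2 T → (coreCentralizer T).map f ≤ W) :
    (Cfsg.extendedTwoLayer H).map f ≤ W := by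
  have h3 : Cfsg.oddCore H ≤ coreCentralizer (⊥ : Subgroup H) :=
    le_coreCentralizer (fun x _ => mem_centralizer_iff.mpr fun y hy => by
      rw [show y = 1 from hy, one_mul, mul_one]) le_normalizer_of_normal pPrimeCore_coprime
  rw [Cfsg.extendedTwoLayer, Subgroup.map_sup, Subgroup.map_sup, Subgroup.map_iSup]
  refine sup_le (sup_le h1 ((Subgroup.map_mono h3).trans (h2 ⊥ IsPGroup.of_bot)))
    (iSup_le fun T => h2 _ (T.isPGroup'.map _))

/-- `L*` of a normal subgroup lies in `L*`. -/
theorem map_extendedTwoLayer_le_of_normal_range {H : Type*} [Group H] [Finite H] (f : H →* G)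
    (hf : Function.Injective f) (hn : f.range.Normal) :
    (Cfsg.extendedTwoLayer H).map f ≤ Cfsg.extendedTwoLayer G := by
  refine map_extendedTwoLayer_le f _ ((map_pLayer_le_of_normal_range f hf hn).trans
    (le_sup_of_le_left le_sup_left)) fun T hT => ?_
  refine le_trans ?_ (coreBalanceTwo (hT.map f))
  refine le_coreCentralizer ?_ (fun g hg => ?_)
    ((coreCentralizer_coprime T).coprime_dvd_left (card_map_dvd _ _))
  · rintro _ ⟨x, hx, rfl⟩
    refine mem_centralizer_iff.mpr ?_
    rintro _ ⟨t, ht, rfl⟩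
    rw [← map_mul, ← map_mul, mem_centralizer_iff.mp (coreCentralizer_le T hx) t ht]
  · -- conjugation by `g` restricts to an automorphism of `H` fixing `T`
    let a : ↥f.range ≃* ↥f.range :=
      MulAut.conjNormal (H := f.range) g
    let e : H ≃* H :=
      ((MonoidHom.ofInjective hf).trans a).trans (MonoidHom.ofInjective hf).symm
    have he : ∀ x : H, f (e x) = g * f x * g⁻¹ := by
      intro x
      have h4 := congrArg Subtype.val
        ((MonoidHom.ofInjective hf).apply_symm_apply (a (MonoidHom.ofInjective hf x)))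
      exact h4.trans (MulAut.conjNormal_apply g _)
    have heT : (centralizer (T : Set H)).map e.toMonoidHom ≤ centralizer (T : Set H) := by
      rintro _ ⟨x, hx, rfl⟩
      refine mem_centralizer_iff.mpr fun t ht => hf ?_
      have hgt : f t * g = g * f t := mem_centralizer_iff.mp hg _ (mem_map_of_mem f ht)
      have hxt : f t * f x = f x * f t := by rw [← map_mul, ← map_mul, mem_centralizer_iff.mp hx t ht]
      rw [map_mul, map_mul, MulEquiv.coe_toMonoidHom, he]
      calc f t * (g * f x * g⁻¹) = g * (f t * f x) * g⁻¹ := by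
            rw [← mul_assoc, ← mul_assoc, hgt]; group
        _ = g * f x * (g⁻¹ * (g * f t) * g⁻¹) := by rw [hxt]; group
        _ = g * f x * g⁻¹ * f t := by rw [← hgt]; group
    have heT' : (centralizer (T : Set H)).map e.toMonoidHom = centralizer (T : Set H) :=
      eq_of_le_of_card_ge heT (card_map_of_injective e.injective).ge
    have heW : (coreCentralizer T).map e.toMonoidHom = coreCentralizer T := by
      let e' : ↥(centralizer (T : Set H)) ≃* ↥(centralizer (T : Set H)) :=
        (e.subgroupMap _).trans (MulEquiv.subgroupCongr heT')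
      conv_rhs => rw [coreCentralizer, Cfsg.oddCore, ← map_pPrimeCore_equiv e', map_map]
      rw [coreCentralizer, map_map]
      rfl
    refine mem_normalizer_of_conj_le ?_
    rintro _ ⟨_, ⟨x, hx, rfl⟩, rfl⟩
    exact ⟨e x, heW.le (mem_map_of_mem _ hx), he x⟩

/-- `L*`-balance: `L*` of the centralizer of a 2-subgroup lies in `L*`. -/
theorem map_extendedTwoLayer_centralizer_le {H : Type*} [Group H] [Finite H] (f : H →* G)
    (hf : Function.Injective f) {R : Subgroup G} (hR : IsPGroup 2 R)
    (hr : f.range = centralizer (R : Set G)) :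
    (Cfsg.extendedTwoLayer H).map f ≤ Cfsg.extendedTwoLayer G := by
  have hfR : ∀ x : H, f x ∈ centralizer (R : Set G) := fun x => hr ▸ ⟨x, rfl⟩
  refine map_extendedTwoLayer_le f _ ?_ fun T hT => ?_
  · set f' : H →* ↥(centralizer (R : Set G)) := f.codRestrict _ hfR
    have hf' : Function.Injective f' := fun x y h => hf (congrArg Subtype.val h)
    have hn : f'.range.Normal := by
      have : f'.range = ⊤ := by
        refine eq_top_iff.mpr fun y _ => ?_
        obtain ⟨x, hx⟩ := (hr.ge y.2 : (y : G) ∈ f.range)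
        exact ⟨x, Subtype.ext hx⟩
      rw [this]; infer_instance
    have h5 : (Cfsg.pLayer 2 H).map f =
        ((Cfsg.pLayer 2 H).map f').map (centralizer (R : Set G)).subtype := by
      rw [map_map]; rfl
    rw [h5]
    exact ((Subgroup.map_mono (map_pLayer_le_of_normal_range f' hf' hn)).trans (lBalanceTwo hR)).trans
      (le_sup_of_le_left le_sup_left)
  have hTR : T.map f ≤ centralizer (R : Set G) := hr ▸ (map_mono le_top).trans (le_of_eq f.range_eq_map.symm)
  have hp : IsPGroup 2 (R ⊔ T.map f : Subgroup G) :=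
    IsPGroup.to_sup_of_normal_left' hR (hT.map f) (hTR.trans (centralizer_le_normalizer _))
  refine le_trans ?_ (coreBalanceTwo hp)
  refine le_coreCentralizer ?_ ?_ ((coreCentralizer_coprime T).coprime_dvd_left (card_map_dvd _ _))
  · rintro _ ⟨x, hx, rfl⟩
    refine mem_centralizer_iff.mpr fun y hy => mem_centralizer_singleton_iff.mp
      ((sup_le (fun r hr' => ?_) ?_ : R ⊔ T.map f ≤ centralizer ({f x} : Set G)) hy)
    · exact mem_centralizer_singleton_iff.mpr (mem_centralizer_iff.mp (hfR x) r hr')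
    · rintro _ ⟨t, ht, rfl⟩
      refine mem_centralizer_singleton_iff.mpr ?_
      rw [← map_mul, ← map_mul, mem_centralizer_iff.mp (coreCentralizer_le T hx) t ht]
  · intro g hg
    have hgR : g ∈ centralizer (R : Set G) := centralizer_le (SetLike.coe_subset_coe.mpr le_sup_left) hg
    obtain ⟨h, rfl⟩ := (hr.ge hgR : g ∈ f.range)
    have hh : h ∈ centralizer (T : Set H) := mem_centralizer_iff.mpr fun t ht => hf (by
      rw [map_mul, map_mul]
      exact mem_centralizer_iff.mp hg _ (mem_sup_right (mem_map_of_mem f ht)))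
    exact le_normalizer_map f ⟨h, le_normalizer_coreOf _ (le_normalizer hh), rfl⟩

end Cfsg.Agent.Components
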