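import Cfsg.Agent.Lib.Fusion.PPowerIndex
import Cfsg.Agent.Lib.Fusion.Invariant
import Cfsg.Agent.Lib.Fusion.PrimeIndex
import Cfsg.Agent.Lib.Fusion.DirectFactor

/-!
Invariance passes to intermediate systems and to subsystems of `p`-power index.
-/

set_option autoImplicit false
set_option linter.style.haveILetI false
set_option linter.unusedSectionVars false

namespace Cfsg.Agent.Components.Intermediate

open Cfsg.FusionSystem (centralizerIn normalizerIn)
open Cfsg.Agent.Fusion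

universe u

variable {Ω : Type u} [Group Ω] {S R R' T P Q : Subgroup Ω} {F : FusionSystem S}
variable {G : FusionSystem R} {E : FusionSystem T} {f : Ω → Ω} {p : ℕ}
variable [Finite S] [Fact p.Prime]

theorem stronglyClosed_sub (hsc : F.StronglyClosed T) (hTR : T ≤ R) (hGF : G.IsSubsystemOf F) :
    G.StronglyClosed T :=
  stronglyClosed_iff.mpr ⟨hTR, fun _ _ hR hf x hx =>
    StronglyClosed.map_mem hsc (IsSubsystemOf.mapTo hGF hf) hx (hR hx)⟩

/-- An invariant subsystem is invariant in each intermediate saturated system. -/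
theorem invariant_intermediate (hS : IsPGroup p S) (hRS : R ≤ S) (hG : G.IsSaturated p)
    (hGF : G.IsSubsystemOf F) (hi : E.IsInvariantIn F) (hTR : T ≤ R) (hEG : E.IsSubsystemOf G) :
    E.IsInvariantIn G := by
  haveI := finite_of_le hRS
  have hsc := stronglyClosed_sub hi.2.1 hTR hGF
  have hconj : ∀ {P Q : Subgroup Ω} {f ψ : Ω → Ω}, P ≤ Q → Q ≤ T → MapTo E P f →
      (∀ x ∈ P, f x ∈ Q) → MapTo G Q ψ →
      ∃ g, MapTo E (img ψ P) g ∧ ∀ x ∈ P, g (ψ x) = ψ (f x) :=
    fun hPQ hQT hf hfQ hψ => IsInvariantIn.conj hi hPQ hQT hf hfQ (IsSubsystemOf.mapTo hGF hψ)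
  refine ⟨hEG, hsc, fun P hPT φ hφ α hα => ?_, fun P hPT φ hφ => ?_⟩
  · obtain ⟨g, hg, hgx⟩ := hconj hPT le_rfl (mapTo_ev hφ) (fun x hx => (mapTo_ev hφ).mem hx)
      (mapTo_of_mem_autGroup hTR hα)
    have he : (P.subgroupOf T).map (T.subtype.comp α.toMonoidHom) = img (autFun α) P :=
      map_subgroupOf_eq_img (fun x => (autFun_coe α x).symm) hPT
    rw [← he] at hg
    obtain ⟨χ, hχ, hχg⟩ := hg
    refine ⟨χ, hχ, fun x hφx hαx => ?_⟩
    rw [hχg, ← autFun_apply α (hPT x.2), ← autFun_apply α hφx, hgx x x.2, ev_coe]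
  · obtain ⟨α, hα, f₀, ⟨φ₀, hφ₀, hφ₀x⟩, hx⟩ :=
      frattini_of_conj (hS.to_le hRS) hG hEG hsc hconj hPT (mapTo_ev hφ)
    exact ⟨α, hα, φ₀, hφ₀, fun x hxT => by
      rw [← autFun_apply α hxT, hφ₀x, ← hx x x.2, ev_coe]⟩

variable {D : FusionSystem R'}

/-- Transport of a subsystem of `p`-power index of an invariant subsystem. -/
theorem pPower_transport (hS : IsPGroup p S) (hi : G.IsInvariantIn F) (hR'R : R' ≤ R)
    (hsc : F.StronglyClosed R') (hD : D.IsSaturated p) (hDi : D.HasPPowerIndexIn G p)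
    {a : Ω → Ω} (ha : MapTo F R' a) (hf : MapTo D P f) :
    ∃ g, MapTo D (img a P) g ∧ ∀ x ∈ P, g (a x) = a (f x) := by
  have hR'S : R' ≤ S := hsc.1
  have := finite_of_le hR'S
  have haY : img a R' = R' := StronglyClosed.img_eq hsc ha le_rfl
  refine alperin_prop (hS.to_le hR'S) hD
    (fun P f => ∃ g, MapTo D (img a P) g ∧ ∀ x ∈ P, g (a x) = a (f x)) ?_ ?_ ?_ ?_ ?_ hf
  · rintro P f g _ ⟨k, hk, hkx⟩ hfg
    exact ⟨k, hk, fun x hx => by rw [hfg x hx]; exact hkx x hx⟩
  · intro P t hP ht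
    refine ⟨cj (a t), mapTo_cj ((img_mono hP).trans haY.le) (haY.le (mem_img_of_mem ht)),
      fun x hx => ?_⟩
    simp only [cj_apply]
    rw [ha.map_conj ht (hP hx)]
  · rintro P Q f g hf hg hfQ ⟨k, hk, hkx⟩ ⟨l, hl, hlx⟩
    refine ⟨fun y => l (k y), hk.comp hl ?_, fun x hx => ?_⟩
    · intro y hy
      obtain ⟨x, hx, rfl⟩ := ((ha.restrict hf.le).mem_img_iff le_rfl).mp hy
      rw [hkx x hx]; exact mem_img_of_mem (hfQ x hx)
    · show l (k (a x)) = a (g (f x))
      rw [hkx x hx, hlx _ (hfQ x hx)]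
  · rintro P f g hf hg hgf ⟨k, hk, hkx⟩
    obtain ⟨l, hl, hlk, -, -⟩ := hk.exists_iso_inverse
    have he : img a (img f P) = img k (img a P) := by
      rw [hf.img_img le_rfl a, (ha.restrict hf.le).img_img le_rfl k]
      exact img_congr fun x hx => (hkx x hx).symm
    refine ⟨l, he ▸ hl, fun y hy => ?_⟩
    obtain ⟨x, hx, rfl⟩ := (hf.mem_img_iff le_rfl).mp hy
    rw [← hkx x hx, hlk _ (mem_img_of_mem hx), hgf x hx]
  · intro Q hQ α hα
    have hQn := isFullyNormalized_of_eq_top_or_essential hQ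
    have hQY : Q ≤ R' := hQn.1
    obtain ⟨β, hβ, c, hc, rfl⟩ := exists_eq_mul_of_isFullyNormalized (hS.to_le hR'S) hD hQn hα
    obtain ⟨t, ht, htc⟩ := mem_autInducedBy_iff_cj.mp hc
    have haQ := ha.restrict hQY
    have hQ' : img a Q ≤ R' := (img_mono hQY).trans haY.le
    haveI := finite_of_le (hQY.trans hR'S)
    haveI := finite_of_le (hQ'.trans hR'S)
    -- the transports of the elements of order prime to `p`
    have hcase : ∀ b ∈ oP G p Q, ∃ γ ∈ D.autGroup (img a Q),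
        ∀ x ∈ Q, autFun γ (a x) = a (autFun b x) := by
      refine oP_induction ⟨1, Subgroup.one_mem _, fun x hx => by
        rw [autFun_one (mem_img_of_mem hx), autFun_one hx]⟩ ?_ ?_ ?_
      · rintro b₁ b₂ - - ⟨γ₁, hγ₁, h₁⟩ ⟨γ₂, hγ₂, h₂⟩
        refine ⟨γ₁ * γ₂, Subgroup.mul_mem _ hγ₁ hγ₂, fun x hx => ?_⟩
        rw [autFun_mul _ _ (mem_img_of_mem hx), h₂ x hx, h₁ _ (autFun_mem b₂ hx),
          autFun_mul _ _ hx]
      · rintro b - ⟨γ, hγ, h⟩
        refine ⟨γ⁻¹, Subgroup.inv_mem _ hγ, fun x hx => ?_⟩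
        conv_lhs => rw [← autFun_autFun_inv b hx, ← h _ (autFun_mem _ hx)]
        exact autFun_inv_autFun γ (mem_img_of_mem (autFun_mem _ hx))
      · intro b hb hbc
        obtain ⟨g, hg, hga⟩ := IsInvariantIn.conj hi le_rfl (hQY.trans hR'R)
          (mapTo_of_mem_autGroup (hQY.trans hR'R) hb) (fun x hx => autFun_mem b hx) haQ
        have himg : img g (img a Q) = img a Q := img_eq_self_of_forall hg fun y hy => by
          obtain ⟨x, hx, rfl⟩ := (haQ.mem_img_iff le_rfl).mp hy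
          rw [hga x hx]; exact mem_img_of_mem (autFun_mem b hx)
        have hpow : ∀ n : ℕ, ∀ x ∈ Q,
            autFun ((autOf hg himg) ^ n) (a x) = a (autFun (b ^ n) x) := by
          intro n
          induction n with
          | zero => intro x hx; rw [pow_zero, pow_zero, autFun_one (mem_img_of_mem hx), autFun_one hx]
          | succ n ih =>
            intro x hx
            rw [pow_succ, pow_succ, autFun_mul _ _ (mem_img_of_mem hx), autFun_mul _ _ hx,
              autFun_autOf hg himg (mem_img_of_mem hx), hga x hx, ih _ (autFun_mem b hx)]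
        have hcop : (orderOf (autOf hg himg)).Coprime p := by
          refine hbc.coprime_dvd_left (orderOf_dvd_of_pow_eq_one (autFun_ext fun y hy => ?_))
          obtain ⟨x, hx, rfl⟩ := (haQ.mem_img_iff le_rfl).mp hy
          rw [hpow _ x hx, pow_orderOf_eq_one, autFun_one hx, autFun_one (mem_img_of_mem hx)]
        exact ⟨_, hDi.2.2 (img a Q) hQ' (mem_oP_of_coprime (autOf_mem hg himg) hcop),
          fun x hx => by rw [autFun_autOf hg himg (mem_img_of_mem hx), hga x hx]⟩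
    obtain ⟨γ, hγ, hγx⟩ := hcase β (oP_mono hDi.1 Q hβ)
    have hat : a t ∈ R' := haY.le (mem_img_of_mem ht)
    have hcm : ∀ y ∈ img a Q, cj (a t) y ∈ img a Q := fun y hy => by
      obtain ⟨x, hx, rfl⟩ := (haQ.mem_img_iff le_rfl).mp hy
      have h1 : t * x * t⁻¹ ∈ Q := by
        rw [← cj_apply, ← htc x hx]; exact autFun_mem c hx
      rw [cj_apply, ← ha.map_conj ht (hQY hx)]
      exact mem_img_of_mem h1
    refine ⟨_, (mapTo_cj hQ' hat).comp (mapTo_of_mem_autGroup hQ' hγ) hcm, fun x hx => ?_⟩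
    show autFun γ (cj (a t) (a x)) = a (autFun (β * c) x)
    rw [autFun_mul _ _ hx, cj_apply, ← ha.map_conj ht (hQY hx), ← cj_apply,
      ← htc x hx, hγx _ (autFun_mem c hx)]

/-- A subsystem of `p`-power index of an invariant subsystem, over a strongly closed subgroup, is
invariant. -/
theorem pPower_invariant (hS : IsPGroup p S) (hi : G.IsInvariantIn F) (hG : G.IsSaturated p)
    (hR'R : R' ≤ R) (hsc : F.StronglyClosed R') (hD : D.IsSaturated p)
    (hDi : D.HasPPowerIndexIn G p) : D.IsInvariantIn F := by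
  have hRS : R ≤ S := hi.2.1.1
  have hR'S : R' ≤ S := hsc.1
  haveI := finite_of_le hRS
  refine ⟨fun P φ hφ => hi.1 P (hDi.1 P hφ), hsc, fun P hP φ hφ α hα => ?_, fun P hP φ hφ => ?_⟩
  · obtain ⟨g, hg, hgx⟩ := pPower_transport hS hi hR'R hsc hD hDi
      (mapTo_of_mem_autGroup hR'S hα) (mapTo_ev hφ)
    have he : (P.subgroupOf R').map (R'.subtype.comp α.toMonoidHom) = img (autFun α) P :=
      map_subgroupOf_eq_img (fun x => (autFun_coe α x).symm) hP
    rw [← he] at hg
    obtain ⟨χ, hχ, hχg⟩ := hg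
    refine ⟨χ, hχ, fun x hφx hαx => ?_⟩
    rw [hχg, ← autFun_apply α (hP x.2), ← autFun_apply α hφx, hgx x x.2, ev_coe]
  · obtain ⟨a, ha, m, hm, hfm⟩ := IsInvariantIn.frattini hi (hP.trans hR'R) (mapTo_ev hφ)
    obtain ⟨s, hs, m₀, ⟨φ₀, hφ₀, hφ₀x⟩, hmx⟩ := pPowerIndex_frattini (hS.to_le hRS) hG hR'R
      (fun z hz x hx => StronglyClosed.conj_mem hsc (hRS hz) hx) hD hDi hm hP
    have hcs : MapTo F R' (cj s) := mapTo_cj hR'S (hRS hs)
    have himgs : img (cj s) R' = R' := StronglyClosed.img_eq hsc hcs le_rfl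
    have ham : MapTo F R' (autFun a) := (mapTo_of_mem_autGroup hRS ha).restrict hR'R
    have himga : img (autFun a) R' = R' := StronglyClosed.img_eq hsc ham le_rfl
    refine ⟨autOf ham himga * autOf hcs himgs,
      Subgroup.mul_mem _ (autOf_mem _ _) (autOf_mem _ _), φ₀, hφ₀, fun x hxT => ?_⟩
    have hcm : cj s (φ₀ x) ∈ R' := StronglyClosed.conj_mem hsc (hRS hs) hxT
    rw [← autFun_apply _ hxT, autFun_mul _ _ hxT, autFun_autOf hcs himgs hxT,
      autFun_autOf ham himga hcm, hφ₀x, ← hmx x x.2, ← hfm x x.2, ev_coe]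

/-- An invariant saturated subsystem over the same subgroup has index prime to `p`. -/
theorem primeToP_of_invariant {D : FusionSystem S} (hS : IsPGroup p S) (hF : F.IsSaturated p)
    (hi : D.IsInvariantIn F) : D.HasPrimeToPIndexIn F p := by
  refine ⟨hi.1, fun P hP => (Subgroup.map_le_iff_le_comap).mpr ((Subgroup.closure_le _).mpr ?_)⟩
  rintro γ ⟨k, hk⟩
  show (γ : MulAut P) ∈ D.autGroup P
  obtain ⟨Q, hPQ, hQ⟩ := exists_isFullyNormalized (F := F) hP
  obtain ⟨ρ, hρ, rfl⟩ := isConj_iff.mp hPQ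
  have hQS := hQ.1
  haveI := finite_of_le hP
  haveI := finite_of_le hQS
  set γ' := MulAut.congr (isoEquiv hρ rfl) (γ : MulAut P) with hγ'
  have hγ'm : γ' ∈ F.autGroup (img ρ P) := (map_congr_autGroup hρ rfl).le ⟨γ, γ.2, rfl⟩
  have hAK : autInducedBy S (img ρ P) ≤ D.autGroup (img ρ P) := autInducedBy_le_autGroup hQS
  have h1 : γ' ∈ D.autGroup (img ρ P) := by
    refine mem_of_pow_eq_one_of_normal hS (isFullyAutomized_of_isFullyNormalized hS hF hQ)
      (IsInvariantIn.normal_autGroup hi hQS) hAK hγ'm (k := k) ?_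
    rw [hγ', ← map_pow, show (γ : MulAut P) ^ p ^ k = 1 by
      rw [← SubmonoidClass.coe_pow, ← hk, pow_orderOf_eq_one]; rfl, map_one]
  obtain ⟨σ, hσ, hσρ, -, -⟩ := hρ.exists_iso_inverse
  obtain ⟨g, hg, hgx⟩ := IsInvariantIn.conj hi le_rfl hQS (mapTo_of_mem_autGroup hQS h1)
    (fun x hx => autFun_mem γ' hx) hσ
  have himg : img σ (img ρ P) = P := by
    rw [hρ.img_img le_rfl]
    exact (img_congr fun x hx => hσρ x hx).trans img_id
  rw [himg] at hg
  refine (mem_autGroup_iff hP).mpr (hg.congr' fun x hx => ?_)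
  have h2 := hgx _ (mem_img_of_mem hx)
  rw [hσρ x hx, hγ', autFun_congr hρ rfl _ hx, hσρ _ (autFun_mem _ hx)] at h2
  exact h2.symm

end Cfsg.Agent.Components.Intermediate
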