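import Cfsg.Agent.Lib.Components.ResidualLimit
import Cfsg.Agent.Lib.Components.Intermediate
import Cfsg.Agent.Lib.Fusion.ResidualInvariant
import Cfsg.Agent.Lib.Fusion.PrimeIndexMain
import Cfsg.Agent.S5124

/-!
Existence of residual limits; an invariant subsystem of index prime to `p` has the same limit.
-/

set_option autoImplicit false
set_option linter.style.haveILetI false
set_option linter.unusedSectionVars false

namespace Cfsg.Agent.Components.ResLimit

open Cfsg Cfsg.Agent.Fusion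
open Cfsg.Agent.Components.Intermediate

universe u

variable {Ω : Type u} [Group Ω] {p : ℕ} {S : Subgroup Ω}

/-- The graphs of the maps of a system. -/
def graphs (F : FusionSystem S) : Set (Set (S × S)) :=
  {X | ∃ (P : Subgroup Ω) (f : Ω → Ω), MapTo F P f ∧
    X = {z | (z.1 : Ω) ∈ P ∧ f z.1 = (z.2 : Ω)}}

/-- Transfer a system to the ambient type of another base. -/
def graphsIn (S : Subgroup Ω) {U : Subgroup Ω} (D : FusionSystem U) : Set (Set (S × S)) :=
  {X | ∃ (P : Subgroup Ω) (f : Ω → Ω), MapTo D P f ∧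
    X = {z | (z.1 : Ω) ∈ P ∧ f z.1 = (z.2 : Ω)}}

theorem mapTo_of_graphs {U : Subgroup Ω} {D : FusionSystem U} {F : FusionSystem S}
    (hUS : U ≤ S) (h : graphs F ⊆ graphsIn S D) {P : Subgroup Ω} {f : Ω → Ω}
    (hf : MapTo F P f) : MapTo D P f := by
  obtain ⟨P', f', hf', he⟩ := h ⟨P, f, hf, rfl⟩
  have hgr : ∀ x, ∀ hx : x ∈ P, x ∈ P' ∧ f' x = f x := fun x hx => by
    have hmem : ((⟨x, hf.le hx⟩, ⟨f x, hf.mem hx⟩) : S × S) ∈
        {z : S × S | (z.1 : Ω) ∈ P ∧ f z.1 = (z.2 : Ω)} := ⟨hx, rfl⟩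
    rw [he] at hmem
    exact hmem
  have hP' : ∀ x ∈ P', x ∈ P := fun x hx => by
    have hmem : ((⟨x, hUS (hf'.le hx)⟩, ⟨f' x, hUS (hf'.mem hx)⟩) : S × S) ∈
        {z : S × S | (z.1 : Ω) ∈ P' ∧ f' z.1 = (z.2 : Ω)} := ⟨hx, rfl⟩
    rw [← he] at hmem
    exact hmem.1
  have : P' = P := le_antisymm hP' fun x hx => (hgr x hx).1
  subst this
  exact hf'.congr' fun x hx => (hgr x hx).2.symm

variable [Finite S] [Fact p.Prime]

/-- Residual limits exist. -/
theorem exists_limit : ∀ (n : ℕ) {S : Subgroup Ω} [Finite S] (F : FusionSystem S),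
    (graphs F).ncard = n → IsPGroup p S → F.IsSaturated p →
    ∃ (U : Subgroup Ω) (L : FusionSystem U), L.IsResidualLimitOf F p := by
  intro n
  induction n using Nat.strong_induction_on with
  | h n ih =>
  intro S _ F hn hS hF
  by_cases hstab : F.hyperfocalSubgroup p = S ∧ F.IsPPrimeResidual p F
  · exact ⟨S, F, .stable F p hstab.1 hstab.2⟩
  have hle : F.hyperfocalSubgroup p ≤ S := hyperfocal_le
  haveI := finite_of_le hle
  obtain ⟨D, hD, hDi⟩ := IndexP.exists_pPowerIndex hS hF hle le_rfl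
  obtain ⟨D', hD'⟩ := exists_isPPrimeResidual (hS.to_le hle) hD
  have hsub : graphsIn S D' ⊆ graphs F := by
    rintro _ ⟨P, f, hf, rfl⟩
    exact ⟨P, f, IsSubsystemOf.mapTo hDi.1 (IsSubsystemOf.mapTo hD'.2.1.1 hf), rfl⟩
  have hne : ¬ graphs F ⊆ graphsIn S D' := by
    intro h
    apply hstab
    have htop : S ≤ F.hyperfocalSubgroup p := (mapTo_of_graphs hle h (mapTo_id F le_rfl)).le
    have he : F.hyperfocalSubgroup p = S := le_antisymm hle htop
    refine ⟨he, hF, (self_primeIndex F), fun X hX hXi P φ hφ => ?_⟩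
    have h1 : MapTo D' P (ev φ) := mapTo_of_graphs hle h (mapTo_ev hφ)
    obtain ⟨hXF, hXp⟩ := hXi
    have hX' : ∀ {U : Subgroup Ω} (D₁ : FusionSystem U) (D₂ : FusionSystem U),
        S = U → D₁.IsSubsystemOf F → (∀ P f, MapTo F P f → MapTo D₁ P f) →
        D₁.IsPPrimeResidual p D₂ → ∀ P f, MapTo D₂ P f → MapTo X P f := by
      intro U D₁ D₂ hU hDF hFD hres P f hf
      subst hU
      obtain rfl : D₁ = F := eq_of_hom fun P => Set.Subset.antisymm (hDF P)
        fun φ hφ => mapTo_ev_iff.mp (hFD P _ (mapTo_ev hφ))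
      exact IsSubsystemOf.mapTo (hres.2.2 X hX ⟨hXF, hXp⟩) hf
    exact mapTo_ev_iff.mp (hX' D D' he.symm hDi.1
      (fun P f hf => IsSubsystemOf.mapTo hD'.2.1.1 (mapTo_of_graphs hle h hf)) hD' P _ h1)
  have hcard : (graphs D').ncard < n := by
    have hlt : (graphsIn S D').ncard < n :=
      hn ▸ Set.ncard_lt_ncard (ssubset_of_subset_not_subset hsub hne) (Set.toFinite _)
    refine lt_of_le_of_lt ?_ hlt
    set ι : ↥(F.hyperfocalSubgroup p) × ↥(F.hyperfocalSubgroup p) → S × S :=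
      fun z => (⟨z.1, hle z.1.2⟩, ⟨z.2, hle z.2.2⟩) with hι
    have hιinj : Function.Injective ι := by
      rintro ⟨⟨a, ha⟩, ⟨b, hb⟩⟩ ⟨⟨c, hc⟩, ⟨d, hd⟩⟩ h
      simpa [hι, Prod.ext_iff, Subtype.ext_iff] using h
    refine Set.ncard_le_ncard_of_injOn (Set.image ι) ?_
      (Set.image_injective.mpr hιinj).injOn (Set.toFinite _)
    rintro _ ⟨P, f, hf, rfl⟩
    refine ⟨P, f, hf, Set.ext fun z => ⟨?_, fun hz => ?_⟩⟩
    · rintro ⟨w, hw, rfl⟩
      exact hw
    · obtain ⟨hz1, hz2⟩ := hz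
      exact ⟨(⟨z.1, hf.le hz1⟩, ⟨z.2, hz2 ▸ hf.mem hz1⟩), ⟨hz1, hz2⟩, rfl⟩
  obtain ⟨U, L, hL⟩ := ih _ hcard D' rfl (hS.to_le hle) hD'.1
  exact ⟨U, L, .step F p D D' ⟨hD, hDi⟩ hD' hL⟩
where
  self_primeIndex {S : Subgroup Ω} (F : FusionSystem S) : F.HasPrimeToPIndexIn F p :=
    ⟨fun _ _ h => h, fun _ _ => Subgroup.map_subtype_le _⟩

theorem exists_limit' (hS : IsPGroup p S) {F : FusionSystem S} (hF : F.IsSaturated p) :
    ∃ (U : Subgroup Ω) (L : FusionSystem U), L.IsResidualLimitOf F p :=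
  exists_limit _ F rfl hS hF

/-- When `F` is its own `p`-residual, a limit of `O^{p'}(F)` is a limit of `F`. -/
theorem same_of_residual (hS : IsPGroup p S) {F : FusionSystem S} (hF : F.IsSaturated p)
    (hyp : F.hyperfocalSubgroup p = S) {R₀ : FusionSystem S} (hR₀ : F.IsPPrimeResidual p R₀)
    {U V : Subgroup Ω} {Finf : FusionSystem U} (hFinf : Finf.IsResidualLimitOf F p)
    {L : FusionSystem V} (hL : L.IsResidualLimitOf R₀ p) : SameSys Finf L := by
  have hle : F.hyperfocalSubgroup p ≤ S := hyperfocal_le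
  haveI := finite_of_le hle
  obtain ⟨D, hD, hDi⟩ := IndexP.exists_pPowerIndex hS hF hle le_rfl
  obtain ⟨D', hD'⟩ := exists_isPPrimeResidual (hS.to_le hle) hD
  obtain ⟨W, L₂, hL₂⟩ := exists_limit' (hS.to_le hle) hD'.1
  have h1 : SameSys D F := pResidual_same hS ⟨rfl, fun _ => rfl⟩ hle hyp ⟨hD, hDi⟩ ⟨hF, self_index F⟩
  have h2 : SameSys D' R₀ := pPrime_same h1 hD' hR₀
  exact (limit_unique hFinf F ‹Finite S› hS (.step F p D D' ⟨hD, hDi⟩ hD' hL₂) ⟨rfl, fun _ => rfl⟩).trans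
    (limit_unique hL₂ R₀ (finite_of_le hle) (hS.to_le hle) hL h2)

/-- An invariant saturated subsystem over the same subgroup has the same limit. -/
theorem same_of_invariant : ∀ (n : ℕ) {S : Subgroup Ω} [Finite S] {F W : FusionSystem S},
    Nat.card S = n → IsPGroup p S → F.IsSaturated p → W.IsSaturated p → W.IsInvariantIn F →
    ∀ {U V : Subgroup Ω} {Finf : FusionSystem U} {Winf : FusionSystem V},
      Finf.IsResidualLimitOf F p → Winf.IsResidualLimitOf W p → SameSys Finf Winf := by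
  intro n
  induction n using Nat.strong_induction_on with
  | h n ih =>
  -- the case of a proper hyperfocal subgroup
  have caseA : ∀ {S : Subgroup Ω} [Finite S] {F W : FusionSystem S},
      Nat.card S = n → IsPGroup p S → F.IsSaturated p → W.IsSaturated p → W.IsInvariantIn F →
      F.hyperfocalSubgroup p ≠ S →
      ∀ {U V : Subgroup Ω} {Finf : FusionSystem U} {Winf : FusionSystem V},
        Finf.IsResidualLimitOf F p → Winf.IsResidualLimitOf W p → SameSys Finf Winf := by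
    intro S _ F W hn hS hF hW hi hne U V Finf Winf hFinf hWinf
    set H := F.hyperfocalSubgroup p with hH
    have hle : H ≤ S := hyperfocal_le
    haveI := finite_of_le hle
    have hHp := hS.to_le hle
    have hsc : F.StronglyClosed H := Cfsg.Agent.S5124.result p hS F hF
    obtain ⟨D, hD, hDi⟩ := IndexP.exists_pPowerIndex hS hF hle le_rfl
    have hWhyp : W.hyperfocalSubgroup p ≤ H := hyperfocal_le_iff.mpr fun P hP α hα x hx =>
      mem_hyperfocal hP (oP_mono hi.1 P hα) hx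
    obtain ⟨W₁, hW₁, hW₁i⟩ := IndexP.exists_pPowerIndex hS hW hle hWhyp
    have hscW : W.StronglyClosed H := stronglyClosed_sub hsc hle hi.1
    obtain ⟨A, LD, hLD⟩ := exists_limit' hHp hD
    obtain ⟨B, LW, hLW⟩ := exists_limit' hHp hW₁
    have e1 : SameSys Finf LD := main hS hD hsc hDi hFinf hLD
    have e2 : SameSys Winf LW := main hS hW₁ hscW hW₁i hWinf hLW
    have hW₁F : W₁.IsInvariantIn F := pPower_invariant hS hi hW hle hsc hW₁ hW₁i
    have hW₁D : W₁.IsSubsystemOf D :=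
      fun P => pPowerIndex_le hS hle hW₁ (fun P φ h => hi.1 P (hW₁i.1 P h)) D le_rfl hDi P
    have hlt : Nat.card H < n := hn ▸ card_lt_of_lt (lt_of_le_of_ne hle hne) le_rfl
    exact (e1.trans (ih _ hlt rfl hHp hD hW₁
      (invariant_intermediate hS hle hD hDi.1 hW₁F le_rfl hW₁D) hLD hLW)).trans e2.symm
  intro S _ F W hn hS hF hW hi U V Finf Winf hFinf hWinf
  by_cases hyp : F.hyperfocalSubgroup p = S
  swap
  · exact caseA hn hS hF hW hi hyp hFinf hWinf
  obtain ⟨R₀, hR₀⟩ := exists_isPPrimeResidual hS hF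
  obtain ⟨A, L, hL⟩ := exists_limit' hS hR₀.1
  have e1 : SameSys Finf L := same_of_residual hS hF hyp hR₀ hFinf hL
  have hWi := primeToP_of_invariant hS hF hi
  have hR₀W : R₀.IsSubsystemOf W := hR₀.2.2 W hW hWi
  have hpp : ∀ P : Subgroup Ω, ∀ γ ∈ ppP W p P, γ ∈ ppP F p P := by
    intro P γ hγ
    obtain ⟨a, ha, rfl⟩ := hγ
    refine ⟨Subgroup.inclusion (IsSubsystemOf.autGroup_le hi.1 P) a, ?_, rfl⟩
    induction ha using Subgroup.closure_induction with
    | mem x hx =>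
      obtain ⟨k, hk⟩ := hx
      exact Subgroup.subset_closure ⟨k, by
        rw [orderOf_injective _ (Subgroup.inclusion_injective _), hk]⟩
    | one => exact Subgroup.one_mem _
    | mul x y _ _ hx hy => rw [map_mul]; exact Subgroup.mul_mem _ hx hy
    | inv x _ hx => rw [map_inv]; exact Subgroup.inv_mem _ hx
  have hpp' : ∀ P : Subgroup Ω, P ≤ S → ppP F p P ≤ ppP W p P := by
    intro P hP
    refine Subgroup.map_le_iff_le_comap.mpr ((Subgroup.closure_le _).mpr ?_)
    rintro γ ⟨k, hk⟩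
    have hγW : (γ : MulAut P) ∈ W.autGroup P :=
      hWi.2 P hP ⟨γ, Subgroup.subset_closure ⟨k, hk⟩, rfl⟩
    exact ⟨⟨_, hγW⟩, Subgroup.subset_closure ⟨k, by rw [Subgroup.orderOf_mk, Subgroup.orderOf_coe, hk]⟩,
      rfl⟩
  have hR₀res : W.IsPPrimeResidual p R₀ :=
    ⟨hR₀.1, ⟨hR₀W, fun P hP γ hγ => hR₀.2.1.2 P hP (hpp P γ hγ)⟩, fun X hX hXi =>
      hR₀.2.2 X hX ⟨fun P φ h => hi.1 P (hXi.1 P h), fun P hP γ hγ => hXi.2 P hP (hpp' P hP hγ)⟩⟩
  refine e1.trans ?_
  by_cases hypW : W.hyperfocalSubgroup p = S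
  · exact (same_of_residual hS hW hypW hR₀res hWinf hL).symm
  · exact (caseA hn hS hW hR₀.1 (pPrimeResidual_isWeaklyNormalIn hS hW hR₀res).2.2 hypW hWinf hL).symm

end Cfsg.Agent.Components.ResLimit
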