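import Cfsg.Agent.Lib.Components.FocalClass
import Cfsg.Agent.Lib.Components.LimitPrime
import Cfsg.Agent.Lib.Components.ResidualExtensionMain
import Cfsg.Agent.Lib.Fusion.NormalTwistMain
import Cfsg.Agent.Lib.Fusion.InnerCriteria

/-!
For a normal subsystem `E` over `T` with `p`-solvable `Aut_F(T)/Aut_E(T)`, a normal subsystem over
`T C_S(T)` inducing `Aut_E(T)` on `T`, with the residual limit of `F`.
-/

set_option autoImplicit false
set_option linter.style.haveILetI false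
set_option linter.unusedSectionVars false

namespace Cfsg.Agent.Components.Descent

open Cfsg.FusionSystem (centralizerIn normalizerIn)
open Cfsg.Agent.Fusion
open Cfsg.Agent.Components.Intermediate
open Cfsg.Agent.Components.ResLimit (SameSys)

universe u

variable {Ω : Type u} [Group Ω] {S T R : Subgroup Ω} {F : FusionSystem S} {E : FusionSystem T}
variable {p : ℕ}

/-- An element killed by powers of coprime exponents. -/
theorem mem_of_pow_mem_coprime {H : Type*} [Group H] {K : Subgroup H} {k : H} {m n : ℕ}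
    (hmn : m.Coprime n) (hm : k ^ m ∈ K) (hn : k ^ n ∈ K) : k ∈ K := by
  obtain ⟨a, b, hab⟩ : IsCoprime ((m : ℕ) : ℤ) ((n : ℕ) : ℤ) := Nat.isCoprime_iff_coprime.mpr hmn
  rw [show k = (k ^ m) ^ a * (k ^ n) ^ b by
    rw [← zpow_natCast k m, ← zpow_natCast k n, ← zpow_mul, ← zpow_mul, ← zpow_add,
      mul_comm (m : ℤ) a, mul_comm (n : ℤ) b, hab, zpow_one]]
  exact K.mul_mem (K.zpow_mem hm a) (K.zpow_mem hn b)

/-- The next subgroup of the descent. -/
theorem exists_next {Γ : Subgroup (MulAut T)} {A : Subgroup (MulAut T)} [Finite Γ]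
    [hn : (A.subgroupOf Γ).Normal] (hsolv : Cfsg.IsPSolvable p (Γ ⧸ A.subgroupOf Γ))
    [Fact p.Prime] {K : Subgroup (MulAut T)} (hKΓ : K ≤ Γ) (hAK : A ≤ K) (hne : ¬ K ≤ A)
    (hKn : ∀ g ∈ Γ, ∀ k ∈ K, g * k * g⁻¹ ∈ K) :
    ∃ K' : Subgroup (MulAut T), K' < K ∧ A ≤ K' ∧ (∀ g ∈ Γ, ∀ k ∈ K', g * k * g⁻¹ ∈ K') ∧
      ((∃ n : ℕ, n.Coprime p ∧ ∀ k ∈ K, k ^ n ∈ K') ∨
        ((∀ x ∈ K, ∀ y ∈ K, x * y * x⁻¹ * y⁻¹ ∈ K') ∧ ∃ m : ℕ, ∀ k ∈ K, k ^ p ^ m ∈ K')) := by
  classical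
  obtain ⟨n, H, h0, hlast, hmono, hHn, hstep⟩ := hsolv
  set π := QuotientGroup.mk' (A.subgroupOf Γ) with hπ
  let In : Fin (n + 1) → Prop := fun i => ∀ k : Γ, (k : MulAut T) ∈ K → π k ∈ H i
  obtain ⟨i, hi0, hi1⟩ : ∃ i : Fin n, ¬ In i.castSucc ∧ In i.succ := by
    by_contra hcon
    have hall : ∀ i : Fin (n + 1), ¬ In i := by
      refine Fin.induction ?_ fun i hi h => hcon ⟨i, hi, h⟩
      intro h
      refine hne fun k hk => ?_
      have h1 := h ⟨k, hKΓ hk⟩ hk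
      rw [h0, Subgroup.mem_bot, hπ, QuotientGroup.mk'_apply, QuotientGroup.eq_one_iff] at h1
      exact h1
    exact hall (Fin.last n) fun k _ => by rw [hlast]; exact Subgroup.mem_top _
  set N := (H i.castSucc).comap π with hN
  haveI := hHn i.castSucc
  haveI : N.Normal := inferInstance
  set K₁ := K ⊓ N.map Γ.subtype with hK₁
  have hmem : ∀ {k : MulAut T} (hk : k ∈ K), k ∈ K₁ ↔ π ⟨k, hKΓ hk⟩ ∈ H i.castSucc := by
    intro k hk
    refine ⟨fun h => ?_, fun h => ⟨hk, ⟨k, hKΓ hk⟩, h, rfl⟩⟩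
    obtain ⟨g, hg, rfl⟩ := h.2
    exact hg
  have hA₁ : A ≤ K₁ := fun a ha => (hmem (hAK ha)).mpr (by
    rw [show π ⟨a, hKΓ (hAK ha)⟩ = 1 from
      (QuotientGroup.eq_one_iff (N := A.subgroupOf Γ) _).mpr (Subgroup.mem_subgroupOf.mpr ha)]
    exact Subgroup.one_mem _)
  have hn₁ : ∀ g ∈ Γ, ∀ k ∈ K₁, g * k * g⁻¹ ∈ K₁ := fun g hg k hk =>
    ⟨hKn g hg k hk.1, by
      obtain ⟨k₀, hk₀, rfl⟩ := hk.2
      exact ⟨⟨g, hg⟩ * k₀ * ⟨g, hg⟩⁻¹, (inferInstance : N.Normal).conj_mem k₀ hk₀ _, rfl⟩⟩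
  have hlt₁ : K₁ < K := by
    refine lt_of_le_not_ge inf_le_left fun h => hi0 fun k hk => ?_
    exact (hmem hk).mp (h hk)
  have hpow : ∀ k ∈ K, k ^ (H i.castSucc).relIndex (H i.succ) ∈ K₁ := by
    intro k hk
    haveI : ((H i.castSucc).subgroupOf (H i.succ)).Normal := (hHn i.castSucc).subgroupOf _
    have h1 := Subgroup.pow_index_mem ((H i.castSucc).subgroupOf (H i.succ))
      (⟨π ⟨k, hKΓ hk⟩, hi1 ⟨k, hKΓ hk⟩ hk⟩ : H i.succ)
    refine (hmem (K.pow_mem hk _)).mpr ?_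
    rw [show (⟨k ^ (H i.castSucc).relIndex (H i.succ), hKΓ (K.pow_mem hk _)⟩ : Γ) =
      ⟨k, hKΓ hk⟩ ^ (H i.castSucc).relIndex (H i.succ) from rfl, map_pow]
    exact h1
  rcases hstep i with ⟨m, hm⟩ | hcop
  swap
  · exact ⟨K₁, hlt₁, hA₁, hn₁, Or.inl ⟨_, hcop, hpow⟩⟩
  -- pass to an abelian quotient
  haveI : Finite K := Finite.of_injective (Subgroup.inclusion hKΓ) (Subgroup.inclusion_injective hKΓ)
  haveI hnK : (K₁.subgroupOf K).Normal := ⟨fun x hx g => Subgroup.mem_subgroupOf.mpr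
    (hn₁ g (hKΓ g.2) x (Subgroup.mem_subgroupOf.mp hx))⟩
  set ρ := QuotientGroup.mk' (K₁.subgroupOf K) with hρ
  have hQp : IsPGroup p (K ⧸ K₁.subgroupOf K) := by
    intro q
    obtain ⟨k, rfl⟩ := QuotientGroup.mk'_surjective _ q
    refine ⟨m, ?_⟩
    rw [← map_pow]
    exact (QuotientGroup.eq_one_iff _).mpr (Subgroup.mem_subgroupOf.mpr (hm ▸ hpow k k.2))
  haveI : Nontrivial (K ⧸ K₁.subgroupOf K) := by
    obtain ⟨k, hk, hk1⟩ := SetLike.exists_of_lt hlt₁
    refine ⟨⟨ρ ⟨k, hk⟩, 1, fun h => hk1 ?_⟩⟩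
    exact Subgroup.mem_subgroupOf.mp ((QuotientGroup.eq_one_iff _).mp h)
  haveI : Group.IsNilpotent (K ⧸ K₁.subgroupOf K) := hQp.isNilpotent
  set C := (commutator (K ⧸ K₁.subgroupOf K)).comap ρ with hC
  haveI : C.Normal := inferInstance
  refine ⟨C.map K.subtype, ?_, ?_, ?_, Or.inr ⟨?_, m, ?_⟩⟩
  · refine lt_of_le_not_ge (Subgroup.map_subtype_le _) fun h => ?_
    refine (IsSolvable.commutator_lt_top_of_nontrivial (K ⧸ K₁.subgroupOf K)).ne ?_
    refine top_le_iff.mp fun q _ => ?_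
    obtain ⟨k, rfl⟩ := QuotientGroup.mk'_surjective _ q
    obtain ⟨k', hk', he⟩ := h k.2
    rwa [Subtype.ext he] at hk'
  · intro a ha
    refine ⟨⟨a, hAK ha⟩, ?_, rfl⟩
    show ρ ⟨a, hAK ha⟩ ∈ commutator _
    rw [show ρ ⟨a, hAK ha⟩ = 1 from
      (QuotientGroup.eq_one_iff _).mpr (Subgroup.mem_subgroupOf.mpr (hA₁ ha))]
    exact Subgroup.one_mem _
  · intro g hg k hk
    obtain ⟨k₀, hk₀, rfl⟩ := hk
    let φ : K →* K := ((MulAut.conj g).toMonoidHom.comp K.subtype).codRestrict K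
      fun z => hKn g hg z z.2
    have hle : K₁.subgroupOf K ≤ (K₁.subgroupOf K).comap φ := fun z hz =>
      Subgroup.mem_comap.mpr <| Subgroup.mem_subgroupOf.mpr (hn₁ g hg z (Subgroup.mem_subgroupOf.mp hz))
    let ψ := QuotientGroup.map _ _ φ hle
    refine ⟨φ k₀, ?_, rfl⟩
    show ψ (ρ k₀) ∈ commutator _
    have h1 : (commutator (K ⧸ K₁.subgroupOf K)).map ψ ≤ commutator (K ⧸ K₁.subgroupOf K) := by
      rw [commutator_def, Subgroup.map_commutator]
      exact Subgroup.commutator_mono le_top le_top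
    exact h1 ⟨_, hk₀, rfl⟩
  · intro x hx y hy
    refine ⟨⟨x, hx⟩ * ⟨y, hy⟩ * ⟨x, hx⟩⁻¹ * ⟨y, hy⟩⁻¹, ?_, rfl⟩
    show ρ _ ∈ commutator _
    rw [map_mul, map_mul, map_mul, map_inv, map_inv]
    exact Subgroup.commutator_mem_commutator (Subgroup.mem_top _) (Subgroup.mem_top _)
  · intro k hk
    refine ⟨⟨k, hk⟩ ^ p ^ m, ?_, rfl⟩
    show ρ _ ∈ commutator _
    rw [show ρ (⟨k, hk⟩ ^ p ^ m) = 1 from
      (QuotientGroup.eq_one_iff _).mpr (Subgroup.mem_subgroupOf.mpr (hm ▸ hpow k hk))]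
    exact Subgroup.one_mem _

variable [Finite S] [Fact p.Prime]

/-- A stage of the descent. -/
structure Stage (p : ℕ) (F : FusionSystem S) (E : FusionSystem T) (K : Subgroup (MulAut T))
    {R : Subgroup Ω} (G : FusionSystem R) : Prop where
  le_aut : K ≤ F.autGroup T
  conj_mem : ∀ a ∈ F.autGroup T, ∀ k ∈ K, a * k * a⁻¹ ∈ K
  aut_le : E.autGroup T ≤ K
  sat : G.IsSaturated p
  inv : G.IsInvariantIn F
  sub : E.IsSubsystemOf G
  aut : G.autGroup T ≤ K
  top_le : T ⊔ centralizerIn S T ≤ R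
  limit : ∀ {U V : Subgroup Ω} (Finf : FusionSystem U) (L : FusionSystem V),
    Finf.IsResidualLimitOf F p → L.IsResidualLimitOf G p → SameSys Finf L

variable {G : FusionSystem R} {K K' : Subgroup (MulAut T)}

theorem exists_restrict (hsc : F.StronglyClosed T) {P : Subgroup Ω} {f : Ω → Ω}
    (hf : MapTo F P f) (hTP : T ≤ P) : ∃ a ∈ F.autGroup T, ∀ t ∈ T, f t = autFun a t :=
  ⟨autOf (hf.restrict hTP) (StronglyClosed.img_eq hsc hf hTP), autOf_mem _ _,
    fun t ht => (autFun_autOf _ _ ht).symm⟩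

/-- The step with an abelian `p`-group quotient. -/
theorem step_p (hS : IsPGroup p S) (hi : E.IsInvariantIn F) (hEs : E.IsSaturated p)
    (hF : F.IsSaturated p) (hst : Stage p F E K G) (hK' : K' ≤ K) (hA : E.autGroup T ≤ K')
    (hn : ∀ a ∈ F.autGroup T, ∀ k ∈ K', a * k * a⁻¹ ∈ K')
    (hab : ∀ x ∈ K, ∀ y ∈ K, x * y * x⁻¹ * y⁻¹ ∈ K') {m : ℕ} (hm : ∀ k ∈ K, k ^ p ^ m ∈ K') :
    ∃ (R' : Subgroup Ω) (G' : FusionSystem R'), Stage p F E K' G' := by
  have hsc := hi.2.1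
  have hTS : T ≤ S := hsc.1
  have hRS : R ≤ S := hst.inv.2.1.1
  haveI := finite_of_le hRS
  haveI := finite_of_le hTS
  haveI := finite_mulAut T
  have hRp := hS.to_le hRS
  have hTR : T ≤ R := le_sup_left.trans hst.top_le
  have hscG : G.StronglyClosed T := stronglyClosed_sub hsc hTR hst.inv.1
  let N : Subgroup Ω :=
    { carrier := {s | s ∈ R ∧ ∃ β ∈ K', ∀ t ∈ T, autFun β t = cj s t}
      one_mem' := ⟨R.one_mem, 1, K'.one_mem, fun t ht => by rw [autFun_one ht, cj_one]⟩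
      mul_mem' := by
        rintro a b ⟨ha, β, hβ, hβx⟩ ⟨hb, γ, hγ, hγx⟩
        refine ⟨R.mul_mem ha hb, β * γ, K'.mul_mem hβ hγ, fun t ht => ?_⟩
        rw [autFun_mul _ _ ht, hβx _ (autFun_mem γ ht), hγx t ht, cj_mul]
      inv_mem' := by
        rintro a ⟨ha, β, hβ, hβx⟩
        refine ⟨R.inv_mem ha, β⁻¹, K'.inv_mem hβ, fun t ht => ?_⟩
        have h1 := hβx _ (autFun_mem β⁻¹ ht)
        rw [autFun_autFun_inv β ht] at h1
        conv_rhs => rw [h1]
        rw [cj_inv_cancel] }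
  have hNR : N ≤ R := fun s hs => hs.1
  have hTN : T ≤ N := fun t ht => by
    obtain ⟨γ, hγ⟩ := exists_conjAut (P := T) (Subgroup.le_normalizer ht)
    exact ⟨hTR ht, γ, hA (autInducedBy_le_autGroup le_rfl
      (mem_autInducedBy_iff_cj.mpr ⟨t, ht, hγ⟩)), hγ⟩
  have hCN : centralizerIn S T ≤ N := fun c hc => by
    refine ⟨hst.top_le (Subgroup.mem_sup_right hc), 1, K'.one_mem, fun t ht => ?_⟩
    rw [autFun_one ht, cj_apply, ← (mem_centralizerIn.mp hc).2 t ht, mul_inv_cancel_right]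
  -- the automorphism of `T` induced by an element of `R`
  have hind : ∀ {s : Ω}, s ∈ R → ∃ β ∈ K, ∀ t ∈ T, autFun β t = cj s t := fun {s} hs => by
    obtain ⟨β, hβ⟩ := exists_conjAut (P := T) (StronglyClosed.le_normalizer hsc (hRS hs))
    exact ⟨β, hst.aut (autInducedBy_le_autGroup hTR (mem_autInducedBy_iff_cj.mpr ⟨s, hs, hβ⟩)), hβ⟩
  have habN : ∀ x ∈ R, ∀ y ∈ R, x * y * x⁻¹ * y⁻¹ ∈ N := by
    intro x hx y hy
    obtain ⟨β, hβ, hβx⟩ := hind hx
    obtain ⟨γ, hγ, hγx⟩ := hind hy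
    refine ⟨R.mul_mem (R.mul_mem (R.mul_mem hx hy) (R.inv_mem hx)) (R.inv_mem hy),
      _, hab β hβ γ hγ, fun t ht => ?_⟩
    have hi1 : ∀ {s : Ω} {δ : MulAut T}, (∀ t ∈ T, autFun δ t = cj s t) →
        ∀ t ∈ T, autFun δ⁻¹ t = cj s⁻¹ t := fun {s δ} h t ht => by
      have h1 := h _ (autFun_mem δ⁻¹ ht)
      rw [autFun_autFun_inv δ ht] at h1
      conv_rhs => rw [h1]
      rw [cj_inv_cancel]
    rw [autFun_mul _ _ ht, autFun_mul _ _ (autFun_mem _ ht),
      autFun_mul _ _ (autFun_mem _ (autFun_mem _ ht)), hi1 hγx t ht]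
    have h2 : cj y⁻¹ t ∈ T := hi1 hγx t ht ▸ autFun_mem _ ht
    rw [hi1 hβx _ h2]
    have h3 : cj x⁻¹ (cj y⁻¹ t) ∈ T := hi1 hβx _ h2 ▸ autFun_mem _ h2
    rw [hγx _ h3]
    have h4 : cj y (cj x⁻¹ (cj y⁻¹ t)) ∈ T := hγx _ h3 ▸ autFun_mem _ h3
    rw [hβx _ h4, ← cj_mul, ← cj_mul, ← cj_mul]
  have hcl := FocalClass.class_invariant hRp hst.sat hscG hTN habN (fun P f hf hTP x hx => by
    obtain ⟨a, ha, hax⟩ := exists_restrict hscG hf hTP
    have hxR := hf.le hx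
    obtain ⟨β, hβ, hβx⟩ := hind hxR
    refine ⟨R.mul_mem (R.inv_mem hxR) (hf.mem hx), β⁻¹ * a * β⁻¹⁻¹ * a⁻¹,
      hab _ (K.inv_mem hβ) _ (hst.aut ha), fun t ht => ?_⟩
    have hti := autFun_mem a⁻¹ ht
    have hz := autFun_mem β hti
    rw [inv_inv, autFun_mul _ _ ht, autFun_mul _ _ hti, autFun_mul _ _ hz]
    have h1 : autFun a (autFun β (autFun a⁻¹ t)) = f x * t * (f x)⁻¹ := by
      conv_rhs => rw [show t = f (autFun a⁻¹ t) by rw [hax _ hti, autFun_autFun_inv a ht]]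
      rw [← hf.map_conj hx (hTP hti), ← cj_apply, ← hβx _ hti, hax _ hz]
    have h2 : f x * t * (f x)⁻¹ ∈ T := h1 ▸ autFun_mem a hz
    rw [h1]
    have h3 := hβx _ (autFun_mem β⁻¹ h2)
    rw [autFun_autFun_inv β h2, cj_apply] at h3
    rw [cj_apply]
    conv_rhs => rw [show x⁻¹ * f x * t * (x⁻¹ * f x)⁻¹ = x⁻¹ * (f x * t * (f x)⁻¹) * x by group, h3]
    group)
  have hscR : F.StronglyClosed N := by
    refine stronglyClosed_iff.mpr ⟨hNR.trans hRS, fun P f hP hf x hx => ?_⟩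
    obtain ⟨a, ha, g, hg, hfg⟩ := IsInvariantIn.frattini hst.inv (hP.trans hNR) hf
    have hgx : g x ∈ N := by
      have h1 := N.mul_mem (hP hx) (hcl P g hg x hx)
      rwa [mul_inv_cancel_left] at h1
    obtain ⟨-, β, hβ, hβx⟩ := hgx
    have ham := mapTo_of_mem_autGroup hRS ha
    obtain ⟨a', ha', ha'x⟩ := exists_restrict hsc ham hTR
    refine ⟨by rw [hfg x hx]; exact autFun_mem a (hg.mem hx), a' * β * a'⁻¹,
      hn a' ha' β hβ, fun t ht => ?_⟩
    have hti := autFun_mem a'⁻¹ ht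
    rw [autFun_mul _ _ ht, autFun_mul _ _ hti, hβx _ hti, cj_apply]
    have hct : g x * autFun a'⁻¹ t * (g x)⁻¹ ∈ T :=
      StronglyClosed.conj_mem hsc (hRS (hg.mem hx)) hti
    rw [← ha'x _ hct, ham.map_conj (hg.mem hx) (hTR hti), ha'x _ hti, autFun_autFun_inv a' ht,
      hfg x hx, cj_apply]
  have hhyp : G.hyperfocalSubgroup p ≤ N := hyperfocal_le_focal.trans (focal_le_iff.mpr hcl)
  obtain ⟨D, hD, hDi⟩ := IndexP.exists_pPowerIndex hRp hst.sat hNR hhyp
  have hDF := pPower_invariant hS hst.inv hst.sat hNR hscR hD hDi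
  haveI := finite_of_le (hNR.trans hRS)
  have hscD : D.StronglyClosed T := stronglyClosed_sub hsc hTN hDF.1
  refine ⟨N, D, ⟨hK'.trans hst.le_aut, hn, hA, hD, hDF, fun P => ?_, ?_, sup_le hTN hCN, ?_⟩⟩
  · exact pPowerIndex_le hRp hTR hEs hst.sub D hTN hDi P
  · intro a ha
    obtain ⟨b, hb, c, hc, rfl⟩ := exists_eq_mul_of_isFullyNormalized (hS.to_le (hNR.trans hRS)) hD
      (StronglyClosed.isFullyNormalized hscD) ha
    refine K'.mul_mem ?_ ?_
    · refine oP_induction (C := fun b => b ∈ K') K'.one_mem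
        (fun _ _ _ _ => K'.mul_mem) (fun _ _ => K'.inv_mem) (fun b hb hcop => ?_) b hb
      refine mem_of_pow_mem_coprime (Nat.Coprime.pow_right m hcop)
        (by rw [pow_orderOf_eq_one]; exact K'.one_mem)
        (hm b (hst.aut (IsSubsystemOf.autGroup_le hDi.1 T hb)))
    · obtain ⟨s, hs, hsc'⟩ := mem_autInducedBy_iff_cj.mp hc
      obtain ⟨-, β, hβ, hβx⟩ := hs
      rwa [show c = β from autFun_ext fun t ht => by rw [hsc' t ht, hβx t ht]]
  · intro U V Finf L hFinf hL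
    obtain ⟨A, LG, hLG⟩ := ResLimit.exists_limit' hRp hst.sat
    exact (hst.limit Finf LG hFinf hLG).trans
      (ResLimit.main hRp hD (stronglyClosed_sub hscR hNR hst.inv.1) hDi hLG hL)

/-- The step with a quotient of order prime to `p`. -/
theorem step_prime (hS : IsPGroup p S) (hi : E.IsInvariantIn F) (hEs : E.IsSaturated p)
    (hF : F.IsSaturated p) (hst : Stage p F E K G) (hK' : K' ≤ K) (hA : E.autGroup T ≤ K')
    (hn : ∀ a ∈ F.autGroup T, ∀ k ∈ K', a * k * a⁻¹ ∈ K') {n : ℕ} (hcop : n.Coprime p)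
    (hpow : ∀ k ∈ K, k ^ n ∈ K') : ∃ (R' : Subgroup Ω) (G' : FusionSystem R'), Stage p F E K' G' := by
  by_cases hle : G.autGroup T ≤ K'
  · exact ⟨R, G, ⟨hK'.trans hst.le_aut, hn, hA, hst.sat, hst.inv, hst.sub, hle, hst.top_le,
      hst.limit⟩⟩
  have hsc := hi.2.1
  have hTS : T ≤ S := hsc.1
  have hRS : R ≤ S := hst.inv.2.1.1
  haveI := finite_of_le hRS
  haveI := finite_of_le hTS
  haveI := finite_mulAut T
  have hRp := hS.to_le hRS
  have hTR : T ≤ R := le_sup_left.trans hst.top_le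
  have hiG : E.IsInvariantIn G :=
    invariant_intermediate hS hRS hst.sat hst.inv.1 hi hTR hst.sub
  set K₀ := K' ⊓ G.autGroup T with hK₀
  have hKpow : ∀ a ∈ G.autGroup T, ∀ k : ℕ, a ^ p ^ k = 1 → a ∈ K' := fun a ha k hk =>
    mem_of_pow_mem_coprime (Nat.Coprime.pow_right k hcop) (hpow a (hst.aut ha))
      (by rw [hk]; exact K'.one_mem)
  have hGle := IsSubsystemOf.autGroup_le hst.inv.1 T
  have htw : TwistSub G p E K₀ :=
    ⟨inf_le_right, fun a ha k hk => ⟨hn a (hGle ha) k hk.1,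
      Subgroup.mul_mem _ (Subgroup.mul_mem _ ha hk.2) (Subgroup.inv_mem _ ha)⟩,
      fun a ha k hk => ⟨hKpow a ha k hk, ha⟩,
      le_inf hA (IsSubsystemOf.autGroup_le hst.sub T)⟩
  obtain ⟨G', hG'n, -, hEG', hG'aut, hRes⟩ := exists_twisted hRp ⟨hEs, hst.sat, hiG⟩ htw
    fun h => hle (h.trans inf_le_left)
  obtain ⟨hG's, -, hG'i⟩ := hG'n.1
  obtain ⟨Res, hRes'⟩ := exists_isPPrimeResidual hRp hst.sat
  have hResF := ResidualExtension.isNormalIn_residual hS ⟨hst.sat, hF, hst.inv⟩ hRes'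
  have hResG' : Res.IsInvariantIn G' :=
    invariant_intermediate hRp le_rfl hG's hG'i.1 (pPrimeResidual_isWeaklyNormalIn hRp hst.sat hRes').2.2
      le_rfl (hRes Res hRes')
  have hG'F : G'.IsSubsystemOf F := fun P φ hφ => hst.inv.1 P (hG'i.1 P hφ)
  have hscR := hst.inv.2.1
  have hscG' : G'.StronglyClosed T := stronglyClosed_sub hsc hTR hG'F
  have haut : ∀ a ∈ F.autGroup R, ∀ b ∈ G'.autGroup R, a * b * a⁻¹ ∈ G'.autGroup R := by
    intro a ha b hb
    obtain ⟨hbG, β, hβ, hbx⟩ := (hG'aut b).mp hb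
    obtain ⟨a', ha', ha'x⟩ := exists_restrict hsc (mapTo_of_mem_autGroup hRS ha) hTR
    have habG : a * b * a⁻¹ ∈ G.autGroup R :=
      (IsInvariantIn.normal_autGroup hst.inv le_rfl).conj_mem
        ⟨b, IsSubsystemOf.autGroup_le hst.inv.1 R hbG⟩ hbG ⟨a, ha⟩
    have hres : ∀ t ∈ T, autFun (a * b * a⁻¹) t = autFun (a' * β * a'⁻¹) t := by
      intro t ht
      have hti := autFun_mem a'⁻¹ ht
      have h1 : autFun a⁻¹ t = autFun a'⁻¹ t := by
        conv_lhs => rw [← autFun_autFun_inv a' ht, ← ha'x _ hti]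
        exact autFun_inv_autFun a (hTR hti)
      rw [autFun_mul _ _ (hTR ht), autFun_mul _ _ (autFun_mem a⁻¹ (hTR ht)), autFun_mul _ _ ht,
        autFun_mul _ _ hti, h1, hbx _ hti, ha'x _ (autFun_mem β hti)]
    refine (hG'aut _).mpr ⟨habG, a' * β * a'⁻¹, ⟨hn a' ha' β hβ.1, ?_⟩, hres⟩
    obtain ⟨γ, hγ, hγx⟩ :=
      exists_restrict (stronglyClosed_sub hsc hTR hst.inv.1) (mapTo_of_mem_autGroup le_rfl habG) hTR
    rwa [show a' * β * a'⁻¹ = γ from autFun_ext fun t ht => by rw [← hres t ht, hγx t ht]]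
  have hG'inv : G'.IsInvariantIn F := by
    refine ⟨hG'F, hscR, fun P hP φ hφ a ha => ?_, fun P hP φ hφ => ?_⟩
    · obtain ⟨b, hb, f₀, hf₀, hfx⟩ := IsInvariantIn.frattini hResG' hP (mapTo_ev hφ)
      obtain ⟨g, hg, hgx⟩ := IsInvariantIn.transport hResF.1.2.2 hP hf₀ ha
      have h2 : MapTo G' (img (autFun a) P) fun y => autFun (a * b * a⁻¹) (g y) :=
        (IsSubsystemOf.mapTo (hRes Res hRes') hg).comp
          (mapTo_of_mem_autGroup le_rfl (haut a ha b hb)) fun y hy => hg.mem hy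
      have he : (P.subgroupOf R).map (R.subtype.comp a.toMonoidHom) = img (autFun a) P :=
        map_subgroupOf_eq_img (fun x => (autFun_coe a x).symm) hP
      rw [← he] at h2
      obtain ⟨χ, hχ, hχx⟩ := h2
      refine ⟨χ, hχ, fun x hφx hax => ?_⟩
      rw [hχx, ← autFun_apply a (hP x.2), ← autFun_apply a hφx, ← ev_coe φ x, hfx x x.2]
      show autFun (a * b * a⁻¹) (g (autFun a x)) = _
      have hfR := hf₀.mem x.2
      rw [hgx x x.2, autFun_mul _ _ (autFun_mem a hfR), autFun_inv_autFun a hfR,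
        autFun_mul _ _ hfR]
    · obtain ⟨a, ha, g, hg, hfg⟩ := IsInvariantIn.frattini hst.inv hP (mapTo_ev hφ)
      obtain ⟨b, hb, g₀, ⟨φ₀, hφ₀, hφ₀x⟩, hgx⟩ := IsInvariantIn.frattini hG'i hP hg
      refine ⟨a * b, Subgroup.mul_mem _ ha (IsSubsystemOf.autGroup_le hst.inv.1 R hb),
        φ₀, hφ₀, fun x hx => ?_⟩
      rw [← autFun_apply _ hx, autFun_mul _ _ hx, hφ₀x, ← hgx x x.2, ← hfg x x.2, ev_coe]
  refine ⟨R, G', ⟨hK'.trans hst.le_aut, hn, hA, hG's, hG'inv, hEG', ?_, hst.top_le, ?_⟩⟩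
  · intro α hα
    have hTn := StronglyClosed.isFullyNormalized hscG'
    have hG'T := IsSubsystemOf.autGroup_le hG'i.1 T
    have hAG : autInducedBy R T ≤ G'.autGroup T := autInducedBy_le_autGroup hTR
    have hAK : autInducedBy R T ≤ K' := fun c hc => by
      obtain ⟨i, hi'⟩ := isPGroup_autInducedBy hRp T ⟨c, hc⟩
      exact hKpow c (hG'T (hAG hc)) i (congrArg Subtype.val hi')
    have hLn : G'.autGroup T ≤
        Subgroup.normalizer ((K' ⊓ G'.autGroup T : Subgroup (MulAut T)) : Set (MulAut T)) :=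
      fun a ha => mem_normalizer_of_forall fun k hk =>
        ⟨hn a (hGle (hG'T ha)) k hk.1,
          Subgroup.mul_mem _ (Subgroup.mul_mem _ ha hk.2) (Subgroup.inv_mem _ ha)⟩
    obtain ⟨W, hW⟩ := (isFullyAutomized_of_isFullyNormalized hRp hG's hTn).2
    have hsyl := IsSylowIn.inf_normal ((isSylowIn_iff_exists hAG).mpr ⟨W, hW⟩)
      (inf_le_right : K' ⊓ G'.autGroup T ≤ _) hLn
    obtain ⟨γ, hγ, hγB⟩ := hsyl.2.2 ((autInducedBy R T).map (MulAut.conj α).toMonoidHom) (by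
      rintro _ ⟨c, hc, rfl⟩
      exact (Subgroup.mem_normalizer_iff.mp (hLn hα) c).mp ⟨hAK hc, hAG hc⟩)
      ((isPGroup_autInducedBy hRp T).map _)
    have hγα : γ * α ∈ G'.autGroup T := Subgroup.mul_mem _ hγ.2 hα
    have hm := mapTo_of_mem_autGroup hTR hγα
    obtain ⟨g, hg, hgx⟩ := exists_extension (isReceptive_of_isFullyNormalized hRp hG's hTn) hm
      (img_autFun _) (Y := R) (fun s hs => mem_normalizerIn_of_forall hTR hs
        fun x hx => StronglyClosed.conj_mem hscG' hs hx) (by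
      rintro _ ⟨c, hc, rfl⟩
      have : MulAut.congr (isoEquiv hm (img_autFun _)) c = γ * (α * c * α⁻¹) * γ⁻¹ := by
        refine autFun_ext fun y hy => ?_
        obtain ⟨x, hx, rfl⟩ : ∃ x ∈ T, autFun (γ * α) x = y :=
          ⟨_, autFun_mem _ hy, autFun_autFun_inv _ hy⟩
        rw [autFun_congr hm _ c hx,
          show γ * (α * c * α⁻¹) * γ⁻¹ = γ * α * c * (γ * α)⁻¹ by group,
          autFun_mul (γ * α * c) (γ * α)⁻¹ (autFun_mem (γ * α) hx), autFun_inv_autFun _ hx,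
          autFun_mul (γ * α) c hx]
      rw [MulEquiv.toMonoidHom_eq_coe, MonoidHom.coe_coe, this]
      exact (hγB _ ⟨c, hc, rfl⟩).1)
    have hgimg : img g R = R := img_eq_self_of_forall hg fun x hx => hg.mem hx
    obtain ⟨-, β, hβ, hβx⟩ := (hG'aut _).mp (autOf_mem hg hgimg)
    have : β = γ * α := autFun_ext fun t ht => by
      rw [← hβx t ht, autFun_autOf hg hgimg (hTR ht), hgx t ht]
    rw [this] at hβ
    have h2 := K'.mul_mem (K'.inv_mem hγ.1) hβ.1
    rwa [inv_mul_cancel_left] at h2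
  · intro U V Finf L hFinf hL
    obtain ⟨A, LG, hLG⟩ := ResLimit.exists_limit' hRp hst.sat
    exact (hst.limit Finf LG hFinf hLG).trans
      (ResLimit.same_of_invariant _ rfl hRp hst.sat hG's hG'i hLG hL)

/-- The last stage. -/
theorem exists_stage (hS : IsPGroup p S) (hi : E.IsInvariantIn F) (hEs : E.IsSaturated p)
    (hF : F.IsSaturated p) [hn : ((E.autGroup T).subgroupOf (F.autGroup T)).Normal]
    (hsolv : Cfsg.IsPSolvable p (↥(F.autGroup T) ⧸ (E.autGroup T).subgroupOf (F.autGroup T))) :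
    ∃ (R : Subgroup Ω) (G : FusionSystem R), Stage p F E (E.autGroup T) G := by
  have hTS : T ≤ S := hi.2.1.1
  haveI := finite_of_le hTS
  haveI := finite_mulAut T
  suffices h : ∀ (n : ℕ) (K : Subgroup (MulAut T)) (R : Subgroup Ω) (G : FusionSystem R),
      Nat.card K = n → Stage p F E K G →
      ∃ (R : Subgroup Ω) (G : FusionSystem R), Stage p F E (E.autGroup T) G from
    h _ (F.autGroup T) S F rfl ⟨le_rfl,
      fun a ha k hk => Subgroup.mul_mem _ (Subgroup.mul_mem _ ha hk) (Subgroup.inv_mem _ ha),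
      IsSubsystemOf.autGroup_le hi.1 T, hF, self_invariant, hi.1, le_rfl,
      sup_le hTS centralizerIn_le, fun Finf L h1 h2 =>
        ResLimit.limit_unique h1 F ‹Finite S› hS h2 ⟨rfl, fun _ => rfl⟩⟩
  intro n
  induction n using Nat.strong_induction_on with
  | h n ih =>
  intro K R G hK hst
  by_cases hle : K ≤ E.autGroup T
  · obtain rfl : K = E.autGroup T := le_antisymm hle hst.aut_le
    exact ⟨R, G, hst⟩
  obtain ⟨K', hlt, hA, hK'n, h⟩ :=
    exists_next (Γ := F.autGroup T) hsolv hst.le_aut hst.aut_le hle hst.conj_mem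
  have hcard : Nat.card K' < n := hK ▸ by
    refine lt_of_le_of_ne (Subgroup.card_le_of_le hlt.le) fun he => ?_
    exact hlt.ne (Subgroup.eq_of_le_of_card_ge hlt.le he.ge)
  rcases h with ⟨m, hm, hpow⟩ | ⟨hab, m, hpow⟩
  · obtain ⟨R', G', h'⟩ := step_prime hS hi hEs hF hst hlt.le hA hK'n hm hpow
    exact ih _ hcard K' R' G' rfl h'
  · obtain ⟨R', G', h'⟩ := step_p hS hi hEs hF hst hlt.le hA hK'n hab hpow
    exact ih _ hcard K' R' G' rfl h'
where
  self_invariant {S : Subgroup Ω} [Finite S] {F : FusionSystem S} : F.IsInvariantIn F := by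
    refine ⟨fun _ _ h => h, stronglyClosed_iff.mpr ⟨le_rfl, fun _ _ _ hf x hx => hf.mem hx⟩,
      fun P hP φ hφ α hα => ?_, fun P hP φ hφ => ?_⟩
    · have hm : MapTo F S (autFun α) := mapTo_of_mem_autGroup le_rfl hα
      obtain ⟨k, hk, hkx, -, -⟩ := (hm.restrict hP).exists_iso_inverse
      have hkm : ∀ y ∈ img (autFun α) P, k y ∈ P := fun y hy => by
        obtain ⟨x, hx, rfl⟩ := (hm.mem_img_iff hP).mp hy
        rw [hkx x hx]; exact hx
      have h2 : MapTo F (img (autFun α) P) fun y => autFun α (ev φ (k y)) :=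
        (hk.comp (mapTo_ev hφ) hkm).comp hm fun y hy => (mapTo_ev hφ).mem (hkm y hy)
      have he : (P.subgroupOf S).map (S.subtype.comp α.toMonoidHom) = img (autFun α) P :=
        map_subgroupOf_eq_img (fun x => (autFun_coe α x).symm) hP
      rw [← he] at h2
      obtain ⟨χ, hχ, hχx⟩ := h2
      refine ⟨χ, hχ, fun x hφx hax => ?_⟩
      rw [hχx, ← autFun_apply α (hP x.2), ← autFun_apply α hφx]
      show autFun α (ev φ (k (autFun α x))) = _
      rw [hkx x x.2, ev_coe]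
    · exact ⟨1, Subgroup.one_mem _, φ, hφ, fun x _ => rfl⟩

/-- The normal subsystem over `T C_S(T)`. -/
theorem exists_normal_over_TC (hS : IsPGroup p S) (hE : E.IsNormalIn F p)
    [hn : ((E.autGroup T).subgroupOf (F.autGroup T)).Normal]
    (hsolv : Cfsg.IsPSolvable p (↥(F.autGroup T) ⧸ (E.autGroup T).subgroupOf (F.autGroup T))) :
    ∃ F₀ : FusionSystem (T ⊔ centralizerIn S T),
      F₀.IsNormalIn F p ∧ E.IsSubsystemOf F₀ ∧ F₀.autGroup T = E.autGroup T ∧
      F₀.IsSaturated p ∧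
      ∀ {U V : Subgroup Ω} (Finf : FusionSystem U) (L : FusionSystem V),
        Finf.IsResidualLimitOf F p → L.IsResidualLimitOf F₀ p → SameSys Finf L := by
  obtain ⟨hEs, hF, hi⟩ := id hE.1
  obtain ⟨R₁, G₁, hst⟩ := exists_stage hS hi hEs hF hsolv
  have hTS : T ≤ S := hi.2.1.1
  have hRS : R₁ ≤ S := hst.inv.2.1.1
  haveI := finite_of_le hTS
  haveI := finite_mulAut T
  have hTR : T ≤ R₁ := le_sup_left.trans hst.top_le
  have hle : R₁ ≤ T ⊔ centralizerIn S T := by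
    intro s hs
    obtain ⟨β, hβ⟩ := exists_conjAut (P := T) (StronglyClosed.le_normalizer hi.2.1 (hRS hs))
    have hβS : β ∈ autInducedBy S T := mem_autInducedBy_iff_cj.mpr ⟨s, hRS hs, hβ⟩
    have hβE : β ∈ E.autGroup T :=
      hst.aut (autInducedBy_le_autGroup hTR (mem_autInducedBy_iff_cj.mpr ⟨s, hs, hβ⟩))
    obtain ⟨k, hk⟩ := isPGroup_autInducedBy hS T ⟨β, hβS⟩
    have hp : IsPGroup p (Subgroup.zpowers β) := by
      obtain ⟨i, -, hi'⟩ := (Nat.dvd_prime_pow Fact.out).mp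
        (orderOf_dvd_of_pow_eq_one (congrArg Subtype.val hk : β ^ p ^ k = 1))
      exact IsPGroup.of_card (n := i) ((Nat.card_zpowers β).trans hi')
    obtain ⟨δ, hδ, hδc⟩ := exists_conj_le_autInducedBy
      (isFullyAutomized_of_isFullyNormalized (hS.to_le hTS) hEs isFullyNormalized_top)
      (Subgroup.zpowers_le.mpr hβE) hp
    obtain ⟨t, ht, htx⟩ := mem_autInducedBy_iff_cj.mp (hδc β (Subgroup.mem_zpowers β))
    set t' := autFun δ⁻¹ t with ht'
    have hβt : ∀ x ∈ T, autFun β x = cj t' x := by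
      intro x hx
      have hd := autFun_mem δ hx
      have h1 := htx _ hd
      rw [autFun_mul _ _ hd, autFun_inv_autFun δ hx, autFun_mul _ _ hx] at h1
      have hm := mapTo_of_mem_autGroup le_rfl (Subgroup.inv_mem _ hδ)
      conv_lhs => rw [← autFun_inv_autFun δ (autFun_mem β hx), h1, cj_apply, hm.map_conj ht hd,
        autFun_inv_autFun δ hx]
      rw [cj_apply]
    have hts : t'⁻¹ * s ∈ centralizerIn S T := mem_centralizerIn.mpr
      ⟨S.mul_mem (S.inv_mem (hTS (autFun_mem _ ht))) (hRS hs), fun y hy => by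
        have h1 := (hβ y hy).symm.trans (hβt y hy)
        rw [cj_apply, cj_apply] at h1
        calc y * (t'⁻¹ * s) = t'⁻¹ * (t' * y * t'⁻¹) * s := by group
          _ = t'⁻¹ * (s * y * s⁻¹) * s := by rw [h1]
          _ = t'⁻¹ * s * y := by group⟩
    rw [← mul_inv_cancel_left t' s]
    exact Subgroup.mul_mem _ (Subgroup.mem_sup_left (autFun_mem _ ht)) (Subgroup.mem_sup_right hts)
  obtain rfl : R₁ = T ⊔ centralizerIn S T := le_antisymm hle hst.top_le
  haveI := finite_of_le hRS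
  refine ⟨G₁, ⟨⟨hst.sat, hF, hst.inv⟩, ?_⟩, hst.sub, le_antisymm hst.aut
    (IsSubsystemOf.autGroup_le hst.sub T), hst.sat, hst.limit⟩
  set W := T ⊔ centralizerIn S T with hW
  intro α hα
  have hCW : centralizerIn S W ≤ W :=
    (centralizerIn_anti le_sup_left).trans (le_sup_right : centralizerIn S T ≤ W)
  have hm : MapTo F W (autFun α) :=
    mapTo_of_mem_autGroup hRS (IsSubsystemOf.autGroup_le hst.inv.1 W hα)
  have hU : W ⊔ centralizerIn S W = W := sup_eq_left.mpr hCW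
  have hmU : MapTo F (W ⊔ centralizerIn S W) (autFun α) := hU.symm ▸ hm
  have himg : img (autFun α) (W ⊔ centralizerIn S W) = W ⊔ centralizerIn S W := by
    rw [hU]; exact img_autFun α
  refine ⟨autOf hmU himg, autOf_mem _ _, fun x => ?_, fun c hc => ?_⟩
  · rw [← autFun_coe α x, ← autFun_autOf hmU himg (Subgroup.mem_sup_left x.2),
      autFun_apply _ (Subgroup.mem_sup_left x.2)]
    rfl
  · rw [← autFun_coe (autOf hmU himg) c, autFun_autOf hmU himg c.2]
    have hcW : (c : Ω) ∈ W := hCW hc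
    have h2 : autFun α (c : Ω) ∈ centralizerIn S W := by
      have h3 := hm.map_mem_centralizerIn le_rfl hcW hc
      rwa [img_autFun α] at h3
    exact ⟨W.mul_mem (W.inv_mem hcW) (autFun_mem α hcW),
      Subgroup.mul_mem _ (Subgroup.inv_mem _ hc.2) h2.2⟩

end Cfsg.Agent.Components.Descent
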