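import Cfsg.Agent.Lib.Components.SupersolubleType
import Cfsg.Agent.Lib.Fusion.Alperin
import Cfsg.Agent.Lib.Fusion.Hyperfocal
import Mathlib

/-!
Extremely sparse fusion systems.
-/

set_option autoImplicit false

universe u

namespace Cfsg.Agent.Components.Sparse

open Cfsg Cfsg.Agent.Fusion
open Cfsg.Agent.Components.Supersol

variable {Ω : Type u} [Group Ω] {S : Subgroup Ω} {F : Cfsg.FusionSystem S} {p : ℕ}

/-- The inner automorphism part and one automorphism of the system give a subsystem. -/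
theorem isSubsystemOf_autSystem {T : Subgroup Ω} (hT : T ≤ S) {β : MulAut T} (hβ : β ∈ F.autGroup T) :
    (autSystem (Cfsg.Inn T ⊔ Subgroup.zpowers β) le_sup_left).IsSubsystemOf F := by
  rintro P φ ⟨hP, α, hα, hφ⟩
  have hα' : α ∈ F.autGroup T :=
    (sup_le (inn_le_autGroup hT) (Subgroup.zpowers_le.2 hβ)) hα
  obtain ⟨ψ, hψ, hψα⟩ := (mapTo_of_mem_autGroup hT hα').restrict hP
  have h : φ = ψ := MonoidHom.ext fun x => by rw [hφ, hψα, autFun_apply α (hP x.2)]
  rw [h]; exact hψ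

/-- An element of prime order different from `p` in the automizer of `T` forces `T = S`. -/
theorem eq_of_prime_order [Finite S] [Fact p.Prime] (hS : IsPGroup p S)
    (hxs : ∀ (T : Subgroup Ω) (E : Cfsg.FusionSystem T), E.IsSaturated p → E.IsSubsystemOf F →
      (T = S ∧ ∀ P : Subgroup Ω, E.Hom P = F.Hom P) ∨
        (∀ P : Subgroup Ω, E.Hom P = (Cfsg.innerFusionSystem T).Hom P))
    {T : Subgroup Ω} (hT : T ≤ S) {β : MulAut T} (hβ : β ∈ F.autGroup T) {q : ℕ} (hq : q.Prime) (hqp : q ≠ p)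
    (hord : orderOf β = q) :
    T = S ∧ ∀ P : Subgroup Ω, (autSystem (Cfsg.Inn T ⊔ Subgroup.zpowers β) le_sup_left).Hom P = F.Hom P := by
  haveI := finite_of_le hT
  haveI := finite_mulAut T
  have hsat := isSaturated_autSystem (hS.to_le hT) (Subgroup.zpowers β) (by
    rw [Nat.card_zpowers, hord]; exact (Nat.coprime_primes hq Fact.out).2 hqp)
  rcases hxs T _ hsat (isSubsystemOf_autSystem hT hβ) with h | h
  · exact h
  exfalso
  have hmem : T.subtype.comp β.toMonoidHom ∈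
      (autSystem (Cfsg.Inn T ⊔ Subgroup.zpowers β) le_sup_left).Hom T :=
    ⟨le_rfl, β, Subgroup.mem_sup_right (Subgroup.mem_zpowers β), fun x => rfl⟩
  rw [h T] at hmem
  obtain ⟨-, g, hg, hgx⟩ := hmem
  have hinn : β = MulAut.conj (⟨g, hg⟩ : T) := MulEquiv.ext fun x => Subtype.ext (hgx x)
  have hpow : IsPGroup p (Subgroup.zpowers β) :=
    ((hS.to_le hT).of_surjective (MulAut.conj : T →* MulAut T).rangeRestrict
      (MulAut.conj : T →* MulAut T).rangeRestrict_surjective).to_le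
      (Subgroup.zpowers_le.2 ⟨⟨g, hg⟩, hinn.symm⟩)
  obtain ⟨k, hk⟩ := IsPGroup.iff_card.1 hpow
  rw [Nat.card_zpowers, hord] at hk
  rcases Nat.eq_zero_or_pos k with rfl | hk0
  · rw [pow_zero] at hk; exact hq.one_lt.ne' hk
  · exact hqp ((Nat.prime_dvd_prime_iff_eq Fact.out hq).1 (hk ▸ dvd_pow_self p hk0.ne')).symm

theorem main [Finite S] [Fact p.Prime] (hS : IsPGroup p S) (hF : F.IsSaturated p)
    (hni : ¬ ∀ P : Subgroup Ω, F.Hom P = (Cfsg.innerFusionSystem S).Hom P)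
    (hxs : ∀ (T : Subgroup Ω) (E : Cfsg.FusionSystem T), E.IsSaturated p → E.IsSubsystemOf F →
      (T = S ∧ ∀ P : Subgroup Ω, E.Hom P = F.Hom P) ∨
        (∀ P : Subgroup Ω, E.Hom P = (Cfsg.innerFusionSystem T).Hom P)) :
    F.IsNormal S ∧ F.focalSubgroup = S ∧ F.hyperfocalSubgroup p = S ∧ ∃ (q : ℕ) (β : MulAut ↥S), q.Prime ∧
      q ≠ p ∧ β ∈ F.autGroup S ∧ orderOf β = q ∧
      (F.autGroup S : Subgroup (MulAut ↥S)) = Cfsg.Inn ↥S ⊔ Subgroup.zpowers β := by
  have hp : p.Prime := Fact.out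
  obtain ⟨Q, hQ, hQp⟩ : ∃ Q, (Q = S ∨ F.IsEssential p Q) ∧ ¬ IsPGroup p (F.autGroup Q) := by
    by_contra hc
    push Not at hc
    exact hni fun P => by rw [eq_inner_of_isPGroup_autGroup hS hF hc]
  have hQS : Q ≤ S := by rcases hQ with rfl | h; exacts [le_rfl, h.1.1]
  haveI := finite_of_le hQS
  haveI := finite_mulAut Q
  obtain ⟨q, hq, hqd, hqp⟩ : ∃ q : ℕ, q.Prime ∧ q ∣ Nat.card (F.autGroup Q) ∧ q ≠ p := by
    by_contra hc
    push Not at hc
    exact hQp (IsPGroup.of_card (Nat.eq_prime_pow_of_unique_prime_dvd Nat.card_pos.ne'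
      fun {d} hd hdd => hc d hd hdd))
  haveI : Fact q.Prime := ⟨hq⟩
  obtain ⟨⟨β, hβ⟩, hord⟩ := exists_prime_orderOf_dvd_card' q hqd
  rw [Subgroup.orderOf_mk] at hord
  obtain ⟨hQeq, hEF⟩ := eq_of_prime_order hS hxs hQS hβ hq hqp hord
  subst hQeq
  -- description of the system
  have hdesc : ∀ (P : Subgroup Ω) (φ : P →* Ω), φ ∈ F.Hom P →
      ∃ hP : P ≤ Q, ∃ α ∈ Cfsg.Inn Q ⊔ Subgroup.zpowers β, ∀ x : P, φ x = ((α ⟨x, hP x.2⟩ : Q) : Ω) := by
    intro P φ hφ
    rw [← hEF P] at hφ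
    exact hφ
  have hle : Cfsg.Inn Q ⊔ Subgroup.zpowers β ≤ F.autGroup Q :=
    sup_le (inn_le_autGroup le_rfl) (Subgroup.zpowers_le.2 hβ)
  have haut : F.autGroup Q = Cfsg.Inn Q ⊔ Subgroup.zpowers β := by
    refine le_antisymm (fun α hα => ?_) hle
    obtain ⟨hP, γ, hγ, hγx⟩ := hdesc Q _ (mapTo_autFun_iff_hom.1 (mapTo_of_mem_autGroup le_rfl hα))
    have : α = γ := MulEquiv.ext fun x => Subtype.ext (hγx x)
    exact this ▸ hγ
  have hnorm : F.IsNormal Q := by
    refine isNormal_iff.mpr ⟨le_rfl, fun P f hf => ?_⟩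
    obtain ⟨φ, hφ, hφf⟩ := id hf
    obtain ⟨hP, α, hα, hαx⟩ := hdesc P φ hφ
    refine ⟨autFun α, ?_, fun x hx => ?_, img_autFun α⟩
    · rw [sup_eq_right.2 hP]; exact mapTo_of_mem_autGroup le_rfl (hle hα)
    · rw [autFun_apply α (hP hx), ← hαx ⟨x, hx⟩]
      exact hφf ⟨x, hx⟩
  -- the subgroup generated by the β-commutators
  obtain ⟨D, hD⟩ : ∃ D : Subgroup Ω, D = Subgroup.closure (Set.range fun x : Q => (x : Ω)⁻¹ * (β x : Q)) :=
    ⟨_, rfl⟩
  have hDQ : D ≤ Q := hD ▸ (Subgroup.closure_le _).2 (by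
    rintro _ ⟨x, rfl⟩; exact Q.mul_mem (Q.inv_mem x.2) (β x).2)
  have hDinv : ∀ x ∈ D, autFun β x ∈ D := by
    intro x hx
    have hm := mapTo_of_mem_autGroup le_rfl hβ
    rw [hD] at hx ⊢
    induction hx using Subgroup.closure_induction with
    | mem y hy =>
      obtain ⟨z, rfl⟩ := hy
      refine Subgroup.subset_closure ⟨β z, ?_⟩
      show ((β z : Q) : Ω)⁻¹ * ((β (β z) : Q) : Ω) = _
      rw [hm.map_mul (Q.inv_mem z.2) (β z).2, hm.map_inv z.2, autFun_coe, autFun_coe]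
    | one => rw [autFun_apply β Q.one_mem]; exact (by
        have : (⟨1, Q.one_mem⟩ : Q) = 1 := rfl
        rw [this, map_one]; exact one_mem _)
    | mul a b ha hb iha ihb =>
      rw [hm.map_mul ((hD ▸ hDQ) ha) ((hD ▸ hDQ) hb)]
      exact mul_mem iha ihb
    | inv a ha iha =>
      rw [hm.map_inv ((hD ▸ hDQ) ha)]
      exact inv_mem iha
  haveI := finite_of_le hDQ
  haveI := finite_mulAut D
  have hmD : MapTo F D (autFun β) := (mapTo_of_mem_autGroup le_rfl hβ).restrict hDQ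
  obtain ⟨γ, hγdef⟩ : ∃ γ, γ = autOf hmD (img_eq_self_of_forall hmD hDinv) := ⟨_, rfl⟩
  have hγx : ∀ x, ∀ hx : x ∈ D, ((γ ⟨x, hx⟩ : D) : Ω) = autFun β x := fun x hx => by
    rw [hγdef]; rfl
  have hγpow : ∀ (i : ℕ) (x : D), (((γ ^ i) x : D) : Ω) = (((β ^ i) ⟨x, hDQ x.2⟩ : Q) : Ω) := by
    intro i
    induction i with
    | zero => intro x; rfl
    | succ i ih =>
      intro x
      rw [pow_succ' γ, MulAut.mul_apply, pow_succ' β, MulAut.mul_apply,
        show ((γ ^ i) x) = (⟨(((γ ^ i) x : D) : Ω), ((γ ^ i) x).2⟩ : D) from rfl, hγx,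
        autFun_apply β (hDQ ((γ ^ i) x).2)]
      exact congrArg (fun z : Q => ((β z : Q) : Ω)) (Subtype.ext (ih x))
  have hγq : γ ^ q = 1 := MulEquiv.ext fun x => Subtype.ext (by
    rw [hγpow, ← hord, pow_orderOf_eq_one]; rfl)
  have hγne : γ ≠ 1 := by
    intro h1
    have hβ1 : β = 1 := by
      refine MulEquiv.ext fun z => ?_
      obtain ⟨d, hd⟩ : ∃ d, d = z⁻¹ * β z := ⟨_, rfl⟩
      have hdD : (d : Ω) ∈ D := by rw [hD, hd]; exact Subgroup.subset_closure ⟨z, rfl⟩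
      have hfix : β d = d := by
        have h := hγx _ hdD
        rw [h1, MulAut.one_apply, autFun_coe] at h
        exact Subtype.ext h.symm
      have hiter : ∀ i : ℕ, (β ^ i) z = z * d ^ i := by
        intro i
        induction i with
        | zero => simp
        | succ i ih =>
          rw [pow_succ' β, MulAut.mul_apply, ih, map_mul, map_pow, hfix, pow_succ', ← mul_assoc, hd,
            mul_inv_cancel_left]
      have h2 := hiter q
      rw [← hord, pow_orderOf_eq_one, MulAut.one_apply, left_eq_mul, hord] at h2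
      obtain ⟨k, hk⟩ := hS d
      have hd1 : d = 1 := eq_one_of_coprime hk h2 (Nat.Coprime.pow_left k ((Nat.coprime_primes hp hq).2 hqp.symm))
      rw [hd, inv_mul_eq_one] at hd1
      rw [MulAut.one_apply, ← hd1]
    rw [hβ1, orderOf_one] at hord
    exact hq.one_lt.ne hord
  have hγord : orderOf γ = q := orderOf_eq_prime hγq hγne
  obtain ⟨hDeq, -⟩ := eq_of_prime_order hS hxs hDQ (β := γ) (hγdef ▸ autOf_mem hmD _) hq hqp hγord
  have hhyp : F.hyperfocalSubgroup p = Q := by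
    refine le_antisymm hyperfocal_le ?_
    refine hDeq.ge.trans ?_
    rw [hD, Subgroup.closure_le]
    rintro _ ⟨z, rfl⟩
    show (z : Ω)⁻¹ * ((β z : Q) : Ω) ∈ _
    rw [← autFun_coe]
    refine mem_hyperfocal le_rfl (mem_oP_of_coprime hβ ?_) z.2
    rw [hord]; exact (Nat.coprime_primes hq hp).2 hqp
  refine ⟨hnorm, le_antisymm ?_ ?_, hhyp, q, β, hq, hqp, hβ, hord, haut⟩
  · rw [focal_le_iff]
    intro P f hf x hx
    exact Q.mul_mem (Q.inv_mem (hf.le hx)) (hf.mem hx)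
  · exact hhyp.symm.le.trans hyperfocal_le_focal

end Cfsg.Agent.Components.Sparse
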