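import Cfsg.Agent.Lib.Components.FFPair
import Cfsg.Agent.Lib.Transfer.QuarticOffender
import Cfsg.Agent.Lib.Components.PTimesQ
import Cfsg.Agent.Lib.Basics.CoprimeGen

/-! Abelian best offenders for the prime two are elementary. -/

set_option autoImplicit false

namespace Cfsg.Agent.Components

open Subgroup Cfsg Cfsg.Agent.Transfer

theorem normInfCent {G : Type*} [Group G] {W B : Subgroup G} {g : G}
    (hW : g ∈ normalizer (W : Set G)) (hB : g ∈ normalizer (B : Set G)) :
    g ∈ normalizer ((W ⊓ centralizer (B : Set G) : Subgroup G) : Set G) := by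
  have hC : g ∈ normalizer ((centralizer (B : Set G) : Subgroup G) : Set G) := by
    rw [mem_normalizer_iff]
    intro c
    simp only [mem_centralizer_iff, SetLike.mem_coe]
    constructor
    · intro hc x hx
      have := hc (g⁻¹ * x * g) ((mem_normalizer_iff''.mp hB x).mp hx)
      calc x * (g * c * g⁻¹) = g * ((g⁻¹ * x * g) * c) * g⁻¹ := by group
        _ = g * (c * (g⁻¹ * x * g)) * g⁻¹ := by rw [this]
        _ = (g * c * g⁻¹) * x := by group
    · intro hc x hx
      have := hc (g * x * g⁻¹) ((mem_normalizer_iff.mp hB x).mp hx)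
      calc x * c = g⁻¹ * ((g * x * g⁻¹) * (g * c * g⁻¹)) * g := by group
        _ = g⁻¹ * ((g * c * g⁻¹) * (g * x * g⁻¹)) * g := by rw [this]
        _ = c * x := by group
  exact inf_normalizer_le_normalizer_inf ⟨hW, hC⟩

theorem sq_eq_one_of_abelian_offender {G : Type*} [Group G] [Finite G] {V H Q : Subgroup G}
    (h : FFSetup 2 V H Q) {A : Subgroup G} (hAH : A ≤ H) [IsMulCommutative A] (hA2 : IsPGroup 2 A)
    (hbest : ∀ B : Subgroup G, B ≤ A → offMeasure V B ≤ offMeasure V A) : ∀ b ∈ A, b ^ 2 = 1 := by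
  haveI : Fact (Nat.Prime 2) := ⟨Nat.prime_two⟩
  intro b hb
  by_contra hb2
  have hcomm : ∀ x ∈ A, ∀ y ∈ A, x * y = y * x := fun x hx y hy =>
    congrArg Subtype.val (mul_comm' (⟨x, hx⟩ : A) ⟨y, hy⟩)
  have hV := h.ea
  have hAQ : A ≤ normalizer (Q : Set G) := hAH.trans h.Qnorm
  have hAV : A ≤ normalizer (V : Set G) := hAH.trans h.le
  have hb2A : b ^ 2 ∈ A := A.pow_mem hb 2
  -- the square does not centralize `Q`
  have hbQ : ¬ Q ≤ centralizer {b ^ 2} := by
    intro hle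
    refine hb2 (mem_bot.mp (eq_bot_of_coprime_isPGroup hA2 h.Qcop ▸ ?_))
    refine ⟨hb2A, h.Qself ⟨hAH hb2A, mem_centralizer_iff.mpr fun q hq => ?_⟩⟩
    exact mem_centralizer_singleton_iff.mp (hle hq)
  have hcop : (Nat.card A).Coprime (Nat.card Q) := by
    obtain ⟨k, hk⟩ := hA2.exists_card_eq
    rw [hk]; exact h.Qcop.symm.pow_left k
  -- a subgroup with cyclic quotient
  obtain ⟨B₀, hB₀A, a, ha, hgen, hBQ⟩ : ∃ B₀ : Subgroup G, B₀ ≤ A ∧ ∃ a ∈ A, B₀ ⊔ zpowers a = A ∧
      ¬ Q ⊓ centralizer (B₀ : Set G) ≤ centralizer {b ^ 2} := by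
    by_contra hcon
    push Not at hcon
    refine hbQ ((Basics.le_iSup_inf_centralizer_cyclic A Q hAQ hcop).trans (iSup₂_le ?_))
    rintro B ⟨hB, a, ha, hg⟩
    exact hcon B hB a ha hg
  set Q1 := Q ⊓ centralizer (B₀ : Set G) with hQ1
  set B := A ⊓ centralizer (Q1 : Set G) with hB
  have hB₀B : B₀ ≤ B := le_inf hB₀A (le_centralizer_iff.mp inf_le_right)
  have hgenB : B ⊔ zpowers a = A :=
    le_antisymm (sup_le inf_le_left (zpowers_le.mpr ha)) (hgen ▸ sup_le_sup_right hB₀B _)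
  have hQ1B : Q1 ≤ centralizer (B : Set G) := le_centralizer_iff.mp inf_le_right
  have hprod : ∀ x ∈ A, ∃ β ∈ B, ∃ i : ℕ, x = β * a ^ i := by
    intro x hx
    have hn : zpowers a ≤ normalizer (B : Set G) := (zpowers_le.mpr ha).trans fun c hc =>
      centralizer_le_normalizer _ (mem_centralizer_iff.mpr fun β hβ => hcomm β hβ.1 c hc)
    have hx' : x ∈ ((B ⊔ zpowers a : Subgroup G) : Set G) := by rw [hgenB]; exact hx
    rw [coe_mul_of_right_le_normalizer_left _ _ hn] at hx'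
    obtain ⟨β, hβ, c, hc, rfl⟩ := hx'
    obtain ⟨i, rfl⟩ := (mem_powers_iff_mem_zpowers.mpr hc : c ∈ Submonoid.powers a)
    exact ⟨β, hβ, i, rfl⟩
  -- the square of `a` is not in `B`
  have hasq : a * a ∉ B := by
    intro hin
    refine hBQ fun q hq => ?_
    rw [mem_centralizer_singleton_iff]
    suffices b ^ 2 ∈ B from (mem_centralizer_iff.mp this.2 q hq)
    obtain ⟨β, hβ, i, rfl⟩ := hprod b hb
    have hc : Commute β (a ^ i) := hcomm β hβ.1 _ (A.pow_mem ha i)
    rw [hc.mul_pow, ← pow_mul, mul_comm i 2, pow_mul, sq a]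
    exact B.mul_mem (B.pow_mem hβ 2) (B.pow_mem hin i)
  -- the order of `a` modulo `B`
  have hex : ∃ n, a ^ 2 ^ n ∈ B := by
    obtain ⟨k, hk⟩ := hA2 ⟨a, ha⟩
    exact ⟨k, by rw [show a ^ 2 ^ k = 1 from congrArg Subtype.val hk]; exact B.one_mem⟩
  classical
  set n := Nat.find hex with hn
  have hnB : a ^ 2 ^ n ∈ B := Nat.find_spec hex
  have hn2 : 2 ≤ n := by
    by_contra h'
    refine hasq ?_
    rcases (show n = 0 ∨ n = 1 by omega) with h0 | h1
    · rw [h0, pow_zero, pow_one] at hnB; exact B.mul_mem hnB hnB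
    · rw [h1, pow_one, sq] at hnB; exact hnB
  set t := a ^ 2 ^ (n - 1) with ht
  have htA : t ∈ A := A.pow_mem ha _
  have htB : t ∉ B := Nat.find_min hex (show n - 1 < n by omega)
  obtain ⟨x, hx, hxt⟩ : ∃ x ∈ Q1, x * t ≠ t * x := by
    by_contra h'
    push Not at h'
    exact htB ⟨htA, mem_centralizer_iff.mpr h'⟩
  -- the action on the fixed points of `B`
  set U := V ⊓ centralizer (B : Set G) with hU
  have hnormB : ∀ g : G, g ∈ normalizer (V : Set G) → g ∈ normalizer (B : Set G) →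
      g ∈ normalizer (U : Set G) := fun g h1 h2 =>
    normInfCent h1 h2
  have haU : a ∈ normalizer (U : Set G) := hnormB a (hAV ha)
    (centralizer_le_normalizer _ (mem_centralizer_iff.mpr fun β hβ => hcomm β hβ.1 a ha))
  have hQU : Q1 ≤ normalizer (U : Set G) := fun q hq =>
    hnormB q (h.le (h.Qle hq.1)) (centralizer_le_normalizer _ (hQ1B hq))
  have haQ1 : a ∈ normalizer (Q1 : Set G) := normInfCent (hAQ ha)
    (centralizer_le_normalizer _ (mem_centralizer_iff.mpr fun β hβ => hcomm β (hB₀A hβ) a ha))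
  haveI : IsMulCommutative U := ⟨⟨fun u v => Subtype.ext (by
    haveI := hV.1
    show (u : G) * v = v * u
    exact congrArg Subtype.val (mul_comm' (⟨u, u.2.1⟩ : V) ⟨v, v.2.1⟩))⟩⟩
  letI : CommGroup U := { (inferInstance : Group U) with mul_comm := fun u v => mul_comm' u v }
  have h2U : ∀ u : U, u * u = 1 := fun u => Subtype.ext (by
    have := hV.2 u u.2.1
    rwa [sq] at this)
  set ρ : ↥(normalizer (U : Set G)) →* MulAut U := U.normalizerMonoidHom with hρ
  set Qb := (Q1.subgroupOf (normalizer (U : Set G))).map ρ with hQb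
  have hodd : ∀ g ∈ Qb, Odd (orderOf g) := by
    rintro _ ⟨q, hq, rfl⟩
    refine Odd.of_dvd_nat ?_ (orderOf_map_dvd ρ q)
    rw [← Subgroup.orderOf_coe]
    refine Odd.of_dvd_nat ?_ (Subgroup.orderOf_dvd_natCard Q hq.1)
    exact Nat.coprime_two_right.mp h.Qcop
  set a' : ↥(normalizer (U : Set G)) := ⟨a, haU⟩ with ha'
  have haQb : ρ a' ∈ normalizer (Qb : Set (MulAut U)) := by
    refine le_normalizer_map ρ ⟨a', ?_, rfl⟩
    rw [SetLike.mem_coe, mem_normalizer_iff]
    intro q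
    exact mem_normalizer_iff.mp haQ1 (q : G)
  have hρ1 : ∀ g : ↥(normalizer (U : Set G)), ((g : G) ∈ centralizer (U : Set G)) → ρ g = 1 := by
    intro g hg
    refine MulEquiv.ext fun u => Subtype.ext ?_
    show (g : G) * u * (g : G)⁻¹ = u
    rw [← mem_centralizer_iff.mp hg u u.2, mul_inv_cancel_right]
  have han : ρ a' ^ 2 ^ n = 1 := by
    rw [← map_pow]
    exact hρ1 _ (mem_centralizer_iff.mpr fun u hu =>
      ((mem_centralizer_iff.mp hu.2) _ hnB).symm)
  have hmove : ρ a' ^ 2 ^ (n - 1) * ρ ⟨x, hQU hx⟩ ≠ ρ ⟨x, hQU hx⟩ * ρ a' ^ 2 ^ (n - 1) := by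
    rw [← map_pow, ← map_mul, ← map_mul]
    intro he
    set y : G := (t * x * t⁻¹) * x⁻¹ with hy
    have hyQ1 : y ∈ Q1 := by
      refine Q1.mul_mem ((mem_normalizer_iff.mp ?_ x).mp hx) (Q1.inv_mem hx)
      exact pow_mem haQ1 _
    have hyU : ∀ u ∈ U, y * u = u * y := by
      intro u hu
      have hy1 : ρ (a' ^ 2 ^ (n - 1) * ⟨x, hQU hx⟩ * (a' ^ 2 ^ (n - 1))⁻¹ * ⟨x, hQU hx⟩⁻¹) = 1 := by
        simp only [map_mul, map_inv]
        rw [← map_mul, he, map_mul]; group
      have := congrArg Subtype.val (DFunLike.congr_fun hy1 ⟨u, hu⟩)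
      change y * u * y⁻¹ = u at this
      exact mul_inv_eq_iff_eq_mul.mp this
    have hyV : ∀ v ∈ V, Commute y v := by
      refine pq_lemma (p := 2) (P := B) (hA2.to_le inf_le_left) ?_ ?_ (ea_isPGroup hV)
        (inf_le_left.trans hAV) (h.le (h.Qle hyQ1.1)) ?_
      · refine Nat.Coprime.coprime_dvd_left (Subgroup.orderOf_dvd_natCard Q hyQ1.1) h.Qcop
      · exact fun β hβ => ((mem_centralizer_iff.mp (hQ1B hyQ1)) β hβ).symm
      · exact fun r hr hrB => hyU r ⟨hr, mem_centralizer_iff.mpr fun β hβ => (hrB β hβ).eq.symm⟩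
    have hy1 : y = 1 := mem_bot.mp (h.faithful ▸
      (⟨h.Qle hyQ1.1, mem_centralizer_iff.mpr fun v hv => (hyV v hv).eq.symm⟩ :
        y ∈ H ⊓ centralizer (V : Set G)))
    rw [hy, mul_inv_eq_one, mul_inv_eq_iff_eq_mul] at hy1
    exact hxt hy1.symm
  have hbig := Quartic.two_pow_lt_card_range h2U hodd haQb hn2 han
    (mem_map_of_mem ρ (show (⟨x, hQU hx⟩ : ↥(normalizer (U : Set G))) ∈ Q1.subgroupOf _ from hx)) hmove
  -- the counting
  set δ := LocalEvenB.FF.cm (ρ a') with hδ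
  have hcardU : Nat.card U = Nat.card δ.range * Nat.card δ.ker := by
    rw [← Subgroup.index_ker δ, Subgroup.index_mul_card]
  have hker : Nat.card δ.ker ≤ Nat.card ↥(V ⊓ centralizer (A : Set G) : Subgroup G) := by
    refine Nat.card_le_card_of_injective (fun u => ⟨((u : U) : G), (u : U).2.1, ?_⟩) ?_
    · rw [← hgenB]
      refine mem_centralizer_iff.mpr fun y hy => ?_
      have hle : B ⊔ zpowers a ≤ centralizer {((u : U) : G)} := by
        refine sup_le (fun β hβ => mem_centralizer_singleton_iff.mpr ?_) (zpowers_le.mpr ?_)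
        · exact mem_centralizer_iff.mp (u : U).2.2 β hβ
        · have h1 := congrArg Subtype.val (LocalEvenB.FF.cm_eq_one.mp u.2)
          change a * ((u : U) : G) * a⁻¹ = _ at h1
          exact mem_centralizer_singleton_iff.mpr (mul_inv_eq_iff_eq_mul.mp h1)
      exact mem_centralizer_singleton_iff.mp (hle hy)
    · intro u v huv
      exact Subtype.ext (Subtype.ext (congrArg
        (fun z : ↥(V ⊓ centralizer (A : Set G) : Subgroup G) => (z : G)) huv :))
  have hcardA : Nat.card A ≤ Nat.card B * 2 ^ n := by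
    have hs : Function.Surjective (fun z : B × Fin (2 ^ n) =>
        (⟨(z.1 : G) * a ^ (z.2 : ℕ), A.mul_mem z.1.2.1 (A.pow_mem ha _)⟩ : A)) := by
      rintro ⟨y, hy⟩
      obtain ⟨β, hβ, i, rfl⟩ := hprod y hy
      refine ⟨⟨⟨β * (a ^ 2 ^ n) ^ (i / 2 ^ n), B.mul_mem hβ (B.pow_mem hnB _)⟩,
        ⟨i % 2 ^ n, Nat.mod_lt _ (Nat.two_pow_pos n)⟩⟩, Subtype.ext ?_⟩
      show β * (a ^ 2 ^ n) ^ (i / 2 ^ n) * a ^ (i % 2 ^ n) = β * a ^ i
      rw [mul_assoc, ← pow_mul, ← pow_add, Nat.div_add_mod]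
    exact (Nat.card_le_card_of_surjective _ hs).trans (by rw [Nat.card_prod, Nat.card_fin])
  have hm := hbest B inf_le_left
  simp only [offMeasure] at hm
  rw [show Nat.card ↥(V ⊓ centralizer (B : Set G) : Subgroup G) = Nat.card U from rfl, hcardU] at hm
  set c := Nat.card ↥(V ⊓ centralizer (A : Set G) : Subgroup G) with hc
  set k := Nat.card δ.ker with hk
  set r := Nat.card δ.range with hr
  have hrk : r * k ≤ 2 ^ n * c := by
    refine Nat.le_of_mul_le_mul_left (hm.trans ?_) (Nat.card_pos (α := B))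
    rw [← mul_assoc]
    exact Nat.mul_le_mul_right _ hcardA
  have hkc : k ≤ c := hker
  -- the kernel and the fixed points agree
  have hck : c ≤ k := by
    refine Nat.card_le_card_of_injective (fun v => ⟨⟨(v : G), v.2.1, ?_⟩, ?_⟩) ?_
    · exact mem_centralizer_iff.mpr fun β hβ => mem_centralizer_iff.mp v.2.2 β hβ.1
    · refine LocalEvenB.FF.cm_eq_one.mpr (Subtype.ext ?_)
      show a * (v : G) * a⁻¹ = v
      rw [mem_centralizer_iff.mp v.2.2 a ha, mul_inv_cancel_right]
    · intro u v huv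
      exact Subtype.ext (congrArg (fun z : δ.ker => ((z : U) : G)) huv :)
  have : r * k ≤ 2 ^ n * k := hrk.trans (Nat.mul_le_mul_left _ hck)
  exact absurd (Nat.le_of_mul_le_mul_right this Nat.card_pos) (not_le.mpr hbig)

end Cfsg.Agent.Components
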