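import Cfsg.Agent.Lib.Components.FFThompson
import Cfsg.Agent.Lib.Components.Fitting
import Cfsg.Agent.Lib.LocalEvenA.FStarComm

/-!
# The module `Ω₁Z` of a `p`-separable group under its full automorphism group

For a `p`-separable group `G` with trivial `p'`-core let `W` be the join of all `Ω₁(Z(S))`.
The ambient group is `W ⋊ Aut W`; automorphisms of `G` act through restriction, and the image `H`
of `J(G)` satisfies the hypotheses of the failure of factorization analysis.
-/

set_option autoImplicit false
set_option linter.unusedSectionVars false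
set_option linter.style.haveILetI false

namespace Cfsg.Agent.Components

open scoped commutatorElement Pointwise
open Subgroup Cfsg Cfsg.Agent.Transfer

universe u

variable {p : ℕ} [hp : Fact p.Prime] {G : Type u} [Group G] [Finite G]

theorem omegaJoin_map_aut (σ : MulAut G) {w : G} (hw : w ∈ omegaJoin p G) :
    σ w ∈ omegaJoin p G := by
  have h : (omegaJoin p G).map σ.toMonoidHom ≤ omegaJoin p G := by
    rw [omegaJoin, Subgroup.map_iSup]
    refine iSup_le fun S => ?_
    rw [map_omegaZ _ _ σ.injective.injOn]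
    exact le_iSup_of_le (σ • S) le_rfl
  exact h ⟨w, hw, rfl⟩

/-- Restriction of automorphisms of `G` to the module. -/
def autRestrict (p : ℕ) [Fact p.Prime] (G : Type u) [Group G] [Finite G] :
    MulAut G →* MulAut ↥(omegaJoin p G) where
  toFun σ :=
    { toFun := fun w => ⟨σ w, omegaJoin_map_aut σ w.2⟩
      invFun := fun w => ⟨σ⁻¹ w, omegaJoin_map_aut σ⁻¹ w.2⟩
      left_inv := fun w => Subtype.ext (σ.symm_apply_apply (w : G))
      right_inv := fun w => Subtype.ext (σ.apply_symm_apply (w : G))
      map_mul' := fun v w => Subtype.ext (map_mul σ (v : G) (w : G)) }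
  map_one' := rfl
  map_mul' _ _ := rfl

/-- The ambient group of the module. -/
abbrev FFAmb (p : ℕ) (G : Type u) [Group G] : Type u :=
  ↥(omegaJoin p G) ⋊[MonoidHom.id (MulAut ↥(omegaJoin p G))] MulAut ↥(omegaJoin p G)

instance : Finite (FFAmb p G) :=
  Finite.of_equiv _ SemidirectProduct.equivProd.symm

/-- The module inside the ambient group. -/
def ffV (p : ℕ) (G : Type u) [Group G] : Subgroup (FFAmb p G) :=
  (SemidirectProduct.inl : ↥(omegaJoin p G) →* FFAmb p G).range

/-- Automorphisms of `G` as elements of the ambient group. -/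
def ffOp (p : ℕ) [Fact p.Prime] (G : Type u) [Group G] [Finite G] : MulAut G →* FFAmb p G :=
  SemidirectProduct.inr.comp (autRestrict p G)

/-- The image of `J(G)`. -/
def ffH (p : ℕ) [Fact p.Prime] (G : Type u) [Group G] [Finite G] : Subgroup (FFAmb p G) :=
  (thompsonSubgroup p G).map ((ffOp p G).comp MulAut.conj)

/-- The `p'`-core of the image of `J(G)`. -/
def ffQ (p : ℕ) [Fact p.Prime] (G : Type u) [Group G] [Finite G] : Subgroup (FFAmb p G) :=
  (pPrimeCore p ↥(ffH p G)).map (ffH p G).subtype

theorem ffOp_conj_inl (σ : MulAut G) (w : omegaJoin p G) :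
    ffOp p G σ * SemidirectProduct.inl w * (ffOp p G σ)⁻¹ =
      SemidirectProduct.inl ⟨σ (w : G), omegaJoin_map_aut σ w.2⟩ := by
  rw [ffOp, MonoidHom.comp_apply, ← map_inv, ← SemidirectProduct.inl_aut]
  rfl

theorem ffOp_mem_normalizer_ffV (σ : MulAut G) :
    ffOp p G σ ∈ normalizer (ffV p G : Set (FFAmb p G)) := by
  have : (ffV p G).Normal := by
    rw [ffV, SemidirectProduct.range_inl_eq_ker_rightHom]
    exact MonoidHom.normal_ker _
  rw [normalizer_eq_top]; trivial

theorem ffOp_conj_eq_one_iff {g : G} :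
    ffOp p G (MulAut.conj g) = 1 ↔ g ∈ centralizer (omegaJoin p G : Set G) := by
  rw [ffOp, MonoidHom.comp_apply]
  constructor
  · intro h w hw
    have h1 : autRestrict p G (MulAut.conj g) = 1 :=
      SemidirectProduct.inr_injective (h.trans (map_one _).symm)
    have h2 : g * w * g⁻¹ = w :=
      congrArg Subtype.val (DFunLike.congr_fun h1 (⟨w, hw⟩ : omegaJoin p G))
    exact (mul_inv_eq_iff_eq_mul.mp h2).symm
  · intro h
    rw [show autRestrict p G (MulAut.conj g) = 1 from MulEquiv.ext fun w => Subtype.ext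
      (show g * w * g⁻¹ = w by rw [← h w w.2, mul_inv_cancel_right]), map_one]

theorem ffH_normalized (σ : MulAut G) :
    ffOp p G σ ∈ normalizer (ffH p G : Set (FFAmb p G)) := by
  refine mem_normalizer_of_map_conj_eq
    (eq_of_le_of_card_ge ?_ (card_map_of_injective (MulAut.conj _).injective).ge)
  rintro _ ⟨_, ⟨j, hj, rfl⟩, rfl⟩
  haveI := Transfer.thompsonSubgroup_characteristic (p := p) (G := G)
  refine ⟨σ j, (Subgroup.characteristic_iff_map_le.mp ‹_›) σ ⟨j, hj, rfl⟩, ?_⟩
  show ffOp p G (MulAut.conj (σ j)) = ffOp p G σ * ffOp p G (MulAut.conj j) * (ffOp p G σ)⁻¹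
  rw [← map_inv, ← map_mul, ← map_mul]
  congr 1
  ext x
  simp

theorem ffQ_normalized (σ : MulAut G) :
    ffOp p G σ ∈ normalizer (ffQ p G : Set (FFAmb p G)) :=
  LocalEvenA.normalizer_le_normalizer_map_char (pPrimeCore p ↥(ffH p G))
    (ffH_normalized σ)

/-- The failure of factorization setup for `J(G)` acting on the module. -/
theorem ffSetup_model (hsep : IsPSolvable p G) (hO : pPrimeCore p G = ⊥) :
    FFSetup p (ffV p G) (ffH p G) (ffQ p G) ∧
      ffH p G = (⨆ A : {A : Subgroup (FFAmb p G) // A ≤ ffH p G ∧ IsBestOffenderOn p (ffV p G) A},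
        (A : Subgroup (FFAmb p G))) ∧
      (¬ IsThompsonFactorizable p G → ∃ b, FFT p (ffV p G) (ffH p G) b) := by
  set W := omegaJoin p G with hWdef
  haveI hWn : W.Normal := omegaJoin_normal
  have hcp := centralizer_pCore_le_of_pSolvable hO (isPSolvable_subgroup' hsep _)
  obtain ⟨-, hea, -⟩ := S0601.result hcp
  change IsElementaryAbelian p W at hea
  set C := centralizer (W : Set G) with hCdef
  haveI hCn : C.Normal := inferInstance
  have hgen : W = ⨆ S : Sylow p G, W ⊓ centralizer ((S : Subgroup G) : Set G) :=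
    le_antisymm (iSup_le fun S => le_iSup_of_le S (le_inf
      (le_iSup (fun S : Sylow p G => omegaZ p (S : Subgroup G)) S)
      ((omegaZ_le _).trans inf_le_right))) (iSup_le fun S => inf_le_left)
  have hOq : pCore p (G ⧸ C) = ⊥ := S0600.result W hea hgen
  set π : G →* FFAmb p G := (ffOp p G).comp MulAut.conj with hπ
  have hker : π.ker = C := by
    ext g
    exact ffOp_conj_eq_one_iff
  have hVea : IsElementaryAbelian p (ffV p G) := by
    have h1 := ea_map (p := p) (f := (SemidirectProduct.inl : ↥W →* FFAmb p G))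
      (A := ⊤) (ea_of_map W.subtype W.subtype_injective.injOn
        (by rwa [← MonoidHom.range_eq_map, range_subtype]))
    rwa [← MonoidHom.range_eq_map] at h1
  have hfixmem : ∀ (B : Subgroup G) (w : W),
      (SemidirectProduct.inl w : FFAmb p G) ∈ centralizer (B.map π : Set (FFAmb p G)) ↔
      (w : G) ∈ centralizer (B : Set G) := by
    intro B w
    have hc : ∀ b : G, π b * SemidirectProduct.inl w * (π b)⁻¹ = SemidirectProduct.inl w ↔
        b * w * b⁻¹ = (w : G) := fun b => by
      show ffOp p G (MulAut.conj b) * SemidirectProduct.inl w * (ffOp p G (MulAut.conj b))⁻¹ =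
        SemidirectProduct.inl w ↔ _
      rw [ffOp_conj_inl]
      exact ⟨fun h => congrArg Subtype.val (SemidirectProduct.inl_injective h),
        fun h => congrArg _ (Subtype.ext h)⟩
    constructor
    · intro h b hb
      have h2 := (hc b).mp (by rw [h _ (mem_map_of_mem π hb), mul_inv_cancel_right])
      exact mul_inv_eq_iff_eq_mul.mp h2
    · rintro h _ ⟨b, hb, rfl⟩
      exact mul_inv_eq_iff_eq_mul.mp ((hc b).mpr (mul_inv_eq_iff_eq_mul.mpr (h b hb)))
  have hmeas : ∀ B : Subgroup G,
      offMeasure W B = Nat.card ↥(C ⊓ B : Subgroup G) * offMeasure (ffV p G) (B.map π) := by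
    intro B
    have e1 : Nat.card B = Nat.card ↥(C ⊓ B : Subgroup G) * Nat.card ↥(B.map π) := by
      have h1 := card_mul_index (C.subgroupOf B)
      have h2 : (C.subgroupOf B).index = Nat.card ↥(B.map π) := by
        show C.relIndex B = _
        rw [← hker, relIndex_ker]
      rw [h2, ← inf_subgroupOf_right, Basics.card_subgroupOf inf_le_right] at h1
      exact h1.symm
    have e2 : Nat.card ↥(W ⊓ centralizer (B : Set G) : Subgroup G) =
        Nat.card ↥(ffV p G ⊓ centralizer (B.map π : Set (FFAmb p G))) := by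
      refine Nat.card_congr (Equiv.ofBijective
        (fun w => ⟨SemidirectProduct.inl ⟨w.1, w.2.1⟩, ⟨⟨_, rfl⟩, (hfixmem B _).mpr w.2.2⟩⟩) ?_)
      constructor
      · intro u v h
        have h1 := SemidirectProduct.inl_injective (congrArg Subtype.val h)
        exact Subtype.ext (congrArg Subtype.val h1 :)
      · rintro ⟨x, ⟨w, rfl⟩, hx⟩
        exact ⟨⟨w, w.2, (hfixmem B w).mp hx⟩, rfl⟩
    rw [offMeasure, offMeasure, e1, e2, mul_assoc]
  set J := thompsonSubgroup p G with hJdef
  haveI hJn : J.Normal := by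
    haveI := Transfer.thompsonSubgroup_characteristic (p := p) (G := G)
    infer_instance
  have hH : ffH p G = J.map π := rfl
  have hle : ffH p G ≤ normalizer (ffV p G : Set (FFAmb p G)) := by
    rintro _ ⟨j, -, rfl⟩
    exact ffOp_mem_normalizer_ffV _
  have hf : ffH p G ⊓ centralizer (ffV p G : Set (FFAmb p G)) = ⊥ := by
    rw [eq_bot_iff]
    rintro x ⟨⟨g, -, rfl⟩, hx⟩
    refine mem_bot.mpr ?_
    show g ∈ π.ker
    rw [hker]
    intro w hw
    have h1 := ffOp_conj_inl (p := p) (MulAut.conj g) ⟨w, hw⟩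
    rw [show ffOp p G (MulAut.conj g) = π g from rfl,
      ← show SemidirectProduct.inl (⟨w, hw⟩ : W) * π g = π g * SemidirectProduct.inl ⟨w, hw⟩ from
        hx _ ⟨_, rfl⟩, mul_inv_cancel_right] at h1
    have h2 : w = g * w * g⁻¹ := congrArg Subtype.val (SemidirectProduct.inl_injective h1)
    exact eq_mul_inv_iff_mul_eq.mp h2
  have hS1 : centralizer (pPrimeCore p ↥(ffH p G) : Set ↥(ffH p G)) ≤
      pPrimeCore p ↥(ffH p G) := by
    let e0 : G ⧸ C ≃* π.range :=
      (QuotientGroup.quotientMulEquivOfEq hker.symm).trans (QuotientGroup.quotientKerEquivRange π)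
    have hOr : pCore p ↥π.range = ⊥ := by rw [← map_pCore_equiv e0, hOq, Subgroup.map_bot]
    have hsr : IsPSolvable p ↥π.range :=
      Coprime23.isPSolvable_map π.rangeRestrict π.rangeRestrict_surjective hsep
    set H0 := J.map π.rangeRestrict
    have hH0n : H0.Normal := hJn.map _ π.rangeRestrict_surjective
    have hmap : H0.map π.range.subtype = ffH p G := by
      rw [hH, map_map]; rfl
    have e : ↥H0 ≃* ↥(ffH p G) :=
      (equivMapOfInjective H0 _ π.range.subtype_injective).trans (MulEquiv.subgroupCongr hmap)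
    have hsepH : IsPSolvable p ↥(ffH p G) :=
      Coprime23.isPSolvable_map e.toMonoidHom e.surjective (isPSolvable_subgroup' hsr H0)
    refine centralizer_pPrimeCore_le hsepH ?_
    haveI := hH0n
    have h1 : pCore p ↥H0 = ⊥ :=
      LocalEvenA.pCore_subnormal_eq_bot (isSubnormal_of_normal H0) hOr
    rw [← map_pCore_equiv e, h1, Subgroup.map_bot]
  have hbest : ∀ A ∈ maxElementaryAbelianSubgroups p G,
      IsBestOffenderOn p (ffV p G) (A.map π) := by
    intro A hA
    have hAb := S0606.result W hea A hA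
    refine ⟨fun B hB => ?_, ?_, fun x hx => ?_⟩
    · set B' := B.comap π ⊓ A
      have hB'q : B'.map π = B := by
        refine le_antisymm ((map_mono inf_le_left).trans (map_comap_le _ _)) fun y hy => ?_
        obtain ⟨a, ha, e⟩ := hB hy
        exact ⟨a, ⟨show π a ∈ B by rw [e]; exact hy, ha⟩, e⟩
      have hCB : C ⊓ B' = C ⊓ A := by
        refine le_antisymm (inf_le_inf_left _ inf_le_right) fun x hx => ⟨hx.1, ?_, hx.2⟩
        show π x ∈ B
        rw [show π x = 1 from hker.ge hx.1]
        exact one_mem _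
      have h1 := offMeasure_le_of_isBestOffenderOn hAb B' inf_le_right
      rw [hmeas, hmeas, hCB, hB'q] at h1
      exact Nat.le_of_mul_le_mul_left h1 (card_pos' _)
    · rw [← map_commutator]
      rintro _ ⟨z, hz, rfl⟩
      rw [show π z = 1 from hker.ge (hAb.2.1 hz)]
      exact one_mem _
    · obtain ⟨z, hz, rfl⟩ := hx
      rw [← map_pow, show π (z ^ p) = 1 from hker.ge (hAb.2.2 z hz)]
      exact one_mem _
  have hS3 : ffH p G = ⨆ A : {A : Subgroup (FFAmb p G) // A ≤ ffH p G ∧
      IsBestOffenderOn p (ffV p G) A}, (A : Subgroup (FFAmb p G)) := by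
    refine le_antisymm ?_ (iSup_le fun A => A.2.1)
    rw [hH]
    show (sSup (maxElementaryAbelianSubgroups p G)).map π ≤ _
    rw [map_le_iff_le_comap, sSup_le_iff]
    intro A hA
    rw [← map_le_iff_le_comap]
    exact le_iSup_of_le ⟨_, map_mono (le_sSup hA), hbest A hA⟩ le_rfl
  have hset : FFSetup p (ffV p G) (ffH p G) (ffQ p G) := FFSetup.of_hyp hVea hle hf hS1
  refine ⟨hset, hS3, fun hnf => ?_⟩
  have hJC : ¬ J ≤ C := fun h => hnf ((S0608.result hO).mpr h)
  by_contra hno
  push Not at hno
  refine hJC ?_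
  have h1 : ffH p G = ⊥ := le_bot_iff.mp ((hset.le_closure_transv hS3).trans
    ((closure_le _).mpr fun b hb => absurd hb (hno b)))
  rw [hH, Subgroup.map_eq_bot_iff, hker] at h1
  exact h1

end Cfsg.Agent.Components
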