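import Cfsg.Agent.Lib.Components.FFFixed
import Cfsg.Agent.Lib.Components.FFAutModel
import Cfsg.Agent.Lib.Basics.CoprimeAction

/-!
# A coprime operator group on a `p`-separable group with failure of factorization
-/

set_option autoImplicit false
set_option linter.unusedSectionVars false
set_option linter.style.haveILetI false

namespace Cfsg.Agent.Components

open scoped commutatorElement MatrixGroups
open Subgroup Cfsg Cfsg.Agent.Transfer

universe u

variable {G : Type u} [Group G] [Finite G] {p : ℕ} [hp : Fact p.Prime] {q : ℕ} [hq : Fact q.Prime]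

/-- For each factor of `J(K)` a coprime abelian operator group centralises a plane and a group
inducing `SL(2,p)` on it which projects onto the factor. -/
theorem exists_fixed_lift (K X : Subgroup G) (hXK : X ≤ normalizer (K : Set G))
    (hX : IsElementaryAbelian q X) (hqK : ¬ q ∣ Nat.card K) (hsep : IsPSolvable p ↥K)
    (hO : pPrimeCore p ↥K = ⊥) {a : FFAmb p ↥K} (ha : FFT p (ffV p ↥K) (ffH p ↥K) a) :
    (p = 2 ∨ p = 3) ∧ ∃ W D : Subgroup G, W ≤ K ⊓ centralizer (X : Set G) ∧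
      D ≤ K ⊓ centralizer (X : Set G) ∧ IsElementaryAbelian p W ∧ Nat.card W = p ^ 2 ∧
      D ≤ normalizer (W : Set G) ∧
      (∃ hn : ((centralizer (W : Set G)).subgroupOf D).Normal,
        Nonempty ((↥D ⧸ (centralizer (W : Set G)).subgroupOf D) ≃* SL(2, ZMod p))) ∧
      ∀ l ∈ FFT.factor (ffQ p ↥K) a, ∃ d : K, (d : G) ∈ D ∧
        ∃ c ∈ centralizer (FFT.factor (ffQ p ↥K) a : Set (FFAmb p ↥K)),
          ffOp p ↥K (MulAut.conj d) = l * c := by
  obtain ⟨hset, hS3, -⟩ := ffSetup_model (G := ↥K) hsep hO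
  haveI : IsMulCommutative X := hX.1
  let β : ↥X →* MulAut ↥K := K.normalizerMonoidHom.comp (Subgroup.inclusion hXK)
  let μ : ↥X →* FFAmb p ↥K := (ffOp p ↥K).comp β
  have hXq : IsPGroup q X := fun x => ⟨1, Subtype.ext (by
    rw [pow_one, SubgroupClass.coe_pow, OneMemClass.coe_one, hX.2 x x.2])⟩
  haveI : IsMulCommutative μ.range := ⟨⟨by
    rintro ⟨_, x, rfl⟩ ⟨_, y, rfl⟩
    exact Subtype.ext (by
      show μ x * μ y = μ y * μ x
      rw [← map_mul, ← map_mul, IsMulCommutative.is_comm.comm x y])⟩⟩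
  have hμq : IsPGroup q μ.range := hXq.of_surjective μ.rangeRestrict μ.rangeRestrict_surjective
  have hqH : ¬ q ∣ Nat.card (ffH p ↥K) := fun h =>
    hqK (h.trans (((thompsonSubgroup p ↥K).card_map_dvd
      ((ffOp p ↥K).comp MulAut.conj)).trans (card_subgroup_dvd_card _)))
  obtain ⟨hsmall, Wt, Lt, hWt, hWtc, hLt, hLtn, hLtf, ⟨eLt⟩, hfac⟩ :=
    exists_fixed_factor hset hS3 μ.range
      (by rintro _ ⟨x, rfl⟩; exact ffOp_mem_normalizer_ffV _)
      (by rintro _ ⟨x, rfl⟩; exact ffH_normalized _)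
      (by rintro _ ⟨x, rfl⟩; exact ffQ_normalized _) hμq hqH ha
  refine ⟨hsmall, ?_⟩
  let π : ↥K →* FFAmb p ↥K := (ffOp p ↥K).comp MulAut.conj
  have hπ : ∀ (k : K) (w : omegaJoin p ↥K), π k * SemidirectProduct.inl w * (π k)⁻¹ =
      SemidirectProduct.inl ⟨k * w * k⁻¹, omegaJoin_map_aut (MulAut.conj k) w.2⟩ := fun k w =>
    ffOp_conj_inl (MulAut.conj k) w
  -- the plane
  let ι : ↥(omegaJoin p ↥K) →* G := K.subtype.comp (omegaJoin p ↥K).subtype
  have hιinj : Function.Injective ι := K.subtype_injective.comp (omegaJoin p ↥K).subtype_injective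
  set Wi : Subgroup (omegaJoin p ↥K) :=
    Wt.comap (SemidirectProduct.inl : ↥(omegaJoin p ↥K) →* FFAmb p ↥K) with hWi
  have hWtV : Wt ≤ ffV p ↥K := hWt.trans inf_le_left
  have hWimap : Wi.map (SemidirectProduct.inl : ↥(omegaJoin p ↥K) →* FFAmb p ↥K) = Wt :=
    map_comap_eq_self hWtV
  have hfixX : ∀ w ∈ Wi, ∀ x ∈ X, x * ι w * x⁻¹ = ι w := by
    intro w hw x hx
    have h1 := (hWt hw).2 (μ ⟨x, hx⟩) ⟨_, rfl⟩
    have h2 := ffOp_conj_inl (p := p) (β ⟨x, hx⟩) w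
    rw [show ffOp p ↥K (β ⟨x, hx⟩) = μ ⟨x, hx⟩ from rfl, h1, mul_inv_cancel_right] at h2
    exact (congrArg ι (SemidirectProduct.inl_injective h2)).symm
  -- the group inducing `SL(2,p)`
  set C0 : Subgroup G := (centralizer (omegaJoin p ↥K : Set ↥K)).map K.subtype with hC0
  let D : Subgroup G := ((Lt.comap π).map K.subtype) ⊓ centralizer (X : Set G)
  have hDK : D ≤ K := inf_le_left.trans (map_subtype_le _)
  have hDmem : ∀ {d : G} (hd : d ∈ D), π ⟨d, hDK hd⟩ ∈ Lt := by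
    intro d hd
    obtain ⟨j, hj, e⟩ := hd.1
    rw [show (⟨d, hDK hd⟩ : K) = j from Subtype.ext e.symm]
    exact hj
  have hlift : ∀ u ∈ Lt, ∃ d : K, (d : G) ∈ D ∧ π d = u := by
    intro u hu
    obtain ⟨j, -, rfl⟩ := (hLt hu).1
    have hfix : ∀ x ∈ X, x * (j : G) * x⁻¹ * (j : G)⁻¹ ∈ C0 := by
      intro x hx
      refine ⟨β ⟨x, hx⟩ j * j⁻¹, ?_, rfl⟩
      refine (ffOp_conj_eq_one_iff (p := p)).mp ?_
      have h1 : ffOp p ↥K (β ⟨x, hx⟩) * π j * (ffOp p ↥K (β ⟨x, hx⟩))⁻¹ = π j := by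
        rw [show ffOp p ↥K (β ⟨x, hx⟩) * π j = π j * ffOp p ↥K (β ⟨x, hx⟩) from
          (hLt hu).2 _ ⟨_, rfl⟩, mul_inv_cancel_right]
      have h2 : ffOp p ↥K (MulAut.conj (β ⟨x, hx⟩ j)) = π j := by
        rw [← h1]
        show _ = ffOp p ↥K (β ⟨x, hx⟩) * ffOp p ↥K (MulAut.conj j) * _
        rw [← map_inv, ← map_mul, ← map_mul]
        congr 1
        ext y
        simp
      show π (β ⟨x, hx⟩ j * j⁻¹) = 1
      rw [map_mul, map_inv, show π (β ⟨x, hx⟩ j) = π j from h2, mul_inv_cancel]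
    have hC0K : C0 ≤ K := map_subtype_le _
    have hKN : K ≤ normalizer (C0 : Set G) := by
      haveI : (omegaJoin p ↥K).Normal := omegaJoin_normal
      intro k hk
      refine mem_normalizer_of_map_conj_eq
        (eq_of_le_of_card_ge ?_ (card_map_of_injective (MulAut.conj k).injective).ge)
      rintro _ ⟨_, ⟨c, hc, rfl⟩, rfl⟩
      exact ⟨⟨k, hk⟩ * c * ⟨k, hk⟩⁻¹, (inferInstance :
        (centralizer (omegaJoin p ↥K : Set ↥K)).Normal).conj_mem c hc _, rfl⟩
    have hXN : X ≤ normalizer (C0 : Set G) := by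
      intro x hx
      refine mem_normalizer_of_map_conj_eq
        (eq_of_le_of_card_ge ?_ (card_map_of_injective (MulAut.conj x).injective).ge)
      rintro _ ⟨_, ⟨c, hc, rfl⟩, rfl⟩
      refine ⟨β ⟨x, hx⟩ c, fun w hw => ?_, rfl⟩
      obtain ⟨v, hv, rfl⟩ : ∃ v ∈ omegaJoin p ↥K, β ⟨x, hx⟩ v = w :=
        ⟨(β ⟨x, hx⟩).symm w, omegaJoin_map_aut (β ⟨x, hx⟩).symm hw, MulEquiv.apply_symm_apply _ _⟩
      rw [← map_mul, ← map_mul, hc v hv]
    have hcop : (Nat.card X).Coprime (Nat.card K) := by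
      obtain ⟨n, hn⟩ := hXq.exists_card_eq
      rw [hn]
      exact (hq.out.coprime_iff_not_dvd.mpr hqK).pow_left n
    obtain ⟨c, hc, hcN⟩ := Basics.exists_inf_centralizer_mem_coset X K C0 hC0K hKN hXN hcop
      (Or.inl (Group.isSolvable_of_comm fun a b => IsMulCommutative.is_comm.comm a b)) (j : G) j.2
      hfix
    obtain ⟨z, hz, e⟩ := hcN
    have hπc : π ⟨c, hc.1⟩ = π j := by
      have e1 : (⟨c, hc.1⟩ : K) = j * z := Subtype.ext (by
        show c = (j : G) * (z : G)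
        rw [show (z : G) = (j : G)⁻¹ * c from e, mul_inv_cancel_left])
      rw [e1, map_mul, show π z = 1 from (ffOp_conj_eq_one_iff (p := p)).mpr hz, mul_one]
    exact ⟨⟨c, hc.1⟩, mem_inf.mpr ⟨⟨⟨c, hc.1⟩, (show π ⟨c, hc.1⟩ ∈ Lt by rw [hπc]; exact hu), rfl⟩,
      hc.2⟩, hπc⟩
  have hconj : ∀ {d : G} (hd : d ∈ D), ∀ w ∈ Wi, ∃ w' ∈ Wi, d * ι w * d⁻¹ = ι w' ∧
      π ⟨d, hDK hd⟩ * SemidirectProduct.inl w * (π ⟨d, hDK hd⟩)⁻¹ = SemidirectProduct.inl w' := by
    intro d hd w hw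
    refine ⟨_, ?_, rfl, hπ ⟨d, hDK hd⟩ w⟩
    show SemidirectProduct.inl _ ∈ Wt
    rw [← hπ ⟨d, hDK hd⟩ w]
    exact (Basics.conj_mem_iff_of_mem_normalizer (hLtn (hDmem hd))).mpr hw
  have hDn : D ≤ normalizer (Wi.map ι : Set G) := by
    intro d hd
    refine mem_normalizer_of_map_conj_eq
      (eq_of_le_of_card_ge ?_ (card_map_of_injective (MulAut.conj d).injective).ge)
    rintro _ ⟨_, ⟨w, hw, rfl⟩, rfl⟩
    obtain ⟨w', hw', e, -⟩ := hconj hd w hw
    exact ⟨w', hw', e.symm⟩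
  have hcard : Nat.card ↥(Wi.map ι) = p ^ 2 := by
    rw [card_map_of_injective hιinj, ← card_map_of_injective
      (SemidirectProduct.inl_injective : Function.Injective
        (SemidirectProduct.inl : ↥(omegaJoin p ↥K) →* FFAmb p ↥K)), hWimap, hWtc]
  have hWtea : IsElementaryAbelian p (Wi.map (SemidirectProduct.inl :
      ↥(omegaJoin p ↥K) →* FFAmb p ↥K)) := by
    rw [hWimap]
    exact ⟨⟨⟨fun x y => Subtype.ext (congrArg Subtype.val
      (hset.ea.1.is_comm.comm ⟨x, hWtV x.2⟩ ⟨y, hWtV y.2⟩) :)⟩⟩, fun x hx => hset.ea.2 x (hWtV hx)⟩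
  have hWiea : IsElementaryAbelian p Wi :=
    ea_of_map _ SemidirectProduct.inl_injective.injOn hWtea
  haveI hn : ((centralizer (Wi.map ι : Set G)).subgroupOf D).Normal :=
    normal_subgroupOf_of_le_normalizer (hDn.trans (normalizer_le_normalizer_centralizer' _))
  refine ⟨Wi.map ι, D, ?_, le_inf hDK inf_le_right, ea_map hWiea ι, hcard, hDn, ⟨hn, ?_⟩, ?_⟩
  · rintro _ ⟨w, hw, rfl⟩
    refine mem_inf.mpr ⟨((w : K)).2, fun x hx => ?_⟩
    exact mul_inv_eq_iff_eq_mul.mp (hfixX w hw x hx)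
  · let f : ↥D →* ↥Lt :=
      { toFun := fun d => ⟨π ⟨d, hDK d.2⟩, hDmem d.2⟩
        map_one' := Subtype.ext (map_one π)
        map_mul' := fun x y => Subtype.ext (map_mul π ⟨x, hDK x.2⟩ ⟨y, hDK y.2⟩) }
    have hfs : Function.Surjective f := by
      intro u
      obtain ⟨d, hd, e⟩ := hlift u u.2
      exact ⟨⟨d, hd⟩, Subtype.ext e⟩
    have hker : f.ker = (centralizer (Wi.map ι : Set G)).subgroupOf D := by
      ext d
      rw [MonoidHom.mem_ker, mem_subgroupOf]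
      constructor
      · rintro h _ ⟨w, hw, rfl⟩
        obtain ⟨w', -, e, e'⟩ := hconj d.2 w hw
        rw [show π ⟨d, hDK d.2⟩ = 1 from congrArg Subtype.val h, one_mul, inv_one, mul_one] at e'
        rw [SemidirectProduct.inl_injective e'] at e ⊢
        exact (mul_inv_eq_iff_eq_mul.mp e).symm
      · intro h
        refine Subtype.ext (mem_bot.mp (hLtf.le ⟨hDmem d.2, ?_⟩))
        rintro v hv
        obtain ⟨w, hw, rfl⟩ := hWimap.ge hv
        obtain ⟨w', -, e, e'⟩ := hconj d.2 w hw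
        rw [← h _ ⟨w, hw, rfl⟩, mul_inv_cancel_right] at e
        rw [← hιinj e] at e'
        exact (mul_inv_eq_iff_eq_mul.mp e').symm
    exact ⟨((QuotientGroup.quotientMulEquivOfEq hker.symm).trans
      (QuotientGroup.quotientKerEquivOfSurjective f hfs)).trans eLt⟩
  · intro l hl
    obtain ⟨u, hu, c, hc, e⟩ := hfac l hl
    obtain ⟨d, hd, e'⟩ := hlift u hu
    exact ⟨d, hd, c, hc, e'.trans e⟩

end Cfsg.Agent.Components
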