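import Cfsg.Agent.Lib.Components.FFTransv
import Cfsg.Agent.Lib.FGS.Subnormal
import Cfsg.Agent.Lib.LocalEvenA.FStarComm

/-!
# Subnormal pairs acting irreducibly on incomparable commutator modules
-/

set_option autoImplicit false
set_option linter.unusedSectionVars false
set_option linter.style.haveILetI false

namespace Cfsg.Agent.Components

open scoped commutatorElement Pointwise
open Subgroup Cfsg Cfsg.Agent.Transfer Cfsg.Agent.FGS.Subn

variable {G : Type*} [Group G] {p : ℕ}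

/-- Hypotheses on a subnormal pair. -/
structure SubPair (p : ℕ) (V E E₁ E₂ : Subgroup G) : Prop where
  gen : E = E₁ ⊔ E₂
  s₁ : SN E₁ E
  s₂ : SN E₂ E
  irr₁ : ∀ U : Subgroup G, U ≤ ⁅V, E₁⁆ → E₁ ≤ normalizer (U : Set G) → U = ⊥ ∨ U = ⁅V, E₁⁆
  irr₂ : ∀ U : Subgroup G, U ≤ ⁅V, E₂⁆ → E₂ ≤ normalizer (U : Set G) → U = ⊥ ∨ U = ⁅V, E₂⁆
  h12 : ¬ ⁅V, E₁⁆ ≤ ⁅V, E₂⁆
  h21 : ¬ ⁅V, E₂⁆ ≤ ⁅V, E₁⁆
  c₁ : 2 < Nat.card E₁
  c₂ : 2 < Nat.card E₂

/-- The conclusion for a subnormal pair. -/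
def SubPairSplit (V E₁ E₂ : Subgroup G) : Prop :=
  ⁅E₁, E₂⁆ = ⊥ ∧ ⁅V, E₁⁆ ⊓ ⁅V, E₂⁆ = ⊥

theorem SubPair.symm {V E E₁ E₂ : Subgroup G} (h : SubPair p V E E₁ E₂) : SubPair p V E E₂ E₁ :=
  ⟨by rw [h.gen, sup_comm], h.s₂, h.s₁, h.irr₂, h.irr₁, h.h21, h.h12, h.c₂, h.c₁⟩

theorem SubPairSplit.symm {V E₁ E₂ : Subgroup G} (h : SubPairSplit V E₁ E₂) :
    SubPairSplit V E₂ E₁ :=
  ⟨by rw [commutator_comm]; exact h.1, by rw [inf_comm]; exact h.2⟩

variable [Finite G] [hp : Fact p.Prime]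

theorem eq_bot_of_subnormal_isPGroup {E T : Subgroup G} (hO : pCore p ↥E = ⊥) (hT : SN T E)
    (hp : IsPGroup p T) : T = ⊥ := by
  have h1 := LocalEvenA.subnormal_le_pCore (p := p) hT.2
    (hp.of_equiv (subgroupOfEquivOfLe hT.1).symm)
  rw [hO, le_bot_iff, subgroupOf_eq_bot] at h1
  exact (inf_eq_left.mpr hT.1) ▸ h1.eq_bot

theorem eq_bot_of_chain {V W E D : Subgroup G} (hV : IsElementaryAbelian p V)
    (hEV : E ≤ normalizer (V : Set G)) (hf : E ⊓ centralizer (V : Set G) = ⊥)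
    (hO : pCore p ↥E = ⊥) (hD : SN D E) (hW : W ≤ V)
    (h1 : ∀ d ∈ D, ∀ v ∈ V, ⁅v, d⁆ ∈ W) (h2 : D ≤ centralizer (W : Set G)) : D = ⊥ := by
  refine eq_bot_of_subnormal_isPGroup hO hD fun d => ⟨1, Subtype.ext ?_⟩
  rw [pow_one, SubmonoidClass.coe_pow, OneMemClass.coe_one, ← mem_bot, ← hf]
  refine ⟨pow_mem (hD.1 d.2) p, pow_mem_centralizer_of_chain hV (hEV (hD.1 d.2)) fun v hv => ?_⟩
  have h : ⁅(d : G), v⁆ ∈ W := by
    rw [← commutatorElement_inv]; exact inv_mem (h1 d d.2 v hv)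
  exact (h2 d.2 _ h).symm

/-- If `E₂` preserves `[V,E₁]` the pair splits. -/
theorem SubPair.split_of_normalizes {V E E₁ E₂ : Subgroup G} (hV : IsElementaryAbelian p V)
    (hEV : E ≤ normalizer (V : Set G)) (hf : E ⊓ centralizer (V : Set G) = ⊥)
    (hO : pCore p ↥E = ⊥) (h : SubPair p V E E₁ E₂)
    (hn : E₂ ≤ normalizer ((⁅V, E₁⁆ : Subgroup G) : Set G)) : SubPairSplit V E₁ E₂ := by
  set W1 := ⁅V, E₁⁆ with hW1d
  set W2 := ⁅V, E₂⁆ with hW2d
  have hE1 : E₁ ≤ normalizer (V : Set G) := h.s₁.1.trans hEV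
  have hE2 : E₂ ≤ normalizer (V : Set G) := h.s₂.1.trans hEV
  have hW1 : W1 ≤ V := le_normalizer_iff_commutator_le_left.mp hE1
  have hU : W1 ⊓ W2 = ⊥ := by
    rcases h.irr₂ (W1 ⊓ W2) inf_le_right
      ((le_inf hn (normalizer_commutator_ge_right V E₂)).trans
        inf_normalizer_le_normalizer_inf) with e | e
    · exact e
    · exact absurd (inf_eq_right.mp e) h.h21
  have hc : ⁅W1, E₂⁆ = ⊥ := le_bot_iff.mp (hU ▸ le_inf
    (le_normalizer_iff_commutator_le_left.mp hn) (commutator_mono hW1 le_rfl))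
  refine ⟨?_, hU⟩
  have hW2c : E₂ ≤ centralizer (W1 : Set G) :=
    commutator_eq_bot_iff_le_centralizer.mp (by rw [commutator_comm]; exact hc)
  have hE1W : ∀ x ∈ E₁, x ∈ normalizer (W1 : Set G) := fun x hx =>
    normalizer_commutator_ge_right V E₁ hx
  have hN : ⁅E₁, E₂⁆ ≤ centralizer (W1 : Set G) := by
    rw [Subgroup.commutator_le]
    intro x hx y hy
    rw [commutatorElement_def]
    refine mul_mem ?_ (inv_mem (hW2c hy))
    intro w hw
    have h1 := hW2c hy _ ((Basics.conj_mem_iff_of_mem_normalizer (inv_mem (hE1W x hx))).mpr hw)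
    calc w * (x * y * x⁻¹) = x * ((x⁻¹ * w * x⁻¹⁻¹) * y) * x⁻¹ := by group
      _ = x * (y * (x⁻¹ * w * x⁻¹⁻¹)) * x⁻¹ := by rw [h1]
      _ = x * y * x⁻¹ * w := by group
  have hst : ⁅E₁, E₂⁆ ≤ chainStab V W1 := by
    have h1 : E₁ ≤ chainStab V W1 := fun x hx =>
      ⟨hE1W x hx, fun v hv => commutator_mem_commutator hv hx⟩
    rw [Subgroup.commutator_le]
    intro x hx y hy
    rw [commutatorElement_def, show x * y * x⁻¹ * y⁻¹ = x * (y * x⁻¹ * y⁻¹) by group]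
    refine mul_mem (h1 hx) ⟨mul_mem (mul_mem (hn hy) (hE1W _ (inv_mem hx))) (inv_mem (hn hy)),
      fun v hv => ?_⟩
    have e : ⁅v, y * x⁻¹ * y⁻¹⁆ = y * ⁅y⁻¹ * v * y⁻¹⁻¹, x⁻¹⁆ * y⁻¹ := by
      simp only [commutatorElement_def]; group
    rw [e]
    exact (Basics.conj_mem_iff_of_mem_normalizer (hn hy)).mpr (commutator_mem_commutator
      ((Basics.conj_mem_iff_of_mem_normalizer (inv_mem (hE2 hy))).mpr hv) (inv_mem hx))
  refine eq_bot_of_chain hV hEV hf hO ?_ hW1 (fun d hd => (hst hd).2) hN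
  refine sn_normal ?_ ?_
  · rw [h.gen]
    exact Subgroup.commutator_le.mpr fun x hx y hy => mul_mem (mul_mem (mul_mem (mem_sup_left hx)
      (mem_sup_right hy)) (inv_mem (mem_sup_left hx))) (inv_mem (mem_sup_right hy))
  · rw [h.gen]
    exact sup_le (normalizer_commutator_ge_left E₁ E₂) (normalizer_commutator_ge_right E₁ E₂)

/-- Induction step: a conjugate moving `[V,E₁]`. -/
theorem SubPair.conj_split {V E E₁ E₂ : Subgroup G}
    (hEV : E ≤ normalizer (V : Set G)) (hO : pCore p ↥E = ⊥) (h : SubPair p V E E₁ E₂)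
    (ih : ∀ (E' F₁ F₂ : Subgroup G), E' ≤ E → Nat.card E' < Nat.card E → pCore p ↥E' = ⊥ →
      SubPair p V E' F₁ F₂ → SubPairSplit V F₁ F₂)
    {g : G} (hg : g ∈ E₂) (hmove : g ∉ normalizer ((⁅V, E₁⁆ : Subgroup G) : Set G)) :
    ⁅V, E₁⁆ ⊓ (⁅V, E₁⁆).map (MulAut.conj g).toMonoidHom = ⊥ ∧
      E₁ ≤ centralizer (((⁅V, E₁⁆).map (MulAut.conj g).toMonoidHom : Subgroup G) : Set G) ∧
      E₁.map (MulAut.conj g).toMonoidHom ≤ centralizer ((⁅V, E₁⁆ : Subgroup G) : Set G) := by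
  set φ := (MulAut.conj g).toMonoidHom with hφ
  have hgE : g ∈ E := h.s₂.1 hg
  have hW' : ⁅V, E₁.map φ⁆ = (⁅V, E₁⁆).map φ := by
    rw [map_commutator, hφ, map_conj_eq_of_mem_normalizer (hEV hgE)]
  have hne : E₁ ≠ E := fun e => h.h21 (commutator_mono le_rfl (e ▸ h.s₂.1))
  obtain ⟨M, hM1, hM2, hM3⟩ := exists_normal_between h.s₁ hne
  have hMg : M.map φ = M := map_conj_eq_of_mem_normalizer (hM3 hgE)
  have hEg : E.map φ = E := map_conj_eq_of_mem_normalizer (le_normalizer hgE)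
  have hs' : SN (E₁.map φ) E := by
    have := sn_smul (MulAut.conj g) h.s₁
    rw [smul_eq_of_mem_normalizer (le_normalizer hgE)] at this
    exact this
  set E' := E₁ ⊔ E₁.map φ with hE'
  have hE'E : E' ≤ E := sup_le h.s₁.1 hs'.1
  have hE'M : E' ≤ M := sup_le hM1 (hMg ▸ map_mono hM1)
  have hlt : Nat.card E' < Nat.card E :=
    lt_of_le_of_lt (card_le_of_le hE'M) (Basics.card_lt_of_lt hM2)
  have hO' : pCore p ↥E' = ⊥ := by
    have hsn := sn_sup E _ _ h.s₁ hs'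
    have h1 := LocalEvenA.pCore_subnormal_eq_bot (p := p) hsn.2 hO
    rw [← LocalEvenA.pCore_map_iso (p := p) (subgroupOfEquivOfLe hE'E), h1, Subgroup.map_bot]
  have hinc : ¬ ⁅V, E₁⁆ ≤ ⁅V, E₁.map φ⁆ := by
    intro hle
    rw [hW'] at hle
    exact hmove (mem_normalizer_of_map_conj_eq
      (eq_of_le_of_card_ge hle (card_map_of_injective (MulAut.conj g).injective).le).symm)
  have hinc' : ¬ ⁅V, E₁.map φ⁆ ≤ ⁅V, E₁⁆ := by
    intro hle
    rw [hW'] at hle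
    exact hmove (mem_normalizer_of_map_conj_eq
      (eq_of_le_of_card_ge hle (card_map_of_injective (MulAut.conj g).injective).ge))
  have hirr : ∀ U : Subgroup G, U ≤ ⁅V, E₁.map φ⁆ → E₁.map φ ≤ normalizer (U : Set G) →
      U = ⊥ ∨ U = ⁅V, E₁.map φ⁆ := by
    intro U hU hn
    rw [hW'] at hU ⊢
    have hinj : Function.Injective φ := (MulAut.conj g).injective
    have hback : (U.comap φ).map φ = U :=
      map_comap_eq_self_of_surjective (MulAut.conj g).surjective U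
    have hn' : E₁ ≤ normalizer ((U.comap φ : Subgroup G) : Set G) := fun x hx => by
      refine mem_normalizer_iff.mpr fun y => ?_
      rw [mem_comap, mem_comap, map_mul, map_mul, map_inv]
      exact mem_normalizer_iff.mp (hn (mem_map_of_mem φ hx)) (φ y)
    rcases h.irr₁ (U.comap φ) ((comap_mono hU).trans (comap_map_eq_self_of_injective hinj _).le)
      hn' with e | e
    · exact Or.inl (by rw [← hback, e, Subgroup.map_bot])
    · exact Or.inr (by rw [← hback, e])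
  obtain ⟨hcom, hinf⟩ := ih E' E₁ (E₁.map φ) hE'E hlt hO'
    ⟨rfl, sn_restrict h.s₁ le_sup_left hE'E, sn_restrict hs' le_sup_right hE'E, h.irr₁, hirr,
      hinc, hinc', h.c₁, by rw [card_map_of_injective (MulAut.conj g).injective]; exact h.c₁⟩
  have hE1V : E₁ ≤ normalizer (V : Set G) := h.s₁.1.trans hEV
  have hE1'V : E₁.map φ ≤ normalizer (V : Set G) := hs'.1.trans hEV
  have hc' : ∀ F₁ F₂ : Subgroup G, ⁅F₁, F₂⁆ = ⊥ → F₂ ≤ normalizer (V : Set G) →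
      F₁ ≤ normalizer (V : Set G) → ⁅V, F₁⁆ ⊓ ⁅V, F₂⁆ = ⊥ →
      F₂ ≤ centralizer ((⁅V, F₁⁆ : Subgroup G) : Set G) := by
    intro F₁ F₂ hF hF2 hF1 hi
    rw [← commutator_eq_bot_iff_le_centralizer, commutator_comm]
    refine le_bot_iff.mp (hi ▸ le_inf ?_ (commutator_mono
      (le_normalizer_iff_commutator_le_left.mp hF1) le_rfl))
    refine le_normalizer_iff_commutator_le_left.mp fun y hy => ?_
    refine mem_normalizer_of_map_conj_eq ?_
    rw [map_commutator, map_conj_eq_of_mem_normalizer (hF2 hy)]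
    congr 1
    refine map_conj_eq_of_mem_normalizer (centralizer_le_normalizer _ ?_)
    exact commutator_eq_bot_iff_le_centralizer.mp (by rw [commutator_comm]; exact hF) hy
  refine ⟨hW' ▸ hinf, ?_, hc' E₁ (E₁.map φ) hcom hE1'V hE1V hinf⟩
  rw [← hW']
  exact hc' (E₁.map φ) E₁ (by rw [commutator_comm]; exact hcom) hE1V hE1'V
    (by rw [inf_comm]; exact hinf)

theorem SubPair.inf_eq_bot_of_moving {V E E₁ E₂ : Subgroup G}
    (hEV : E ≤ normalizer (V : Set G)) (hO : pCore p ↥E = ⊥) (h : SubPair p V E E₁ E₂)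
    (ih : ∀ (E' F₁ F₂ : Subgroup G), E' ≤ E → Nat.card E' < Nat.card E → pCore p ↥E' = ⊥ →
      SubPair p V E' F₁ F₂ → SubPairSplit V F₁ F₂)
    (hn1 : ¬ E₂ ≤ normalizer ((⁅V, E₁⁆ : Subgroup G) : Set G))
    (hn2 : ¬ E₁ ≤ normalizer ((⁅V, E₂⁆ : Subgroup G) : Set G)) :
    ⁅V, E₁⁆ ⊓ ⁅V, E₂⁆ = ⊥ := by
  obtain ⟨g, hg, hgm⟩ := SetLike.not_le_iff_exists.mp hn1
  obtain ⟨k, hk, hkm⟩ := SetLike.not_le_iff_exists.mp hn2
  obtain ⟨hk1, -, -⟩ := h.symm.conj_split hEV hO ih hk hkm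
  obtain ⟨-, hg2, -⟩ := h.conj_split hEV hO ih hg hgm
  rw [eq_bot_iff]
  rintro u ⟨hu1, hu2⟩
  have h1 : g * u * g⁻¹ ∈ ⁅V, E₂⁆ :=
    (Basics.conj_mem_iff_of_mem_normalizer (normalizer_commutator_ge_right V E₂ hg)).mpr hu2
  have h2 : Commute k (g * u * g⁻¹) := (hg2 hk _ ⟨u, hu1, rfl⟩).symm
  have h3 : g * u * g⁻¹ ∈ (⁅V, E₂⁆).map (MulAut.conj k).toMonoidHom :=
    ⟨g * u * g⁻¹, h1, mul_inv_eq_iff_eq_mul.mpr h2.eq⟩
  have h4 : g * u * g⁻¹ ∈ (⊥ : Subgroup G) := hk1 ▸ ⟨h1, h3⟩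
  rw [mem_bot] at h4 ⊢
  have h5 := congrArg (fun z => g⁻¹ * z * g) h4
  simpa [mul_assoc] using h5

theorem SubPair.split {V : Subgroup G} (hV : IsElementaryAbelian p V) :
    ∀ E E₁ E₂ : Subgroup G, E ≤ normalizer (V : Set G) → E ⊓ centralizer (V : Set G) = ⊥ →
      pCore p ↥E = ⊥ → SubPair p V E E₁ E₂ → SubPairSplit V E₁ E₂ := by
  intro E
  induction hn : Nat.card E using Nat.strong_induction_on generalizing E with
  | _ n IH =>
  intro E₁ E₂ hEV hf hO h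
  subst hn
  have ih : ∀ (E' F₁ F₂ : Subgroup G), E' ≤ E → Nat.card E' < Nat.card E → pCore p ↥E' = ⊥ →
      SubPair p V E' F₁ F₂ → SubPairSplit V F₁ F₂ := fun E' F₁ F₂ hle hlt hO' h' =>
    IH _ hlt E' rfl F₁ F₂ (hle.trans hEV) (le_bot_iff.mp (hf ▸ inf_le_inf_right _ hle)) hO' h'
  by_cases hn1 : E₂ ≤ normalizer ((⁅V, E₁⁆ : Subgroup G) : Set G)
  · exact h.split_of_normalizes hV hEV hf hO hn1
  by_cases hn2 : E₁ ≤ normalizer ((⁅V, E₂⁆ : Subgroup G) : Set G)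
  · exact (h.symm.split_of_normalizes hV hEV hf hO hn2).symm
  exfalso
  set W1 := ⁅V, E₁⁆ with hW1d
  set W2 := ⁅V, E₂⁆ with hW2d
  have hU : W1 ⊓ W2 = ⊥ := h.inf_eq_bot_of_moving hEV hO ih hn1 hn2
  have hE1V : E₁ ≤ normalizer (V : Set G) := h.s₁.1.trans hEV
  have hE2V : E₂ ≤ normalizer (V : Set G) := h.s₂.1.trans hEV
  have hW1 : W1 ≤ V := le_normalizer_iff_commutator_le_left.mp hE1V
  have hW2 : W2 ≤ V := le_normalizer_iff_commutator_le_left.mp hE2V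
  obtain ⟨g, hg, hgm⟩ := SetLike.not_le_iff_exists.mp hn1
  obtain ⟨hg1, hg2, -⟩ := h.conj_split hEV hO ih hg hgm
  have hD : E₁ ⊓ centralizer (W1 : Set G) = ⊥ := by
    refine eq_bot_of_chain hV hEV hf hO (sn_trans (sn_normal inf_le_left ?_) h.s₁) hW1
      (fun d hd v hv => commutator_mem_commutator hv hd.1) inf_le_right
    intro x hx
    refine mem_normalizer_of_map_conj_eq ?_
    rw [Subgroup.map_inf _ _ _ (MulAut.conj x).injective,
      map_conj_eq_of_mem_normalizer (le_normalizer hx)]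
    congr 1
    refine map_conj_eq_of_mem_normalizer ?_
    have hxW : x ∈ normalizer (W1 : Set G) := normalizer_commutator_ge_right V E₁ hx
    refine mem_normalizer_of_map_conj_eq
      (eq_of_le_of_card_ge ?_ (card_map_of_injective (MulAut.conj x).injective).ge)
    rintro _ ⟨c, hc, rfl⟩ w hw
    have h1 := hc _ ((Basics.conj_mem_iff_of_mem_normalizer (inv_mem hxW)).mpr hw)
    show w * (x * c * x⁻¹) = x * c * x⁻¹ * w
    calc w * (x * c * x⁻¹) = x * ((x⁻¹ * w * x⁻¹⁻¹) * c) * x⁻¹ := by group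
      _ = x * (c * (x⁻¹ * w * x⁻¹⁻¹)) * x⁻¹ := by rw [h1]
      _ = _ := by group
  have hmove : ∀ k ∈ E₁, k ≠ 1 → k ∉ normalizer (W2 : Set G) := by
    intro k hk hk1 hkn
    have hmem : k ∈ E₁ ⊓ centralizer (W1 : Set G) := by
      refine ⟨hk, fun w hw => ?_⟩
      set w' := g * w * g⁻¹ with hw'
      have hw'c : Commute k w' := (hg2 hk w' ⟨w, hw, rfl⟩).symm
      have hd : w'⁻¹ * w ∈ W2 := by
        have e : w'⁻¹ * w = ⁅w⁻¹, g⁆⁻¹ := by rw [hw', commutatorElement_def]; group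
        rw [e]
        exact inv_mem (commutator_mem_commutator (inv_mem (hW1 hw)) hg)
      have hm2 : ⁅w, k⁆ ∈ W2 := by
        have e : ⁅w, k⁆ = w' * ⁅w'⁻¹ * w, k⁆ * w'⁻¹ * ⁅w', k⁆ := by
          rw [← commutatorElement_mul_left', mul_inv_cancel_left]
        rw [e, commutatorElement_eq_one_iff_commute.mpr hw'c.symm, mul_one]
        have h6 : ⁅w'⁻¹ * w, k⁆ ∈ W2 := by
          rw [commutatorElement_eq_mul_conj]
          exact mul_mem hd ((Basics.conj_mem_iff_of_mem_normalizer hkn).mpr (inv_mem hd))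
        have hw'V : w' ∈ V := (Basics.conj_mem_iff_of_mem_normalizer (hE2V hg)).mpr (hW1 hw)
        rwa [ea_commute hV hw'V (hW2 h6), mul_inv_cancel_right]
      have hm1 : ⁅w, k⁆ ∈ W1 := commutator_mem_commutator (hW1 hw) hk
      have h7 : ⁅w, k⁆ ∈ W1 ⊓ W2 := ⟨hm1, hm2⟩
      rw [hU, mem_bot, commutatorElement_eq_one_iff_commute] at h7
      exact h7.eq
    rw [hD, mem_bot] at hmem
    exact hk1 hmem
  obtain ⟨k, hk, k', hk', hk1, hk1', hkk⟩ : ∃ k ∈ E₁, ∃ k' ∈ E₁, k ≠ 1 ∧ k' ≠ 1 ∧ k ≠ k' := by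
    haveI : Fintype E₁ := Fintype.ofFinite _
    have hc : 2 < Fintype.card E₁ := by rw [← Nat.card_eq_fintype_card]; exact h.c₁
    obtain ⟨a, b, c, hab, hac, hbc⟩ := Fintype.two_lt_card_iff.mp hc
    rcases eq_or_ne (a : G) 1 with ha | ha
    · exact ⟨b, b.2, c, c.2, fun e => hab (Subtype.ext (ha.trans e.symm)),
        fun e => hac (Subtype.ext (ha.trans e.symm)), fun e => hbc (Subtype.ext e)⟩
    rcases eq_or_ne (b : G) 1 with hb | hb
    · exact ⟨a, a.2, c, c.2, ha, fun e => hbc (Subtype.ext (hb.trans e.symm)),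
        fun e => hac (Subtype.ext e)⟩
    exact ⟨a, a.2, b, b.2, ha, hb, fun e => hab (Subtype.ext e)⟩
  refine hmove (k⁻¹ * k') (mul_mem (inv_mem hk) hk')
    (fun e => hkk (inv_mul_eq_one.mp e)) (mem_normalizer_of_commutator_mem fun w hw => ?_)
  have hfix : ∀ j ∈ E₁, j ≠ 1 → ∀ y ∈ E₂, Commute y (j * w * j⁻¹) := by
    intro j hj hj1 y hy
    obtain ⟨-, h2, -⟩ := h.symm.conj_split hEV hO ih hj (hmove j hj hj1)
    exact (h2 hy _ ⟨w, hw, rfl⟩).symm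
  set z := (k * w * k⁻¹)⁻¹ * (k' * w * k'⁻¹) with hz
  have hzW : z ∈ W1 := by
    have e : z = (w⁻¹ * (k * w * k⁻¹))⁻¹ * (w⁻¹ * (k' * w * k'⁻¹)) := by rw [hz]; group
    have hm : ∀ j ∈ E₁, w⁻¹ * (j * w * j⁻¹) ∈ W1 := fun j hj => by
      have e1 : w⁻¹ * (j * w * j⁻¹) = ⁅w⁻¹, j⁆ := by rw [commutatorElement_def]; group
      rw [e1]
      exact commutator_mem_commutator (inv_mem (hW2 hw)) hj
    rw [e]
    exact mul_mem (inv_mem (hm k hk)) (hm k' hk')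
  have hz1 : z = 1 := by
    rw [← mem_bot, ← hg1]
    refine ⟨hzW, z, hzW, mul_inv_eq_iff_eq_mul.mpr ?_⟩
    exact ((hfix k hk hk1 g hg).inv_right.mul_right (hfix k' hk' hk1' g hg)).eq
  have hz2 : k * w * k⁻¹ = k' * w * k'⁻¹ := inv_mul_eq_one.mp hz1
  have e : k⁻¹ * k' * w * (k⁻¹ * k')⁻¹ = w := by
    calc k⁻¹ * k' * w * (k⁻¹ * k')⁻¹ = k⁻¹ * (k' * w * k'⁻¹) * k := by group
      _ = k⁻¹ * (k * w * k⁻¹) * k := by rw [hz2]
      _ = w := by group
  rw [commutatorElement_eq_one_iff_commute.mpr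
    (show Commute w (k⁻¹ * k') from (mul_inv_eq_iff_eq_mul.mp e).symm)]
  exact one_mem _

end Cfsg.Agent.Components
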