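import Cfsg.Agent.Lib.Components.FFPlane2
import Cfsg.Agent.Lib.Components.FFSubPair

/-!
# The direct factor `[Q,A]A` and the structure of a group generated by offenders
-/

set_option autoImplicit false
set_option linter.unusedSectionVars false
set_option linter.style.haveILetI false

namespace Cfsg.Agent.Components

open scoped commutatorElement MatrixGroups
open Subgroup Cfsg Cfsg.Agent.Transfer Cfsg.Agent.FGS.Subn

variable {G : Type*} [Group G] [Finite G] {p : ℕ} [hp : Fact p.Prime]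

theorem inf_centralizer_le_normalizer {F W : Subgroup G} {H : Subgroup G}
    (hF : H ≤ normalizer (F : Set G)) (hW : H ≤ normalizer (W : Set G)) :
    H ≤ normalizer ((W ⊓ centralizer (F : Set G) : Subgroup G) : Set G) := by
  intro x hx
  refine mem_normalizer_of_commutator_mem fun w hw => ?_
  have hwx : x * w⁻¹ * x⁻¹ ∈ W ⊓ centralizer (F : Set G) := by
    refine ⟨(Basics.conj_mem_iff_of_mem_normalizer (hW hx)).mpr (inv_mem hw.1), fun f hf => ?_⟩
    have h1 := (inv_mem hw.2 : w⁻¹ ∈ centralizer (F : Set G)) _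
      ((Basics.conj_mem_iff_of_mem_normalizer (inv_mem (hF hx))).mpr hf)
    calc f * (x * w⁻¹ * x⁻¹) = x * ((x⁻¹ * f * x⁻¹⁻¹) * w⁻¹) * x⁻¹ := by group
      _ = x * (w⁻¹ * (x⁻¹ * f * x⁻¹⁻¹)) * x⁻¹ := by rw [h1]
      _ = x * w⁻¹ * x⁻¹ * f := by group
  rw [commutatorElement_eq_mul_conj]
  exact mul_mem hw hwx

theorem chainStab_normalizes {U W : Subgroup G} {H : Subgroup G}
    (hU : H ≤ normalizer (U : Set G)) (hW : H ≤ normalizer (W : Set G)) :
    H ≤ normalizer ((chainStab U W : Subgroup G) : Set G) := by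
  intro x hx
  refine mem_normalizer_of_map_conj_eq
    (eq_of_le_of_card_ge ?_ (card_map_of_injective (MulAut.conj x).injective).ge)
  rintro _ ⟨g, hg, rfl⟩
  refine mem_chainStab.mpr ⟨mul_mem (mul_mem (hW hx) hg.1) (inv_mem (hW hx)), fun u hu => ?_⟩
  have hm := hg.2 _ ((Basics.conj_mem_iff_of_mem_normalizer (inv_mem (hU hx))).mpr hu)
  have e : ⁅u, (MulAut.conj x).toMonoidHom g⁆ = x * ⁅x⁻¹ * u * x⁻¹⁻¹, g⁆ * x⁻¹ := by
    show ⁅u, x * g * x⁻¹⁆ = _
    simp only [commutatorElement_def]; group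
  rw [e]
  exact (Basics.conj_mem_iff_of_mem_normalizer (hW hx)).mpr hm

theorem FFSetup.le_closure_transv {V H Q : Subgroup G} (h : FFSetup p V H Q)
    (hgen : H = ⨆ A : {A : Subgroup G // A ≤ H ∧ IsBestOffenderOn p V A}, (A : Subgroup G)) :
    H ≤ closure {b : G | FFT p V H b} := by
  conv_lhs => rw [hgen]
  refine iSup_le fun A => (h.le_iSup_order_p A.1 A.2.1 A.2.2).trans (sSup_le ?_)
  rintro P ⟨hPA, hPc, hPf⟩
  obtain ⟨b, hb, hb1, rfl⟩ := exists_eq_zpowers_of_card_eq_prime hPc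
  refine Subgroup.zpowers_le.mpr (subset_closure ?_)
  have hea := ea_mono (h.ea_of_isBestOffenderOn A.2.1 A.2.2) hPA
  have hbH : b ∈ H := A.2.1 (hPA hb)
  exact ⟨hbH, hea.2 b hb, hb1, ⟨h.le hbH, by rw [hea.2 b hb]; exact one_mem _,
    h.relIndex_fixed_of_card_eq_p hPc hPf⟩⟩

theorem SLPlane.plane_le {V H Q L : Subgroup G} {a e₁ e₂ : G} (P : SLPlane p V H Q a L e₁ e₂)
    (h : FFSetup p V H Q) : zpowers e₁ ⊔ zpowers e₂ ≤ V :=
  P.comm.ge.trans (le_normalizer_iff_commutator_le_left.mp (P.leH.trans h.le))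

namespace FFT

variable {V H Q : Subgroup G} {a b : G}

/-- The subgroup `[Q,a]⟨a⟩`. -/
abbrev factor (Q : Subgroup G) (a : G) : Subgroup G := ⁅Q, zpowers a⁆ ⊔ zpowers a

theorem D_facts (h : FFSetup p V H Q) (ha : FFT p V H a) {e₁ e₂ : G}
    (P : SLPlane p V H Q a (factor Q a) e₁ e₂) (hD : Nat.card ↥⁅Q, zpowers a⁆ = p * p - 1) :
    ⁅Q, zpowers a⁆ ≤ Q ∧ 2 < Nat.card ↥⁅Q, zpowers a⁆ ∧
    (∀ U : Subgroup G, U ≤ zpowers e₁ ⊔ zpowers e₂ →
      ⁅Q, zpowers a⁆ ≤ normalizer (U : Set G) → U = ⊥ ∨ U = zpowers e₁ ⊔ zpowers e₂) ∧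
    ⁅V, ⁅Q, zpowers a⁆⁆ = zpowers e₁ ⊔ zpowers e₂ ∧
    V ⊓ centralizer ((⁅Q, zpowers a⁆ : Subgroup G) : Set G) =
      V ⊓ centralizer ((factor Q a : Subgroup G) : Set G) := by
  set D := ⁅Q, zpowers a⁆ with hDdef
  set W := zpowers e₁ ⊔ zpowers e₂ with hW
  set L := factor Q a with hL
  have hWV : W ≤ V := P.plane_le h
  have hDQ : D ≤ Q :=
    le_normalizer_iff_commutator_le_left.mp (Subgroup.zpowers_le.mpr (h.Qnorm ha.mem))
  have hc : 2 < Nat.card D := by
    rw [hD]
    have h2 := hp.out.two_le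
    have h4 : 4 ≤ p * p := Nat.mul_le_mul h2 h2
    omega
  have hDL : D ≤ L := le_sup_left
  have hA : zpowers a ≤ normalizer (D : Set G) := normalizer_commutator_ge_right _ _
  have he1 : Commute a e₁ :=
    ha.tr.commute_of_mem (ha.tr.commutator_le_fixed h.ea (P.center.ge (mem_zpowers e₁)))
  have hirr : ∀ U : Subgroup G, U ≤ W → D ≤ normalizer (U : Set G) → U = ⊥ ∨ U = W := by
    intro U hU hDU
    by_contra hno
    push Not at hno
    obtain ⟨hU0, hUW⟩ := hno
    obtain ⟨j, hj, hjc⟩ := (Nat.dvd_prime_pow hp.out).mp (P.card_W ▸ card_dvd_of_le hU)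
    have hUc : Nat.card U = p := by
      rcases j with _ | _ | _ | j
      · exact absurd (eq_bot_of_card_eq U (by simpa using hjc)) hU0
      · simpa using hjc
      · exact absurd (eq_of_le_of_card_ge hU (by rw [hjc, P.card_W])) hUW
      · omega
    obtain ⟨u, hu, hu1, hUu⟩ := exists_eq_zpowers_of_card_eq_prime hUc
    have key : ∀ w ∈ W, w ≠ 1 → ∃ i : ℤ, a ^ (-i) * w * (a ^ (-i))⁻¹ ∈ U := by
      intro w hw hw1
      obtain ⟨g1, hg1, he⟩ := P.trans u (hU hu) hu1
      obtain ⟨g2, hg2, he'⟩ := P.trans w hw hw1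
      have hg : g2 * g1⁻¹ ∈ zpowers a ⊔ D := by
        rw [sup_comm]; exact mul_mem hg2 (inv_mem hg1)
      have hw' : (g2 * g1⁻¹) * u * (g2 * g1⁻¹)⁻¹ = w := by rw [← he, ← he']; group
      obtain ⟨s, hs, d, hd, hsd⟩ := (Basics.mem_sup_of_le_normalizer' hA).mp
        (sup_comm (zpowers a) D ▸ hg)
      obtain ⟨i, rfl⟩ := mem_zpowers_iff.mp hs
      refine ⟨i, ?_⟩
      have e : a ^ (-i) * w * (a ^ (-i))⁻¹ = d * u * d⁻¹ := by rw [← hw', hsd]; group
      rw [e]
      exact (Basics.conj_mem_iff_of_mem_normalizer (hDU hd)).mpr hu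
    have he1W : e₁ ∈ W := mem_sup_left (mem_zpowers e₁)
    have he11 : e₁ ≠ 1 := fun e => by
      have h1 := ha.tr.card_commutator h.ea
      rw [P.center, e, zpowers_one_eq_bot, card_bot] at h1
      exact hp.out.one_lt.ne h1
    obtain ⟨i, hi⟩ := key e₁ he1W he11
    rw [((he1.zpow_left (-i)).eq), mul_inv_cancel_right] at hi
    have hUX : U = zpowers e₁ := eq_zpowers_of_card_eq_prime hUc hi he11
    have hall : W ≤ zpowers e₁ := by
      intro w hw
      rcases eq_or_ne w 1 with rfl | hw1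
      · exact one_mem _
      obtain ⟨i, hi⟩ := key w hw hw1
      rw [hUX] at hi
      obtain ⟨j, hj⟩ := mem_zpowers_iff.mp hi
      have h1 : Commute (a ^ i) (e₁ ^ j) := he1.zpow_zpow i j
      have e : w = e₁ ^ j := by
        calc w = a ^ i * (a ^ (-i) * w * (a ^ (-i))⁻¹) * (a ^ i)⁻¹ := by group
          _ = a ^ i * e₁ ^ j * (a ^ i)⁻¹ := by rw [hj]
          _ = e₁ ^ j := by rw [h1.eq, mul_inv_cancel_right]
      rw [e]; exact zpow_mem (mem_zpowers e₁) j
    have h2 := card_le_of_le hall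
    rw [P.card_W, ← hUX, hUc] at h2
    have h3 := hp.out.two_le
    nlinarith
  have hDW : ⁅V, D⁆ ≤ W := (commutator_mono le_rfl hDL).trans P.comm.le
  have hVD : ⁅V, D⁆ = W := by
    rcases hirr _ hDW (normalizer_commutator_ge_right V D) with e | e
    · exfalso
      refine absurd hc (not_lt.mpr ?_)
      have hb : D = ⊥ := le_bot_iff.mp (h.faithful ▸ le_inf (hDQ.trans h.Qle)
        (commutator_eq_bot_iff_le_centralizer.mp (by rw [commutator_comm]; exact e)))
      rw [hb, card_bot]; norm_num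
    · exact e
  refine ⟨hDQ, hc, hirr, hVD, ?_⟩
  refine le_antisymm (fun v hv => ?_) (fixed_anti hDL)
  obtain ⟨w, hw, c, hc0, rfl⟩ := (Basics.mem_sup_of_le_normalizer
    (inf_le_left.trans (ea_le_normalizer h.ea hWV))).mp (P.sup_top.ge hv.1)
  have hwD : w ∈ W ⊓ centralizer (D : Set G) := by
    refine ⟨hw, ?_⟩
    have h1 := Subgroup.mul_mem _ hv.2 (Subgroup.inv_mem _ (centralizer_le hDL hc0.2 : c ∈ centralizer (D : Set G)))
    rwa [mul_inv_cancel_right] at h1
  have hbot : W ⊓ centralizer (D : Set G) = ⊥ := by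
    rcases hirr _ inf_le_left (inf_centralizer_le_normalizer le_normalizer
      (hVD ▸ normalizer_commutator_ge_right V D)) with e | e
    · exact e
    · exfalso
      have hb : D = ⊥ := le_bot_iff.mp (P.faithful_W ▸ le_inf hDL
        (le_centralizer_iff.mp (inf_eq_left.mp e)))
      rw [hb, card_bot] at hc; omega
  rw [hbot, mem_bot] at hwD
  rw [hwD, one_mul]
  exact hc0

theorem normalizes_plane (h : FFSetup p V H Q)
    (hgen : H = ⨆ A : {A : Subgroup G // A ≤ H ∧ IsBestOffenderOn p V A}, (A : Subgroup G))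
    (ha : FFT p V H a) {e₁ e₂ : G}
    (P : SLPlane p V H Q a (factor Q a) e₁ e₂) (hD : Nat.card ↥⁅Q, zpowers a⁆ = p * p - 1) :
    H ≤ normalizer ((zpowers e₁ ⊔ zpowers e₂ : Subgroup G) : Set G) := by
  refine (h.le_closure_transv hgen).trans ((closure_le _).mpr ?_)
  intro b hb
  by_contra hbn
  obtain ⟨hDQ, hc, hirr, hVD, -⟩ := ha.D_facts h P hD
  set D := ⁅Q, zpowers a⁆
  set W := zpowers e₁ ⊔ zpowers e₂
  set φ := (MulAut.conj b).toMonoidHom
  have hbV : b ∈ normalizer (V : Set G) := h.le hb.mem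
  have hVD' : ⁅V, D.map φ⁆ = W.map φ := by
    rw [← hVD, map_commutator V D φ, map_conj_eq_of_mem_normalizer hbV]
  have hDQ' : D.map φ ≤ Q :=
    (map_mono hDQ).trans (map_conj_eq_of_mem_normalizer (h.Qnorm hb.mem)).le
  have hne : W.map φ ≠ W := fun e => hbn (mem_normalizer_of_map_conj_eq e)
  have hDn : Q ≤ normalizer (D : Set G) := normalizer_commutator_ge_left _ _
  have hDn' : Q ≤ normalizer ((D.map φ : Subgroup G) : Set G) := by
    rw [← map_conj_eq_of_mem_normalizer (h.Qnorm hb.mem)]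
    exact (map_mono hDn).trans (le_normalizer_map φ)
  set E' := D ⊔ D.map φ
  have hE'Q : E' ≤ Q := sup_le hDQ hDQ'
  have hO : pCore p ↥E' = ⊥ := by
    refine eq_bot_of_card_eq _ ?_
    obtain ⟨k, hk⟩ := (LocalEvenA.pCore_isPGroup' p ↥E').exists_card_eq
    refine Nat.dvd_one.mp ?_
    have h1 : Nat.card (pCore p ↥E') ∣ Nat.card Q :=
      (card_subgroup_dvd_card _).trans (card_dvd_of_le hE'Q)
    have h2 : Nat.card (pCore p ↥E') ∣ Nat.gcd (p ^ k) (Nat.card Q) := Nat.dvd_gcd (hk ▸ dvd_rfl) h1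
    rwa [h.Qcop.symm.pow_left k] at h2
  have hWc : Nat.card ↥(W.map φ) = Nat.card W := card_map_of_injective (MulAut.conj b).injective
  have hirr' : ∀ U : Subgroup G, U ≤ ⁅V, D.map φ⁆ → D.map φ ≤ normalizer (U : Set G) →
      U = ⊥ ∨ U = ⁅V, D.map φ⁆ := by
    intro U hU hn
    rw [hVD'] at hU ⊢
    have hinj : Function.Injective φ := (MulAut.conj b).injective
    have hback : (U.comap φ).map φ = U :=
      map_comap_eq_self_of_surjective (MulAut.conj b).surjective U
    rcases hirr (U.comap φ) ((comap_mono hU).trans (comap_map_eq_self_of_injective hinj W).le)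
      (fun x hx => by
        refine mem_normalizer_iff.mpr fun y => ?_
        rw [mem_comap, mem_comap, map_mul, map_mul, map_inv]
        exact mem_normalizer_iff.mp (hn (mem_map_of_mem φ hx)) (φ y)) with e | e
    · exact Or.inl (by rw [← hback, e, Subgroup.map_bot])
    · exact Or.inr (by rw [← hback, e])
  have hsplit := SubPair.split (p := p) h.ea E' D (D.map φ) ((hE'Q.trans h.Qle).trans h.le)
    (le_bot_iff.mp (h.faithful ▸ inf_le_inf_right _ (hE'Q.trans h.Qle))) hO
    { gen := rfl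
      s₁ := sn_normal le_sup_left (hE'Q.trans hDn)
      s₂ := sn_normal le_sup_right (hE'Q.trans hDn')
      irr₁ := by rw [hVD]; exact hirr
      irr₂ := hirr'
      h12 := by rw [hVD, hVD']; exact fun hle => hne (eq_of_le_of_card_ge hle hWc.le).symm
      h21 := by rw [hVD, hVD']; exact fun hle => hne (eq_of_le_of_card_ge hle hWc.ge)
      c₁ := hc
      c₂ := by rw [card_map_of_injective (MulAut.conj b).injective]; exact hc }
  have hi := hsplit.2
  rw [hVD, hVD'] at hi
  have hWV : W ≤ V := P.plane_le h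
  have hne' : W ⊓ fixOf V b ≠ ⊥ := by
    intro e
    have h1 := Basics.card_mul_card_eq_card_sup_mul_card_inf (N := W) (H := fixOf V b)
      (inf_le_left.trans (ea_le_normalizer h.ea hWV))
    rw [e, card_bot, mul_one, P.card_W] at h1
    have h2 := card_mul_index ((fixOf V b).subgroupOf V)
    rw [Basics.card_subgroupOf inf_le_left,
      show ((fixOf V b).subgroupOf V).index = p from hb.tr.index] at h2
    have h3 : Nat.card ↥(W ⊔ fixOf V b) ≤ Nat.card V := card_le_of_le (sup_le hWV inf_le_left)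
    have h4 : p * p ≤ p := by
      refine Nat.le_of_mul_le_mul_right ?_ (card_pos' (fixOf V b))
      calc p * p * Nat.card ↥(fixOf V b) = Nat.card ↥(W ⊔ fixOf V b) := by rw [← h1]; ring
        _ ≤ _ := h3
        _ = p * Nat.card ↥(fixOf V b) := by rw [← h2]; ring
    have := hp.out.two_le
    nlinarith
  obtain ⟨w, hw, hw1⟩ := (bot_or_exists_ne_one _).resolve_left hne'
  refine hw1 (mem_bot.mp (hi ▸ ⟨hw.1, w, hw.1, ?_⟩))
  exact mul_inv_eq_iff_eq_mul.mpr (hb.tr.commute_of_mem hw.2).eq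

theorem normalizes_fixed (h : FFSetup p V H Q)
    (hgen : H = ⨆ A : {A : Subgroup G // A ≤ H ∧ IsBestOffenderOn p V A}, (A : Subgroup G))
    (ha : FFT p V H a) {e₁ e₂ : G}
    (P : SLPlane p V H Q a (factor Q a) e₁ e₂) (hD : Nat.card ↥⁅Q, zpowers a⁆ = p * p - 1) :
    H ≤ normalizer ((V ⊓ centralizer ((factor Q a : Subgroup G) : Set G) : Subgroup G) : Set G) := by
  obtain ⟨hDQ, -, -, hVD, hfix⟩ := ha.D_facts h P hD
  set D := ⁅Q, zpowers a⁆
  set W := zpowers e₁ ⊔ zpowers e₂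
  set C0 := V ⊓ centralizer ((factor Q a : Subgroup G) : Set G)
  have hWH := ha.normalizes_plane h hgen P hD
  set F := Q ⊓ chainStab V W
  have hF : H ≤ normalizer (F : Set G) :=
    (le_inf h.Qnorm (chainStab_normalizes h.le hWH)).trans inf_normalizer_le_normalizer_inf
  have hDF : D ≤ F := le_inf hDQ fun d hd => mem_chainStab.mpr
    ⟨hWH (h.Qle (hDQ hd)), fun v hv => hVD ▸ commutator_mem_commutator hv hd⟩
  have hWV : W ≤ V := P.plane_le h
  have hFV : F ≤ normalizer (V : Set G) := inf_le_left.trans (h.Qle.trans h.le)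
  obtain ⟨k, hk⟩ := (ea_isPGroup h.ea).exists_card_eq
  have hcop : (Nat.card F).Coprime (Nat.card V) :=
    hk ▸ (h.Qcop.coprime_dvd_left (card_dvd_of_le inf_le_left)).pow_right k
  haveI := h.ea.1
  have hsup := Basics.commutator_sup_inf_centralizer F V hFV hcop
    (Or.inr (Group.isSolvable_of_comm fun x y => mul_comm' x y))
  have hVF : ⁅V, F⁆ ≤ W := Subgroup.commutator_le.mpr fun v hv f hf => hf.2.2 v hv
  have hle : V ⊓ centralizer (F : Set G) ≤ C0 := (fixed_anti hDF).trans hfix.le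
  have heq : V ⊓ centralizer (F : Set G) = C0 := by
    refine eq_of_le_of_card_ge hle ?_
    have htop : W ⊔ (V ⊓ centralizer (F : Set G)) = V :=
      le_antisymm (sup_le hWV inf_le_left) (hsup.ge.trans (sup_le_sup_right hVF _))
    have h1 := Basics.card_mul_card_eq_card_sup_mul_card_inf (N := W)
      (H := V ⊓ centralizer (F : Set G)) (inf_le_left.trans (ea_le_normalizer h.ea hWV))
    have h2 := Basics.card_mul_card_eq_card_sup_mul_card_inf (N := W) (H := C0)
      (inf_le_left.trans (ea_le_normalizer h.ea hWV))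
    rw [htop, show W ⊓ (V ⊓ centralizer (F : Set G)) = ⊥ from
      le_bot_iff.mp ((inf_le_inf_left W hle).trans P.inf_bot.le), card_bot, mul_one, P.card_W] at h1
    rw [P.sup_top, P.inf_bot, card_bot, mul_one, P.card_W, ← h1] at h2
    exact (Nat.eq_of_mul_eq_mul_left (pow_pos hp.out.pos 2) h2).le
  rw [← heq]
  exact inf_centralizer_le_normalizer hF h.le

theorem mem_factor_or_centralizer (h : FFSetup p V H Q)
    (hgen : H = ⨆ A : {A : Subgroup G // A ≤ H ∧ IsBestOffenderOn p V A}, (A : Subgroup G))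
    (ha : FFT p V H a) {e₁ e₂ : G}
    (P : SLPlane p V H Q a (factor Q a) e₁ e₂) (hD : Nat.card ↥⁅Q, zpowers a⁆ = p * p - 1)
    (hb : FFT p V H b) :
    b ∈ factor Q a ∨ b ∈ H ⊓ centralizer ((zpowers e₁ ⊔ zpowers e₂ : Subgroup G) : Set G) := by
  set W := zpowers e₁ ⊔ zpowers e₂ with hW
  set L := factor Q a with hL
  set C0 := V ⊓ centralizer (L : Set G)
  by_cases hfix : ∀ u ∈ W, Commute b u
  · exact Or.inr ⟨hb.mem, fun u hu => (hfix u hu).eq.symm⟩
  push Not at hfix
  obtain ⟨u, hu, hub⟩ := hfix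
  have hWV : W ≤ V := P.plane_le h
  have hbW : b ∈ normalizer (W : Set G) := ha.normalizes_plane h hgen P hD hb.mem
  have hbC : b ∈ normalizer (C0 : Set G) := ha.normalizes_fixed h hgen P hD hb.mem
  set w0 := ⁅u, b⁆
  have hw0 : w0 ∈ W := commutatorElement_mem_of_mem_normalizer hu hbW
  have hw1 : w0 ≠ 1 := fun e => hub (commutatorElement_eq_one_iff_commute.mp e).symm
  have hXb : ⁅V, zpowers b⁆ = zpowers w0 :=
    eq_zpowers_of_card_eq_prime (hb.tr.card_commutator h.ea)
      (commutator_mem_commutator (hWV hu) (mem_zpowers b)) hw1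
  have hbw0 : Commute b w0 :=
    hb.tr.commute_of_mem (hb.tr.commutator_le_fixed h.ea (hXb.ge (mem_zpowers w0)))
  obtain ⟨g, hg, hge⟩ := P.trans w0 hw0 hw1
  set t := g * a * g⁻¹ with htdef
  have ht : FFT p V H t := ha.conj h.le (P.leH hg)
  have htL : t ∈ L := mul_mem (mul_mem hg P.mem_a) (inv_mem hg)
  have htc : ⁅V, zpowers t⁆ = zpowers w0 := by
    rw [htdef, conj_center g (h.le (P.leH hg)), P.center, MonoidHom.map_zpowers, ← hge]
    rfl
  have htw0 : Commute t w0 :=
    ht.tr.commute_of_mem (ht.tr.commutator_le_fixed h.ea (htc.ge (mem_zpowers w0)))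
  have hord : orderOf w0 = p := orderOf_eq_prime (h.ea.2 w0 (hWV hw0)) hw1
  have hspan : zpowers w0 ⊔ zpowers u = W := by
    have hle : zpowers w0 ⊔ zpowers u ≤ W :=
      sup_le (Subgroup.zpowers_le.mpr hw0) (Subgroup.zpowers_le.mpr hu)
    refine eq_of_le_of_card_ge hle ?_
    have hlt : zpowers w0 < zpowers w0 ⊔ zpowers u := lt_of_le_of_ne le_sup_left fun e => hub (by
      obtain ⟨i, hi⟩ := mem_zpowers_iff.mp (e.ge (mem_sup_right (mem_zpowers u)))
      exact hi ▸ hbw0.zpow_right i)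
    have h1 := mul_card_le_of_lt h.ea hlt (hle.trans hWV)
    rw [Nat.card_zpowers, hord] at h1
    rw [P.card_W, pow_two]; exact h1
  have hcen : ∀ x : G, Commute x w0 → Commute x u → x ∈ centralizer (W : Set G) := by
    intro x h1 h2 z hz
    have h3 : W ≤ centralizer {x} := by
      rw [← hspan, sup_le_iff, Subgroup.zpowers_le, Subgroup.zpowers_le,
        mem_centralizer_singleton_iff, mem_centralizer_singleton_iff]
      exact ⟨h1.eq.symm, h2.eq.symm⟩
    exact mem_centralizer_singleton_iff.mp (h3 hz)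
  have htu : ⁅u, t⁆ ∈ zpowers w0 := htc ▸ commutator_mem_commutator (hWV hu) (mem_zpowers t)
  obtain ⟨i, hi⟩ := Submonoid.mem_powers_iff _ _ |>.mp (mem_powers_iff_mem_zpowers.mpr htu)
  have hi0 : (i : ZMod p) ≠ 0 := by
    intro e
    rw [ZMod.natCast_eq_zero_iff] at e
    obtain ⟨j, rfl⟩ := e
    rw [pow_mul, h.ea.2 w0 (hWV hw0), one_pow] at hi
    have h1 : t ∈ L ⊓ centralizer (W : Set G) :=
      ⟨htL, hcen t htw0 (commutatorElement_eq_one_iff_commute.mp hi.symm).symm⟩
    rw [P.faithful_W, mem_bot] at h1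
    exact ht.ne h1
  set m := ((i : ZMod p)⁻¹).val
  have hpow : ∀ n : ℕ, ⁅u, t ^ n⁆ = w0 ^ (i * n) := by
    intro n
    induction n with
    | zero => simp
    | succ n ih =>
      rw [pow_succ', commutatorElement_mul_right', ih, (htw0.pow_right (i * n)).eq,
        mul_inv_cancel_right, ← hi, ← pow_add]
      congr 1; ring
  have him : ⁅u, t ^ m⁆ = w0 := by
    have h1 : ((i * m : ℕ) : ZMod p) = (1 : ℕ) := by
      push_cast
      rw [ZMod.natCast_zmod_val, mul_inv_cancel₀ hi0]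
    rw [ZMod.natCast_eq_natCast_iff'] at h1
    rw [hpow, pow_eq_pow_mod _ (h.ea.2 w0 (hWV hw0)), h1,
      ← pow_eq_pow_mod _ (h.ea.2 w0 (hWV hw0)), pow_one]
  set k := (t ^ m)⁻¹ * b with hk
  have hku : Commute k u := by
    have h1 : t ^ m * u⁻¹ * (t ^ m)⁻¹ = b * u⁻¹ * b⁻¹ := by
      have e : ⁅u, t ^ m⁆ = ⁅u, b⁆ := him
      rw [commutatorElement_eq_mul_conj, commutatorElement_eq_mul_conj] at e
      exact mul_left_cancel e
    have h2 : k * u⁻¹ * k⁻¹ = u⁻¹ := by
      calc k * u⁻¹ * k⁻¹ = (t ^ m)⁻¹ * (b * u⁻¹ * b⁻¹) * t ^ m := by rw [hk]; group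
        _ = (t ^ m)⁻¹ * (t ^ m * u⁻¹ * (t ^ m)⁻¹) * t ^ m := by rw [h1]
        _ = u⁻¹ := by group
    have h3 : Commute k u⁻¹ := mul_inv_eq_iff_eq_mul.mp h2
    simpa using h3.inv_right
  have hkw : Commute k w0 := ((htw0.pow_left m).inv_left).mul_left hbw0
  refine Or.inl ?_
  have hkV : k ∈ H ⊓ centralizer (V : Set G) := by
    have hkH : k ∈ H := mul_mem (inv_mem (pow_mem (P.leH htL) m)) hb.mem
    refine ⟨hkH, fun v hv => ?_⟩
    have hC0 : ∀ c ∈ C0, Commute k c := by
      intro c hc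
      have hbc : Commute b c := by
        have h1 : ⁅c, b⁆ ∈ W ⊓ C0 :=
          ⟨(hXb.le.trans (Subgroup.zpowers_le.mpr hw0))
            (commutator_mem_commutator hc.1 (mem_zpowers b)),
          commutatorElement_mem_of_mem_normalizer hc hbC⟩
        rw [P.inf_bot, mem_bot, commutatorElement_eq_one_iff_commute] at h1
        exact h1.symm
      exact ((show Commute t c from hc.2 t htL).pow_left m).inv_left.mul_left hbc
    have hle : V ≤ centralizer {k} := by
      rw [← P.sup_top, sup_le_iff]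
      exact ⟨fun z hz => mem_centralizer_singleton_iff.mpr (hcen k hkw hku z hz),
        fun z hz => mem_centralizer_singleton_iff.mpr (hC0 z hz).eq.symm⟩
    exact mem_centralizer_singleton_iff.mp (hle hv)
  rw [h.faithful, mem_bot, hk, inv_mul_eq_one] at hkV
  exact hkV ▸ pow_mem htL m

/-- The direct factor of a minimal offender. -/
theorem exists_factor (h : FFSetup p V H Q)
    (hgen : H = ⨆ A : {A : Subgroup G // A ≤ H ∧ IsBestOffenderOn p V A}, (A : Subgroup G))
    (ha : FFT p V H a) :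
    ∃ e₁ e₂ : G, SLPlane p V H Q a (factor Q a) e₁ e₂ ∧
      Nat.card ↥⁅Q, zpowers a⁆ = p * p - 1 ∧
      H ≤ normalizer ((zpowers e₁ ⊔ zpowers e₂ : Subgroup G) : Set G) ∧
      ⁅factor Q a, H ⊓ centralizer ((zpowers e₁ ⊔ zpowers e₂ : Subgroup G) : Set G)⁆ = ⊥ ∧
      factor Q a ⊔ (H ⊓ centralizer ((zpowers e₁ ⊔ zpowers e₂ : Subgroup G) : Set G)) = H ∧
      ⁅V, H ⊓ centralizer ((zpowers e₁ ⊔ zpowers e₂ : Subgroup G) : Set G)⁆ ≤
        V ⊓ centralizer ((factor Q a : Subgroup G) : Set G) ∧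
      H ≤ normalizer ((factor Q a : Subgroup G) : Set G) := by
  obtain ⟨e₁, e₂, P, hD⟩ := ha.exists_plane h
  set W := zpowers e₁ ⊔ zpowers e₂ with hW
  set L := factor Q a with hL
  set C0 := V ⊓ centralizer (L : Set G)
  set K := H ⊓ centralizer (W : Set G)
  have hWV : W ≤ V := P.plane_le h
  have hC0H := ha.normalizes_fixed h hgen P hD
  have hLK : ⁅L, K⁆ = ⊥ := by
    refine le_bot_iff.mp ?_
    rw [Subgroup.commutator_le]
    intro x hx k hk
    rw [← h.faithful]
    refine ⟨H.mul_mem (H.mul_mem (H.mul_mem (P.leH hx) hk.1) (H.inv_mem (P.leH hx))) (H.inv_mem hk.1),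
      fun v hv => ?_⟩
    have hxW : ∀ w ∈ W, x * w * x⁻¹ ∈ W := fun w hw =>
      (Basics.conj_mem_iff_of_mem_normalizer (ha.normalizes_plane h hgen P hD (P.leH hx))).mpr hw
    have hkC : ∀ c ∈ C0, k * c * k⁻¹ ∈ C0 := fun c hc =>
      (Basics.conj_mem_iff_of_mem_normalizer (hC0H hk.1)).mpr hc
    have e1 : ∀ w ∈ W, k * w * k⁻¹ = w := fun w hw =>
      mul_inv_eq_iff_eq_mul.mpr (hk.2 w hw).symm
    have e2 : ∀ c ∈ C0, x * c * x⁻¹ = c := fun c hc =>
      mul_inv_eq_iff_eq_mul.mpr (hc.2 x hx)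
    have hcW : W ≤ centralizer {⁅x, k⁆} := fun w hw => by
      rw [mem_centralizer_singleton_iff]
      have hw2 : x⁻¹ * w * x ∈ W := by
        have h1 := (Basics.conj_mem_iff_of_mem_normalizer
          (inv_mem (ha.normalizes_plane h hgen P hD (P.leH hx)))).mpr hw
        rwa [inv_inv] at h1
      have e : ⁅x, k⁆ * w * ⁅x, k⁆⁻¹ = w := by
        have hw3 : k⁻¹ * w * k = w := by
          conv_lhs => rw [← e1 w hw]
          group
        calc ⁅x, k⁆ * w * ⁅x, k⁆⁻¹ = x * (k * (x⁻¹ * (k⁻¹ * w * k) * x) * k⁻¹) * x⁻¹ := by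
              rw [commutatorElement_def]; group
          _ = x * (x⁻¹ * w * x) * x⁻¹ := by rw [hw3, e1 _ hw2]
          _ = w := by group
      exact (mul_inv_eq_iff_eq_mul.mp e).symm
    have hcC : C0 ≤ centralizer {⁅x, k⁆} := fun c hc => by
      rw [mem_centralizer_singleton_iff]
      have hc2 : k⁻¹ * c * k ∈ C0 := by
        have h1 := (Basics.conj_mem_iff_of_mem_normalizer (inv_mem (hC0H hk.1))).mpr hc
        rwa [inv_inv] at h1
      have hc3 : x⁻¹ * (k⁻¹ * c * k) * x = k⁻¹ * c * k := by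
        conv_lhs => rw [← e2 _ hc2]
        group
      have e : ⁅x, k⁆ * c * ⁅x, k⁆⁻¹ = c := by
        calc ⁅x, k⁆ * c * ⁅x, k⁆⁻¹ = x * (k * (x⁻¹ * (k⁻¹ * c * k) * x) * k⁻¹) * x⁻¹ := by
              rw [commutatorElement_def]; group
          _ = x * c * x⁻¹ := by rw [hc3]; group
          _ = c := e2 c hc
      exact (mul_inv_eq_iff_eq_mul.mp e).symm
    exact mem_centralizer_singleton_iff.mp ((P.sup_top.ge.trans (sup_le hcW hcC)) hv)
  have hsup : L ⊔ K = H := by
    refine le_antisymm (sup_le P.leH inf_le_left)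
      ((h.le_closure_transv hgen).trans ((closure_le _).mpr fun b hb => ?_))
    rcases ha.mem_factor_or_centralizer h hgen P hD hb with h1 | h1
    · exact mem_sup_left h1
    · exact mem_sup_right h1
  refine ⟨e₁, e₂, P, hD, ha.normalizes_plane h hgen P hD, hLK, hsup, ?_, ?_⟩
  · rw [Subgroup.commutator_le]
    intro v hv k hk
    obtain ⟨w, hw, c, hc, rfl⟩ := (Basics.mem_sup_of_le_normalizer
      (inf_le_left.trans (ea_le_normalizer h.ea hWV))).mp (P.sup_top.ge hv)
    have hm : ⁅c, k⁆ ∈ C0 := commutatorElement_mem_of_mem_normalizer hc (hC0H hk.1)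
    rw [commutatorElement_mul_left', commutatorElement_eq_one_iff_commute.mpr
      (show Commute w k from hk.2 w hw), mul_one, ea_commute h.ea (hWV hw) hm.1,
      mul_inv_cancel_right]
    exact hm
  · rw [← hsup]
    refine sup_le le_normalizer ?_
    refine le_trans ?_ (centralizer_le_normalizer _)
    exact le_centralizer_iff.mp (commutator_eq_bot_iff_le_centralizer.mp hLK)

end FFT

end Cfsg.Agent.Components
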