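import Cfsg.Agent.Lib.Components.FFStructure
import Cfsg.Agent.Lib.Components.FFPlane2
import Mathlib.GroupTheory.NoncommPiCoprod

/-!
Fixed points of a coprime abelian operator group on the factors of a group generated by offenders.
-/

set_option autoImplicit false
set_option linter.style.haveILetI false
set_option linter.unusedSectionVars false

namespace Cfsg.Agent.Components

open scoped commutatorElement MatrixGroups
open Subgroup Cfsg Cfsg.Agent.Transfer

variable {G : Type*} [Group G] [Finite G] {p : ℕ} [hp : Fact p.Prime]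

/-- A coprime operator on a plane over the field with two or three elements is trivial. -/
theorem commute_plane_of_coprime (hsmall : p = 2 ∨ p = 3) {q : ℕ} [hq : Fact q.Prime] (hq5 : 5 ≤ q)
    {W : Subgroup G} (hW : Nat.card W = p ^ 2) {x : G} (hx : x ∈ normalizer (W : Set G))
    (hxq : ∃ k, orderOf x ∣ q ^ k) : ∀ w ∈ W, Commute x w := by
  set σ : MulAut W := W.normalizerMonoidHom ⟨x, hx⟩ with hσ
  obtain ⟨k, hk⟩ := hxq
  have hσq : IsPGroup q (zpowers σ) := by
    refine IsPGroup.of_card_dvd_pow (n := k) ?_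
    rw [Nat.card_zpowers]
    refine (orderOf_map_dvd W.normalizerMonoidHom _).trans ?_
    rwa [Subgroup.orderOf_mk]
  let F : Subgroup W := MonoidHom.eqLocus σ.toMonoidHom (MonoidHom.id W)
  have e : MulAction.fixedPoints (zpowers σ) W = (F : Set W) := by
    ext v
    constructor
    · intro hv; exact hv ⟨σ, mem_zpowers σ⟩
    · rintro hv ⟨τ, hτ⟩
      obtain ⟨i, rfl⟩ := mem_zpowers_iff.mp hτ
      exact zpow_mem (show σ ∈ MulAction.stabilizer (MulAut W) v from hv) i
  have hmod := hσq.card_modEq_card_fixedPoints (α := W)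
  rw [e, hW] at hmod
  change p ^ 2 ≡ Nat.card F [MOD q] at hmod
  have hd : Nat.card F ∣ p ^ 2 := hW ▸ card_subgroup_dvd_card F
  obtain ⟨j, hj, hjc⟩ := (Nat.dvd_prime_pow hp.out).mp hd
  have hj2 : j = 2 := by
    by_contra hne
    have hle : p ^ j ≤ p ^ 2 := Nat.pow_le_pow_right hp.out.pos hj
    have hdvd : q ∣ p ^ 2 - p ^ j := (Nat.modEq_iff_dvd' hle).mp (hjc ▸ hmod).symm
    rcases hsmall with rfl | rfl <;>
      · have hj' : j = 0 ∨ j = 1 := by omega
        rcases hj' with rfl | rfl <;>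
          · norm_num at hdvd
            have := Nat.le_of_dvd (by norm_num) hdvd
            have h4 : q ≠ 6 := fun h => by rw [h] at hq; exact absurd hq.out (by decide)
            have h8 : q ≠ 8 := fun h => by rw [h] at hq; exact absurd hq.out (by decide)
            interval_cases q <;> simp_all
  have hF : F = ⊤ := eq_top_of_card_eq F (by rw [hjc, hj2, hW])
  intro w hw
  have h := congrArg Subtype.val ((hF.ge (mem_top (⟨w, hw⟩ : W))) : σ ⟨w, hw⟩ = ⟨w, hw⟩)
  exact mul_inv_eq_iff_eq_mul.mp h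

variable {V H Q : Subgroup G}

theorem FFT.conj_of_normalizes {a x : G} (ha : FFT p V H a) (hle : H ≤ normalizer (V : Set G))
    (hxV : x ∈ normalizer (V : Set G)) (hxH : x ∈ normalizer (H : Set G)) :
    FFT p V H (x * a * x⁻¹) := by
  have h' : FFT p V (H ⊔ zpowers x) a := ⟨mem_sup_left ha.mem, ha.pow_eq, ha.ne, ha.tr⟩
  have h2 := h'.conj (sup_le hle (Subgroup.zpowers_le.mpr hxV)) (mem_sup_right (mem_zpowers x))
  exact ⟨(Basics.conj_mem_iff_of_mem_normalizer hxH).mpr ha.mem, h2.pow_eq, h2.ne, h2.tr⟩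

theorem FFT.map_factor {a x : G} (hxQ : x ∈ normalizer (Q : Set G)) :
    (FFT.factor Q a).map (MulAut.conj x).toMonoidHom = FFT.factor Q (x * a * x⁻¹) := by
  show (⁅Q, zpowers a⁆ ⊔ zpowers a).map _ = ⁅Q, zpowers (x * a * x⁻¹)⁆ ⊔ zpowers (x * a * x⁻¹)
  rw [Subgroup.map_sup, map_commutator, map_conj_eq_of_mem_normalizer hxQ, MonoidHom.map_zpowers]
  rfl

/-- A coprime abelian group of operators fixes a plane and an `SL(2,p)` inducing it in every orbit. -/
theorem exists_fixed_factor (h : FFSetup p V H Q)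
    (hgen : H = ⨆ A : {A : Subgroup G // A ≤ H ∧ IsBestOffenderOn p V A}, (A : Subgroup G))
    (X : Subgroup G) [IsMulCommutative X] (hXV : X ≤ normalizer (V : Set G))
    (hXH : X ≤ normalizer (H : Set G)) (hXQ : X ≤ normalizer (Q : Set G))
    {q : ℕ} [hq : Fact q.Prime] (hX : IsPGroup q X) (hqH : ¬ q ∣ Nat.card H)
    {a : G} (ha : FFT p V H a) :
    (p = 2 ∨ p = 3) ∧ ∃ Wt Lt : Subgroup G, Wt ≤ V ⊓ centralizer (X : Set G) ∧ Nat.card Wt = p ^ 2 ∧
      Lt ≤ H ⊓ centralizer (X : Set G) ∧ Lt ≤ normalizer (Wt : Set G) ∧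
      Lt ⊓ centralizer (Wt : Set G) = ⊥ ∧ Nonempty (Lt ≃* SL(2, ZMod p)) ∧
      ∀ l ∈ FFT.factor Q a, ∃ u ∈ Lt, ∃ c ∈ centralizer (FFT.factor Q a : Set G), u = l * c := by
  classical
  obtain ⟨e₁, e₂, P, hD, -, hLK, -, -, hLn⟩ := ha.exists_factor h hgen
  set L := FFT.factor Q a with hL
  set W := zpowers e₁ ⊔ zpowers e₂ with hW
  have hWV : W ≤ V := P.plane_le h
  obtain ⟨ψ, hψ, -⟩ := P.hom
  have eψ : L ≃* SL(2, ZMod p) := MulEquiv.ofBijective ψ hψ
  have hcardL : Nat.card L = p * (p * p - 1) := by rw [Nat.card_congr eψ.toEquiv, card_sl2_zmod]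
  have hq5 : 5 ≤ q := by
    have hd : Nat.card L ∣ Nat.card H := card_dvd_of_le P.leH
    rw [hcardL] at hd
    have hq2 : q ≠ 2 := by
      rintro rfl
      refine hqH (dvd_trans ?_ hd)
      rcases P.small with rfl | rfl <;> norm_num
    have hq3 : q ≠ 3 := by
      rintro rfl
      refine hqH (dvd_trans ?_ hd)
      rcases P.small with rfl | rfl <;> norm_num
    have hq4 : q ≠ 4 := fun h => by rw [h] at hq; exact absurd hq.out (by decide)
    have := hq.out.two_le
    omega
  refine ⟨P.small, ?_⟩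
  -- the stabilizer of the factor
  let S : Subgroup X := (normalizer (L : Set G)).comap X.subtype
  have hSW : ∀ x : X, x ∈ S → ∀ w ∈ W, Commute (x : G) w := fun x hx => by
    have hxW : (x : G) ∈ normalizer (W : Set G) := by
      refine mem_normalizer_of_map_conj_eq ?_
      rw [hW, ← P.comm, map_commutator, map_conj_eq_of_mem_normalizer (hXV x.2),
        map_conj_eq_of_mem_normalizer (show (x : G) ∈ normalizer (L : Set G) from hx)]
    obtain ⟨k, hk⟩ := IsPGroup.iff_orderOf.mp hX x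
    exact commute_plane_of_coprime P.small hq5 P.card_W hxW
      ⟨k, by rw [Subgroup.orderOf_coe, hk]⟩
  have hSL : ∀ x : X, x ∈ S → ∀ l ∈ L, (x : G) * l * (x : G)⁻¹ = l := fun x hx l hl => by
    have hxl : (x : G) * l * (x : G)⁻¹ ∈ L :=
      (Basics.conj_mem_iff_of_mem_normalizer (show (x : G) ∈ normalizer (L : Set G) from hx)).mpr hl
    have hm : (x : G) * l * (x : G)⁻¹ * l⁻¹ ∈ L ⊓ centralizer (W : Set G) := by
      refine mem_inf.mpr ⟨L.mul_mem hxl (L.inv_mem hl), fun w hw => ?_⟩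
      have hlW : l⁻¹ ∈ normalizer (W : Set G) :=
        inv_mem (ha.normalizes_plane h hgen P hD (P.leH hl))
      have hw' : l⁻¹ * w * l ∈ W := by
        have := (Basics.conj_mem_iff_of_mem_normalizer hlW).mpr hw
        rwa [inv_inv] at this
      have e1 : (x : G)⁻¹ * (l⁻¹ * w * l) * (x : G) = l⁻¹ * w * l := by
        rw [mul_assoc _ (l⁻¹ * w * l), ← (hSW x hx _ hw').eq, inv_mul_cancel_left]
      have e2 : (x : G) * w * (x : G)⁻¹ = w := by
        rw [(hSW x hx w hw).eq, mul_inv_cancel_right]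
      symm
      rw [← mul_inv_eq_iff_eq_mul]
      calc (x : G) * l * (x : G)⁻¹ * l⁻¹ * w * ((x : G) * l * (x : G)⁻¹ * l⁻¹)⁻¹
          = (x : G) * l * ((x : G)⁻¹ * (l⁻¹ * w * l) * (x : G)) * l⁻¹ * (x : G)⁻¹ := by group
        _ = (x : G) * l * (l⁻¹ * w * l) * l⁻¹ * (x : G)⁻¹ := by rw [e1]
        _ = (x : G) * w * (x : G)⁻¹ := by group
        _ = w := e2
    rw [P.faithful_W, mem_bot, mul_inv_eq_one] at hm
    exact hm
  -- distinct conjugates of the factor
  have hdis : ∀ x : X, x ∉ S → ∀ l ∈ L, (x : G) * l * (x : G)⁻¹ ∈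
      H ⊓ centralizer (W : Set G) := by
    intro x hx l hl
    have hb := ha.conj_of_normalizes h.le (hXV x.2) (hXH x.2)
    have hmap := FFT.map_factor (Q := Q) (a := a) (hXQ x.2)
    have hne : FFT.factor Q ((x : G) * a * (x : G)⁻¹) ≠ L := fun e =>
      hx (mem_normalizer_of_map_conj_eq (hmap.trans e))
    exact factor_le_centralizer h hgen ha hb P hD hne (hmap.le ⟨l, hl, rfl⟩)
  have hcommL : ∀ x : X, x ∉ S → ∀ l ∈ L, ∀ m ∈ L, Commute ((x : G) * l * (x : G)⁻¹) m := by
    intro x hx l hl m hm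
    exact (commutatorElement_eq_one_iff_commute.mp
      (mem_bot.mp (hLK.le (commutator_mem_commutator hm (hdis x hx l hl))))).symm
  -- transversal
  let T := X ⧸ S
  haveI : Fintype T := Fintype.ofFinite T
  have hcommX : ∀ a b : X, a * b = b * a := fun a b => IsMulCommutative.is_comm.comm a b
  haveI : S.Normal := ⟨fun s hs g => by rw [hcommX g, mul_inv_cancel_right]; exact hs⟩
  let t : T → G := fun i => ((i.out : X) : G)
  have hoff : ∀ i j : T, i ≠ j → (j.out⁻¹ * i.out : X) ∉ S := fun i j hij hm => hij (by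
    rw [← i.out_eq', ← j.out_eq']
    exact (QuotientGroup.eq.mpr hm).symm)
  have hconj : ∀ i j : T, ∀ l : G,
      (t j)⁻¹ * (t i * l * (t i)⁻¹) * t j = ((j.out⁻¹ * i.out : X) : G) * l * ((j.out⁻¹ * i.out : X) : G)⁻¹ := by
    intro i j l
    simp only [t, Subgroup.coe_mul, Subgroup.coe_inv]
    group
  have hback : ∀ (j : T) {u v : G}, Commute ((t j)⁻¹ * u * t j) ((t j)⁻¹ * v * t j) → Commute u v := by
    intro j u v huv
    have := huv.map (MulAut.conj (t j)).toMonoidHom
    simpa [MulAut.conj_apply, mul_assoc] using this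
  have hcL : Pairwise fun i j : T => ∀ l m : L,
      Commute (t i * l * (t i)⁻¹) (t j * m * (t j)⁻¹) := fun i j hij l m => hback j (by
    rw [hconj i j, show (t j)⁻¹ * (t j * m * (t j)⁻¹) * t j = (m : G) by group]
    exact hcommL _ (hoff i j hij) l l.2 m m.2)
  have hVab : ∀ u ∈ V, ∀ v ∈ V, Commute u v := fun u hu v hv =>
    congrArg Subtype.val (h.ea.1.is_comm.comm ⟨u, hu⟩ ⟨v, hv⟩)
  have hWVt : ∀ (i : T) (w : G), w ∈ W → t i * w * (t i)⁻¹ ∈ V := fun i w hw =>
    (Basics.conj_mem_iff_of_mem_normalizer (hXV (i.out : X).2)).mpr (hWV hw)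
  have hcW : Pairwise fun i j : T => ∀ v w : W,
      Commute (t i * v * (t i)⁻¹) (t j * w * (t j)⁻¹) :=
    fun i j _ v w => hVab _ (hWVt i v v.2) _ (hWVt j w w.2)
  let fL : T → L →* G := fun i => ((MulAut.conj (t i)).toMonoidHom).comp L.subtype
  let fW : T → W →* G := fun i => ((MulAut.conj (t i)).toMonoidHom).comp W.subtype
  let PL := MonoidHom.noncommPiCoprod fL (fun i j hij l m => hcL hij l m)
  let PW := MonoidHom.noncommPiCoprod fW (fun i j hij v w => hcW hij v w)
  let δ : L →* G := PL.comp (Pi.monoidHom fun _ => MonoidHom.id L)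
  let ν : W →* G := PW.comp (Pi.monoidHom fun _ => MonoidHom.id W)
  -- components
  have hsplit : ∀ {N : Subgroup G} (f : T → N →* G) (hf : Pairwise fun i j => ∀ x y, Commute (f i x) (f j y))
      (i : T) (x : N) (K : Subgroup G), (∀ j, j ≠ i → f j x ∈ K) →
      ∃ c ∈ K, MonoidHom.noncommPiCoprod f hf (fun _ => x) = f i x * c := by
    intro N f hf i x K hK
    refine ⟨MonoidHom.noncommPiCoprod f hf (Function.update (fun _ => x) i 1), ?_, ?_⟩
    · rw [MonoidHom.noncommPiCoprod_apply]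
      refine K.noncommProd_mem _ fun j _ => ?_
      rcases eq_or_ne j i with rfl | hj
      · rw [Function.update_self, map_one]; exact one_mem _
      · rw [Function.update_of_ne hj]; exact hK j hj
    · rw [← MonoidHom.noncommPiCoprod_mulSingle f (hcomm := hf) i x, ← map_mul]
      congr 1
      funext j
      rcases eq_or_ne j i with rfl | hj
      · simp
      · simp [Pi.mulSingle_eq_of_ne hj, Function.update_of_ne hj]
  set o : T := ((1 : X) : T) with ho
  have hoS : (o.out : X) ∈ S := by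
    have := QuotientGroup.eq.mp ((QuotientGroup.out_eq' o).trans ho)
    rw [mul_one] at this
    exact inv_mem_iff.mp this
  have hfLo : ∀ l : L, fL o l = l := fun l => hSL _ hoS l l.2
  have hfWo : ∀ w : W, fW o w = w := fun w => by
    show t o * w * (t o)⁻¹ = w
    rw [(hSW _ hoS w w.2).eq, mul_inv_cancel_right]
  have hoff' : ∀ j : T, j ≠ o → (j.out : X) ∉ S := fun j hj hm => hj (by
    rw [← j.out_eq', ho]
    exact QuotientGroup.eq.mpr (by simpa using hm))
  have hδc : ∀ l : L, ∃ c ∈ centralizer (L : Set G), δ l = (l : G) * c := fun l => by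
    obtain ⟨c, hc, e⟩ := hsplit fL (fun i j hij l m => hcL hij l m) o l (centralizer (L : Set G))
      fun j hj m hm => (hcommL _ (hoff' j hj) l l.2 m hm).eq.symm
    exact ⟨c, hc, e.trans (by rw [hfLo])⟩
  set C0 := V ⊓ centralizer (L : Set G)
  have hνc : ∀ w : W, ∃ c ∈ C0, ν w = (w : G) * c := fun w => by
    obtain ⟨c, hc, e⟩ := hsplit fW (fun i j hij v w => hcW hij v w) o w C0 fun j hj =>
      mem_inf.mpr ⟨hWVt j w w.2, fun l hl => by
        have hj' : ((j.out : X)⁻¹) ∉ S := fun hm => hoff' j hj (inv_mem_iff.mp hm)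
        have h1 : Commute ((t j)⁻¹ * l * t j) (w : G) := by
          have h2 := (hdis _ hj' l hl).2 w w.2
          simp only [Subgroup.coe_inv, inv_inv] at h2
          exact h2.symm
        exact (hback j (by
          rwa [show (t j)⁻¹ * (t j * w * (t j)⁻¹) * t j = (w : G) by group]) :
          Commute l (t j * w * (t j)⁻¹)).eq⟩
    exact ⟨c, hc, e.trans (by rw [hfWo])⟩
  have hνinj : Function.Injective ν := (injective_iff_map_eq_one ν).mpr fun w hw => by
    obtain ⟨c, hc, e⟩ := hνc w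
    rw [hw, eq_comm, mul_eq_one_iff_eq_inv] at e
    exact Subtype.ext (mem_bot.mp (P.inf_bot.le (mem_inf.mpr ⟨w.2, e ▸ C0.inv_mem hc⟩)))
  have hWnorm : ∀ (l : L) (w : W), (l : G) * w * (l : G)⁻¹ ∈ W := fun l w =>
    (Basics.conj_mem_iff_of_mem_normalizer (ha.normalizes_plane h hgen P hD (P.leH l.2))).mpr w.2
  have hact : ∀ (l : L) (w : W), δ l * ν w * (δ l)⁻¹ = ν ⟨_, hWnorm l w⟩ := by
    intro l w
    have hi : ∀ i : T, δ l * fW i w * (δ l)⁻¹ = fW i ⟨_, hWnorm l w⟩ := by
      intro i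
      obtain ⟨c, hc, e⟩ := hsplit fL (fun i j hij l m => hcL hij l m) i l
        (centralizer ((fW i).range : Set G)) fun j hj => by
          rintro _ ⟨v, rfl⟩
          refine (hback i ?_ : Commute (fW i v) (fL j l)).eq
          show Commute ((t i)⁻¹ * (t i * v * (t i)⁻¹) * t i) ((t i)⁻¹ * (t j * l * (t j)⁻¹) * t i)
          rw [hconj j i, show (t i)⁻¹ * (t i * v * (t i)⁻¹) * t i = (v : G) by group]
          exact (hdis _ (hoff j i hj) l l.2).2 v v.2
      have hcc : c * fW i w * c⁻¹ = fW i w := by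
        rw [← hc _ ⟨w, rfl⟩, mul_inv_cancel_right]
      show δ l * fW i w * (δ l)⁻¹ = _
      rw [show δ l = fL i l * c from e]
      calc fL i l * c * fW i w * (fL i l * c)⁻¹ = fL i l * (c * fW i w * c⁻¹) * (fL i l)⁻¹ := by group
        _ = fL i l * fW i w * (fL i l)⁻¹ := by rw [hcc]
        _ = _ := by
          show t i * l * (t i)⁻¹ * (t i * w * (t i)⁻¹) * (t i * l * (t i)⁻¹)⁻¹ =
            t i * ((l : G) * w * (l : G)⁻¹) * (t i)⁻¹
          group
    show (MulAut.conj (δ l)).toMonoidHom (Finset.univ.noncommProd (fun i => fW i w)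
        (fun i _ j _ hij => hcW hij _ _)) =
      Finset.univ.noncommProd (fun i => fW i ⟨_, hWnorm l w⟩)
        (fun i _ j _ hij => hcW hij ⟨_, hWnorm l w⟩ ⟨_, hWnorm l w⟩)
    exact (Finset.map_noncommProd ..).trans (Finset.noncommProd_congr rfl (fun i _ => hi i) _)
  have hinv : ∀ {N : Subgroup G} (f : T → N →* G)
      (hf : Pairwise fun i j => ∀ x y, Commute (f i x) (f j y)) (y : X),
      (∀ i n, (y : G) * f i n * (y : G)⁻¹ = f (QuotientGroup.mk y * i) n) →
      ∀ n : N, (y : G) * MonoidHom.noncommPiCoprod f hf (fun _ => n) * (y : G)⁻¹ =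
        MonoidHom.noncommPiCoprod f hf (fun _ => n) := by
    intro N f hf y hy n
    let σ : (T → N) →* (T → N) := Pi.monoidHom fun i => Pi.evalMonoidHom (fun _ : T => N) ((QuotientGroup.mk y)⁻¹ * i)
    have e : ((MulAut.conj (y : G)).toMonoidHom).comp (MonoidHom.noncommPiCoprod f hf) =
        (MonoidHom.noncommPiCoprod f hf).comp σ := by
      refine MonoidHom.pi_ext fun i x => ?_
      have e1 : σ (Pi.mulSingle i x) = Pi.mulSingle (QuotientGroup.mk y * i) x := by
        funext j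
        show (Pi.mulSingle i x : T → N) ((QuotientGroup.mk y)⁻¹ * j) = _
        rcases eq_or_ne j (QuotientGroup.mk y * i) with rfl | hj
        · simp
        · rw [Pi.mulSingle_eq_of_ne hj, Pi.mulSingle_eq_of_ne]
          exact fun e => hj (by rw [← e, mul_inv_cancel_left])
      show (y : G) * MonoidHom.noncommPiCoprod f hf (Pi.mulSingle i x) * (y : G)⁻¹ =
        MonoidHom.noncommPiCoprod f hf (σ (Pi.mulSingle i x))
      rw [e1, MonoidHom.noncommPiCoprod_mulSingle, MonoidHom.noncommPiCoprod_mulSingle, hy]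
    exact DFunLike.congr_fun e (fun _ => n)
  have hmove : ∀ (y : X) (i : T) (n : G), (∀ s : X, s ∈ S → (s : G) * n * (s : G)⁻¹ = n) →
      (y : G) * (t i * n * (t i)⁻¹) * (y : G)⁻¹ =
        t (QuotientGroup.mk y * i) * n * (t (QuotientGroup.mk y * i))⁻¹ := by
    intro y i n hn
    set j : T := QuotientGroup.mk y * i
    have hm : (j.out)⁻¹ * (y * i.out) ∈ S :=
      QuotientGroup.eq.mp (by rw [QuotientGroup.out_eq', QuotientGroup.mk_mul, QuotientGroup.out_eq'])
    conv_rhs => rw [← hn _ hm]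
    simp only [t, Subgroup.coe_mul, Subgroup.coe_inv]
    group
  have hδX : ∀ l : L, δ l ∈ centralizer (X : Set G) := fun l y hy => by
    have := hinv fL (fun i j hij l m => hcL hij l m) ⟨y, hy⟩
      (fun i n => hmove ⟨y, hy⟩ i n fun s hs => hSL s hs n n.2) l
    exact mul_inv_eq_iff_eq_mul.mp this
  have hνX : ∀ w : W, ν w ∈ centralizer (X : Set G) := fun w y hy => by
    have := hinv fW (fun i j hij v w => hcW hij v w) ⟨y, hy⟩
      (fun i n => hmove ⟨y, hy⟩ i n fun s hs => by rw [(hSW s hs n n.2).eq, mul_inv_cancel_right]) w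
    exact mul_inv_eq_iff_eq_mul.mp this
  refine ⟨ν.range, δ.range, ?_, ?_, ?_, ?_, ?_, ?_, ?_⟩
  · rintro _ ⟨w, rfl⟩
    refine mem_inf.mpr ⟨?_, hνX w⟩
    show Finset.univ.noncommProd (fun i => fW i w) (fun i _ j _ hij => hcW hij w w) ∈ V
    exact V.noncommProd_mem _ fun i _ => hWVt i w w.2
  · rw [← P.card_W, Nat.card_congr (MonoidHom.ofInjective hνinj).toEquiv]
  · rintro _ ⟨l, rfl⟩
    refine mem_inf.mpr ⟨?_, hδX l⟩
    show Finset.univ.noncommProd (fun i => fL i l) (fun i _ j _ hij => hcL hij l l) ∈ H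
    exact H.noncommProd_mem _ fun i _ =>
      (Basics.conj_mem_iff_of_mem_normalizer (hXH (i.out : X).2)).mpr (P.leH l.2)
  · rintro _ ⟨l, rfl⟩
    refine mem_normalizer_of_map_conj_eq (eq_of_le_of_card_ge ?_
      (card_map_of_injective (MulAut.conj (δ l)).injective).ge)
    rintro _ ⟨_, ⟨w, rfl⟩, rfl⟩
    exact ⟨_, (hact l w).symm⟩
  · rw [eq_bot_iff]
    rintro _ ⟨⟨l, rfl⟩, hl⟩
    refine mem_bot.mpr ?_
    have : l = 1 := Subtype.ext (mem_bot.mp (P.faithful_W.le ⟨l.2, fun w hw => by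
      have h1 := hact l ⟨w, hw⟩
      rw [← hl _ ⟨⟨w, hw⟩, rfl⟩, mul_inv_cancel_right] at h1
      have h2 := congrArg Subtype.val (hνinj h1)
      exact (mul_inv_eq_iff_eq_mul.mp h2.symm).symm⟩))
    rw [this, map_one]
  · have hδinj : Function.Injective δ := (injective_iff_map_eq_one δ).mpr fun l hl => by
      refine Subtype.ext (mem_bot.mp (P.faithful_W.le ⟨l.2, fun w hw => ?_⟩))
      have h1 := hact l ⟨w, hw⟩
      rw [hl, one_mul, inv_one, mul_one] at h1
      have h2 := congrArg Subtype.val (hνinj h1)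
      exact (mul_inv_eq_iff_eq_mul.mp h2.symm).symm
    exact ⟨(MonoidHom.ofInjective hδinj).symm.trans eψ⟩
  · intro l hl
    obtain ⟨c, hc, e⟩ := hδc ⟨l, hl⟩
    exact ⟨_, ⟨⟨l, hl⟩, rfl⟩, c, hc, e⟩

end Cfsg.Agent.Components
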