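import Cfsg.Agent.Lib.Components.FFThompson

/-!
# Offender measure of maximal elementary abelian subgroups on a module without `O_p`
-/

set_option autoImplicit false
set_option linter.unusedSectionVars false
set_option linter.style.haveILetI false

namespace Cfsg.Agent.Components

open scoped commutatorElement MatrixGroups
open Subgroup Cfsg Cfsg.Agent.Transfer

universe u

variable {p : ℕ} [hp : Fact p.Prime]

/-- In a `p`-separable group acting on a normal elementary abelian `W` without `O_p` in the quotient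
by the kernel, every maximal elementary abelian subgroup has measure `|C_A(W)| |W|`. -/
theorem offMeasure_max_eq {G : Type u} [Group G] [Finite G] (hsep : IsPSolvable p G)
    (W : Subgroup G) [hWn : W.Normal] (hea : IsElementaryAbelian p W)
    (hOq : pCore p (G ⧸ centralizer (W : Set G)) = ⊥) {A : Subgroup G}
    (hA : A ∈ maxElementaryAbelianSubgroups p G) :
    offMeasure W A = Nat.card ↥(centralizer (W : Set G) ⊓ A : Subgroup G) * Nat.card W := by
  set C := centralizer (W : Set G) with hCdef
  haveI hCn : C.Normal := inferInstance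
  -- the semidirect product
  let φ : (G ⧸ C) →* MulAut W :=
    QuotientGroup.lift C (MulAut.conjNormal : G →* MulAut W) fun c hc => by
      refine MonoidHom.mem_ker.mpr (MulEquiv.ext fun w => Subtype.ext ?_)
      rw [MulAut.conjNormal_apply]
      show c * w * c⁻¹ = w
      rw [← hc w w.2, mul_inv_cancel_right]
  let q := QuotientGroup.mk' C
  have hq : Function.Surjective q := QuotientGroup.mk'_surjective C
  let V : Subgroup (↥W ⋊[φ] (G ⧸ C)) := (SemidirectProduct.inl : ↥W →* _).range
  haveI : Finite (↥W ⋊[φ] (G ⧸ C)) := Finite.of_equiv _ SemidirectProduct.equivProd.symm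
  have hinr : Function.Injective (SemidirectProduct.inr : (G ⧸ C) →* ↥W ⋊[φ] (G ⧸ C)) :=
    SemidirectProduct.inr_injective
  have hconj : ∀ (g : G) (w : W),
      (SemidirectProduct.inr (q g) : ↥W ⋊[φ] (G ⧸ C)) * SemidirectProduct.inl w *
        (SemidirectProduct.inr (q g))⁻¹ = SemidirectProduct.inl (MulAut.conjNormal g w) := by
    intro g w
    rw [← map_inv, ← SemidirectProduct.inl_aut]
    rfl
  have hVn : ∀ x : ↥W ⋊[φ] (G ⧸ C), x ∈ normalizer (V : Set (↥W ⋊[φ] (G ⧸ C))) := by
    intro x
    have : V.Normal := by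
      show ((SemidirectProduct.inl : ↥W →* _).range).Normal
      rw [SemidirectProduct.range_inl_eq_ker_rightHom]
      exact MonoidHom.normal_ker _
    rw [normalizer_eq_top]; trivial
  have hVea : IsElementaryAbelian p V := by
    have h1 := ea_map (p := p) (f := (SemidirectProduct.inl : ↥W →* ↥W ⋊[φ] (G ⧸ C)))
      (A := ⊤) (ea_of_map W.subtype W.subtype_injective.injOn
        (by rwa [← MonoidHom.range_eq_map, range_subtype]))
    rwa [← MonoidHom.range_eq_map] at h1
  have hfixmem : ∀ (B : Subgroup G) (w : W),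
      (SemidirectProduct.inl w : ↥W ⋊[φ] (G ⧸ C)) ∈
        centralizer ((((B.map q).map (SemidirectProduct.inr : (G ⧸ C) →* ↥W ⋊[φ] (G ⧸ C))) :
          Subgroup (↥W ⋊[φ] (G ⧸ C))) : Set (↥W ⋊[φ] (G ⧸ C))) ↔
      (w : G) ∈ centralizer (B : Set G) := by
    intro B w
    constructor
    · intro h b hb
      have h1 := h _ (mem_map_of_mem _ (mem_map_of_mem q hb))
      have h2 := hconj b w
      rw [h1, mul_inv_cancel_right] at h2
      have h3 := congrArg (Subtype.val) (SemidirectProduct.inl_injective h2)
      rw [MulAut.conjNormal_apply] at h3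
      exact (eq_mul_inv_iff_mul_eq.mp h3).symm
    · rintro h _ ⟨_, ⟨b, hb, rfl⟩, rfl⟩
      have h2 := hconj b w
      have h3 : MulAut.conjNormal b w = w := Subtype.ext (by
        rw [MulAut.conjNormal_apply]
        exact mul_inv_eq_iff_eq_mul.mpr (h b hb))
      rw [h3] at h2
      exact mul_inv_eq_iff_eq_mul.mp h2
  have hmeas : ∀ B : Subgroup G,
      offMeasure W B = Nat.card ↥(C ⊓ B : Subgroup G) *
        offMeasure V ((B.map q).map SemidirectProduct.inr) := by
    intro B
    have e1 : Nat.card B = Nat.card ↥(C ⊓ B : Subgroup G) * Nat.card ↥(B.map q) := by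
      have h1 := card_mul_index (C.subgroupOf B)
      have h2 : (C.subgroupOf B).index = Nat.card ↥(B.map q) := by
        show C.relIndex B = _
        have h3 : (QuotientGroup.mk' C).ker.relIndex B = Nat.card ↥(B.map q) := by
          rw [relIndex_ker]
        exact (congrArg (fun S : Subgroup G => S.relIndex B) (QuotientGroup.ker_mk' C)).symm.trans h3
      rw [h2, ← inf_subgroupOf_right, Basics.card_subgroupOf inf_le_right] at h1
      exact h1.symm
    have e2 : Nat.card ↥(W ⊓ centralizer (B : Set G) : Subgroup G) =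
        Nat.card ↥(V ⊓ centralizer
          ((((B.map q).map (SemidirectProduct.inr : (G ⧸ C) →* ↥W ⋊[φ] (G ⧸ C))) :
            Subgroup (↥W ⋊[φ] (G ⧸ C))) : Set (↥W ⋊[φ] (G ⧸ C)))) := by
      refine Nat.card_congr (Equiv.ofBijective
        (fun w => ⟨SemidirectProduct.inl ⟨w.1, w.2.1⟩, ⟨⟨_, rfl⟩, (hfixmem B _).mpr w.2.2⟩⟩) ?_)
      constructor
      · intro u v h
        have h1 := SemidirectProduct.inl_injective (congrArg Subtype.val h)
        exact Subtype.ext (congrArg Subtype.val h1 :)
      · rintro ⟨x, ⟨w, rfl⟩, hx⟩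
        exact ⟨⟨w, w.2, (hfixmem B w).mp hx⟩, rfl⟩
    rw [offMeasure, offMeasure, card_map_of_injective hinr, e1, e2, mul_assoc]
  set J := thompsonSubgroup p G with hJdef
  haveI hJn : J.Normal := by
    haveI := Transfer.thompsonSubgroup_characteristic (p := p) (G := G)
    infer_instance
  let H0 := J.map q
  let H := H0.map (SemidirectProduct.inr : (G ⧸ C) →* ↥W ⋊[φ] (G ⧸ C))
  have hf : H ⊓ centralizer (V : Set (↥W ⋊[φ] (G ⧸ C))) = ⊥ := by
    rw [eq_bot_iff]
    rintro x ⟨⟨y, ⟨g, hg, rfl⟩, rfl⟩, hx⟩
    have hgC : g ∈ C := by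
      intro w hw
      have h1 : Commute (SemidirectProduct.inl ⟨w, hw⟩ : ↥W ⋊[φ] (G ⧸ C))
          (SemidirectProduct.inr (q g)) := hx _ ⟨_, rfl⟩
      have h2 := hconj g ⟨w, hw⟩
      rw [← h1.eq, mul_inv_cancel_right] at h2
      have h3 := congrArg (Subtype.val) (SemidirectProduct.inl_injective h2)
      rw [MulAut.conjNormal_apply] at h3
      exact eq_mul_inv_iff_mul_eq.mp h3
    rw [mem_bot, (QuotientGroup.eq_one_iff g).mpr hgC |> fun h => (show q g = 1 from h), map_one]
  have hS1 : centralizer (pPrimeCore p ↥H : Set ↥H) ≤ pPrimeCore p ↥H := by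
    have e : ↥H0 ≃* ↥H := equivMapOfInjective H0 _ hinr
    have hsepH : IsPSolvable p ↥H := Coprime23.isPSolvable_map e.toMonoidHom e.surjective
      (isPSolvable_subgroup' (Coprime23.isPSolvable_map q hq hsep) H0)
    refine centralizer_pPrimeCore_le hsepH ?_
    have hH0n : H0.Normal := hJn.map q hq
    haveI := hH0n
    have h1 : pCore p ↥H0 = ⊥ :=
      LocalEvenA.pCore_subnormal_eq_bot (isSubnormal_of_normal H0) hOq
    rw [← LocalEvenA.pCore_map_iso (p := p) e, h1, Subgroup.map_bot]
  set A0 := (A.map q).map (SemidirectProduct.inr : _ →* ↥W ⋊[φ] (G ⧸ C))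
  have hset := FFSetup.of_hyp hVea (fun x _ => hVn x) hf hS1
  have hAH : A0 ≤ H := map_mono (map_mono (le_sSup hA))
  have hAe : IsElementaryAbelian p A0 := ea_map (ea_map hA.1 q) _
  have hVc : Nat.card V = Nat.card W :=
    Nat.card_congr (MonoidHom.ofInjective SemidirectProduct.inl_injective).toEquiv.symm
  refine le_antisymm ?_ ?_
  · rw [hmeas, ← hVc]
    exact Nat.mul_le_mul_left _ (hset.offMeasure_le_card A0 hAH hAe)
  · have h1 := offMeasure_le_of_isBestOffenderOn (S0606.result W hea A hA) (C ⊓ A) inf_le_right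
    refine le_trans (Nat.mul_le_mul_left _ ?_) h1
    exact card_le_of_le (le_inf le_rfl fun w hw x hx => (hx.1 w hw).symm)

end Cfsg.Agent.Components
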