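import Cfsg.Agent.Lib.Components.FFModule
import Cfsg.Agent.Lib.Transfer.Quadratic
import Cfsg.Agent.Lib.Components.PPrimeCore
import Cfsg.Agent.Lib.Basics.CoprimeAction

/-!
# Faithful groups generated by offenders with self-centralising `p'`-core: basic counting
-/

set_option autoImplicit false
set_option linter.unusedSectionVars false
set_option linter.style.haveILetI false

namespace Cfsg.Agent.Components

open scoped commutatorElement
open Subgroup Cfsg Cfsg.Agent.Transfer

variable {G : Type*} [Group G] {p : ℕ}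

/-- A faithful group `H` on `V` with self-centralising normal `p'`-subgroup `Q`. -/
structure FFSetup (p : ℕ) (V H Q : Subgroup G) : Prop where
  ea : IsElementaryAbelian p V
  le : H ≤ normalizer (V : Set G)
  faithful : H ⊓ centralizer (V : Set G) = ⊥
  Qle : Q ≤ H
  Qnorm : H ≤ normalizer (Q : Set G)
  Qcop : (Nat.card Q).Coprime p
  Qself : H ⊓ centralizer (Q : Set G) ≤ Q

variable [Finite G] [hp : Fact p.Prime]

theorem FFSetup.of_hyp {V H : Subgroup G} (hV : IsElementaryAbelian p V)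
    (hHV : H ≤ normalizer (V : Set G)) (hf : H ⊓ centralizer (V : Set G) = ⊥)
    (hS1 : centralizer (pPrimeCore p ↥H : Set ↥H) ≤ pPrimeCore p ↥H) :
    FFSetup p V H ((pPrimeCore p ↥H).map H.subtype) := by
  refine ⟨hV, hHV, hf, map_subtype_le _, ?_, ?_, ?_⟩
  · intro h hh
    refine mem_normalizer_iff.mpr fun x => ⟨?_, ?_⟩
    · rintro ⟨y, hy, rfl⟩
      exact ⟨⟨h, hh⟩ * y * ⟨h, hh⟩⁻¹, Normal.conj_mem inferInstance y hy _, rfl⟩
    · rintro ⟨y, hy, he⟩
      refine ⟨⟨h, hh⟩⁻¹ * y * ⟨h, hh⟩⁻¹⁻¹, Normal.conj_mem inferInstance y hy _, ?_⟩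
      simp only [coe_subtype, coe_mul, coe_inv, inv_inv] at he ⊢
      rw [he]; group
  · rw [card_map_of_injective H.subtype_injective]
    exact pPrimeCore_coprime
  · rintro x ⟨hx, hxc⟩
    refine ⟨⟨x, hx⟩, hS1 fun y hy => Subtype.ext ?_, rfl⟩
    exact hxc _ (mem_map_of_mem H.subtype hy)

theorem eq_bot_of_coprime_isPGroup {A Q : Subgroup G} (hA : IsPGroup p A)
    (hQ : (Nat.card Q).Coprime p) : A ⊓ Q = ⊥ := by
  refine eq_bot_of_card_eq _ (Nat.dvd_one.mp ?_)
  obtain ⟨k, hk⟩ := hA.exists_card_eq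
  have h2 : Nat.card (A ⊓ Q : Subgroup G) ∣ Nat.gcd (p ^ k) (Nat.card Q) :=
    Nat.dvd_gcd (hk ▸ card_dvd_of_le inf_le_left) (card_dvd_of_le inf_le_right)
  rwa [(hQ.symm.pow_left k)] at h2

/-- In an elementary abelian group a proper subgroup has at most a `p`-th of the order. -/
theorem mul_card_le_of_lt {V C D : Subgroup G} (hV : IsElementaryAbelian p V) (hCD : C < D)
    (hD : D ≤ V) : p * Nat.card C ≤ Nat.card D := by
  obtain ⟨m, hm⟩ := (ea_isPGroup (ea_mono hV (hCD.le.trans hD))).exists_card_eq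
  obtain ⟨n, hn⟩ := (ea_isPGroup (ea_mono hV hD)).exists_card_eq
  have hlt := Basics.card_lt_of_lt hCD
  rw [hm, hn] at hlt ⊢
  rw [← pow_succ']
  exact Nat.pow_le_pow_right hp.out.pos
    (Nat.succ_le_of_lt ((Nat.pow_lt_pow_iff_right hp.out.one_lt).mp hlt))

theorem card_sup_zpowers_le {B : Subgroup G} {x : G} (hx : x ^ p = 1)
    (hn : zpowers x ≤ normalizer (B : Set G)) :
    Nat.card ↥(B ⊔ zpowers x) ≤ p * Nat.card B := by
  have h := Basics.card_mul_card_eq_card_sup_mul_card_inf hn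
  have h1 : Nat.card ↥(zpowers x) ≤ p := by
    rw [Nat.card_zpowers]
    exact Nat.le_of_dvd hp.out.pos (orderOf_dvd_of_pow_eq_one hx)
  calc Nat.card ↥(B ⊔ zpowers x) ≤ Nat.card ↥(B ⊔ zpowers x) * Nat.card ↥(B ⊓ zpowers x) :=
        Nat.le_mul_of_pos_right _ (card_pos' _)
    _ = Nat.card B * Nat.card ↥(zpowers x) := h.symm
    _ ≤ p * Nat.card B := by rw [mul_comm p]; exact Nat.mul_le_mul_left _ h1

namespace FFSetup

variable {V H Q : Subgroup G}

/-- `B` is a hyperplane of `A` on whose centraliser in `Q` the group `A` acts nontrivially. -/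
def Good (p : ℕ) (Q A B : Subgroup G) : Prop :=
  B ≤ A ∧ ¬ Q ⊓ centralizer (B : Set G) ≤ centralizer (A : Set G) ∧
    Nat.card A = p * Nat.card B

theorem ea_of_isBestOffenderOn (h : FFSetup p V H Q) {A : Subgroup G} (hAH : A ≤ H)
    (hA : IsBestOffenderOn p V A) : IsElementaryAbelian p A := by
  refine ⟨⟨⟨fun x y => Subtype.ext ?_⟩⟩, fun a ha => ?_⟩
  · have h1 : ⁅(x : G), (y : G)⁆ ∈ H ⊓ centralizer (V : Set G) :=
      ⟨by rw [commutatorElement_def]; exact H.mul_mem (H.mul_mem (H.mul_mem (hAH x.2) (hAH y.2)) (H.inv_mem (hAH x.2))) (H.inv_mem (hAH y.2)),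
        hA.2.1 (commutator_mem_commutator x.2 y.2)⟩
    rw [h.faithful, mem_bot, commutatorElement_eq_one_iff_commute] at h1
    exact h1.eq
  · have h1 : a ^ p ∈ H ⊓ centralizer (V : Set G) := ⟨pow_mem (hAH ha) p, hA.2.2 a ha⟩
    rwa [h.faithful, mem_bot] at h1

theorem inf_centralizer_eq_bot (h : FFSetup p V H Q) {A : Subgroup G} (hAH : A ≤ H)
    (hA : IsElementaryAbelian p A) : A ⊓ centralizer (Q : Set G) = ⊥ := by
  have h1 := eq_bot_of_coprime_isPGroup (ea_isPGroup hA) h.Qcop
  exact le_bot_iff.mp (h1 ▸ le_inf inf_le_left ((inf_le_inf_right _ hAH).trans h.Qself))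

theorem not_Q_le_centralizer (h : FFSetup p V H Q) {A : Subgroup G} (hAH : A ≤ H)
    (hA : IsElementaryAbelian p A) (hA1 : A ≠ ⊥) : ¬ Q ≤ centralizer (A : Set G) := by
  intro hle
  exact hA1 (le_bot_iff.mp (h.inf_centralizer_eq_bot hAH hA ▸
    le_inf le_rfl (le_centralizer_iff.mp hle)))

/-- Either some hyperplane is good, or `Q` centralises `A`; good ones besides a given one. -/
theorem exists_good_ne (h : FFSetup p V H Q) {A : Subgroup G} (hAH : A ≤ H)
    (hA : IsElementaryAbelian p A) {B0 : Subgroup G} (hB0 : B0 ≤ A)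
    (hne : ¬ Q ≤ centralizer (B0 : Set G)) : ∃ B, Good p Q A B ∧ B ≠ B0 := by
  haveI := hA.1
  have hAQ : A ≤ normalizer (Q : Set G) := hAH.trans h.Qnorm
  obtain ⟨k, hk⟩ := (ea_isPGroup hA).exists_card_eq
  have hcop : (Nat.card A).Coprime (Nat.card Q) := hk ▸ (h.Qcop.symm.pow_left k)
  by_contra hno
  push Not at hno
  refine hne ((Basics.le_iSup_inf_centralizer_cyclic A Q hAQ hcop).trans (iSup₂_le ?_))
  rintro B ⟨hB, x, hx, hBx⟩
  rcases eq_or_ne B B0 with rfl | hB'
  · exact inf_le_right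
  refine le_trans ?_ (centralizer_le hB0)
  by_contra hnle
  have hle : Nat.card A ≤ p * Nat.card B := by
    rw [← hBx]
    exact card_sup_zpowers_le (hA.2 x hx)
      ((zpowers_le.mpr hx).trans (ea_le_normalizer hA hB))
  have hlt : B < A := lt_of_le_of_ne hB fun e => hnle (e ▸ inf_le_right)
  exact hB' (hno B ⟨hB, hnle, le_antisymm hle (mul_card_le_of_lt hA hlt le_rfl)⟩)

theorem exists_good (h : FFSetup p V H Q) {A : Subgroup G} (hAH : A ≤ H)
    (hA : IsElementaryAbelian p A) (hA1 : A ≠ ⊥) : ∃ B, Good p Q A B := by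
  obtain ⟨B, hB, -⟩ := h.exists_good_ne hAH hA le_rfl (h.not_Q_le_centralizer hAH hA hA1)
  exact ⟨B, hB⟩

theorem fixed_lt_of_good (h : FFSetup p V H Q) {A B : Subgroup G} (hAH : A ≤ H)
    (hA : IsElementaryAbelian p A) (hB : Good p Q A B) :
    V ⊓ centralizer (A : Set G) < V ⊓ centralizer (B : Set G) := by
  refine lt_of_le_of_ne (fixed_anti hB.1) fun e => hB.2.1 ?_
  rintro q ⟨hqQ, hqB⟩ a ha
  have hq : q ∈ H := h.Qle hqQ
  have hqa : ⁅q, a⁆ ∈ Q := by
    rw [commutatorElement_eq_mul_conj]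
    exact mul_mem hqQ ((Basics.conj_mem_iff_of_mem_normalizer (h.Qnorm (hAH ha))).mpr
      (inv_mem hqQ))
  have hxc : ∀ y ∈ B, Commute ⁅q, a⁆ y := by
    intro y hy
    have h1 : Commute q y := (hqB y hy).symm
    have h2 : Commute a y := ea_commute hA ha (hB.1 hy)
    rw [commutatorElement_def]
    exact ((h1.mul_left h2).mul_left h1.inv_left).mul_left h2.inv_left
  have hH : ⁅q, a⁆ ∈ H := h.Qle hqa
  have hfix : ∀ v ∈ V, (∀ y ∈ B, Commute y v) → Commute ⁅q, a⁆ v := by
    intro v hv hvB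
    have hmem : ∀ u : G, u ∈ V ⊓ centralizer (B : Set G) → Commute a u := fun u hu => by
      rw [← e] at hu; exact hu.2 a ha
    have hv' : v ∈ V ⊓ centralizer (B : Set G) := ⟨hv, fun y hy => (hvB y hy).eq⟩
    have hu : q⁻¹ * v * q ∈ V ⊓ centralizer (B : Set G) := by
      refine ⟨?_, fun y hy => ?_⟩
      · have := (Basics.conj_mem_iff_of_mem_normalizer (inv_mem (h.le hq))).mpr hv
        rwa [inv_inv] at this
      · have h1 : Commute y q := hqB y hy
        exact ((h1.inv_right.mul_right (hvB y hy)).mul_right h1).eq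
    have e1 : a⁻¹ * v * a = v := by
      rw [mul_assoc, ← (hmem v hv').eq, inv_mul_cancel_left]
    have e2 : a * (q⁻¹ * v * q) * a⁻¹ = q⁻¹ * v * q := by
      rw [(hmem _ hu).eq, mul_inv_cancel_right]
    have e3 : ⁅q, a⁆ * v * ⁅q, a⁆⁻¹ = v := by
      calc ⁅q, a⁆ * v * ⁅q, a⁆⁻¹ = q * (a * (q⁻¹ * (a⁻¹ * v * a) * q) * a⁻¹) * q⁻¹ := by
            rw [commutatorElement_def]; group
        _ = v := by rw [e1, e2]; group
    exact mul_inv_eq_iff_eq_mul.mp e3
  have hcop : (orderOf ⁅q, a⁆).Coprime p := by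
    have := orderOf_dvd_natCard (⟨_, hqa⟩ : Q)
    rw [← Subgroup.orderOf_coe] at this
    exact h.Qcop.coprime_dvd_left this
  have h3 := commute_of_commute_fixed (ea_isPGroup (ea_mono hA hB.1)) (ea_isPGroup h.ea)
    ((hB.1.trans hAH).trans h.le) hcop (h.le hH) hxc hfix
  have h4 : ⁅q, a⁆ ∈ H ⊓ centralizer (V : Set G) := ⟨hH, fun v hv => (h3 v hv).eq.symm⟩
  rw [h.faithful, mem_bot, commutatorElement_eq_one_iff_commute] at h4
  exact h4.eq.symm

theorem offMeasure_le_of_good (h : FFSetup p V H Q) {A B : Subgroup G} (hAH : A ≤ H)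
    (hA : IsElementaryAbelian p A) (hB : Good p Q A B) : offMeasure V A ≤ offMeasure V B := by
  have h1 := mul_card_le_of_lt h.ea (h.fixed_lt_of_good hAH hA hB) inf_le_left
  calc offMeasure V A = Nat.card B * (p * Nat.card ↥(V ⊓ centralizer (A : Set G))) := by
        rw [offMeasure, hB.2.2]; ring
    _ ≤ _ := Nat.mul_le_mul_left _ h1

theorem offMeasure_le_card (h : FFSetup p V H Q) : ∀ A : Subgroup G, A ≤ H →
    IsElementaryAbelian p A → offMeasure V A ≤ Nat.card V := by
  intro A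
  induction A using WellFoundedLT.induction with
  | _ A ih =>
  intro hAH hA
  rcases eq_or_ne A ⊥ with rfl | hne
  · rw [offMeasure_bot]
  obtain ⟨B, hB⟩ := h.exists_good hAH hA hne
  refine (h.offMeasure_le_of_good hAH hA hB).trans (ih B (lt_of_le_of_ne hB.1 fun e => ?_)
    (hB.1.trans hAH) (ea_mono hA hB.1))
  exact hB.2.1 (e ▸ inf_le_right)

theorem offMeasure_eq_card (h : FFSetup p V H Q) {A : Subgroup G} (hAH : A ≤ H)
    (hA : IsBestOffenderOn p V A) : offMeasure V A = Nat.card V :=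
  le_antisymm (h.offMeasure_le_card A hAH (h.ea_of_isBestOffenderOn hAH hA))
    (offMeasure_bot V ▸ hA.1 ⊥ bot_le)

theorem isBestOffenderOn_of_eq_card (h : FFSetup p V H Q) {A : Subgroup G} (hAH : A ≤ H)
    (hA : IsElementaryAbelian p A) (he : offMeasure V A = Nat.card V) :
    IsBestOffenderOn p V A := by
  refine ⟨fun B hB => ?_, ?_, fun a ha => by rw [hA.2 a ha]; exact one_mem _⟩
  · exact (h.offMeasure_le_card B (hB.trans hAH) (ea_mono hA hB)).trans (le_of_eq he.symm)
  · rw [commutator_le]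
    intro a ha b hb
    rw [commutatorElement_eq_one_iff_commute.mpr (ea_commute hA ha hb)]
    exact one_mem _

theorem good_offMeasure_eq_card (h : FFSetup p V H Q) {A B : Subgroup G} (hAH : A ≤ H)
    (hA : IsBestOffenderOn p V A) (hB : Good p Q A B) : offMeasure V B = Nat.card V :=
  le_antisymm (h.offMeasure_le_card B (hB.1.trans hAH)
      (ea_mono (h.ea_of_isBestOffenderOn hAH hA) hB.1))
    ((h.offMeasure_eq_card hAH hA).ge.trans
      (h.offMeasure_le_of_good hAH (h.ea_of_isBestOffenderOn hAH hA) hB))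

theorem commutator_ne_bot (h : FFSetup p V H Q) {A : Subgroup G} (hAH : A ≤ H) (hA1 : A ≠ ⊥) :
    ⁅V, A⁆ ≠ ⊥ := by
  intro e
  rw [commutator_comm, commutator_eq_bot_iff_le_centralizer] at e
  exact hA1 (le_bot_iff.mp (h.faithful ▸ le_inf hAH e))

/-- Minimal offenders have order `p`. -/
theorem card_eq_p_of_minimal (h : FFSetup p V H Q) {A : Subgroup G} (hAH : A ≤ H)
    (hA : IsBestOffenderOn p V A) (hAV : ⁅V, A⁆ ≠ ⊥)
    (hmin : ∀ B : Subgroup G, B ≤ A → IsBestOffenderOn p V B → ⁅V, B⁆ ≠ ⊥ → B = A) :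
    Nat.card A = p := by
  have hea := h.ea_of_isBestOffenderOn hAH hA
  have hA1 : A ≠ ⊥ := fun e => hAV (by rw [e, commutator_bot_right])
  obtain ⟨B, hB⟩ := h.exists_good hAH hea hA1
  have hBH := hB.1.trans hAH
  rcases eq_or_ne B ⊥ with rfl | hne
  · rw [hB.2.2, card_bot, mul_one]
  · have h1 := hmin B hB.1 (h.isBestOffenderOn_of_eq_card hBH (ea_mono hea hB.1)
      (h.good_offMeasure_eq_card hAH hA hB)) (h.commutator_ne_bot hBH hne)
    exact absurd (h1 ▸ inf_le_right) hB.2.1

theorem relIndex_fixed_of_card_eq_p (h : FFSetup p V H Q) {A : Subgroup G}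
    (hc : Nat.card A = p) (he : offMeasure V A = Nat.card V) :
    (V ⊓ centralizer (A : Set G)).relIndex V = p := by
  set C := V ⊓ centralizer (A : Set G)
  have h1 := card_mul_index (C.subgroupOf V)
  rw [Basics.card_subgroupOf inf_le_left] at h1
  rw [offMeasure, hc, ← h1, mul_comm] at he
  exact (Nat.eq_of_mul_eq_mul_left (card_pos' C) he).symm

/-- Best offenders are generated by offenders of order `p`. -/
theorem le_iSup_order_p (h : FFSetup p V H Q) : ∀ A : Subgroup G, A ≤ H →
    IsBestOffenderOn p V A →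
      A ≤ sSup {P : Subgroup G | P ≤ A ∧ Nat.card P = p ∧ offMeasure V P = Nat.card V} := by
  intro A
  induction A using WellFoundedLT.induction with
  | _ A ih =>
  intro hAH hA
  rcases eq_or_ne A ⊥ with rfl | hne
  · exact bot_le
  have hea := h.ea_of_isBestOffenderOn hAH hA
  obtain ⟨B, hB⟩ := h.exists_good hAH hea hne
  by_cases hB1 : B = ⊥
  · refine le_sSup ⟨le_rfl, ?_, h.offMeasure_eq_card hAH hA⟩
    rw [hB.2.2, hB1, card_bot, mul_one]
  have hsub : ∀ D, Good p Q A D → D ≤
      sSup {P : Subgroup G | P ≤ A ∧ Nat.card P = p ∧ offMeasure V P = Nat.card V} := by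
    intro D hD
    refine (ih D (lt_of_le_of_ne hD.1 fun e => hD.2.1 (e ▸ inf_le_right)) (hD.1.trans hAH)
      (h.isBestOffenderOn_of_eq_card (hD.1.trans hAH) (ea_mono hea hD.1)
        (h.good_offMeasure_eq_card hAH hA hD))).trans (sSup_le_sSup ?_)
    rintro P ⟨h1, h2, h3⟩
    exact ⟨h1.trans hD.1, h2, h3⟩
  obtain ⟨B', hB', hne'⟩ := h.exists_good_ne hAH hea hB.1
    (h.not_Q_le_centralizer (hB.1.trans hAH) (ea_mono hea hB.1) hB1)
  have hsup : B ⊔ B' = A := by
    refine eq_of_le_of_card_ge (sup_le hB.1 hB'.1) ?_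
    have hlt : B < B ⊔ B' := by
      refine lt_of_le_of_ne le_sup_left fun e => hne' ?_
      refine eq_of_le_of_card_ge (e ▸ le_sup_right) ?_
      have h2 := hB'.2.2.symm.trans hB.2.2
      exact (Nat.eq_of_mul_eq_mul_left hp.out.pos h2).ge
    exact hB.2.2 ▸ mul_card_le_of_lt hea hlt (sup_le hB.1 hB'.1)
  calc A = B ⊔ B' := hsup.symm
    _ ≤ _ := sup_le (hsub B hB) (hsub B' hB')

end FFSetup

/-- The hypothesis that `a` acts on `V` as a transvection. -/
structure IsTransv (p : ℕ) (V : Subgroup G) (a : G) : Prop where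
  mem : a ∈ normalizer (V : Set G)
  pow : a ^ p ∈ centralizer (V : Set G)
  index : (V ⊓ centralizer ((zpowers a : Subgroup G) : Set G)).relIndex V = p

namespace IsTransv

variable {V : Subgroup G} {a : G}

theorem commute_of_mem (_h : IsTransv p V a) {c : G}
    (hc : c ∈ V ⊓ centralizer ((zpowers a : Subgroup G) : Set G)) : Commute a c :=
  hc.2 a (mem_zpowers a)

theorem mem_fixed {v : G} (hv : v ∈ V) (h : Commute a v) :
    v ∈ V ⊓ centralizer ((zpowers a : Subgroup G) : Set G) :=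
  ⟨hv, fun b hb => by
    obtain ⟨i, rfl⟩ := mem_zpowers_iff.mp hb
    exact (h.zpow_left i).eq⟩

theorem zpowers_le (h : IsTransv p V a) : zpowers a ≤ normalizer (V : Set G) :=
  Subgroup.zpowers_le.mpr h.mem

theorem exists_not_mem (h : IsTransv p V a) :
    ∃ v ∈ V, v ∉ V ⊓ centralizer ((zpowers a : Subgroup G) : Set G) := by
  by_contra hne
  push Not at hne
  have := h.index
  rw [relIndex_eq_one.mpr hne] at this
  exact hp.out.one_lt.ne this

theorem commutator_le_fixed (hV : IsElementaryAbelian p V) (h : IsTransv p V a) :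
    ⁅V, zpowers a⁆ ≤ V ⊓ centralizer ((zpowers a : Subgroup G) : Set G) := by
  set C := V ⊓ centralizer ((zpowers a : Subgroup G) : Set G) with hC
  set W := ⁅V, zpowers a⁆ with hWdef
  have hW : W ≤ V := le_normalizer_iff_commutator_le_left.mp h.zpowers_le
  by_contra hle
  have hlt : C < C ⊔ W := lt_of_le_of_ne le_sup_left fun e => hle (e ▸ le_sup_right)
  have htop : C ⊔ W = V := by
    have hd : (C ⊔ W).relIndex V ∣ p := by
      rw [← h.index]; exact relIndex_dvd_of_le_left V le_sup_left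
    rcases (Nat.dvd_prime hp.out).mp hd with h1 | h1
    · exact le_antisymm (sup_le inf_le_left hW) (relIndex_eq_one.mp h1)
    · exfalso
      have h2 := relIndex_mul_relIndex C (C ⊔ W) V le_sup_left (sup_le inf_le_left hW)
      rw [h.index, h1] at h2
      exact hlt.not_ge (relIndex_eq_one.mp ((mul_eq_right₀ hp.out.ne_zero).mp h2))
  have hWW : ⁅W, zpowers a⁆ = W := by
    refine le_antisymm ((commutator_mono hW le_rfl).trans hWdef.ge) ?_
    rw [hWdef, commutator_le]
    intro v hv b hb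
    obtain ⟨c, hc, w, hw, rfl⟩ := (Basics.mem_sup_of_le_normalizer
      (hW.trans (ea_le_normalizer hV inf_le_left))).mp (htop.ge hv)
    have hwb : ⁅w, b⁆ ∈ V :=
      commutatorElement_mem_of_mem_normalizer (hW hw) (h.zpowers_le hb)
    rw [commutatorElement_mul_left', commutatorElement_eq_one_iff_commute.mpr
      (show Commute c b from (hc.2 b hb).symm), mul_one, ea_commute hV hc.1 hwb,
      mul_inv_cancel_right]
    exact commutator_mem_commutator hw hb
  have hb := eq_bot_of_commutator_eq_self hV h.zpowers_le (fun b hb => by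
    obtain ⟨i, rfl⟩ := mem_zpowers_iff.mp hb
    rw [← zpow_natCast, ← zpow_mul, mul_comm, zpow_mul, zpow_natCast]
    exact zpow_mem h.pow i) hW hWW
  exact hle (hb ▸ bot_le)

theorem commutator_eq_zpowers (hV : IsElementaryAbelian p V) (h : IsTransv p V a) {v0 : G}
    (hv0 : v0 ∈ V) (hv0' : v0 ∉ V ⊓ centralizer ((zpowers a : Subgroup G) : Set G)) :
    ⁅V, zpowers a⁆ = zpowers ⁅v0, a⁆ ∧ orderOf ⁅v0, a⁆ = p := by
  set C := V ⊓ centralizer ((zpowers a : Subgroup G) : Set G) with hC
  set w := ⁅v0, a⁆ with hw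
  have hwV : w ∈ V := commutatorElement_mem_of_mem_normalizer hv0 h.mem
  have hwC : w ∈ C :=
    h.commutator_le_fixed hV (commutator_mem_commutator hv0 (mem_zpowers a))
  constructor
  · refine le_antisymm ?_ (Subgroup.zpowers_le.mpr
      (commutator_mem_commutator hv0 (mem_zpowers a)))
    rw [commutator_le]
    intro v hv b hb
    have hva : ⁅v, a⁆ ∈ zpowers w := by
      have hsup : C ⊔ zpowers v0 = V := by
        have hd : (C ⊔ zpowers v0).relIndex V ∣ p := by
          rw [← h.index]; exact relIndex_dvd_of_le_left V le_sup_left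
        have hle : C ⊔ zpowers v0 ≤ V := sup_le inf_le_left (Subgroup.zpowers_le.mpr hv0)
        rcases (Nat.dvd_prime hp.out).mp hd with h1 | h1
        · exact le_antisymm hle (relIndex_eq_one.mp h1)
        · exfalso
          have h2 := relIndex_mul_relIndex C (C ⊔ zpowers v0) V le_sup_left hle
          rw [h.index, h1] at h2
          exact hv0' (relIndex_eq_one.mp ((mul_eq_right₀ hp.out.ne_zero).mp h2)
            (mem_sup_right (mem_zpowers v0)))
      obtain ⟨c, hc, x, hx, rfl⟩ := (Basics.mem_sup_of_le_normalizer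
        ((Subgroup.zpowers_le.mpr hv0).trans (ea_le_normalizer hV inf_le_left))).mp (hsup.ge hv)
      have hxV : x ∈ V := Subgroup.zpowers_le.mpr hv0 hx
      rw [commutatorElement_mul_left', commutatorElement_eq_one_iff_commute.mpr
        (h.commute_of_mem hc).symm, mul_one,
        ea_commute hV hc.1 (commutatorElement_mem_of_mem_normalizer hxV h.mem),
        mul_inv_cancel_right]
      obtain ⟨i, rfl⟩ := Submonoid.mem_powers_iff _ _ |>.mp (mem_powers_iff_mem_zpowers.mpr hx)
      clear hx hv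
      induction i with
      | zero => rw [pow_zero, commutatorElement_one_left]; exact one_mem _
      | succ i ih =>
        have hi : v0 ^ i ∈ V := pow_mem hv0 i
        have := ih hi
        rw [pow_succ', commutatorElement_mul_left', ea_commute hV hv0
          (commutatorElement_mem_of_mem_normalizer hi h.mem), mul_inv_cancel_right]
        exact mul_mem this (mem_zpowers w)
    obtain ⟨j, rfl⟩ := Submonoid.mem_powers_iff _ _ |>.mp (mem_powers_iff_mem_zpowers.mpr hb)
    clear hb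
    induction j with
    | zero => rw [pow_zero, commutatorElement_one_right]; exact one_mem _
    | succ j ih =>
      obtain ⟨i, hi⟩ := mem_zpowers_iff.mp ih
      rw [pow_succ', commutatorElement_mul_right', ← hi,
        ((h.commute_of_mem hwC).zpow_right i).eq, mul_inv_cancel_right]
      exact mul_mem hva (zpow_mem (mem_zpowers w) i)
  · refine orderOf_eq_prime (hV.2 w hwV) fun e => hv0' (mem_fixed hv0 ?_)
    exact (commutatorElement_eq_one_iff_commute.mp e).symm

theorem card_commutator (hV : IsElementaryAbelian p V) (h : IsTransv p V a) :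
    Nat.card ↥⁅V, zpowers a⁆ = p := by
  obtain ⟨v0, hv0, hv0'⟩ := h.exists_not_mem
  obtain ⟨h1, h2⟩ := h.commutator_eq_zpowers hV hv0 hv0'
  rw [h1, Nat.card_zpowers, h2]

end IsTransv

theorem eq_zpowers_of_card_eq_prime {A : Subgroup G} (hc : Nat.card A = p) {a : G} (ha : a ∈ A)
    (ha1 : a ≠ 1) : A = zpowers a := by
  refine (eq_of_le_of_card_ge (Subgroup.zpowers_le.mpr ha) ?_).symm
  rw [Nat.card_zpowers, hc]
  have h1 : orderOf a ∣ p := hc ▸ (by
    have := orderOf_dvd_natCard (⟨a, ha⟩ : A)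
    rwa [← Subgroup.orderOf_coe] at this)
  rcases (Nat.dvd_prime hp.out).mp h1 with h2 | h2
  · exact absurd (orderOf_eq_one_iff.mp h2) ha1
  · exact h2.ge

theorem exists_eq_zpowers_of_card_eq_prime {A : Subgroup G} (hc : Nat.card A = p) :
    ∃ a ∈ A, a ≠ 1 ∧ A = zpowers a := by
  obtain ⟨a, ha, ha1⟩ : ∃ a ∈ A, a ≠ 1 := by
    by_contra hno
    push Not at hno
    have : A = ⊥ := (Subgroup.eq_bot_iff_forall A).mpr hno
    rw [this, card_bot] at hc
    exact hp.out.one_lt.ne hc
  exact ⟨a, ha, ha1, eq_zpowers_of_card_eq_prime hc ha ha1⟩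

end Cfsg.Agent.Components
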