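import Cfsg.Agent.Lib.Components.FFTransv

/-!
# The `SL(2,p)` generated by an offender of order `p` and a conjugate
-/

set_option autoImplicit false
set_option linter.unusedSectionVars false
set_option linter.style.haveILetI false

namespace Cfsg.Agent.Components

open scoped commutatorElement MatrixGroups
open Subgroup Cfsg Cfsg.Agent.Transfer Matrix

variable {G : Type*} [Group G] {p : ℕ}

theorem commutatorElement_mem_of_normalizing {Q : Subgroup G} {q r s t : G} (hq : q ∈ Q)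
    (hr : r ∈ Q) (hs : s ∈ normalizer (Q : Set G)) (ht : t ∈ normalizer (Q : Set G))
    (hst : Commute s t) : ⁅q * s, r * t⁆ ∈ Q := by
  have e : ⁅q * s, r * t⁆ = q * (s * r * s⁻¹) * (t * q⁻¹ * t⁻¹) * r⁻¹ := by
    rw [commutatorElement_def, _root_.mul_inv_rev, _root_.mul_inv_rev]
    calc q * s * (r * t) * (s⁻¹ * q⁻¹) * (t⁻¹ * r⁻¹)
        = q * s * r * (t * s⁻¹) * q⁻¹ * t⁻¹ * r⁻¹ := by group
      _ = q * s * r * (s⁻¹ * t) * q⁻¹ * t⁻¹ * r⁻¹ := by rw [hst.symm.inv_right.eq]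
      _ = _ := by group
  rw [e]
  exact mul_mem (mul_mem (mul_mem hq ((Basics.conj_mem_iff_of_mem_normalizer hs).mpr hr))
    ((Basics.conj_mem_iff_of_mem_normalizer ht).mpr (inv_mem hq))) (inv_mem hr)

/-- The data of an `SL(2,p)` plane of a transvection `a`. -/
structure SLPlane (p : ℕ) [Fact p.Prime] (V H Q : Subgroup G) (a : G) (L : Subgroup G)
    (e₁ e₂ : G) : Prop where
  small : p = 2 ∨ p = 3
  mem_a : a ∈ L
  leH : L ≤ H
  le_sup : L ≤ Q ⊔ zpowers a
  center : ⁅V, zpowers a⁆ = zpowers e₁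
  hom : ∃ ψ : ↥L →* SL(2, ZMod p), Function.Bijective ψ ∧
    ∀ (g : L) (w : Fin 2 → ZMod p),
      (g : G) * natPoint p e₁ e₂ w * (g : G)⁻¹ = natPoint p e₁ e₂ ((ψ g).1 *ᵥ w)
  card_W : Nat.card ↥(zpowers e₁ ⊔ zpowers e₂) = p ^ 2
  comm : ⁅V, L⁆ = zpowers e₁ ⊔ zpowers e₂
  inf_bot : (zpowers e₁ ⊔ zpowers e₂) ⊓ (V ⊓ centralizer (L : Set G)) = ⊥
  sup_top : (zpowers e₁ ⊔ zpowers e₂) ⊔ (V ⊓ centralizer (L : Set G)) = V
  faithful_W : L ⊓ centralizer ((zpowers e₁ ⊔ zpowers e₂ : Subgroup G) : Set G) = ⊥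
  trans : ∀ w ∈ zpowers e₁ ⊔ zpowers e₂, w ≠ 1 → ∃ g ∈ L, g * e₁ * g⁻¹ = w

variable [Finite G] [hp : Fact p.Prime]

/-- Transitivity of `SL(2,p)` on the nonzero vectors of the plane. -/
theorem exists_sl2_mulVec (v : Fin 2 → ZMod p) (hv : v ≠ 0) :
    ∃ M : SL(2, ZMod p), M.1 *ᵥ ![1, 0] = v := by
  by_cases h0 : v 0 = 0
  · have h1 : v 1 ≠ 0 := fun h1 => hv (by ext i; fin_cases i <;> simp [h0, h1])
    refine ⟨⟨!![0, -(v 1)⁻¹; v 1, 0], by rw [det_fin_two_of]; field_simp; ring⟩, ?_⟩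
    ext i
    fin_cases i <;> simp [mulVec, dotProduct, Fin.sum_univ_two, h0]
  · refine ⟨⟨!![v 0, 0; v 1, (v 0)⁻¹], by rw [det_fin_two_of]; field_simp; ring⟩, ?_⟩
    ext i
    fin_cases i <;> simp [mulVec, dotProduct, Fin.sum_univ_two]

theorem natPoint_one_zero (e₁ e₂ : G) : natPoint p e₁ e₂ ![1, 0] = e₁ := by
  haveI : Fact (1 < p) := ⟨hp.out.one_lt⟩
  simp [natPoint, ZMod.val_one]

theorem natPoint_zero_one (e₁ e₂ : G) : natPoint p e₁ e₂ ![0, 1] = e₂ := by
  haveI : Fact (1 < p) := ⟨hp.out.one_lt⟩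
  simp [natPoint, ZMod.val_one]

theorem exists_natPoint_eq {u v e₁ e₂ : G} (hpair : NatPair p u v e₁ e₂) {w : G}
    (hw : w ∈ zpowers e₁ ⊔ zpowers e₂) : ∃ x, natPoint p e₁ e₂ x = w := by
  have hn : zpowers e₂ ≤ normalizer (zpowers e₁ : Set G) := by
    intro z hz
    obtain ⟨j, rfl⟩ := mem_zpowers_iff.mp hz
    refine mem_normalizer_of_commutator_mem fun y hy => ?_
    obtain ⟨i, rfl⟩ := mem_zpowers_iff.mp hy
    rw [commutatorElement_eq_one_iff_commute.mpr (hpair.comm.zpow_zpow i j)]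
    exact one_mem _
  obtain ⟨y, hy, z, hz, rfl⟩ := (Basics.mem_sup_of_le_normalizer hn).mp hw
  obtain ⟨i, rfl⟩ := Submonoid.mem_powers_iff _ _ |>.mp (mem_powers_iff_mem_zpowers.mpr hy)
  obtain ⟨j, rfl⟩ := Submonoid.mem_powers_iff _ _ |>.mp (mem_powers_iff_mem_zpowers.mpr hz)
  refine ⟨![(i : ZMod p), (j : ZMod p)], ?_⟩
  simp only [natPoint, Matrix.cons_val_zero, Matrix.cons_val_one, ZMod.val_natCast]
  rw [← pow_eq_pow_mod _ hpair.pow_one, ← pow_eq_pow_mod _ hpair.pow_two]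

namespace FFT

set_option maxHeartbeats 800000

variable {V H Q : Subgroup G} {a : G}

theorem pair_plane (h : FFSetup p V H Q) (ha : FFT p V H a) {x : G} (hx : x ∈ Q)
    (hxa : ¬ Commute x a) :
    ∃ e₁ e₂ : G, SLPlane p V H Q a (closure ({a, x * a * x⁻¹} : Set G)) e₁ e₂ := by
  set c := x * a * x⁻¹
  have hc : FFT p V H c := ha.conj h.le (h.Qle hx)
  set L := closure ({a, c} : Set G) with hL
  have haL : a ∈ L := subset_closure (Set.mem_insert _ _)
  have hcL : c ∈ L := subset_closure (Set.mem_insert_of_mem _ rfl)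
  have hLH : L ≤ H := (closure_le _).mpr (by rintro z (rfl | rfl); exacts [ha.mem, hc.mem])
  set d := c * a⁻¹
  have hdQ : d ∈ Q := by
    have e : d = x * (a * x⁻¹ * a⁻¹) := by simp only [d, c]; group
    rw [e]
    exact mul_mem hx ((Basics.conj_mem_iff_of_mem_normalizer (h.Qnorm ha.mem)).mpr (inv_mem hx))
  have hd1 : d ≠ 1 := fun e => hxa (by
    have e1 : x * a * x⁻¹ = a := mul_inv_eq_one.mp e
    exact mul_inv_eq_iff_eq_mul.mp e1)
  have hn1 := not_le_fixed h ha hc (mul_mem hcL (inv_mem haL)) hdQ hd1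
  have hn2 := not_le_fixed h hc ha
    (show d ∈ closure ({c, a} : Set G) from mul_mem (subset_closure (Set.mem_insert _ _))
      (inv_mem (subset_closure (Set.mem_insert_of_mem _ rfl)))) hdQ hd1
  set C := fixOf V a
  set Cc := fixOf V c
  obtain ⟨y0, hy0, hy0'⟩ := hc.tr.exists_not_mem
  obtain ⟨hY, hYo⟩ := hc.tr.commutator_eq_zpowers h.ea hy0 hy0'
  set y1 := ⁅y0, c⁆
  have hy1V : y1 ∈ V := hc.tr.commutator_le (hY.ge (mem_zpowers y1))
  have hy1C : y1 ∉ C := fun hm => hn1 (hY.le.trans (Subgroup.zpowers_le.mpr hm))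
  have hy1Cc : Commute c y1 :=
    hc.tr.commute_of_mem (hc.tr.commutator_le_fixed h.ea (hY.ge (mem_zpowers y1)))
  obtain ⟨hX, hXo⟩ := ha.tr.commutator_eq_zpowers h.ea hy1V hy1C
  set w := ⁅y1, a⁆ with hw
  have hwC : w ∈ C := ha.tr.commutator_le_fixed h.ea (hX.ge (mem_zpowers w))
  have hwCc : w ∉ Cc := fun hm => hn2 (hX.le.trans (Subgroup.zpowers_le.mpr hm))
  set e1 := w⁻¹ with he1
  have hXe : ⁅V, zpowers a⁆ = zpowers e1 := by rw [hX, he1, zpowers_inv]
  have he1V : e1 ∈ V := inv_mem hwC.1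
  have hcomm : Commute e1 y1 := ea_commute h.ea he1V hy1V
  have he1a : a * e1 * a⁻¹ = e1 :=
    mul_inv_eq_iff_eq_mul.mpr (ha.tr.commute_of_mem (inv_mem hwC)).eq
  have he2a : a * y1 * a⁻¹ = e1 * y1 := by
    simp only [e1, w, commutatorElement_def]; group
  have hmem : ⁅c, e1⁆ ∈ zpowers y1 := by
    rw [← commutatorElement_inv, ← hY]
    exact inv_mem (commutator_mem_commutator he1V (mem_zpowers c))
  obtain ⟨k, hk⟩ := Submonoid.mem_powers_iff _ _ |>.mp (mem_powers_iff_mem_zpowers.mpr hmem)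
  have hk0 : (k : ZMod p) ≠ 0 := by
    intro e
    rw [ZMod.natCast_eq_zero_iff] at e
    obtain ⟨j, rfl⟩ := e
    rw [pow_mul, h.ea.2 y1 hy1V, one_pow] at hk
    have h1 := inv_mem (IsTransv.mem_fixed he1V (commutatorElement_eq_one_iff_commute.mp hk.symm))
    rw [he1, inv_inv] at h1
    exact hwCc h1
  set m := ((k : ZMod p)⁻¹).val
  have hkm : y1 ^ (k * m) = y1 := by
    have h1 : ((k * m : ℕ) : ZMod p) = (1 : ℕ) := by
      push_cast
      rw [ZMod.natCast_zmod_val, mul_inv_cancel₀ hk0]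
    rw [ZMod.natCast_eq_natCast_iff'] at h1
    conv_rhs => rw [← pow_one y1, pow_eq_pow_mod 1 (h.ea.2 y1 hy1V)]
    rw [pow_eq_pow_mod _ (h.ea.2 y1 hy1V), h1]
  have hce : c * e1 * c⁻¹ = e1 * y1 ^ k := by
    rw [(hcomm.pow_right k).eq, hk, commutatorElement_def]; group
  have hcpow : ∀ n : ℕ, c ^ n * e1 * (c ^ n)⁻¹ = e1 * y1 ^ (k * n) := by
    intro n
    induction n with
    | zero => simp
    | succ n ih =>
      calc c ^ (n + 1) * e1 * (c ^ (n + 1))⁻¹ = c * (c ^ n * e1 * (c ^ n)⁻¹) * c⁻¹ := by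
            rw [pow_succ']; group
        _ = (c * e1 * c⁻¹) * (c * y1 ^ (k * n) * c⁻¹) := by rw [ih]; group
        _ = _ := by
            rw [hce, (hy1Cc.pow_right (k * n)).eq, mul_inv_cancel_right, mul_assoc, ← pow_add]
            congr 2; ring
  have hpair : NatPair p a (c ^ m) e1 y1 :=
    { pow_one := h.ea.2 e1 he1V
      pow_two := h.ea.2 y1 hy1V
      comm := hcomm
      ne := fun e => hwCc (by
        rw [he1, inv_eq_one] at e
        rw [e]; exact one_mem _)
      u_one := he1a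
      u_two := he2a
      v_one := by rw [hcpow, hkm]
      v_two := mul_inv_eq_iff_eq_mul.mpr (hy1Cc.pow_left m).eq }
  have hLeq : closure ({a, c ^ m} : Set G) = L := by
    refine le_antisymm ((closure_le _).mpr ?_) ((closure_le _).mpr ?_)
    · rintro z (rfl | rfl)
      · exact haL
      · exact pow_mem hcL m
    · rintro z (rfl | rfl)
      · exact subset_closure (Set.mem_insert _ _)
      · have hcm : (c ^ m) ^ k = c := by
          have h1 : ((m * k : ℕ) : ZMod p) = (1 : ℕ) := by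
            push_cast
            rw [ZMod.natCast_zmod_val, inv_mul_cancel₀ hk0]
          rw [ZMod.natCast_eq_natCast_iff'] at h1
          rw [← pow_mul, pow_eq_pow_mod _ hc.pow_eq, h1, ← pow_eq_pow_mod _ hc.pow_eq, pow_one]
        have hm' : c ^ m ∈ closure ({a, c ^ m} : Set G) :=
          Subgroup.subset_closure (Set.mem_insert_of_mem _ (Set.mem_singleton (c ^ m)))
        have hm'' := Subgroup.pow_mem _ hm' k
        rw [hcm] at hm''
        exact hm''
  set W := zpowers e1 ⊔ zpowers y1 with hW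
  have hWV : W ≤ V := sup_le (Subgroup.zpowers_le.mpr he1V) (Subgroup.zpowers_le.mpr hy1V)
  have hLfix : C ⊓ Cc ≤ V ⊓ centralizer (L : Set G) := by
    refine fun v hv => ⟨hv.1.1, ?_⟩
    have h1 : L ≤ centralizer {v} := (closure_le _).mpr (by
      rintro z (rfl | rfl) <;> rw [SetLike.mem_coe, mem_centralizer_singleton_iff]
      · exact ha.tr.commute_of_mem hv.1
      · exact hc.tr.commute_of_mem hv.2)
    exact fun g hg => mem_centralizer_singleton_iff.mp (h1 hg)
  have hfixL : V ⊓ centralizer (L : Set G) ≤ C ⊓ Cc := fun v hv =>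
    ⟨IsTransv.mem_fixed hv.1 (hv.2 a haL), IsTransv.mem_fixed hv.1 (hv.2 c hcL)⟩
  have hXC : zpowers e1 ≤ C := Subgroup.zpowers_le.mpr (inv_mem hwC)
  have hYcC : zpowers y1 ⊓ C = ⊥ := by
    have hd' : Nat.card ↥(zpowers y1 ⊓ C : Subgroup G) ∣ p := by
      rw [← hYo, ← Nat.card_zpowers]; exact card_dvd_of_le inf_le_left
    rcases (Nat.dvd_prime hp.out).mp hd' with h1 | h1
    · exact eq_bot_of_card_eq _ h1
    · exfalso
      have h2 : zpowers y1 ⊓ C = zpowers y1 :=
        eq_of_le_of_card_ge inf_le_left (by rw [Nat.card_zpowers, hYo, h1])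
      exact hy1C (h2.ge (mem_zpowers y1)).2
  have hYn : zpowers y1 ≤ normalizer (zpowers e1 : Set G) :=
    (Subgroup.zpowers_le.mpr hy1V).trans
      (ea_le_normalizer h.ea (Subgroup.zpowers_le.mpr he1V))
  have hinfW : W ⊓ C = zpowers e1 := by
    refine le_antisymm (fun z hz => ?_) (le_inf le_sup_left hXC)
    obtain ⟨u, hu, v, hv, rfl⟩ := (Basics.mem_sup_of_le_normalizer hYn).mp hz.1
    have hvC : v ∈ C := by
      have := Subgroup.mul_mem _ (Subgroup.inv_mem _ (hXC hu)) hz.2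
      rwa [inv_mul_cancel_left] at this
    have hv1 : v = 1 := mem_bot.mp (hYcC ▸ ⟨hv, hvC⟩)
    rw [hv1, mul_one]; exact hu
  have hze : zpowers e1 = zpowers w := by rw [he1, zpowers_inv]
  have heC : zpowers e1 ⊓ Cc = ⊥ := by
    have hd' : Nat.card ↥(zpowers e1 ⊓ Cc : Subgroup G) ∣ p := by
      rw [← hXo, ← Nat.card_zpowers w, ← hze]
      exact card_dvd_of_le inf_le_left
    rcases (Nat.dvd_prime hp.out).mp hd' with h1 | h1
    · exact eq_bot_of_card_eq _ h1
    · exfalso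
      have h2 : zpowers e1 ⊓ Cc = zpowers e1 :=
        eq_of_le_of_card_ge inf_le_left (by rw [h1, hze, Nat.card_zpowers, hXo])
      have h3 := (h2.ge (mem_zpowers e1)).2
      rw [he1] at h3
      replace h3 : w⁻¹ ∈ Cc := h3
      exact hwCc (inv_inv w ▸ Cc.inv_mem h3)
  have hinfbot : W ⊓ (V ⊓ centralizer (L : Set G)) = ⊥ := by
    refine le_bot_iff.mp ?_
    calc W ⊓ (V ⊓ centralizer (L : Set G)) ≤ W ⊓ (C ⊓ Cc) := inf_le_inf_left _ hfixL
      _ = zpowers e1 ⊓ Cc := by rw [← inf_assoc, hinfW]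
      _ = ⊥ := heC
  have hcardW : Nat.card W = p ^ 2 := by
    have h1 := Basics.card_mul_card_eq_card_sup_mul_card_inf hYn
    have h2 : zpowers e1 ⊓ zpowers y1 = ⊥ :=
      le_bot_iff.mp (hYcC ▸ le_inf inf_le_right (inf_le_left.trans hXC))
    rw [h2, card_bot, mul_one, Nat.card_zpowers, Nat.card_zpowers, he1, orderOf_inv, hXo, hYo,
      ← he1] at h1
    rw [hW, ← h1, pow_two]
  have hsuptop : W ⊔ (V ⊓ centralizer (L : Set G)) = V := by
    refine eq_of_le_of_card_ge (sup_le hWV inf_le_left) ?_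
    have hC : Nat.card C * p = Nat.card V := by
      have h1 := card_mul_index (C.subgroupOf V)
      rw [Basics.card_subgroupOf inf_le_left] at h1
      rw [← h1]; congr 1
      exact ha.tr.index.symm
    have hCc : Nat.card Cc * p = Nat.card V := by
      have h1 := card_mul_index (Cc.subgroupOf V)
      rw [Basics.card_subgroupOf inf_le_left] at h1
      rw [← h1]; congr 1
      exact hc.tr.index.symm
    have h2 := Basics.card_mul_card_eq_card_sup_mul_card_inf
      (N := C) (H := Cc) (inf_le_left.trans (ea_le_normalizer h.ea inf_le_left))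
    have h3 : Nat.card ↥(C ⊔ Cc) ≤ Nat.card V := card_le_of_le (sup_le inf_le_left inf_le_left)
    have h4 : Nat.card V ≤ Nat.card ↥(C ⊓ Cc : Subgroup G) * p ^ 2 := by
      refine Nat.le_of_mul_le_mul_left ?_ (card_pos' V)
      calc Nat.card V * Nat.card V = (Nat.card C * p) * (Nat.card Cc * p) := by rw [hC, hCc]
        _ = Nat.card ↥(C ⊔ Cc) * (Nat.card ↥(C ⊓ Cc : Subgroup G) * p ^ 2) := by
            rw [mul_mul_mul_comm, h2]; ring
        _ ≤ _ := Nat.mul_le_mul_right _ h3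
    have h5 := Basics.card_mul_card_eq_card_sup_mul_card_inf
      (N := W) (H := V ⊓ centralizer (L : Set G))
      (inf_le_left.trans (ea_le_normalizer h.ea hWV))
    rw [hinfbot, card_bot, mul_one, hcardW] at h5
    rw [← h5]
    refine h4.trans ?_
    rw [mul_comm]
    exact Nat.mul_le_mul_left _ (card_le_of_le hLfix)
  have hfaith : L ⊓ centralizer (W : Set G) = ⊥ := by
    refine le_bot_iff.mp fun g hg => ?_
    rw [← h.faithful]
    refine ⟨hLH hg.1, fun v hv => ?_⟩
    have h1 : V ≤ centralizer {g} := by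
      rw [← hsuptop, sup_le_iff]
      exact ⟨fun u hu => mem_centralizer_singleton_iff.mpr (hg.2 u hu),
        fun u hu => mem_centralizer_singleton_iff.mpr (hu.2 g hg.1).symm⟩
    exact mem_centralizer_singleton_iff.mp (h1 hv)
  obtain ⟨ψ0, hψs, hψ⟩ := hpair.exists_hom
  let ψ : ↥L →* SL(2, ZMod p) := ψ0.comp (Subgroup.inclusion hLeq.ge)
  have hψ' : ∀ (g : L) (v : Fin 2 → ZMod p),
      (g : G) * natPoint p e1 y1 v * (g : G)⁻¹ = natPoint p e1 y1 ((ψ g).1 *ᵥ v) :=
    fun g v => hψ (Subgroup.inclusion hLeq.ge g) v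
  have hsurj : Function.Surjective ψ := fun M => by
    obtain ⟨g, hg⟩ := hψs M
    exact ⟨⟨g, hLeq.le g.2⟩, hg⟩
  have hinj : Function.Injective ψ := by
    refine (injective_iff_map_eq_one ψ).mpr fun g hg => Subtype.ext ?_
    have hfix : ∀ v, (g : G) * natPoint p e1 y1 v * (g : G)⁻¹ = natPoint p e1 y1 v := fun v => by
      rw [hψ' g v, hg, sl_val_one, one_mulVec]
    have h1 : W ≤ centralizer {(g : G)} := by
      rw [hW, sup_le_iff, Subgroup.zpowers_le, Subgroup.zpowers_le,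
        mem_centralizer_singleton_iff, mem_centralizer_singleton_iff]
      have ha1 := hfix ![1, 0]
      have ha2 := hfix ![0, 1]
      rw [natPoint_one_zero] at ha1
      rw [natPoint_zero_one] at ha2
      exact ⟨(mul_inv_eq_iff_eq_mul.mp ha1).symm, (mul_inv_eq_iff_eq_mul.mp ha2).symm⟩
    have h2 : (g : G) ∈ L ⊓ centralizer (W : Set G) :=
      ⟨g.2, fun u hu => mem_centralizer_singleton_iff.mp (h1 hu)⟩
    rwa [hfaith, mem_bot] at h2
  have htrans : ∀ u ∈ W, u ≠ 1 → ∃ g ∈ L, g * e1 * g⁻¹ = u := by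
    intro u hu hu1
    obtain ⟨v, rfl⟩ := exists_natPoint_eq hpair hu
    obtain ⟨M, hM⟩ := exists_sl2_mulVec v fun e => hu1 (by rw [e, natPoint_zero])
    obtain ⟨g, hg⟩ := hsurj M
    refine ⟨g, g.2, ?_⟩
    have := hψ' g ![1, 0]
    rwa [natPoint_one_zero, hg, hM] at this
  have hQA : L ≤ Q ⊔ zpowers a := (closure_le _).mpr (by
    rintro z (rfl | rfl)
    · exact mem_sup_right (mem_zpowers _)
    · exact mul_mem (mul_mem (mem_sup_left hx) (mem_sup_right (mem_zpowers a)))
        (inv_mem (mem_sup_left hx)))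
  have haQ : zpowers a ≤ normalizer (Q : Set G) := Subgroup.zpowers_le.mpr (h.Qnorm ha.mem)
  have hsmall : p = 2 ∨ p = 3 := by
    by_contra hbig
    push Not at hbig
    have h5 : 5 ≤ p := by
      have h1 := hp.out.two_le
      have h4 : p ≠ 4 := fun e => by have := hp.out; rw [e] at this; norm_num at this
      omega
    have hperf : _root_.commutator ↥L = ⊤ := by
      have h1 := commutator_sl2_eq_top (p := p) h5
      have h2 : (_root_.commutator ↥L).map ψ = ⊤ := by
        rw [_root_.commutator_def, map_commutator, map_top_of_surjective ψ hsurj,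
          ← _root_.commutator_def, h1]
      refine eq_top_iff.mpr fun g _ => ?_
      obtain ⟨g', hg', e⟩ := h2.ge (mem_top (ψ g))
      exact hinj e ▸ hg'
    have h3 : L ≤ Q := by
      have h4 : ⁅L, L⁆ = L := by
        have := congrArg (Subgroup.map L.subtype) hperf
        rwa [_root_.commutator_def, map_commutator, ← MonoidHom.range_eq_map, range_subtype] at this
      rw [← h4, Subgroup.commutator_le]
      intro u hu v hv
      obtain ⟨q, hq, s, hs, rfl⟩ := (Basics.mem_sup_of_le_normalizer haQ).mp (hQA hu)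
      obtain ⟨r, hr, t, ht, rfl⟩ := (Basics.mem_sup_of_le_normalizer haQ).mp (hQA hv)
      refine commutatorElement_mem_of_normalizing hq hr (haQ hs) (haQ ht) ?_
      obtain ⟨i, rfl⟩ := mem_zpowers_iff.mp hs
      obtain ⟨j, rfl⟩ := mem_zpowers_iff.mp ht
      exact (Commute.refl a).zpow_zpow i j
    have h6 := orderOf_dvd_natCard (⟨a, h3 haL⟩ : Q)
    rw [← Subgroup.orderOf_coe, ha.order_eq] at h6
    exact hp.out.ne_one (Nat.Coprime.eq_one_of_dvd h.Qcop.symm h6)
  have hcomW : ⁅V, L⁆ = W := by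
    refine le_antisymm ?_ (sup_le ?_ ?_)
    · have hst : L ≤ chainStab V W := (closure_le _).mpr (by
        rintro z (rfl | rfl)
        · exact ha.tr.mem_chainStab_top h.ea (hXe.le.trans le_sup_left) hWV
        · exact hc.tr.mem_chainStab_top h.ea (hY.le.trans le_sup_right) hWV)
      rw [Subgroup.commutator_le]
      exact fun v hv g hg => (hst hg).2 v hv
    · rw [← hXe]
      exact commutator_mono le_rfl (Subgroup.zpowers_le.mpr haL)
    · rw [← hY]
      exact commutator_mono le_rfl (Subgroup.zpowers_le.mpr hcL)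
  exact ⟨e1, y1,
    { small := hsmall, mem_a := haL, leH := hLH, le_sup := hQA, center := hXe
      hom := ⟨ψ, ⟨hinj, hsurj⟩, hψ'⟩
      card_W := hcardW, comm := hcomW, inf_bot := hinfbot, sup_top := hsuptop
      faithful_W := hfaith, trans := htrans }⟩

end FFT

end Cfsg.Agent.Components
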