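import Mathlib

/-! `SL(2,2)` is the symmetric group of degree three. -/

set_option autoImplicit false

namespace Cfsg.Agent.Components.SLTwoTwo

open scoped MatrixGroups

/-- The three nonzero vectors. -/
def pt : Fin 3 → (Fin 2 → ZMod 2) := ![![1, 0], ![0, 1], ![1, 1]]

/-- The number of a nonzero vector. -/
def num (v : Fin 2 → ZMod 2) : Fin 3 := if v 0 = 0 then 1 else (if v 1 = 0 then 0 else 2)

theorem pt_num : ∀ v : Fin 2 → ZMod 2, v ≠ 0 → pt (num v) = v := by decide +kernel

theorem num_pt : ∀ i, num (pt i) = i := by decide +kernel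

theorem pt_ne : ∀ i, pt i ≠ 0 := by decide +kernel

/-- The action on the three nonzero vectors. -/
def act (g : SL(2, ZMod 2)) (i : Fin 3) : Fin 3 := num ((g : Matrix (Fin 2) (Fin 2) (ZMod 2)).mulVec (pt i))

theorem mulVec_ne (g : SL(2, ZMod 2)) {v : Fin 2 → ZMod 2} (hv : v ≠ 0) :
    (g : Matrix (Fin 2) (Fin 2) (ZMod 2)).mulVec v ≠ 0 := by
  intro h
  apply hv
  have := congrArg (fun w => ((g⁻¹ : SL(2, ZMod 2)) : Matrix (Fin 2) (Fin 2) (ZMod 2)).mulVec w) h
  simp only [Matrix.mulVec_mulVec, ← Matrix.SpecialLinearGroup.coe_mul, inv_mul_cancel,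
    Matrix.SpecialLinearGroup.coe_one, Matrix.one_mulVec, Matrix.mulVec_zero] at this
  exact this

theorem act_mul (g h : SL(2, ZMod 2)) (i : Fin 3) : act (g * h) i = act g (act h i) := by
  rw [act, act, act, pt_num _ (mulVec_ne h (pt_ne i)), Matrix.mulVec_mulVec,
    Matrix.SpecialLinearGroup.coe_mul]

theorem act_one (i : Fin 3) : act 1 i = i := by
  rw [act, Matrix.SpecialLinearGroup.coe_one, Matrix.one_mulVec, num_pt]

/-- The homomorphism onto the symmetric group. -/
def toPerm : SL(2, ZMod 2) →* Equiv.Perm (Fin 3) where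
  toFun g := ⟨act g, act g⁻¹, fun i => by rw [← act_mul, inv_mul_cancel, act_one],
    fun i => by rw [← act_mul, mul_inv_cancel, act_one]⟩
  map_one' := Equiv.ext act_one
  map_mul' g h := Equiv.ext (act_mul g h)

theorem toPerm_bijective : Function.Bijective toPerm := by
  constructor
  · rw [injective_iff_map_eq_one]
    intro g hg
    have h : ∀ i, act g i = i := fun i => DFunLike.congr_fun hg i
    have key : ∀ a b c d : ZMod 2, a * d - b * c = 1 →
        num ![a, c] = 0 → num ![b, d] = 1 → a = 1 ∧ b = 0 ∧ c = 0 ∧ d = 1 := by decide +kernel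
    have h0 := h 0
    have h1 := h 1
    set M : Matrix (Fin 2) (Fin 2) (ZMod 2) := (g : Matrix (Fin 2) (Fin 2) (ZMod 2)) with hM
    have hd : M 0 0 * M 1 1 - M 0 1 * M 1 0 = 1 := by rw [← Matrix.det_fin_two]; exact g.2
    have e0 : M.mulVec (pt 0) = ![M 0 0, M 1 0] := by
      funext i; fin_cases i <;> simp [pt, Matrix.mulVec, dotProduct]
    have e1 : M.mulVec (pt 1) = ![M 0 1, M 1 1] := by
      funext i; fin_cases i <;> simp [pt, Matrix.mulVec, dotProduct]
    rw [act, ← hM, e0] at h0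
    rw [act, ← hM, e1] at h1
    obtain ⟨ha, hb, hc, hd'⟩ := key _ _ _ _ hd h0 h1
    refine Subtype.ext ?_
    show M = 1
    ext i j
    fin_cases i <;> fin_cases j <;> simp [ha, hb, hc, hd']
  · intro σ
    have key : ∀ σ : Equiv.Perm (Fin 3), ∃ a b c d : ZMod 2, a * d - b * c = 1 ∧
        ∀ i, num ![a * pt i 0 + b * pt i 1, c * pt i 0 + d * pt i 1] = σ i := by decide +kernel
    obtain ⟨a, b, c, d, hd, hi⟩ := key σ
    refine ⟨⟨!![a, b; c, d], by rw [Matrix.det_fin_two]; simpa using hd⟩, Equiv.ext fun i => ?_⟩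
    show num (Matrix.mulVec !![a, b; c, d] (pt i)) = σ i
    rw [← hi i]
    congr 1
    funext j
    fin_cases j <;> simp [Matrix.mulVec, dotProduct, Fin.sum_univ_two]

/-- `SL(2,2)` is the symmetric group of degree three. -/
noncomputable def equiv : SL(2, ZMod 2) ≃* Equiv.Perm (Fin 3) :=
  MulEquiv.ofBijective toPerm toPerm_bijective

end Cfsg.Agent.Components.SLTwoTwo
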