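import Cfsg.Agent.Lib.Components.FFStructure
import Cfsg.Agent.Lib.Components.SLTwoTwo

/-! A group generated by offenders for the prime two is a product of symmetric groups of degree three. -/

set_option autoImplicit false
set_option linter.unusedSectionVars false

namespace Cfsg.Agent.Components

open Subgroup Cfsg Cfsg.Agent.Transfer

theorem exists_equiv_pi_s3 {G : Type*} [Group G] [Finite G] {V H Q : Subgroup G}
    [Fact (Nat.Prime 2)] (h : FFSetup 2 V H Q)
    (hgen : H = ⨆ A : {A : Subgroup G // A ≤ H ∧ IsBestOffenderOn 2 V A}, (A : Subgroup G)) :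
    ∃ n : ℕ, Nonempty (↥H ≃* (Fin n → Equiv.Perm (Fin 3))) := by
  classical
  let ι := {L : Subgroup G // ∃ b, FFT 2 V H b ∧ L = FFT.factor Q b}
  haveI : Fintype ι := Fintype.ofFinite ι
  have hs3 : ∀ i : ι, Nonempty (↥i.1 ≃* Equiv.Perm (Fin 3)) := by
    rintro ⟨L, b, hb, rfl⟩
    obtain ⟨e₁, e₂, P, -⟩ := hb.exists_plane h
    obtain ⟨ψ, hψ, -⟩ := P.hom
    exact ⟨(MulEquiv.ofBijective ψ hψ).trans SLTwoTwo.equiv⟩
  have key : ∀ i : ι, ∃ K : Subgroup G, i.1 ≤ H ∧ i.1 ⊓ K = ⊥ ∧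
      (∀ x ∈ i.1, ∀ k ∈ K, Commute x k) ∧ ∀ j : ι, j ≠ i → j.1 ≤ K := by
    rintro ⟨L, a, ha, rfl⟩
    obtain ⟨e₁, e₂, P, hD, -, hLK, -, -, -⟩ := ha.exists_factor h hgen
    refine ⟨H ⊓ centralizer ((zpowers e₁ ⊔ zpowers e₂ : Subgroup G) : Set G), P.leH, ?_, ?_, ?_⟩
    · rw [eq_bot_iff, ← P.faithful_W]
      exact inf_le_inf_left _ inf_le_right
    · intro x hx k hk
      exact commutatorElement_eq_one_iff_commute.mp
        (mem_bot.mp (hLK ▸ commutator_mem_commutator hx hk))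
    · rintro ⟨L', b, hb, rfl⟩ hne
      exact factor_le_centralizer h hgen ha hb P hD (fun e => hne (Subtype.ext e))
  choose K hKH hKinf hKcomm hKle using key
  have hcomm : Pairwise fun i j : ι => ∀ x y : G, x ∈ i.1 → y ∈ j.1 → Commute x y :=
    fun i j hij x y hx hy => hKcomm i x hx y (hKle i j (Ne.symm hij) hy)
  have hind : iSupIndep fun i : ι => i.1 := fun i =>
    disjoint_iff.mpr (le_bot_iff.mp ((inf_le_inf_left _ (iSup₂_le (hKle i))).trans (hKinf i).le))
  have hrange : (⨆ i : ι, i.1) = H := by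
    refine le_antisymm (iSup_le hKH) ((h.le_closure_transv hgen).trans ((closure_le _).mpr fun b hb => ?_))
    exact le_iSup (fun i : ι => i.1) ⟨FFT.factor Q b, b, hb, rfl⟩
      (mem_sup_right (mem_zpowers b))
  let f : ((i : ι) → i.1) →* G := Subgroup.noncommPiCoprod hcomm
  have hfinj : Function.Injective f := Subgroup.injective_noncommPiCoprod_of_iSupIndep hind
  have hfr : f.range = H := (Subgroup.noncommPiCoprod_range).trans hrange
  let e₁ : ((i : ι) → i.1) ≃* H := (MonoidHom.ofInjective hfinj).trans (MulEquiv.subgroupCongr hfr)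
  let e₂ : ((i : ι) → i.1) ≃* (ι → Equiv.Perm (Fin 3)) := MulEquiv.piCongrRight fun i => (hs3 i).some
  let e₃ : (ι → Equiv.Perm (Fin 3)) ≃* (Fin (Fintype.card ι) → Equiv.Perm (Fin 3)) :=
    MulEquiv.arrowCongr (Fintype.equivFin ι) (MulEquiv.refl _)
  exact ⟨_, ⟨(e₁.symm.trans e₂).trans e₃⟩⟩

end Cfsg.Agent.Components
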