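import Cfsg.Agent.Lib.Components.FFFactor

/-!
# Structure of a group generated by offenders
-/

set_option autoImplicit false
set_option linter.unusedSectionVars false
set_option linter.style.haveILetI false

namespace Cfsg.Agent.Components

open scoped commutatorElement MatrixGroups
open Subgroup Cfsg Cfsg.Agent.Transfer

variable {G : Type*} [Group G] [Finite G] {p : ℕ} [hp : Fact p.Prime]

/-- `E` is the factor of a minimal offender. -/
abbrev IsFactor (p : ℕ) (V H Q E : Subgroup G) : Prop :=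
  ∃ A : Subgroup G, A ≤ H ∧ IsBestOffenderOn p V A ∧ ⁅V, A⁆ ≠ ⊥ ∧
    (∀ B : Subgroup G, B ≤ A → IsBestOffenderOn p V B → ⁅V, B⁆ ≠ ⊥ → B = A) ∧ E = ⁅Q, A⁆ ⊔ A

variable {V H Q : Subgroup G}

theorem FFT.isFactor (h : FFSetup p V H Q) {b : G} (hb : FFT p V H b) :
    IsFactor p V H Q (⁅Q, zpowers b⁆ ⊔ zpowers b) := by
  have hea := ea_zpowers hb.pow_eq
  have hbH : zpowers b ≤ H := Subgroup.zpowers_le.mpr hb.mem
  have hc : Nat.card ↥(zpowers b) = p := by rw [Nat.card_zpowers, hb.order_eq]
  have hne : zpowers b ≠ ⊥ := fun e => hb.ne (zpowers_eq_bot.mp e)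
  have hm : offMeasure V (zpowers b) = Nat.card V := by
    have h1 := card_mul_index ((fixOf V b).subgroupOf V)
    rw [Basics.card_subgroupOf inf_le_left,
      show ((fixOf V b).subgroupOf V).index = p from hb.tr.index] at h1
    rw [offMeasure, hc, ← h1, mul_comm]
  refine ⟨zpowers b, hbH, h.isBestOffenderOn_of_eq_card hbH hea hm, h.commutator_ne_bot hbH hne,
    fun B hB _ hBV => ?_, rfl⟩
  have hd : Nat.card B ∣ p := hc ▸ card_dvd_of_le hB
  rcases (Nat.dvd_prime hp.out).mp hd with h1 | h1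
  · exact absurd (by rw [eq_bot_of_card_eq B h1, commutator_bot_right]) hBV
  · exact eq_of_le_of_card_ge hB (by rw [hc, h1])

/-- Distinct factors: the second centralises the plane of the first. -/
theorem factor_le_centralizer (h : FFSetup p V H Q)
    (hgen : H = ⨆ A : {A : Subgroup G // A ≤ H ∧ IsBestOffenderOn p V A}, (A : Subgroup G))
    {a b : G} (ha : FFT p V H a) (hb : FFT p V H b) {e₁ e₂ : G}
    (P : SLPlane p V H Q a (FFT.factor Q a) e₁ e₂) (hD : Nat.card ↥⁅Q, zpowers a⁆ = p * p - 1)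
    (hne : FFT.factor Q b ≠ FFT.factor Q a) :
    FFT.factor Q b ≤ H ⊓ centralizer ((zpowers e₁ ⊔ zpowers e₂ : Subgroup G) : Set G) := by
  set W := zpowers e₁ ⊔ zpowers e₂
  set K := H ⊓ centralizer (W : Set G)
  have hWH := ha.normalizes_plane h hgen P hD
  rcases ha.mem_factor_or_centralizer h hgen P hD hb with h1 | h1
  · exfalso
    obtain ⟨-, -, -, -, -, -, -, -, hn⟩ := ha.exists_factor h hgen
    have hle : FFT.factor Q b ≤ FFT.factor Q a := by
      refine sup_le ?_ (Subgroup.zpowers_le.mpr h1)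
      exact (commutator_mono le_rfl (Subgroup.zpowers_le.mpr h1)).trans
        (le_normalizer_iff_commutator_le_right.mp (h.Qle.trans hn))
    refine hne (eq_of_le_of_card_ge hle ?_)
    obtain ⟨f₁, f₂, P', -⟩ := hb.exists_plane h
    obtain ⟨ψ, hψ, -⟩ := P.hom
    obtain ⟨ψ', hψ', -⟩ := P'.hom
    rw [Nat.card_congr (Equiv.ofBijective ψ hψ), Nat.card_congr (Equiv.ofBijective ψ' hψ')]
  · have hKn : H ≤ normalizer (K : Set G) := by
      refine le_trans (le_inf le_normalizer ?_) inf_normalizer_le_normalizer_inf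
      intro x hx
      refine mem_normalizer_of_map_conj_eq
        (eq_of_le_of_card_ge ?_ (card_map_of_injective (MulAut.conj x).injective).ge)
      rintro _ ⟨c, hc, rfl⟩ w hw
      have h2 := hc _ ((Basics.conj_mem_iff_of_mem_normalizer (inv_mem (hWH hx))).mpr hw)
      show w * (x * c * x⁻¹) = x * c * x⁻¹ * w
      calc w * (x * c * x⁻¹) = x * ((x⁻¹ * w * x⁻¹⁻¹) * c) * x⁻¹ := by group
        _ = x * (c * (x⁻¹ * w * x⁻¹⁻¹)) * x⁻¹ := by rw [h2]
        _ = _ := by group
    refine sup_le ?_ (Subgroup.zpowers_le.mpr h1)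
    exact (commutator_mono le_rfl (Subgroup.zpowers_le.mpr h1)).trans
      (le_normalizer_iff_commutator_le_right.mp (h.Qle.trans hKn))

end Cfsg.Agent.Components
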