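import Cfsg.Agent.Lib.Components.FFPair
import Cfsg.Agent.Lib.Transfer.NatPair
import Cfsg.Agent.Lib.Transfer.SL2Props
import Cfsg.Agent.Lib.LocalEvenA.Core
import Cfsg.Agent.Lib.InvChar.SL2Pair

/-!
# Pairs of transvections in a group with self-centralising `p'`-core
-/

set_option autoImplicit false
set_option linter.unusedSectionVars false
set_option linter.style.haveILetI false

namespace Cfsg.Agent.Components

open scoped commutatorElement MatrixGroups
open Subgroup Cfsg Cfsg.Agent.Transfer Matrix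

variable {G : Type*} [Group G] {p : ℕ}

/-- Elements normalising `W` and mapping `U` into `W` under commutation. -/
def chainStab (U W : Subgroup G) : Subgroup G where
  carrier := {g | g ∈ normalizer (W : Set G) ∧ ∀ u ∈ U, ⁅u, g⁆ ∈ W}
  one_mem' := ⟨one_mem _, fun u _ => by rw [commutatorElement_one_right]; exact one_mem _⟩
  mul_mem' := fun {a b} ha hb => ⟨mul_mem ha.1 hb.1, fun u hu => by
    rw [commutatorElement_mul_right']
    exact mul_mem (ha.2 u hu) ((Basics.conj_mem_iff_of_mem_normalizer ha.1).mpr (hb.2 u hu))⟩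
  inv_mem' := fun {a} ha => ⟨inv_mem ha.1, fun u hu => by
    have e : ⁅u, a⁻¹⁆ = a⁻¹ * ⁅u, a⁆⁻¹ * a⁻¹⁻¹ := by simp only [commutatorElement_def]; group
    rw [e]
    exact (Basics.conj_mem_iff_of_mem_normalizer (inv_mem ha.1)).mpr (inv_mem (ha.2 u hu))⟩

theorem mem_chainStab {U W : Subgroup G} {g : G} :
    g ∈ chainStab U W ↔ g ∈ normalizer (W : Set G) ∧ ∀ u ∈ U, ⁅u, g⁆ ∈ W := Iff.rfl

theorem mem_chainStab_bot {U : Subgroup G} {g : G} :
    g ∈ chainStab U ⊥ ↔ ∀ u ∈ U, Commute g u := by
  constructor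
  · intro h u hu
    exact (commutatorElement_eq_one_iff_commute.mp (mem_bot.mp (h.2 u hu))).symm
  · intro h
    refine ⟨mem_normalizer_iff.mpr fun x => by simp, fun u hu => ?_⟩
    rw [mem_bot, commutatorElement_eq_one_iff_commute]
    exact (h u hu).symm

variable [Finite G]

theorem mem_normalizer_of_commutator_mem {W : Subgroup G} {g : G}
    (h : ∀ w ∈ W, ⁅w, g⁆ ∈ W) : g ∈ normalizer (W : Set G) := by
  refine mem_normalizer_of_map_conj_eq
    (eq_of_le_of_card_ge ?_ (card_map_of_injective (MulAut.conj g).injective).ge)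
  rintro _ ⟨w, hw, rfl⟩
  have h1 := h w⁻¹ (inv_mem hw)
  have e : (MulAut.conj g).toMonoidHom w = w * ⁅w⁻¹, g⁆ := by
    show g * w * g⁻¹ = _
    rw [commutatorElement_def]; group
  rw [e]
  exact mul_mem hw h1

variable [hp : Fact p.Prime]

/-- An element of order prime to `p` stabilising a chain of length three is trivial on `V`. -/
theorem commute_of_chain {V W2 W1 : Subgroup G} (hV : IsElementaryAbelian p V) (h12 : W1 ≤ W2)
    (h2 : W2 ≤ V) {d : G} (hd : (orderOf d).Coprime p) (e3 : d ∈ chainStab V W2)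
    (e2 : d ∈ chainStab W2 W1) (e1 : d ∈ chainStab W1 ⊥) : ∀ v ∈ V, Commute d v := by
  have hdiff : ∀ u : G, u⁻¹ * (d * u * d⁻¹) = ⁅u⁻¹, d⁆ := fun u => by
    rw [commutatorElement_def]; group
  have step : ∀ (U W : Subgroup G), W ≤ V → d ∈ chainStab U W → (∀ w ∈ W, Commute d w) →
      ∀ u ∈ U, Commute d u := by
    intro U W hWV hd' hW u hu
    have hm : u⁻¹ * (d * u * d⁻¹) ∈ W := hdiff u ▸ hd'.2 _ (inv_mem hu)
    exact LocalEvenA.comm_of_coprime_chain hd ⟨1, by rw [pow_one]; exact hV.2 _ (hWV hm)⟩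
      (hW _ hm)
  exact step V W2 h2 e3 (step W2 W1 (h12.trans h2) e2 (mem_chainStab_bot.mp e1))

/-- The fixed points of an element. -/
abbrev fixOf (V : Subgroup G) (a : G) : Subgroup G :=
  V ⊓ centralizer ((zpowers a : Subgroup G) : Set G)

namespace IsTransv

variable {V : Subgroup G} {a : G}

theorem commutator_le (h : IsTransv p V a) : ⁅V, zpowers a⁆ ≤ V :=
  le_normalizer_iff_commutator_le_left.mp h.zpowers_le

/-- A transvection normalises every subgroup between its centre and `V`. -/
theorem mem_chainStab_top (hV : IsElementaryAbelian p V) (h : IsTransv p V a) {W : Subgroup G}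
    (hW : ⁅V, zpowers a⁆ ≤ W) (hWV : W ≤ V) : a ∈ chainStab V W :=
  ⟨mem_normalizer_of_commutator_mem fun w hw =>
    hW (commutator_mem_commutator (hWV hw) (mem_zpowers a)),
    fun v hv => hW (commutator_mem_commutator hv (mem_zpowers a))⟩

end IsTransv

/-- An offender of order `p`: a transvection in `H`. -/
structure FFT (p : ℕ) (V H : Subgroup G) (a : G) : Prop where
  mem : a ∈ H
  pow_eq : a ^ p = 1
  ne : a ≠ 1
  tr : IsTransv p V a

namespace FFT

variable {V H Q : Subgroup G} {a c : G}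

theorem order_eq (ha : FFT p V H a) : orderOf a = p := orderOf_eq_prime ha.pow_eq ha.ne

theorem conj (ha : FFT p V H a) (hle : H ≤ normalizer (V : Set G)) {g : G} (hg : g ∈ H) :
    FFT p V H (g * a * g⁻¹) := by
  have hgV : g ∈ normalizer (V : Set G) := hle hg
  have hVmap : V.map (MulAut.conj g).toMonoidHom = V := map_conj_eq_of_mem_normalizer hgV
  refine ⟨mul_mem (mul_mem hg ha.mem) (inv_mem hg), ?_, fun e => ha.ne ?_, ?_, ?_, ?_⟩
  · rw [conj_pow, ha.pow_eq, mul_one, mul_inv_cancel]
  · have e1 := congrArg (fun z => g⁻¹ * z * g) e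
    simpa [mul_assoc] using e1
  · exact mul_mem (mul_mem hgV ha.tr.mem) (inv_mem hgV)
  · rw [conj_pow, ha.pow_eq, mul_one, mul_inv_cancel]; exact one_mem _
  · have hfix : fixOf V (g * a * g⁻¹) = (fixOf V a).map (MulAut.conj g).toMonoidHom := by
      have hmem : ∀ (b : G) (w : G), w ∈ centralizer ((zpowers b : Subgroup G) : Set G) ↔
          Commute b w := by
        intro b w
        constructor
        · exact fun h => h b (mem_zpowers b)
        · intro h z hz
          obtain ⟨i, rfl⟩ := mem_zpowers_iff.mp hz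
          exact (h.zpow_left i).eq
      ext w
      constructor
      · intro hw
        refine ⟨g⁻¹ * w * g⁻¹⁻¹, ⟨(Basics.conj_mem_iff_of_mem_normalizer (inv_mem hgV)).mpr hw.1,
          (hmem a _).mpr ?_⟩, by simp [mul_assoc]⟩
        have h1 := ((hmem _ w).mp hw.2).map (MulAut.conj g⁻¹).toMonoidHom
        simpa [mul_assoc] using h1
      · rintro ⟨u, hu, rfl⟩
        refine ⟨(Basics.conj_mem_iff_of_mem_normalizer hgV).mpr hu.1, (hmem _ _).mpr ?_⟩
        exact ((hmem a u).mp hu.2).map (MulAut.conj g).toMonoidHom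
    show (fixOf V (g * a * g⁻¹)).relIndex V = p
    rw [hfix]
    conv_lhs => arg 2; rw [← hVmap]
    rw [relIndex_map_map_of_injective _ _ (MulAut.conj g).injective]
    exact ha.tr.index

theorem conj_center (g : G) (hle : g ∈ normalizer (V : Set G)) :
    ⁅V, zpowers (g * a * g⁻¹)⁆ = (⁅V, zpowers a⁆).map (MulAut.conj g).toMonoidHom := by
  rw [map_commutator, map_conj_eq_of_mem_normalizer hle, MonoidHom.map_zpowers]
  rfl

theorem fixed_le_centralizer (ha : FFT p V H a) {W : Subgroup G} (hW : W ≤ fixOf V a) :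
    a ∈ chainStab W ⊥ :=
  mem_chainStab_bot.mpr fun _ hu => ha.tr.commute_of_mem (hW hu)

/-- Two transvections generating a nontrivial `p'`-element have centres outside each other's
fixed hyperplane. -/
theorem not_le_fixed (h : FFSetup p V H Q) (ha : FFT p V H a) (hc : FFT p V H c) {d : G}
    (hd : d ∈ closure ({a, c} : Set G)) (hdQ : d ∈ Q) (hd1 : d ≠ 1) :
    ¬ ⁅V, zpowers c⁆ ≤ fixOf V a := by
  intro hle
  set X := ⁅V, zpowers a⁆ with hX
  set Y := ⁅V, zpowers c⁆ with hY
  have hXC : X ≤ fixOf V a := ha.tr.commutator_le_fixed h.ea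
  have hYC : Y ≤ fixOf V c := hc.tr.commutator_le_fixed h.ea
  have hXV : X ≤ V := ha.tr.commutator_le
  have hYV : Y ≤ V := hc.tr.commutator_le
  have gen : ∀ (U W : Subgroup G), a ∈ chainStab U W → c ∈ chainStab U W →
      d ∈ chainStab U W := by
    intro U W h1 h2
    refine closure_le _ |>.mpr ?_ hd
    rintro z (rfl | rfl)
    · exact h1
    · exact h2
  have e3 : d ∈ chainStab V (X ⊔ Y) := gen _ _
    (ha.tr.mem_chainStab_top h.ea le_sup_left (sup_le hXV hYV))
    (hc.tr.mem_chainStab_top h.ea le_sup_right (sup_le hXV hYV))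
  have e2 : d ∈ chainStab (X ⊔ Y) Y := by
    refine gen _ _ ⟨?_, fun u hu => ?_⟩ ⟨?_, fun u hu => ?_⟩
    · refine mem_normalizer_of_commutator_mem fun w hw => ?_
      rw [commutatorElement_eq_one_iff_commute.mpr (ha.tr.commute_of_mem (hle hw)).symm]
      exact one_mem _
    · rw [commutatorElement_eq_one_iff_commute.mpr
        (ha.tr.commute_of_mem (sup_le hXC hle hu)).symm]
      exact one_mem _
    · exact mem_normalizer_of_commutator_mem fun w hw =>
        commutator_mem_commutator (hYV hw) (mem_zpowers c)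
    · exact commutator_mem_commutator (sup_le hXV hYV hu) (mem_zpowers c)
  have e1 : d ∈ chainStab Y ⊥ := gen _ _ (ha.fixed_le_centralizer hle) (hc.fixed_le_centralizer hYC)
  have hcop : (orderOf d).Coprime p := by
    have := orderOf_dvd_natCard (⟨_, hdQ⟩ : Q)
    rw [← Subgroup.orderOf_coe] at this
    exact h.Qcop.coprime_dvd_left this
  have hcomm := commute_of_chain h.ea le_sup_right (sup_le hXV hYV) hcop e3 e2 e1
  have h4 : d ∈ H ⊓ centralizer (V : Set G) := ⟨h.Qle hdQ, fun v hv => (hcomm v hv).eq.symm⟩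
  rw [h.faithful, mem_bot] at h4
  exact hd1 h4

/-- A transvection congruent to `t` modulo `Q` whose centre is fixed by `t` equals `t`. -/
theorem eq_of_center_le (h : FFSetup p V H Q) {t : G} (ht : FFT p V H t) (hc : FFT p V H c)
    (hQ : c * t⁻¹ ∈ Q) (hle : ⁅V, zpowers c⁆ ≤ fixOf V t) : c = t := by
  by_contra hne
  exact not_le_fixed h ht hc (d := c * t⁻¹)
    (mul_mem (subset_closure (Set.mem_insert_of_mem _ rfl))
      (inv_mem (subset_closure (Set.mem_insert _ _))))
    hQ (fun e => hne (mul_inv_eq_one.mp e)) hle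

end FFT

end Cfsg.Agent.Components
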