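import Cfsg.Agent.Lib.Fusion.SaturationCriterion
import Cfsg.Agent.Lib.Fusion.DirectFactor
import Cfsg.Agent.Lib.Fusion.Hyperfocal

/-!
To bound the focal subgroup by a subgroup `N` containing a strongly closed `T`, it is enough to
look at the maps defined on overgroups of `T`.
-/

set_option autoImplicit false
set_option linter.style.haveILetI false
set_option linter.unusedSectionVars false

namespace Cfsg.Agent.Components.FocalClass

open Cfsg.FusionSystem (centralizerIn normalizerIn)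
open Cfsg.Agent.Fusion

universe u

variable {Ω : Type u} [Group Ω] {R T N : Subgroup Ω} {G : FusionSystem R} {p : ℕ}
variable [Finite R] [Fact p.Prime]

/-- The maps on overgroups of `T` decide whether the focal subgroup lies in `N`. -/
theorem class_invariant (hR : IsPGroup p R) (hG : G.IsSaturated p) (hsc : G.StronglyClosed T)
    (hTN : T ≤ N) (hab : ∀ x ∈ R, ∀ y ∈ R, x * y * x⁻¹ * y⁻¹ ∈ N)
    (hbase : ∀ (P : Subgroup Ω) (f : Ω → Ω), MapTo G P f → T ≤ P → ∀ x ∈ P, x⁻¹ * f x ∈ N) :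
    ∀ (P : Subgroup Ω) (f : Ω → Ω), MapTo G P f → ∀ x ∈ P, x⁻¹ * f x ∈ N := by
  have hTR : T ≤ R := hsc.1
  haveI := finite_of_le hTR
  -- `N` absorbs conjugation
  have hN : ∀ {x n : Ω}, x ∈ R → n ∈ N → n ∈ R → x * n * x⁻¹ ∈ N := fun {x n} hx hn hnR => by
    have := N.mul_mem (hab x hx n hnR) hn
    rwa [show x * n * x⁻¹ * n⁻¹ * n = x * n * x⁻¹ by group] at this
  suffices h : ∀ (n : ℕ) (P : Subgroup Ω) (f : Ω → Ω), MapTo G P f →
      n ≤ Nat.card (P ⊓ T : Subgroup Ω) → ∀ x ∈ P, x⁻¹ * f x ∈ N from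
    fun P f hf => h 0 P f hf (Nat.zero_le _)
  intro n
  induction hk : Nat.card T + 1 - n using Nat.strong_induction_on generalizing n with
  | h k ih =>
  intro P f hf hn
  refine alperin_prop hR hG
    (fun P f => n ≤ Nat.card (P ⊓ T : Subgroup Ω) → ∀ x ∈ P, x⁻¹ * f x ∈ N) ?_ ?_ ?_ ?_ ?_ hf hn
  · intro P f g _ h hfg hn x hx
    rw [hfg x hx]; exact h hn x hx
  · intro P g hP hg _ x hx
    rw [cj_apply]
    have := hN (R.inv_mem (hP hx)) (hab g hg x (hP hx))
      (R.mul_mem (R.mul_mem (R.mul_mem hg (hP hx)) (R.inv_mem hg)) (R.inv_mem (hP hx)))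
    rwa [show x⁻¹ * (g * x * g⁻¹ * x⁻¹) * x⁻¹⁻¹ = x⁻¹ * (g * x * g⁻¹) by group] at this
  · intro P Q f g hf hg hfQ h1 h2 hn x hx
    have hcard : n ≤ Nat.card (Q ⊓ T : Subgroup Ω) := by
      refine hn.trans ?_
      haveI := finite_of_le ((inf_le_right : Q ⊓ T ≤ T).trans hTR)
      rw [← hf.card_img (inf_le_left : P ⊓ T ≤ P)]
      exact Subgroup.card_le_of_le (img_le_of_forall fun y hy =>
        ⟨hfQ y hy.1, StronglyClosed.map_mem hsc hf hy.1 hy.2⟩)
    show x⁻¹ * g (f x) ∈ N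
    have := N.mul_mem (h1 hn x hx) (h2 hcard _ (hfQ x hx))
    rwa [show x⁻¹ * f x * ((f x)⁻¹ * g (f x)) = x⁻¹ * g (f x) by group] at this
  · intro P f g hf _ hgf h hn y hy
    obtain ⟨x, hx, rfl⟩ := (hf.mem_img_iff le_rfl).mp hy
    rw [hgf x hx]
    have hcard : n ≤ Nat.card (P ⊓ T : Subgroup Ω) := by
      refine hn.trans ?_
      haveI := finite_of_le ((inf_le_right : P ⊓ T ≤ T).trans hTR)
      obtain ⟨k, hk, hkf, -, -⟩ := hf.exists_iso_inverse
      rw [← hk.card_img (inf_le_left : img f P ⊓ T ≤ img f P)]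
      refine Subgroup.card_le_of_le (img_le_of_forall fun z hz => ?_)
      obtain ⟨w, hw, rfl⟩ := (hf.mem_img_iff le_rfl).mp hz.1
      refine ⟨by rw [hkf w hw]; exact hw, StronglyClosed.map_mem hsc hk hz.1 hz.2⟩
    have := N.inv_mem (h hcard x hx)
    rwa [mul_inv_rev, inv_inv] at this
  · intro Q hQ α hα hn x hx
    have hQn := isFullyNormalized_of_eq_top_or_essential hQ
    have hQR := hQn.1
    by_cases hTQ : T ≤ Q
    · exact hbase Q _ (mapTo_of_mem_autGroup hQR hα) hTQ x hx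
    haveI := finite_of_le hQR
    haveI := finite_mulAut Q
    haveI := finite_of_le ((inf_le_right : Q ⊓ T ≤ T).trans hTR)
    have hαm : ∀ {a : MulAut Q}, a ∈ G.autGroup Q → MapTo G Q (autFun a) := fun ha =>
      mapTo_of_mem_autGroup hQR ha
    have hinv : ∀ {a : MulAut Q}, a ∈ G.autGroup Q → ∀ y ∈ Q, y ∈ T → autFun a y ∈ T :=
      fun ha y hy hyT => StronglyClosed.map_mem hsc (hαm ha) hy hyT
    -- the automorphisms trivial modulo `T`
    let L : Subgroup (MulAut Q) :=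
      { carrier := {a | a ∈ G.autGroup Q ∧ ∀ y ∈ Q, y⁻¹ * autFun a y ∈ T}
        one_mem' := ⟨Subgroup.one_mem _, fun y hy => by
          rw [autFun_one hy, inv_mul_cancel]; exact T.one_mem⟩
        mul_mem' := by
          rintro a b ⟨ha, ha'⟩ ⟨hb, hb'⟩
          refine ⟨Subgroup.mul_mem _ ha hb, fun y hy => ?_⟩
          rw [autFun_mul _ _ hy]
          have := T.mul_mem (hb' y hy) (ha' _ (autFun_mem b hy))
          rwa [mul_assoc, mul_inv_cancel_left] at this
        inv_mem' := by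
          rintro a ⟨ha, ha'⟩
          refine ⟨Subgroup.inv_mem _ ha, fun y hy => ?_⟩
          have h := T.inv_mem (ha' _ (autFun_mem a⁻¹ hy))
          rwa [autFun_autFun_inv a hy, mul_inv_rev, inv_inv] at h }
    have hLle : L ≤ G.autGroup Q := fun a ha => ha.1
    have hLn : G.autGroup Q ≤ Subgroup.normalizer (L : Set (MulAut Q)) := by
      intro a ha
      refine mem_normalizer_of_forall fun l hl => ⟨Subgroup.mul_mem _ (Subgroup.mul_mem _ ha hl.1)
        (Subgroup.inv_mem _ ha), fun y hy => ?_⟩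
      have hv := autFun_mem a⁻¹ hy
      rw [autFun_mul _ _ hy, autFun_mul _ _ hv]
      have hd := hl.2 _ hv
      have hdQ : (autFun a⁻¹ y)⁻¹ * autFun l (autFun a⁻¹ y) ∈ Q :=
        Q.mul_mem (Q.inv_mem hv) (autFun_mem l hv)
      have h1 : autFun a (autFun l (autFun a⁻¹ y)) =
          y * autFun a ((autFun a⁻¹ y)⁻¹ * autFun l (autFun a⁻¹ y)) := by
        conv_lhs => rw [← mul_inv_cancel_left (autFun a⁻¹ y) (autFun l (autFun a⁻¹ y))]
        rw [(hαm ha).map_mul hv hdQ, autFun_autFun_inv a hy]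
      rw [h1, inv_mul_cancel_left]
      exact hinv ha _ hdQ hd
    obtain ⟨W, hW⟩ := (isFullyAutomized_of_isFullyNormalized hR hG hQn).2
    have hA := IsSylowIn.inf_normal
      ((isSylowIn_iff_exists (autInducedBy_le_autGroup (F := G) hQR)).mpr ⟨W, hW⟩) hLle hLn
    set A := autInducedBy R Q ⊓ L with hAdef
    -- Frattini argument
    set B := A.map (MulAut.conj α).toMonoidHom with hB
    obtain ⟨γ, hγ, hγB⟩ := hA.2.2 B (by
      rintro _ ⟨c, hc, rfl⟩
      exact (Subgroup.mem_normalizer_iff.mp (hLn hα) c).mp hc.2)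
      (hA.2.1.map _)
    have hβ : γ * α ∈ G.autGroup Q := Subgroup.mul_mem _ hγ.1 hα
    set Y := normalizerIn T Q ⊔ Q with hY
    have hYR : Y ≤ normalizerIn R Q :=
      sup_le (fun y hy => ⟨hTR hy.1, hy.2⟩) (le_normalizerIn hQR)
    have hYA : ∀ c ∈ autInducedBy (normalizerIn T Q) Q, c ∈ A := by
      intro c hc
      obtain ⟨t, ht, htc⟩ := mem_autInducedBy_iff_cj.mp hc
      refine ⟨mem_autInducedBy_iff_cj.mpr ⟨t, hTR ht.1, htc⟩, autInducedBy_le_autGroup hQR
        (mem_autInducedBy_iff_cj.mpr ⟨t, hTR ht.1, htc⟩), fun y hy => ?_⟩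
      rw [htc y hy, cj_apply]
      have := T.mul_mem (StronglyClosed.conj_mem hsc (R.inv_mem (hQR hy)) ht.1) (T.inv_mem ht.1)
      rwa [show y⁻¹ * t * y⁻¹⁻¹ * t⁻¹ = y⁻¹ * (t * y * t⁻¹) by group] at this
    have hm := hαm hβ
    obtain ⟨g, hg, hgx⟩ := exists_extension (isReceptive_of_isFullyNormalized hR hG hQn) hm
      (img_autFun _) hYR (by
      rintro _ ⟨c, hc, rfl⟩
      obtain ⟨y, hy, hyc⟩ := mem_autInducedBy_iff_cj.mp hc
      set w := MulAut.congr (isoEquiv hm (img_autFun _)) c with hw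
      have hwe : w = γ * (α * c * α⁻¹) * γ⁻¹ := by
        refine autFun_ext fun z hz => ?_
        obtain ⟨v, hv, rfl⟩ : ∃ v ∈ Q, autFun (γ * α) v = z :=
          ⟨_, autFun_mem _ hz, autFun_autFun_inv _ hz⟩
        rw [hw, autFun_congr hm _ c hv,
          show γ * (α * c * α⁻¹) * γ⁻¹ = γ * α * c * (γ * α)⁻¹ by group,
          autFun_mul (γ * α * c) (γ * α)⁻¹ (autFun_mem (γ * α) hv), autFun_inv_autFun _ hv,
          autFun_mul (γ * α) c hv]
      show w ∈ autInducedBy R Q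
      rw [hwe]
      have hyQ : y ∈ ((normalizerIn T Q ⊔ Q : Subgroup Ω) : Set Ω) := hy
      rw [Subgroup.coe_mul_of_left_le_normalizer_right _ _
        (fun z hz => hz.2 : normalizerIn T Q ≤ Subgroup.normalizer (Q : Set Ω))] at hyQ
      obtain ⟨t, ht, q, hq, rfl⟩ := hyQ
      obtain ⟨ct, hct⟩ := exists_conjAut (P := Q) ht.2
      obtain ⟨cq, hcq⟩ := exists_conjAut (P := Q) (Subgroup.le_normalizer hq)
      have hce : c = ct * cq := autFun_ext fun z hz => by
        rw [hyc z hz, autFun_mul _ _ hz, hct _ (autFun_mem cq hz), hcq z hz, cj_mul]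
      have h1 : γ * (α * ct * α⁻¹) * γ⁻¹ ∈ autInducedBy R Q :=
        (hγB _ ⟨ct, hYA ct (mem_autInducedBy_iff_cj.mpr ⟨t, ht, hct⟩), rfl⟩).1
      have h2 : γ * α * cq * (γ * α)⁻¹ ∈ autInducedBy R Q := by
        refine mem_autInducedBy_iff_cj.mpr ⟨autFun (γ * α) q, hQR (autFun_mem _ hq), fun z hz => ?_⟩
        obtain ⟨v, hv, rfl⟩ : ∃ v ∈ Q, autFun (γ * α) v = z :=
          ⟨_, autFun_mem _ hz, autFun_autFun_inv _ hz⟩
        rw [autFun_mul (γ * α * cq) (γ * α)⁻¹ (autFun_mem (γ * α) hv), autFun_inv_autFun _ hv,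
          autFun_mul (γ * α) cq hv, hcq v hv, cj_apply, cj_apply, hm.map_conj hq hv]
      rw [hce, show γ * (α * (ct * cq) * α⁻¹) * γ⁻¹ =
        γ * (α * ct * α⁻¹) * γ⁻¹ * (γ * α * cq * (γ * α)⁻¹) by group]
      exact Subgroup.mul_mem _ h1 h2)
    -- the extension is defined on more of `T`
    have hlt : Nat.card (Q ⊓ T : Subgroup Ω) < Nat.card (Y ⊓ T : Subgroup Ω) := by
      haveI := finite_of_le ((inf_le_right : Y ⊓ T ≤ T).trans hTR)
      have hlt : Q < Q ⊔ T := lt_of_le_not_ge le_sup_left fun h => hTQ (le_sup_right.trans h)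
      haveI := finite_of_le (sup_le hQR hTR : Q ⊔ T ≤ R)
      obtain ⟨y, hy, hyQ⟩ := SetLike.exists_of_lt (lt_normalizerIn (hR.to_le (sup_le hQR hTR)) hlt)
      have hy' : y ∈ ((Q ⊔ T : Subgroup Ω) : Set Ω) := hy.1
      rw [Subgroup.coe_mul_of_left_le_normalizer_right _ _
        (hQR.trans (StronglyClosed.le_normalizer hsc))] at hy'
      obtain ⟨q, hq, t, ht, rfl⟩ := hy'
      have htN : t ∈ Subgroup.normalizer (Q : Set Ω) := by
        have := Subgroup.mul_mem _ (Subgroup.inv_mem _ (Subgroup.le_normalizer hq)) hy.2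
        rwa [inv_mul_cancel_left] at this
      have htQ : t ∉ Q := fun h => hyQ (Q.mul_mem hq h)
      refine card_lt_of_lt (lt_of_le_not_ge (inf_le_inf_right T le_sup_right) fun h =>
        htQ (h ⟨Subgroup.mem_sup_left ⟨ht, htN⟩, ht⟩).1) ((inf_le_right : Y ⊓ T ≤ T).trans hTR)
    have hgN : ∀ y ∈ Q, y⁻¹ * g y ∈ N := by
      intro y hy
      haveI := finite_of_le ((inf_le_right : Y ⊓ T ≤ T).trans hTR)
      have := Subgroup.card_le_of_le (inf_le_right : Y ⊓ T ≤ T)
      exact ih _ (by omega) (Nat.card (Y ⊓ T : Subgroup Ω)) rfl Y g hg le_rfl y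
        (Subgroup.mem_sup_right hy)
    have h1 := hgN x hx
    rw [hgx x hx, autFun_mul _ _ hx] at h1
    have h2 := hTN (hγ.2 _ (autFun_mem α hx))
    have h3 := N.mul_mem h1 (N.inv_mem h2)
    rwa [show x⁻¹ * autFun γ (autFun α x) * ((autFun α x)⁻¹ * autFun γ (autFun α x))⁻¹ =
      x⁻¹ * autFun α x by group] at h3

end Cfsg.Agent.Components.FocalClass
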