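import Mathlib
import Cfsg.Agent.Lib.Invol.Count

/-!
Frobenius' theorem on the number of solutions of `x ^ n = c`.
-/

set_option autoImplicit false
set_option linter.style.haveILetI false

namespace Cfsg.Agent.FrobCount

universe u

variable {H : Type u} [Group H] [Finite H] {p : ℕ}

theorem dvd_card_of_fibers {α β : Type*} [Finite α] (f : α → β) (d : ℕ)
    (h : ∀ b, d ∣ Nat.card {a // f a = b}) : d ∣ Nat.card α := by
  classical
  haveI := Fintype.ofFinite α
  rw [Nat.card_eq_fintype_card, ← Finset.card_univ, Finset.card_eq_sum_card_image f]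
  refine Finset.dvd_sum fun b _ => ?_
  have := h b
  rwa [Nat.card_eq_fintype_card, Fintype.card_subtype] at this

theorem pow_congr {x : H} {N a b : ℕ} (hx : x ^ N = 1) (h : a ≡ b [MOD N]) : x ^ a = x ^ b :=
  pow_eq_pow_iff_modEq.mpr (h.of_dvd (orderOf_dvd_of_pow_eq_one hx))

theorem orderOf_root (hp : p.Prime) {u z : H} {a k : ℕ} (hz : orderOf z = p ^ (k + 1))
    (h : u ^ p ^ a = z) : orderOf u = p ^ (a + k + 1) := by
  haveI := Fact.mk hp
  have e : ∀ j, u ^ p ^ (a + j) = z ^ p ^ j := fun j => by rw [pow_add, pow_mul, h]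
  refine orderOf_eq_prime_pow (n := a + k) ?_ ?_
  · rw [e]
    exact pow_ne_one_of_lt_orderOf (pow_ne_zero _ hp.ne_zero)
      (hz ▸ Nat.pow_lt_pow_right hp.one_lt (by omega))
  · rw [add_assoc, e, ← hz, pow_orderOf_eq_one]

theorem dvd_root (hp : p.Prime) {z : H} {k : ℕ} (hz : orderOf z = p ^ (k + 1)) (a : ℕ) :
    p ^ a ∣ Nat.card {u : H // u ^ p ^ a = z} := by
  haveI := Fact.mk hp
  refine dvd_card_of_fibers (fun u : {u : H // u ^ p ^ a = z} => Subgroup.zpowers (u : H)) _
    fun K => ?_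
  by_cases hne : ∃ u : {u : H // u ^ p ^ a = z}, Subgroup.zpowers (u : H) = K
  swap
  · haveI : IsEmpty {u : {u : H // u ^ p ^ a = z} // Subgroup.zpowers (u : H) = K} :=
      ⟨fun u => hne ⟨u.1, u.2⟩⟩
    simp
  obtain ⟨⟨u, hu⟩, rfl⟩ := hne
  have ho := orderOf_root hp hz hu
  set T := Subgroup.zpowers (u ^ p ^ (k + 1)) with hT
  have hmemT : ∀ t : H, t ∈ T ↔ t ∈ Subgroup.zpowers u ∧ t ^ p ^ a = 1 := by
    intro t
    constructor
    · intro ht
      have h1 : T ≤ Subgroup.zpowers u :=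
        Subgroup.zpowers_le.mpr (pow_mem (Subgroup.mem_zpowers u) _)
      obtain ⟨i, rfl⟩ := Subgroup.mem_zpowers_iff.mp ht
      refine ⟨h1 ht, ?_⟩
      rw [← zpow_natCast, ← zpow_mul, mul_comm, zpow_mul, zpow_natCast, ← pow_mul, ← pow_add,
        show k + 1 + a = a + k + 1 by omega, ← ho, pow_orderOf_eq_one, one_zpow]
    · rintro ⟨ht, h1⟩
      rw [← (isOfFinOrder_of_finite u).mem_powers_iff_mem_zpowers] at ht
      obtain ⟨j, rfl⟩ := ht
      simp only at h1 ⊢
      rw [← pow_mul] at h1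
      have h2 := orderOf_dvd_of_pow_eq_one h1
      rw [ho, show a + k + 1 = (k + 1) + a by omega, pow_add] at h2
      obtain ⟨d, rfl⟩ := Nat.dvd_of_mul_dvd_mul_right (pow_pos hp.pos a) h2
      rw [pow_mul]
      exact pow_mem (Subgroup.mem_zpowers _) _
  have hcard : Nat.card T = p ^ a := by
    rw [Nat.card_zpowers, orderOf_pow' u (pow_ne_zero _ hp.ne_zero), ho,
      Nat.gcd_eq_right (pow_dvd_pow p (by omega)), Nat.pow_div (by omega) hp.pos]
    congr 1
    omega
  let e : {w : {w : H // w ^ p ^ a = z} // Subgroup.zpowers (w : H) = Subgroup.zpowers u} ≃ ↥T :=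
    { toFun := fun w => ⟨u⁻¹ * (w.1 : H), by
        have hw : (w.1 : H) ∈ Subgroup.zpowers u := by
          have h0 := Subgroup.mem_zpowers (w.1 : H)
          rwa [w.2] at h0
        refine (hmemT _).mpr ⟨mul_mem (inv_mem (Subgroup.mem_zpowers u)) hw, ?_⟩
        obtain ⟨i, hi⟩ := Subgroup.mem_zpowers_iff.mp hw
        have hc : Commute u⁻¹ (w.1 : H) := by
          rw [← hi]; exact ((Commute.refl u).zpow_right i).inv_left
        rw [hc.mul_pow, w.1.2, inv_pow, hu, inv_mul_cancel]⟩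
      invFun := fun t => ⟨⟨u * (t : H), by
          obtain ⟨ht, ht1⟩ := (hmemT _).mp t.2
          obtain ⟨i, hi⟩ := Subgroup.mem_zpowers_iff.mp ht
          have hc : Commute u (t : H) := by rw [← hi]; exact (Commute.refl u).zpow_right i
          rw [hc.mul_pow, hu, ht1, mul_one]⟩, by
        obtain ⟨ht, ht1⟩ := (hmemT _).mp t.2
        obtain ⟨i, hi⟩ := Subgroup.mem_zpowers_iff.mp ht
        have hc : Commute u (t : H) := by rw [← hi]; exact (Commute.refl u).zpow_right i
        refine Subgroup.eq_of_le_of_card_ge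
          (Subgroup.zpowers_le.mpr (mul_mem (Subgroup.mem_zpowers u) ht)) ?_
        rw [Nat.card_zpowers, Nat.card_zpowers, ho,
          orderOf_root (u := u * (t : H)) hp hz (by rw [hc.mul_pow, hu, ht1, mul_one])]⟩
      left_inv := fun w => Subtype.ext (Subtype.ext (mul_inv_cancel_left _ _))
      right_inv := fun t => Subtype.ext (inv_mul_cancel_left _ _) }
  exact ⟨1, by rw [mul_one]; exact (Nat.card_congr e).trans hcard⟩

theorem dvd_exact (hp : p.Prime) (a : ℕ) : p ^ a ∣ Nat.card {u : H // orderOf u = p ^ (a + 1)} := by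
  haveI := Fact.mk hp
  refine dvd_card_of_fibers (fun u : {u : H // orderOf u = p ^ (a + 1)} => (u : H) ^ p ^ a) _
    fun z => ?_
  by_cases hne : ∃ u : {u : H // orderOf u = p ^ (a + 1)}, (u : H) ^ p ^ a = z
  swap
  · haveI : IsEmpty {u : {u : H // orderOf u = p ^ (a + 1)} // (u : H) ^ p ^ a = z} :=
      ⟨fun u => hne ⟨u.1, u.2⟩⟩
    simp
  obtain ⟨⟨u, hu⟩, rfl⟩ := hne
  have hz : orderOf (u ^ p ^ a) = p ^ (0 + 1) := by
    rw [orderOf_pow' u (pow_ne_zero _ hp.ne_zero), hu,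
      Nat.gcd_eq_right (pow_dvd_pow p (by omega)), Nat.pow_div (by omega) hp.pos]
    congr 1
    omega
  rw [Nat.card_congr (Equiv.subtypeSubtypeEquivSubtype (p := fun w : H => orderOf w = p ^ (a + 1))
    (q := fun w => w ^ p ^ a = u ^ p ^ a) ?_)]
  · exact dvd_root hp hz a
  intro w hw
  simpa using orderOf_root hp hz hw

/-- The `p`-exponent of the group order. -/
noncomputable def V (p : ℕ) (H : Type u) [Group H] : ℕ := (Nat.card H).factorization p

theorem pow_V_dvd : p ^ V p H ∣ Nat.card H := Nat.ordProj_dvd _ _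

/-- The `p'`-part of the group order. -/
noncomputable def M0 (p : ℕ) (H : Type u) [Group H] : ℕ := Nat.card H / p ^ V p H

theorem mul_M0 : p ^ V p H * M0 p H = Nat.card H := Nat.mul_div_cancel' pow_V_dvd

theorem coprime_M0 (hp : p.Prime) : p.Coprime (M0 p H) :=
  Nat.coprime_ordCompl hp Nat.card_pos.ne'

theorem orderOf_le_V (hp : p.Prime) {u : H} {a : ℕ} (h : u ^ p ^ a = 1) : u ^ p ^ V p H = 1 := by
  obtain ⟨j, -, hj⟩ := (Nat.dvd_prime_pow hp).mp (orderOf_dvd_of_pow_eq_one h)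
  have h1 : p ^ j ∣ Nat.card H := hj ▸ orderOf_dvd_natCard u
  have h2 : j ≤ V p H := (hp.pow_dvd_iff_le_factorization Nat.card_pos.ne').mp h1
  exact orderOf_dvd_iff_pow_eq_one.mp (hj ▸ pow_dvd_pow p h2)

/-- The statement that the number of `p`-elements is divisible by the `p`-part of the order. -/
def Good (p : ℕ) (H : Type u) [Group H] : Prop :=
  p ^ V p H ∣ Nat.card {u : H // u ^ p ^ V p H = 1}

theorem dvd_one_of_good (hp : p.Prime) (hG : Good p H) :
    ∀ d a : ℕ, a + d = V p H → p ^ a ∣ Nat.card {u : H // u ^ p ^ a = 1}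
  | 0, a, h => by
    obtain rfl : a = V p H := by omega
    exact hG
  | d + 1, a, h => by
    classical
    haveI := Fact.mk hp
    have h1 := dvd_one_of_good hp hG d (a + 1) (by omega)
    let e : {u : H // u ^ p ^ (a + 1) = 1} ≃
        {u : H // u ^ p ^ a = 1} ⊕ {u : H // orderOf u = p ^ (a + 1)} :=
      (Equiv.subtypeEquivRight fun u => by
        constructor
        · intro hu
          by_cases h2 : u ^ p ^ a = 1
          · exact Or.inl h2
          · exact Or.inr (orderOf_eq_prime_pow h2 hu)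
        · rintro (hu | hu)
          · rw [pow_succ, pow_mul, hu, one_pow]
          · rw [← hu, pow_orderOf_eq_one]).trans
      (subtypeOrEquiv _ _ (by
        rw [disjoint_iff_inf_le]
        rintro u ⟨h2, h3⟩
        have := orderOf_dvd_of_pow_eq_one h2
        rw [h3] at this
        have := (Nat.pow_dvd_pow_iff_le_right hp.one_lt).mp this
        omega))
    rw [Nat.card_congr e, Nat.card_sum] at h1
    exact (Nat.dvd_add_left (dvd_exact hp a)).mp (dvd_trans (pow_dvd_pow p (by omega)) h1)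

theorem dvd_of_good (hp : p.Prime) (hG : Good p H) {z : H} (hz : z ^ p ^ V p H = 1) (a : ℕ) :
    p ^ min a (V p H) ∣ Nat.card {u : H // u ^ p ^ a = z} := by
  obtain ⟨k, -, hk⟩ := (Nat.dvd_prime_pow hp).mp (orderOf_dvd_of_pow_eq_one hz)
  rcases k with _ | k
  · rw [pow_zero, orderOf_eq_one_iff] at hk
    subst hk
    rcases le_total a (V p H) with h | h
    · rw [min_eq_left h]
      exact dvd_one_of_good hp hG (V p H - a) a (by omega)
    · rw [min_eq_right h]
      have e : Nat.card {u : H // u ^ p ^ a = 1} = Nat.card {u : H // u ^ p ^ V p H = 1} :=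
        Nat.card_congr (Equiv.subtypeEquivRight fun u =>
          ⟨orderOf_le_V hp, fun hu => by
            rw [← Nat.sub_add_cancel h, add_comm, pow_add, pow_mul, hu, one_pow]⟩)
      rw [e]; exact hG
  · exact dvd_trans (pow_dvd_pow p (min_le_left _ _)) (dvd_root hp hk a)

/-- Number of roots of `z` commuting with `v`. -/
noncomputable def F (p a : ℕ) (z v : H) : ℕ := Nat.card {u : H // Commute u v ∧ u ^ p ^ a = z}

theorem F_conj (a : ℕ) {z v : H} (hzc : z ∈ Subgroup.center H) (g : H) :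
    F p a z (g * v * g⁻¹) = F p a z v := by
  refine (Nat.card_congr ((MulAut.conj g).toEquiv.subtypeEquiv fun u => ?_)).symm
  simp only [MulEquiv.toEquiv_eq_coe, EquivLike.coe_coe, MulAut.conj_apply, conj_pow]
  have e : g * z * g⁻¹ = z := by
    rw [(Subgroup.mem_center_iff.mp hzc g), mul_inv_cancel_right]
  constructor
  · rintro ⟨h1, h2⟩
    exact ⟨h1.map (MulAut.conj g).toMonoidHom, by rw [h2, e]⟩
  · rintro ⟨h1, h2⟩
    refine ⟨?_, ?_⟩
    · have := h1.map (MulAut.conj g⁻¹).toMonoidHom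
      simpa [mul_assoc] using this
    · rw [← e] at h2
      simpa using h2

theorem dvd_class_mul_F (hp : p.Prime) {z v : H} (hzc : z ∈ Subgroup.center H)
    (hz : z ^ p ^ V p H = 1) (hG : Good p ↥(Subgroup.centralizer ({v} : Set H))) (a : ℕ) :
    p ^ min a (V p H) ∣ Nat.card {y : H // IsConj v y} * F p a z v := by
  set C := Subgroup.centralizer ({v} : Set H)
  have hzC : z ∈ C := Subgroup.mem_centralizer_singleton_iff.mpr (Subgroup.mem_center_iff.mp hzc v).symm
  have hzV : (⟨z, hzC⟩ : ↥C) ^ p ^ V p ↥C = 1 := orderOf_le_V hp (a := V p H) (Subtype.ext (by simpa using hz))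
  have h1 := dvd_of_good hp hG hzV a
  have eF : Nat.card {u : ↥C // u ^ p ^ a = ⟨z, hzC⟩} = F p a z v :=
    Nat.card_congr
      { toFun := fun u => ⟨u.1.1, Subgroup.mem_centralizer_singleton_iff.mp u.1.2,
          by simpa using congrArg Subtype.val u.2⟩
        invFun := fun u => ⟨⟨u.1, Subgroup.mem_centralizer_singleton_iff.mpr u.2.1⟩,
          Subtype.ext (by simpa using u.2.2)⟩
        left_inv := fun _ => rfl
        right_inv := fun _ => rfl }
  rw [eF] at h1
  rcases le_total a (V p ↥C) with h | h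
  · rw [min_eq_left h] at h1
    exact dvd_trans (pow_dvd_pow p (min_le_left _ _)) (dvd_mul_of_dvd_right h1 _)
  · rw [min_eq_right h] at h1
    refine dvd_trans (pow_dvd_pow p (min_le_right _ _))
      (dvd_trans ?_ (Nat.mul_dvd_mul_left _ h1))
    have h2 : p ^ V p H ∣ Nat.card {y : H // IsConj v y} * p ^ V p ↥C * M0 p ↥C := by
      rw [mul_assoc, mul_M0, Invol.card_class_mul_card_centralizer v]
      exact pow_V_dvd
    exact ((coprime_M0 hp).pow_left _).dvd_of_dvd_mul_right h2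

theorem dvd_class_sum [Fintype H] (W : H → Prop) [DecidablePred W] (f : H → ℕ) (d : ℕ)
    (hW : ∀ g v, W v → W (g * v * g⁻¹)) (hf : ∀ g v, f (g * v * g⁻¹) = f v)
    (h : ∀ v, W v → d ∣ Nat.card {y : H // IsConj v y} * f v) :
    d ∣ ∑ v ∈ Finset.univ.filter W, f v := by
  classical
  rw [← Finset.sum_fiberwise_of_maps_to (g := ConjClasses.mk)
    (t := (Finset.univ.filter W).image ConjClasses.mk) fun v hv => Finset.mem_image_of_mem _ hv]
  refine Finset.dvd_sum fun K hK => ?_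
  obtain ⟨v, hv, rfl⟩ := Finset.mem_image.mp hK
  rw [Finset.mem_filter] at hv
  have hmem : ∀ y, y ∈ (Finset.univ.filter W).filter (fun y => ConjClasses.mk y = ConjClasses.mk v) ↔
      IsConj v y := by
    intro y
    rw [Finset.mem_filter, Finset.mem_filter, ConjClasses.mk_eq_mk_iff_isConj]
    refine ⟨fun hy => hy.2.symm, fun hy => ⟨⟨Finset.mem_univ _, ?_⟩, hy.symm⟩⟩
    obtain ⟨g, rfl⟩ := isConj_iff.mp hy
    exact hW g v hv.2
  rw [Finset.sum_const_nat (m := f v) fun y hy => by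
    obtain ⟨g, rfl⟩ := isConj_iff.mp ((hmem y).mp hy)
    exact hf g v]
  suffices hcard : ((Finset.univ.filter W).filter fun y => ConjClasses.mk y = ConjClasses.mk v).card =
      Nat.card {y : H // IsConj v y} by
    rw [hcard]; exact h v hv.2
  rw [Nat.card_eq_fintype_card, Fintype.card_subtype]
  congr 1
  ext y
  rw [hmem]; simp

theorem exists_exponents (hp : p.Prime) : ∃ e f : ℕ,
    (∀ u : H, u ^ p ^ V p H = 1 → u ^ e = u ∧ u ^ f = 1) ∧
    (∀ v : H, v ^ M0 p H = 1 → v ^ e = 1 ∧ v ^ f = v) ∧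
    (∀ x : H, x ^ (e + f) = x ∧ (x ^ e) ^ p ^ V p H = 1 ∧ (x ^ f) ^ M0 p H = 1) := by
  have hco : (p ^ V p H).Coprime (M0 p H) := (coprime_M0 hp).pow_left _
  obtain ⟨e, he1, he2⟩ := Nat.chineseRemainder hco 1 0
  obtain ⟨f, hf1, hf2⟩ := Nat.chineseRemainder hco 0 1
  refine ⟨e, f, fun u hu => ⟨?_, ?_⟩, fun v hv => ⟨?_, ?_⟩, fun x => ⟨?_, ?_, ?_⟩⟩
  · rw [pow_congr hu he1, pow_one]
  · rw [pow_congr hu hf1, pow_zero]
  · rw [pow_congr hv he2, pow_zero]
  · rw [pow_congr hv hf2, pow_one]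
  · have h : e + f ≡ 1 [MOD p ^ V p H * M0 p H] :=
      (Nat.modEq_and_modEq_iff_modEq_mul hco).mp ⟨he1.add hf1, he2.add hf2⟩
    rw [pow_congr (by rw [mul_M0]; exact pow_card_eq_one') h, pow_one]
  · obtain ⟨d, hd⟩ := Nat.modEq_zero_iff_dvd.mp he2
    rw [← pow_mul, hd, mul_comm, ← mul_assoc, mul_M0, pow_mul, pow_card_eq_one', one_pow]
  · obtain ⟨d, hd⟩ := Nat.modEq_zero_iff_dvd.mp hf1
    rw [← pow_mul, hd, mul_comm, ← mul_assoc, mul_comm (M0 p H), mul_M0, pow_mul, pow_card_eq_one',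
      one_pow]

open scoped Classical in
/-- Splitting the roots into `p`-parts and `p'`-parts. -/
theorem card_roots_eq [Fintype H] (hp : p.Prime) {e f n a : ℕ} {c z : H}
    (he : (∀ u : H, u ^ p ^ V p H = 1 → u ^ e = u ∧ u ^ f = 1) ∧
      (∀ v : H, v ^ M0 p H = 1 → v ^ e = 1 ∧ v ^ f = v) ∧
      (∀ x : H, x ^ (e + f) = x ∧ (x ^ e) ^ p ^ V p H = 1 ∧ (x ^ f) ^ M0 p H = 1))
    (hroot : ∀ u : H, u ^ p ^ V p H = 1 → (u ^ n = c ^ e ↔ u ^ p ^ a = z))
    (hz : z ^ p ^ V p H = 1) :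
    Nat.card {x : H // x ^ n = c} =
      ∑ v ∈ Finset.univ.filter (fun v : H => v ^ M0 p H = 1 ∧ v ^ n = c ^ f), F p a z v := by
  obtain ⟨hu', hv', hx'⟩ := he
  have hroot' : ∀ u : H, u ^ p ^ a = z → u ^ p ^ V p H = 1 := fun u hu =>
    orderOf_le_V hp (a := a + V p H) (by rw [pow_add, pow_mul, hu, hz])
  rw [Finset.sum_subtype (p := fun v : H => v ^ M0 p H = 1 ∧ v ^ n = c ^ f) _ (by simp) (F p a z)]
  unfold F
  rw [← Nat.card_sigma]
  refine Nat.card_congr
    { toFun := fun x => ⟨⟨(x : H) ^ f, (hx' _).2.2, by rw [← pow_mul, mul_comm, pow_mul, x.2]⟩,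
        ⟨(x : H) ^ e, (Commute.refl _).pow_pow _ _,
          (hroot _ (hx' _).2.1).mp (by rw [← pow_mul, mul_comm, pow_mul, x.2])⟩⟩
      invFun := fun w => ⟨(w.2 : H) * (w.1 : H), by
        rw [w.2.2.1.mul_pow, (hroot _ (hroot' _ w.2.2.2)).mpr w.2.2.2, w.1.2.2, ← pow_add, (hx' c).1]⟩
      left_inv := fun x => Subtype.ext (by simp [← pow_add, (hx' (x : H)).1])
      right_inv := fun w => ?_ }
  obtain ⟨⟨v, hv, hvn⟩, ⟨u, huv, hun⟩⟩ := w
  have e1 : (u * v) ^ f = v := by
    rw [huv.mul_pow, (hu' u (hroot' u hun)).2, (hv' v hv).2, one_mul]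
  have e2 : (u * v) ^ e = u := by
    rw [huv.mul_pow, (hu' u (hroot' u hun)).1, (hv' v hv).1, mul_one]
  exact Sigma.subtype_ext (Subtype.ext e1) e2

theorem good (hp : p.Prime) : ∀ (H : Type u) [Group H] [Finite H], Good p H := by
  intro H _ _
  induction hn : Nat.card H using Nat.strong_induction_on generalizing H with
  | _ N ih =>
  subst hn
  classical
  haveI := Fact.mk hp
  haveI := Fintype.ofFinite H
  obtain ⟨e, f, he⟩ := exists_exponents (H := H) hp
  have hsum := card_roots_eq (H := H) (n := Nat.card H) (a := V p H) (c := 1) (z := 1) hp he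
    (fun u hu => by rw [one_pow, hu, ← mul_M0 (p := p), pow_mul, hu, one_pow]) (one_pow _)
  have hall : Nat.card {x : H // x ^ Nat.card H = 1} = Nat.card H :=
    Nat.card_congr (Equiv.subtypeUnivEquiv fun x => pow_card_eq_one')
  set W : Finset H := Finset.univ.filter fun v : H => v ^ M0 p H = 1 ∧ v ^ Nat.card H = 1 ^ f
  rw [hall, ← Finset.sum_filter_add_sum_filter_not W (fun v => v ∈ Subgroup.center H)] at hsum
  have hM : ∀ v ∈ W.filter (fun v => v ∈ Subgroup.center H),
      F p (V p H) 1 v = Nat.card {u : H // u ^ p ^ V p H = 1} := fun v hv =>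
    Nat.card_congr (Equiv.subtypeEquivRight fun u =>
      ⟨fun h => h.2, fun h => ⟨Subgroup.mem_center_iff.mp (Finset.mem_filter.mp hv).2 u, h⟩⟩)
  rw [Finset.sum_const_nat hM] at hsum
  have hrest : p ^ V p H ∣ ∑ v ∈ W.filter (fun v => ¬ v ∈ Subgroup.center H), F p (V p H) 1 v := by
    rw [Finset.filter_filter]
    refine dvd_class_sum _ _ _ ?_ (fun g v => F_conj _ (one_mem _) g) fun v hv => ?_
    · rintro g v ⟨⟨h1, h2⟩, h3⟩
      refine ⟨⟨by rw [conj_pow, h1, mul_one, mul_inv_cancel],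
        by rw [pow_card_eq_one', one_pow]⟩, fun h4 => h3 ?_⟩
      have h5 := (inferInstance : (Subgroup.center H).Normal).conj_mem _ h4 g⁻¹
      simpa [mul_assoc] using h5
    · have hlt : Nat.card ↥(Subgroup.centralizer ({v} : Set H)) < Nat.card H := by
        refine lt_of_le_of_ne (Subgroup.card_le_card_group _) fun h => hv.2 ?_
        have htop := Subgroup.eq_top_of_card_eq _ h
        exact Subgroup.mem_center_iff.mpr fun g =>
          Subgroup.mem_centralizer_singleton_iff.mp (htop ▸ Subgroup.mem_top g)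
      simpa using dvd_class_mul_F hp (one_mem _) (one_pow _) (ih _ hlt _ rfl) (V p H)
  have hdiv : p ^ V p H ∣ Nat.card H := pow_V_dvd
  rw [hsum] at hdiv
  have h2 := (Nat.dvd_add_left hrest).mp hdiv
  let Z : Subgroup H :=
    { carrier := {v | v ^ M0 p H = 1 ∧ v ∈ Subgroup.center H}
      one_mem' := ⟨one_pow _, one_mem _⟩
      mul_mem' := fun {x y} hx hy => ⟨by
        rw [(show Commute x y from Subgroup.mem_center_iff.mp hy.2 x).mul_pow, hx.1, hy.1, one_mul],
        mul_mem hx.2 hy.2⟩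
      inv_mem' := fun {x} hx => ⟨by rw [inv_pow, hx.1, inv_one], inv_mem hx.2⟩ }
  have hZ : (W.filter (fun v => v ∈ Subgroup.center H)).card = Nat.card ↥Z := by
    rw [Nat.card_eq_fintype_card]
    refine (Fintype.card_of_subtype _ fun v => ?_).symm
    simp only [W, Finset.mem_filter, Finset.mem_univ, true_and, pow_card_eq_one', one_pow, and_true]
    rfl
  rw [hZ] at h2
  refine Nat.Coprime.dvd_of_dvd_mul_left (Nat.Coprime.pow_left _ (hp.coprime_iff_not_dvd.mpr ?_)) h2
  intro hd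
  obtain ⟨x, hx⟩ := exists_prime_orderOf_dvd_card' p hd
  have h3 : orderOf x ∣ M0 p H := orderOf_dvd_of_pow_eq_one (Subtype.ext (by simpa using x.2.1))
  rw [hx] at h3
  exact (hp.coprime_iff_not_dvd.mp (coprime_M0 hp)) h3

/-- Frobenius: for central `c` the number of roots of `x ^ n = c` is divisible by `gcd(n, |H|)`. -/
theorem gcd_dvd_card_roots {c : H} (hc : c ∈ Subgroup.center H) (n : ℕ) :
    Nat.gcd n (Nat.card H) ∣ Nat.card {x : H // x ^ n = c} := by
  classical
  haveI := Fintype.ofFinite H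
  rcases Nat.eq_zero_or_pos n with rfl | hn
  · rw [Nat.gcd_zero_left]
    by_cases h : c = 1
    · have hall : ∀ x : H, x ^ 0 = c := fun x => by rw [pow_zero, h]
      rw [Nat.card_congr (Equiv.subtypeUnivEquiv hall)]
    · haveI : IsEmpty {x : H // x ^ 0 = c} := ⟨fun x => h (by simpa using x.2.symm)⟩
      rw [Nat.card_of_isEmpty (α := {x : H // x ^ 0 = c})]
      exact dvd_zero _
  rw [Nat.dvd_iff_prime_pow_dvd_dvd]
  intro p k hp hk
  obtain ⟨a, m, hm, rfl⟩ := Nat.exists_eq_pow_mul_and_not_dvd hn.ne' p hp.ne_one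
  obtain ⟨e, f, he⟩ := exists_exponents (H := H) hp
  have hco : m.Coprime (p ^ V p H) := Nat.Coprime.pow_right _ ((hp.coprime_iff_not_dvd.mpr hm).symm)
  obtain ⟨m', hm'⟩ : ∃ m' : ℕ, m * m' ≡ 1 [MOD p ^ V p H] := by
    refine ⟨m ^ (Nat.totient (p ^ V p H) - 1), ?_⟩
    rw [← pow_succ', Nat.sub_add_cancel (Nat.totient_pos.mpr (pow_pos hp.pos _))]
    exact Nat.ModEq.pow_totient hco
  have hinv : ∀ w : H, w ^ p ^ V p H = 1 → w ^ (m * m') = w := fun w hw => by
    rw [pow_congr hw hm', pow_one]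
  set z := (c ^ e) ^ m' with hzdef
  have hce : (c ^ e) ^ p ^ V p H = 1 := (he.2.2 c).2.1
  have hz : z ^ p ^ V p H = 1 := by rw [hzdef, ← pow_mul, mul_comm, pow_mul, hce, one_pow]
  rw [card_roots_eq (a := a) (z := z) hp he ?_ hz]
  · refine dvd_trans ?_ (dvd_class_sum _ _ (p ^ min a (V p H)) ?_
      (fun g v => F_conj _ (pow_mem (pow_mem hc e) m') g) fun v _ =>
        dvd_class_mul_F hp (pow_mem (pow_mem hc e) m') hz (good hp _) a)
    · refine pow_dvd_pow p (le_min ?_ ?_)
      · have h1 : p ^ k ∣ p ^ a * m := dvd_trans hk (Nat.gcd_dvd_left _ _)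
        exact (Nat.pow_dvd_pow_iff_le_right hp.one_lt).mp
          ((Nat.Coprime.pow_left _ (hp.coprime_iff_not_dvd.mpr hm)).dvd_of_dvd_mul_right h1)
      · exact (hp.pow_dvd_iff_le_factorization Nat.card_pos.ne').mp
          (dvd_trans hk (Nat.gcd_dvd_right _ _))
    · rintro g v ⟨h1, h2⟩
      refine ⟨by rw [conj_pow, h1, mul_one, mul_inv_cancel], ?_⟩
      rw [conj_pow, h2, (Subgroup.mem_center_iff.mp (pow_mem hc f) g), mul_inv_cancel_right]
  · intro u hu
    constructor
    · intro h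
      rw [hzdef, ← h, ← pow_mul, show p ^ a * m * m' = (m * m') * p ^ a by ring, pow_mul, hinv u hu]
    · intro h
      rw [show p ^ a * m = p ^ a * m from rfl, pow_mul, h, hzdef, ← pow_mul, mul_comm m' m, hinv _ hce]

end Cfsg.Agent.FrobCount
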