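import Mathlib

/-!
Tools for solvable groups with one class of involutions: faithful elementary abelian
`q`-groups on elementary 2-groups, and stability lemmas for coprime elements.
-/

set_option autoImplicit false

universe u

namespace Cfsg.Agent.Components.InvConj

open Subgroup

section Rank

variable {V : Type*} [CommGroup V]

/-- A fixed-point-free commuting pair of order dividing an odd prime cannot generate two dimensions. -/
theorem mem_zpowers_of_fpf {B : Type*} [CommGroup B] (f : B →* MulAut V) (hV : ∀ v : V, v * v = 1)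
    {q : ℕ} [Fact q.Prime] (hq2 : q ≠ 2) (hB : ∀ b : B, b ^ q = 1)
    (hfpf : ∀ b : B, b ≠ 1 → ∀ v : V, f b v = v → v = 1) {w : V} (hw : w ≠ 1)
    {x : B} (hx : x ≠ 1) (y : B) : y ∈ Subgroup.zpowers x := by
  by_contra hy
  have hq : q.Prime := Fact.out
  have hqo : Odd q := hq.odd_of_ne_two hq2
  have hnorm : ∀ z : B, z ≠ 1 → ∀ v : V, ∏ j ∈ Finset.range q, f (z ^ j) v = 1 := by
    intro z hz v
    apply hfpf z hz
    rw [map_prod]
    have h : ∀ j : ℕ, f z (f (z ^ j) v) = f (z ^ (j + 1)) v := fun j => by
      rw [pow_succ', map_mul, MulAut.mul_apply]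
    simp only [h]
    have h1 := Finset.prod_range_succ' (fun j => f (z ^ j) v) q
    rw [Finset.prod_range_succ, hB z, ← pow_zero z] at h1
    exact (mul_right_cancel h1).symm
  have hne : ∀ i : ℕ, y * x ^ i ≠ 1 := by
    intro i h
    exact hy ((eq_inv_of_mul_eq_one_left h) ▸ inv_mem (pow_mem (mem_zpowers x) i))
  have h0 : ∏ i ∈ Finset.range q, ∏ j ∈ Finset.range q, f ((y * x ^ i) ^ j) w = 1 :=
    Finset.prod_eq_one fun i _ => hnorm _ (hne i) w
  rw [Finset.prod_comm, Finset.prod_eq_single 0] at h0
  · simp only [pow_zero, map_one, MulAut.one_apply, Finset.prod_const, Finset.card_range] at h0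
    obtain ⟨k, hk⟩ := hqo
    rw [hk, pow_succ, pow_mul, pow_two, hV, one_pow, one_mul] at h0
    exact hw h0
  · intro j hj hj0
    have hxj : x ^ j ≠ 1 := by
      intro h
      have h1 := orderOf_dvd_of_pow_eq_one h
      rw [orderOf_eq_prime (hB x) hx] at h1
      exact absurd (Nat.le_of_dvd (Nat.pos_of_ne_zero hj0) h1)
        (not_le.2 (Finset.mem_range.1 hj))
    have h : ∀ i : ℕ, f ((y * x ^ i) ^ j) w = f (y ^ j) (f ((x ^ j) ^ i) w) := fun i => by
      rw [mul_pow, ← pow_mul, mul_comm i j, pow_mul, map_mul, MulAut.mul_apply]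
    simp only [h]
    rw [← map_prod, hnorm _ hxj, map_one]
  · intro h
    exact absurd (Finset.mem_range.2 hq.pos) h

/-- An elementary abelian `q`-group of rank `m` (`q` odd) acting faithfully on an elementary
abelian 2-group `V` forces `4 ^ m ≤ #V`. -/
theorem four_pow_le : ∀ (N : ℕ) {V : Type u} [CommGroup V] [Finite V] {B : Type u} [CommGroup B] [Finite B]
    (f : B →* MulAut V), Nat.card V ≤ N → (∀ v : V, v * v = 1) → Function.Injective f →
    ∀ {q : ℕ} [Fact q.Prime], q ≠ 2 → (∀ b : B, b ^ q = 1) → ∀ m : ℕ, q ^ m = Nat.card B →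
    4 ^ m ≤ Nat.card V := by
  intro N
  induction N with
  | zero =>
    intro V _ _ B _ _ f hN
    have : 0 < Nat.card V := Nat.card_pos
    omega
  | succ N ih =>
    intro V _ _ B _ _ f hN hV hf q _ hq2 hB m hm
    have hq : q.Prime := Fact.out
    rcases Nat.eq_zero_or_pos m with rfl | hm0
    · rw [pow_zero]; exact Nat.card_pos
    have hcard : 1 < Nat.card B := hm ▸ Nat.one_lt_pow (by omega) hq.one_lt
    haveI : Nontrivial B := Finite.one_lt_card_iff_nontrivial.1 hcard
    obtain ⟨x0, hx0⟩ := exists_ne (1 : B)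
    have hw : ∃ w : V, w ≠ 1 ∧ f x0 w ≠ w := by
      by_contra hc
      push Not at hc
      apply hx0
      apply hf
      rw [map_one]
      refine MulEquiv.ext fun v => ?_
      rw [MulAut.one_apply]
      by_cases hv : v = 1
      · rw [hv, map_one]
      · exact hc v hv
    obtain ⟨w, hw, hww⟩ := hw
    by_cases hfpf : ∀ b : B, b ≠ 1 → ∀ v : V, f b v = v → v = 1
    · have hcyc : Nat.card B ≤ q := by
        have htop : Subgroup.zpowers x0 = (⊤ : Subgroup B) :=
          eq_top_iff.2 fun y _ => mem_zpowers_of_fpf f hV hq2 hB hfpf hw hx0 y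
        rw [← Nat.card_congr Subgroup.topEquiv.toEquiv, ← htop, Nat.card_zpowers,
          orderOf_eq_prime (hB x0) hx0]
      have hm1 : m = 1 := by
        rcases Nat.lt_or_ge m 2 with h | h
        · omega
        · have : q ^ 2 ≤ q ^ m := Nat.pow_le_pow_right hq.pos h
          have : q < q ^ 2 := lt_self_pow₀ hq.one_lt (by norm_num)
          omega
      subst hm1
      simp only [pow_one]
      -- `1, w, f x0 w, w * f x0 w` are distinct
      let g : Fin 4 → V := ![1, w, f x0 w, w * f x0 w]
      have hxw : f x0 w ≠ 1 := fun h => hw ((f x0).injective (h.trans (map_one _).symm))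
      have hinv : ∀ v : V, v⁻¹ = v := fun v => inv_eq_of_mul_eq_one_right (hV v)
      have hwx : w * f x0 w ≠ 1 := fun h => hww (by
        rw [eq_inv_of_mul_eq_one_right h, hinv])
      have hg : Function.Injective g := by
        intro i j hij
        fin_cases i <;> fin_cases j <;> simp [g] at hij ⊢
        all_goals first
          | exact hw hij | exact hw hij.symm | exact hxw hij | exact hxw hij.symm
          | exact hwx hij | exact hwx hij.symm | exact hww hij | exact hww hij.symm
      simpa using Nat.card_le_card_of_injective g hg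
    · push Not at hfpf
      obtain ⟨x, hx, u0, hu0, hu1⟩ := hfpf
      let d : V →* V :=
        { toFun := fun v => f x v * v
          map_one' := by simp
          map_mul' := fun a b => by
            show f x (a * b) * (a * b) = f x a * a * (f x b * b)
            rw [map_mul, mul_mul_mul_comm] }
      let U : Subgroup V := d.ker
      let W : Subgroup V := d.range
      have hinv : ∀ v : V, v⁻¹ = v := fun v => inv_eq_of_mul_eq_one_right (hV v)
      have hU : ∀ v, v ∈ U ↔ f x v = v := fun v => by
        show f x v * v = 1 ↔ _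
        rw [mul_eq_one_iff_eq_inv, hinv]
      have hUinv : ∀ (b : B) (v : V), v ∈ U → f b v ∈ U := fun b v hv => by
        rw [hU] at hv ⊢
        rw [← MulAut.mul_apply, ← map_mul, mul_comm, map_mul, MulAut.mul_apply, hv]
      have hWinv : ∀ (b : B) (v : V), v ∈ W → f b v ∈ W := by
        rintro b v ⟨a, rfl⟩
        refine ⟨f b a, ?_⟩
        show f x (f b a) * f b a = f b (f x a * a)
        rw [map_mul, ← MulAut.mul_apply, ← map_mul, mul_comm x b, map_mul f b x, MulAut.mul_apply]
      have hUW : U ⊓ W = ⊥ := by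
        rw [Subgroup.eq_bot_iff_forall]
        rintro v ⟨hv, a, rfl⟩
        have hv' : f x (f x a * a) = f x a * a := (hU _).1 hv
        rw [map_mul, mul_comm (f x a) a] at hv'
        have h2 : f x (f x a) = a := mul_right_cancel hv'
        obtain ⟨k, hk⟩ := hq.odd_of_ne_two hq2
        have hk2 : ∀ i : ℕ, f (x ^ (2 * i)) a = a := by
          intro i
          induction i with
          | zero => simp
          | succ i hi =>
            rw [show 2 * (i + 1) = 2 * i + 1 + 1 by ring, pow_succ, pow_succ, map_mul, map_mul,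
              MulAut.mul_apply, MulAut.mul_apply, h2, hi]
        have h3 : f x a = a := by
          have h4 : f (x * x ^ (2 * k)) a = f x a := by rw [map_mul, MulAut.mul_apply, hk2]
          rw [← pow_succ', ← hk, hB, map_one, MulAut.one_apply] at h4
          exact h4.symm
        show f x a * a = 1
        rw [h3, hV]
      have hcardUW : Nat.card U * Nat.card W = Nat.card V := by
        show Nat.card d.ker * Nat.card d.range = _
        rw [← Subgroup.index_ker]
        exact d.ker.card_mul_index
      have hU1 : U ≠ ⊥ := fun h => hu1 (Subgroup.mem_bot.1 (h ▸ (hU u0).2 hu0))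
      have hW1 : W ≠ ⊥ := by
        intro h
        apply hx
        apply hf
        rw [map_one]
        refine MulEquiv.ext fun v => ?_
        have : f x v * v = 1 := Subgroup.mem_bot.1 (h ▸ (⟨v, rfl⟩ : d v ∈ W))
        rw [MulAut.one_apply]
        rwa [mul_eq_one_iff_eq_inv, hinv] at this
      have hUgt : 2 ≤ Nat.card U := by
        haveI := (Subgroup.nontrivial_iff_ne_bot U).2 hU1
        exact Finite.one_lt_card_iff_nontrivial.2 inferInstance
      have hWgt : 2 ≤ Nat.card W := by
        haveI := (Subgroup.nontrivial_iff_ne_bot W).2 hW1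
        exact Finite.one_lt_card_iff_nontrivial.2 inferInstance
      let res : ∀ (Y : Subgroup V), (∀ (b : B) (v : V), v ∈ Y → f b v ∈ Y) → B →* MulAut Y :=
        fun Y hY =>
        { toFun := fun b =>
            { toFun := fun v => ⟨f b v, hY b v v.2⟩
              invFun := fun v => ⟨f b⁻¹ v, hY b⁻¹ v v.2⟩
              left_inv := fun v => Subtype.ext (show f b⁻¹ (f b (v : V)) = v by
                rw [← MulAut.mul_apply, ← map_mul, inv_mul_cancel, map_one, MulAut.one_apply])
              right_inv := fun v => Subtype.ext (show f b (f b⁻¹ (v : V)) = v by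
                rw [← MulAut.mul_apply, ← map_mul, mul_inv_cancel, map_one, MulAut.one_apply])
              map_mul' := fun a c => Subtype.ext (map_mul (f b) (a : V) c) }
          map_one' := MulEquiv.ext fun v => Subtype.ext (by simp)
          map_mul' := fun a c => MulEquiv.ext fun v => Subtype.ext (by simp) }
      let B1 : Subgroup B := (res U hUinv).ker
      have hinjW : Function.Injective ((res W hWinv).comp B1.subtype) := by
        rw [injective_iff_map_eq_one]
        rintro ⟨b, hb⟩ hbW
        apply Subtype.ext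
        apply hf
        rw [OneMemClass.coe_one, map_one]
        refine MulEquiv.ext fun v => ?_
        have hfu : ∀ u ∈ U, f b u = u := fun u hu =>
          congrArg Subtype.val (DFunLike.congr_fun (MonoidHom.mem_ker.1 hb) ⟨u, hu⟩)
        have hfw : ∀ u ∈ W, f b u = u := fun u hu =>
          congrArg Subtype.val (DFunLike.congr_fun hbW (⟨u, hu⟩ : W))
        -- `f b v * v` lies in `U ⊓ W`
        have h1 : f b v * v ∈ U := by
          rw [hU]
          have hWv : f b (f x v * v) = f x v * v := hfw _ ⟨v, rfl⟩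
          rw [map_mul, ← MulAut.mul_apply, ← map_mul, mul_comm b x, map_mul, MulAut.mul_apply] at hWv
          rw [map_mul]
          calc f x (f b v) * f x v = f x (f b v) * (f b v * f b v) * f x v := by rw [hV, mul_one]
            _ = f x (f b v) * f b v * (f b v * f x v) := by simp only [mul_assoc]
            _ = f x v * v * (f b v * f x v) := by rw [hWv]
            _ = f x v * f x v * (f b v * v) := by
              simp only [mul_assoc, mul_comm, mul_left_comm]
            _ = f b v * v := by rw [hV, one_mul]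
        have h2 : ∀ i : ℕ, f (b ^ i) v = (f b v * v) ^ i * v := by
          intro i
          induction i with
          | zero => simp
          | succ i hi =>
            rw [pow_succ', map_mul, MulAut.mul_apply, hi, map_mul, map_pow, hfu _ h1, pow_succ,
              mul_assoc, mul_assoc, hV, mul_one]
        have h3 := h2 q
        rw [hB, map_one, MulAut.one_apply] at h3
        obtain ⟨k, hk⟩ := hq.odd_of_ne_two hq2
        rw [hk, pow_succ, pow_mul, pow_two, hV, one_pow, one_mul, mul_assoc, hV, mul_one] at h3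
        rw [MulAut.one_apply]
        exact h3.symm
      have hBq : ∀ b : (res U hUinv).range, b ^ q = 1 := by
        rintro ⟨b, a, rfl⟩
        apply Subtype.ext
        rw [SubgroupClass.coe_pow, ← map_pow, hB, map_one, OneMemClass.coe_one]
      have hdvd : Nat.card B1 * Nat.card (res U hUinv).range = Nat.card B := by
        show Nat.card (res U hUinv).ker * Nat.card (res U hUinv).range = _
        rw [← Subgroup.index_ker]
        exact (res U hUinv).ker.card_mul_index
      obtain ⟨m1, -, hm1⟩ := (Nat.dvd_prime_pow hq).1 (show Nat.card B1 ∣ q ^ m by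
        rw [hm, ← hdvd]; exact dvd_mul_right _ _)
      obtain ⟨m2, -, hm2⟩ := (Nat.dvd_prime_pow hq).1 (show Nat.card (res U hUinv).range ∣ q ^ m by
        rw [hm, ← hdvd]; exact dvd_mul_left _ _)
      have hmm : m = m1 + m2 := by
        rw [hm1, hm2, ← pow_add] at hdvd
        exact Nat.pow_right_injective hq.two_le (hm.trans hdvd.symm)
      haveI : IsMulCommutative (res U hUinv).range := ⟨⟨by
        rintro ⟨_, a, rfl⟩ ⟨_, c, rfl⟩
        exact Subtype.ext (by
          show (res U hUinv) a * (res U hUinv) c = (res U hUinv) c * (res U hUinv) a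
          rw [← map_mul, ← map_mul, mul_comm])⟩⟩
      letI : CommGroup (res U hUinv).range :=
        { (inferInstance : Group (res U hUinv).range) with mul_comm := fun a b => mul_comm' a b }
      have hlt : ∀ Y : Subgroup V, 2 ≤ Nat.card Y → ∀ Y' : Subgroup V,
          Nat.card Y' * Nat.card Y = Nat.card V → Nat.card Y' ≤ N := by
        intro Y hY Y' h
        have h' : 2 * Nat.card Y' ≤ Nat.card V := by
          rw [← h, mul_comm]; exact Nat.mul_le_mul_left _ hY
        have h'' : 0 < Nat.card Y' := Nat.card_pos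
        omega
      have e1 := ih (res U hUinv).range.subtype (hlt W hWgt U hcardUW)
        (fun v => Subtype.ext (hV v)) Subtype.val_injective hq2 hBq m2 hm2.symm
      have e2 := ih ((res W hWinv).comp B1.subtype) (hlt U hUgt W (by rw [mul_comm]; exact hcardUW))
        (fun v => Subtype.ext (hV v)) hinjW hq2 (fun b => Subtype.ext (by simp [hB])) m1 hm1.symm
      calc 4 ^ m = 4 ^ m2 * 4 ^ m1 := by rw [hmm, pow_add, mul_comm]
        _ ≤ Nat.card U * Nat.card W := Nat.mul_le_mul e1 e2
        _ = Nat.card V := hcardUW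

end Rank

section Stability

variable {G : Type*} [Group G]

/-- If `y` moves `z` by a `d` commuting with `y`, then `d ^ orderOf y = 1`. -/
theorem eq_one_of_step {y z d : G} (h : y * z * y⁻¹ = d * z) (hd : y * d * y⁻¹ = d) {k : ℕ}
    (hk : d ^ k = 1) (hco : k.Coprime (orderOf y)) : d = 1 := by
  have hc : ∀ i : ℕ, y ^ i * z * (y ^ i)⁻¹ = d ^ i * z := by
    intro i
    induction i with
    | zero => simp
    | succ i hi =>
      have hdi : y * d ^ i * y⁻¹ = d ^ i := by rw [← conj_pow, hd]
      calc y ^ (i + 1) * z * (y ^ (i + 1))⁻¹ = y * (y ^ i * z * (y ^ i)⁻¹) * y⁻¹ := by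
            rw [pow_succ', mul_inv_rev]; simp only [mul_assoc]
        _ = y * (d ^ i * z) * y⁻¹ := by rw [hi]
        _ = y * d ^ i * y⁻¹ * (y * z * y⁻¹) := by simp [mul_assoc]
        _ = d ^ (i + 1) * z := by rw [hdi, h, pow_succ, mul_assoc]
  have h1 := hc (orderOf y)
  rw [pow_orderOf_eq_one, one_mul, inv_one, mul_one] at h1
  have h2 : d ^ orderOf y = 1 := right_eq_mul.1 h1
  exact orderOf_eq_one_iff.1 (Nat.dvd_one.1 (hco ▸ Nat.dvd_gcd (orderOf_dvd_of_pow_eq_one hk)
    (orderOf_dvd_of_pow_eq_one h2)))

/-- An element of odd order fixing all involutions of an invariant abelian 2-group fixes it. -/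
theorem fix_abelian_two {Z : Subgroup G} [IsMulCommutative Z] (hZ : IsPGroup 2 Z) {y : G}
    (hy : Odd (orderOf y)) (hn : ∀ z ∈ Z, y * z * y⁻¹ ∈ Z)
    (hfix : ∀ z ∈ Z, z ^ 2 = 1 → y * z * y⁻¹ = z) : ∀ z ∈ Z, y * z * y⁻¹ = z := by
  have key : ∀ (k : ℕ) (z : G), z ∈ Z → z ^ 2 ^ k = 1 → y * z * y⁻¹ = z := by
    intro k
    induction k with
    | zero => intro z _ h; rw [pow_zero, pow_one] at h; rw [h, mul_one, mul_inv_cancel]
    | succ k ih =>
      intro z hz hzk
      have hsq : y * z ^ 2 * y⁻¹ = z ^ 2 :=
        ih (z ^ 2) (pow_mem hz 2) (by rw [← pow_mul, ← pow_succ']; exact hzk)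
      obtain ⟨d, hd⟩ : ∃ d, d = y * z * y⁻¹ * z⁻¹ := ⟨_, rfl⟩
      have hdZ : d ∈ Z := hd ▸ mul_mem (hn z hz) (inv_mem hz)
      have hcomm : Commute (y * z * y⁻¹) z⁻¹ := Subgroup.mul_comm_of_mem_isMulCommutative Z (hn z hz) (inv_mem hz)
      have hd2 : d ^ 2 = 1 := by rw [hd, hcomm.mul_pow, conj_pow, hsq, inv_pow, mul_inv_cancel]
      have h := eq_one_of_step (z := z) (by rw [hd]; simp [mul_assoc]) (hfix d hdZ hd2) hd2
        (Nat.coprime_two_left.2 hy)
      rw [hd, mul_inv_eq_one] at h
      exact h
  intro z hz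
  obtain ⟨k, hk⟩ := hZ ⟨z, hz⟩
  exact key k z hz (by simpa using congrArg Subtype.val hk)

/-- An element of order prime to `p` centralising a subgroup `C ≤ R` with `C_R(C) ≤ C`, `C ◁ R`,
of an invariant `p`-group `R` centralises `R`. -/
theorem fix_of_fix_critical {p : ℕ} [Fact p.Prime] {R C : Subgroup G} (hR : IsPGroup p R) {y : G}
    (hy : (orderOf y).Coprime p) (hn : ∀ z ∈ R, y * z * y⁻¹ ∈ R) (hnorm : ∀ r ∈ R, ∀ c ∈ C, r⁻¹ * c * r ∈ C)
    (hself : ∀ z ∈ R, z ∈ centralizer (C : Set G) → z ∈ C) (hfix : ∀ c ∈ C, y * c * y⁻¹ = c) :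
    ∀ z ∈ R, y * z * y⁻¹ = z := by
  intro r hr
  obtain ⟨d, hd⟩ : ∃ d, d = y * r * y⁻¹ * r⁻¹ := ⟨_, rfl⟩
  have hdR : d ∈ R := hd ▸ mul_mem (hn r hr) (inv_mem hr)
  have hdC : d ∈ C := by
    refine hself d hdR ?_
    rw [mem_centralizer_iff]
    intro c hc
    have h1 := hfix _ (hnorm r hr c hc)
    have hyc : y⁻¹ * c * y = c := by
      conv_lhs => rw [← hfix c hc]
      simp [mul_assoc]
    have h2 : (y * r * y⁻¹)⁻¹ * c * (y * r * y⁻¹) = r⁻¹ * c * r := by
      calc (y * r * y⁻¹)⁻¹ * c * (y * r * y⁻¹) = y * r⁻¹ * (y⁻¹ * c * y) * r * y⁻¹ := by group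
        _ = y * (r⁻¹ * c * r) * y⁻¹ := by rw [hyc]; group
        _ = r⁻¹ * c * r := h1
    rw [hd]
    calc c * (y * r * y⁻¹ * r⁻¹) =
        y * r * y⁻¹ * ((y * r * y⁻¹)⁻¹ * c * (y * r * y⁻¹)) * r⁻¹ := by group
      _ = y * r * y⁻¹ * (r⁻¹ * c * r) * r⁻¹ := by rw [h2]
      _ = y * r * y⁻¹ * r⁻¹ * c := by group
  obtain ⟨k, hk⟩ := hR ⟨d, hdR⟩
  have h := eq_one_of_step (z := r) (by rw [hd]; group) (hfix d hdC)
    (k := p ^ k) (by simpa using congrArg Subtype.val hk) (Nat.Coprime.pow_left k hy.symm)
  rw [hd, mul_inv_eq_one] at h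
  exact h

end Stability

end Cfsg.Agent.Components.InvConj
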