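import Mathlib
import Cfsg.Agent.Lib.Components.InvConjTools
import Cfsg.Agent.Lib.Basics.Cores
import Cfsg.Agent.Lib.Basics.Hall
import Cfsg.Agent.Lib.OddLocal.Puig
import Cfsg.Agent.Lib.Recog.Zsigmondy

/-!
A solvable group transitive on the nontrivial elements of a normal elementary abelian 2-group `E`
containing all involutions: the induced group has odd order, and the normalizer of a Sylow 2-subgroup
has an `r`-element fixed-point-free on `E`, `r` a large prime.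
-/

set_option autoImplicit false

universe u

namespace Cfsg.Agent.Components.InvConj

open Subgroup

variable {G : Type u} [Group G] [Finite G]

/-- If every involution lies in `E`, the centralizer of `E` has odd index. -/
theorem odd_index_centralizer (hsolv : Group.IsSolvable G) (E : Subgroup G) [E.Normal]
    (hE2 : ∀ x ∈ E, x ^ 2 = 1) (hall : ∀ x : G, x ^ 2 = 1 → x ∈ E)
    (htrans : ∀ x ∈ E, ∀ y ∈ E, x ≠ 1 → y ≠ 1 → ∃ g : G, g * x * g⁻¹ = y)
    (htwo : ∃ x ∈ E, ∃ y ∈ E, x ≠ y ∧ x ≠ 1 ∧ y ≠ 1) :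
    Odd (centralizer (E : Set G)).index := by
  haveI := hsolv
  -- a normal subgroup fixing a nontrivial element of `E` centralizes `E`
  have key : ∀ W : Subgroup G, W.Normal → ∀ v ∈ E, v ≠ 1 → v ∈ centralizer (W : Set G) →
      W ≤ centralizer (E : Set G) := by
    intro W hW v hvE hv hvW
    haveI := hW
    intro w hw
    rw [mem_centralizer_iff]
    intro e he
    by_cases he1 : e = 1
    · simp [he1]
    obtain ⟨g, hg⟩ := htrans v hvE e he hv he1
    have h1 : g * v * g⁻¹ ∈ centralizer (W : Set G) := Subgroup.Normal.conj_mem inferInstance v hvW g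
    rw [hg] at h1
    exact (mem_centralizer_iff.1 h1 w hw).symm
  let π : G →* G ⧸ centralizer (E : Set G) := QuotientGroup.mk' _
  have hπ : ∀ x, π x = 1 ↔ x ∈ centralizer (E : Set G) := QuotientGroup.eq_one_iff
  have hπs : Function.Surjective π := QuotientGroup.mk'_surjective _
  haveI : Group.IsSolvable (G ⧸ centralizer (E : Set G)) := Group.isSolvable_of_surjective hπs
  haveI : Nontrivial (G ⧸ centralizer (E : Set G)) := by
    obtain ⟨x, hx, y, hy, hxy, hx1, hy1⟩ := htwo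
    obtain ⟨g, hg⟩ := htrans x hx y hy hx1 hy1
    refine ⟨π g, 1, fun h => hxy ?_⟩
    have := mem_centralizer_iff.1 ((hπ g).1 h) x hx
    rw [← hg, ← this, mul_inv_cancel_right]
  -- no normal 2-subgroup in the induced group
  have hcore : Cfsg.pCore 2 (G ⧸ centralizer (E : Set G)) = ⊥ := by
    obtain ⟨W, hWdef⟩ : ∃ W, W = (Cfsg.pCore 2 (G ⧸ centralizer (E : Set G))).comap π := ⟨_, rfl⟩
    haveI : W.Normal := hWdef ▸ Normal.comap inferInstance π
    have P : Sylow 2 W := default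
    obtain ⟨P0, hP0⟩ : ∃ P0, P0 = (P : Subgroup W).map W.subtype := ⟨_, rfl⟩
    have hP0p : IsPGroup 2 P0 := hP0 ▸ P.isPGroup'.map _
    have hEp : IsPGroup 2 E := fun x => ⟨1, Subtype.ext (by simpa using hE2 x x.2)⟩
    have hPE : IsPGroup 2 (P0 ⊔ E : Subgroup G) := hP0p.to_sup_of_normal_right hEp
    obtain ⟨x, hx, y, hy, -, hx1, -⟩ := htwo
    haveI : Nontrivial E := ⟨⟨x, hx⟩, 1, fun h => hx1 (congrArg Subtype.val h)⟩
    haveI : (E.subgroupOf (P0 ⊔ E)).Normal := Normal.subgroupOf inferInstance _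
    obtain ⟨v, hvE, hv, hvc⟩ : ∃ v ∈ E, v ≠ 1 ∧ ∀ p ∈ P0, p * v = v * p := by
      have hne : E.subgroupOf (P0 ⊔ E) ≠ ⊥ := by
        rw [Ne, subgroupOf_eq_bot, disjoint_iff, inf_eq_left.2 le_sup_right]
        exact (nontrivial_iff_ne_bot E).1 inferInstance
      obtain ⟨⟨v, hv⟩, hvE, hvc, hv1⟩ := OddLocal.exists_mem_center_ne_one_of_normal hPE _ hne
      exact ⟨v, hvE, fun h => hv1 (Subtype.ext h), fun p hp => by
        simpa using congrArg Subtype.val (mem_center_iff.1 hvc ⟨p, le_sup_left (b := E) hp⟩)⟩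
    have hWC : W ≤ centralizer ({v} : Set G) := by
      intro w hw
      -- `W = C_G(E) P0`
      have hfull : ∃ p ∈ P0, π p = π w := by
        let g : W →* Cfsg.pCore 2 (G ⧸ centralizer (E : Set G)) :=
          (π.comp W.subtype).codRestrict _ fun z => by
            have := z.2; simp only [hWdef, mem_comap] at this; exact this
        have hgs : Function.Surjective g := by
          rintro ⟨z, hz⟩
          obtain ⟨w', rfl⟩ := hπs z
          exact ⟨⟨w', hWdef ▸ hz⟩, rfl⟩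
        have hp := (Basics.pCore_isPGroup (G := G ⧸ centralizer (E : Set G)) 2)
        have htop : (P : Subgroup W).map g = ⊤ := by
          rw [← index_eq_one]
          obtain ⟨k, hk⟩ := hp.index ((P : Subgroup W).map g)
          have hd : ((P : Subgroup W).map g).index ∣ (P : Subgroup W).index := index_map_dvd _ hgs
          rw [hk] at hd ⊢
          rcases Nat.eq_zero_or_pos k with rfl | hk0
          · rfl
          · exact absurd ((dvd_pow_self 2 hk0.ne').trans hd) P.not_dvd_index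
        obtain ⟨p, hp, hpe⟩ : g ⟨w, hw⟩ ∈ (P : Subgroup W).map g := htop ▸ mem_top _
        exact ⟨p, hP0 ▸ mem_map_of_mem _ hp, congrArg Subtype.val hpe⟩
      obtain ⟨p, hp, hpe⟩ := hfull
      have hc : p⁻¹ * w ∈ centralizer (E : Set G) := (hπ _).1 (by rw [map_mul, map_inv, hpe, inv_mul_cancel])
      rw [mem_centralizer_singleton_iff]
      have h1 : v * (p⁻¹ * w) = p⁻¹ * w * v := mem_centralizer_iff.1 hc v hvE
      symm
      calc v * w = v * p * (p⁻¹ * w) := by group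
        _ = p * (v * (p⁻¹ * w)) := by rw [← hvc p hp]; group
        _ = w * v := by rw [h1]; group
    have hWE := key W inferInstance v hvE hv (by
      rw [mem_centralizer_iff]; intro w hw
      exact mem_centralizer_singleton_iff.1 (hWC hw))
    rw [eq_bot_iff]
    intro z hz
    obtain ⟨w, rfl⟩ := hπs z
    exact mem_bot.2 ((hπ w).2 (hWE (hWdef ▸ hz)))
  -- the odd core
  obtain ⟨W, hWdef⟩ : ∃ W, W = (Cfsg.pPrimeCore 2 (G ⧸ centralizer (E : Set G))).comap π := ⟨_, rfl⟩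
  haveI : W.Normal := hWdef ▸ Normal.comap inferInstance π
  have hWne : ¬ W ≤ centralizer (E : Set G) := by
    intro h
    have h0 : Cfsg.pPrimeCore 2 (G ⧸ centralizer (E : Set G)) = ⊥ := by
      rw [eq_bot_iff]
      intro z hz
      obtain ⟨w, rfl⟩ := hπs z
      exact mem_bot.2 ((hπ w).2 (h (hWdef ▸ hz)))
    exact Basics.fittingSubgroup_ne_bot ((Basics.fittingSubgroup_eq_pCore h0).trans hcore)
  haveI : Group.IsSolvable W := Group.isSolvable_of_isSolvable_injective (f := W.subtype) W.subtype_injective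
  obtain ⟨H, hHcop, hHp⟩ := Basics.exists_hall_pi (G := W) {p : ℕ | p ≠ 2}
  obtain ⟨K, hKdef⟩ : ∃ K, K = H.map W.subtype := ⟨_, rfl⟩
  have hKW : K ≤ W := hKdef ▸ map_subtype_le H
  have hKcard : Nat.card K = Nat.card H := by rw [hKdef, card_map_of_injective W.subtype_injective]
  have hKodd : Odd (Nat.card K) := by
    rw [hKcard, Nat.odd_iff, ← Nat.two_dvd_ne_zero]
    intro h
    exact (((hHp 2 Nat.prime_two (h.trans H.card_subgroup_dvd_card)).1).1 h) rfl
  have hH2 : ∀ p : ℕ, p.Prime → p ∣ H.index → p = 2 := fun p hp h =>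
    Classical.not_not.1 (((hHp p hp (h.trans H.index_dvd_card)).2).1 h)
  -- `K` covers the odd core
  have hfull : ∀ w ∈ W, ∃ k ∈ K, π k = π w := by
    intro w hw
    let g : W →* Cfsg.pPrimeCore 2 (G ⧸ centralizer (E : Set G)) :=
      (π.comp W.subtype).codRestrict _ fun z => by
        have := z.2; simp only [hWdef, mem_comap] at this; exact this
    have hgs : Function.Surjective g := by
      rintro ⟨z, hz⟩
      obtain ⟨w', rfl⟩ := hπs z
      exact ⟨⟨w', hWdef ▸ hz⟩, rfl⟩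
    have htop : H.map g = ⊤ := by
      rw [← index_eq_one]
      by_contra hne
      obtain ⟨p, hp, hpd⟩ := Nat.exists_prime_and_dvd hne
      have h2 := hH2 p hp (hpd.trans (index_map_dvd _ hgs))
      exact Basics.not_dvd_card_pPrimeCore 2 (h2 ▸ hpd.trans (H.map g).index_dvd_card)
    obtain ⟨p, hp, hpe⟩ : g ⟨w, hw⟩ ∈ H.map g := htop ▸ mem_top _
    exact ⟨p, hKdef ▸ mem_map_of_mem _ hp, congrArg Subtype.val hpe⟩
  -- no nontrivial element of `E` is fixed by `K`
  have hEK : ∀ v ∈ E, v ∈ centralizer (K : Set G) → v = 1 := by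
    intro v hvE hvK
    by_contra hv
    apply hWne
    refine key W inferInstance v hvE hv ?_
    rw [mem_centralizer_iff]
    intro w hw
    obtain ⟨k, hk, hke⟩ := hfull w hw
    have hc : k⁻¹ * w ∈ centralizer (E : Set G) :=
      (hπ _).1 (by rw [map_mul, map_inv, hke, inv_mul_cancel])
    have h1 : v * (k⁻¹ * w) = k⁻¹ * w * v := mem_centralizer_iff.1 hc v hvE
    calc w * v = k * (k⁻¹ * w * v) := by group
      _ = k * v * (k⁻¹ * w) := by rw [← h1]; group
      _ = v * w := by rw [mem_centralizer_iff.1 hvK k hk]; group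
  -- so the normalizer of `K` has odd order
  have hNodd : Odd (Nat.card (normalizer (K : Set G))) := by
    rw [Nat.odd_iff, ← Nat.two_dvd_ne_zero]
    intro h
    obtain ⟨⟨x, hxN⟩, hx⟩ := exists_prime_orderOf_dvd_card' 2 h
    rw [Subgroup.orderOf_mk] at hx
    have hxE : x ∈ E := hall x (by rw [← hx, pow_orderOf_eq_one])
    have hx1 : x = 1 := hEK x hxE (by
      rw [mem_centralizer_iff]
      intro k hk
      have h1 : x * k * x⁻¹ * k⁻¹ ∈ K := mul_mem ((mem_normalizer_iff.1 hxN k).1 hk) (inv_mem hk)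
      have h2 : x * k * x⁻¹ * k⁻¹ ∈ E := by
        rw [show x * k * x⁻¹ * k⁻¹ = x * (k * x⁻¹ * k⁻¹) by group]
        exact mul_mem hxE (Subgroup.Normal.conj_mem inferInstance _ (inv_mem hxE) k)
      have h3 : orderOf (x * k * x⁻¹ * k⁻¹) ∣ 1 := by
        have hco : (Nat.card K).Coprime 2 := Nat.coprime_two_right.2 hKodd
        rw [← hco.gcd_eq_one]
        exact Nat.dvd_gcd ((Subgroup.orderOf_mk _ h1).symm ▸ orderOf_dvd_natCard (⟨_, h1⟩ : K))
          (orderOf_dvd_of_pow_eq_one (hE2 _ h2))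
      have h4 : x * k * x⁻¹ * k⁻¹ = 1 := orderOf_eq_one_iff.1 (Nat.dvd_one.1 h3)
      rw [mul_inv_eq_one, mul_inv_eq_iff_eq_mul] at h4
      exact h4.symm)
    rw [hx1, orderOf_one] at hx
    omega
  have hsup : W ⊔ normalizer (K : Set G) = ⊤ := by
    refine Basics.sup_normalizer_hall W inferInstance K hKW ?_
    rw [hKcard, Subgroup.relIndex, show K.subgroupOf W = H by rw [hKdef, ← comap_subtype, comap_map_eq_self_of_injective W.subtype_injective]]
    exact hHcop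
  have hWidx : Odd W.index := by
    refine hNodd.of_dvd_nat ?_
    rw [← relIndex_top_right, ← hsup, relIndex_sup_left]
    exact Subgroup.relIndex_dvd_card _ _
  have h1 : (centralizer (E : Set G)).index =
      Nat.card (Cfsg.pPrimeCore 2 (G ⧸ centralizer (E : Set G))) * W.index := by
    rw [hWdef, index_comap_of_surjective _ hπs, card_mul_index]
    rfl
  rw [h1]
  refine Odd.mul ?_ hWidx
  rw [Nat.odd_iff, ← Nat.two_dvd_ne_zero]
  exact Basics.not_dvd_card_pPrimeCore 2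

/-- A prime `r > n` dividing `2 ^ n - 1`, dividing no smaller `2 ^ d - 1` except possibly for `2 * d = n`. -/
theorem exists_large_prime {n : ℕ} (hn : 2 ≤ n) : ∃ r : ℕ, r.Prime ∧ n < r ∧ r ∣ 2 ^ n - 1 ∧
    ∀ d : ℕ, 0 < d → d < n → r ∣ 2 ^ d - 1 → 2 * d = n := by
  by_cases h6 : n = 6
  · subst h6
    refine ⟨7, by norm_num, by norm_num, by norm_num, fun d h0 h6 h => ?_⟩
    interval_cases d <;> simp_all
  obtain ⟨r, hr, hdvd, hprim⟩ := Recog.Zsig.exists_primitive_prime 2 n (by norm_num) (by omega)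
    (fun h => h6 h.2) (fun h => by
      obtain ⟨m, hm⟩ := h.2
      rcases Nat.eq_zero_or_pos m with rfl | hm0
      · simp at hm
      · obtain ⟨k, rfl⟩ := Nat.exists_eq_add_of_le' hm0
        rw [pow_succ] at hm; omega)
  refine ⟨r, hr, ?_, hdvd, fun d h0 hd h => absurd h (hprim d h0 hd)⟩
  by_contra hle
  push Not at hle
  have hr2 : r ≠ 2 := by
    rintro rfl
    obtain ⟨k, rfl⟩ := Nat.exists_eq_add_of_le' (show 1 ≤ n by omega)
    have h1 : 1 ≤ 2 ^ k := Nat.one_le_two_pow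
    rw [pow_succ] at hdvd
    omega
  have hco : (2 : ℕ).Coprime r := (Nat.coprime_primes Nat.prime_two hr).2 (Ne.symm hr2)
  have h1 : r ∣ 2 ^ (r - 1) - 1 := by
    have := (Nat.ModEq.pow_card_sub_one_eq_one hr hco)
    exact (Nat.modEq_iff_dvd' Nat.one_le_two_pow).1 this.symm
  exact hprim (r - 1) (by have := hr.two_le; omega) (by omega) h1

/-- The `r`-element `g` acts on the subgroup `U` of `E` without fixed points: `r ∣ #U - 1`. -/
theorem dvd_card_sub_one {r : ℕ} [Fact r.Prime] {U : Subgroup G} {g : G} {k : ℕ} (hg : g ^ r ^ k = 1)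
    (hgU : ∀ x ∈ U, g * x * g⁻¹ ∈ U) (hfix : ∀ x ∈ U, g * x * g⁻¹ = x → x = 1) :
    r ∣ Nat.card U - 1 := by
  have hmem : ∀ (h : zpowers g) (x : G), x ∈ U → (h : G) * x * (h : G)⁻¹ ∈ U := by
    intro h x hx
    obtain ⟨i, hi⟩ := mem_powers_iff_mem_zpowers.2 h.2
    have hp : ∀ i : ℕ, g ^ i * x * (g ^ i)⁻¹ ∈ U := by
      intro i
      induction i with
      | zero => simpa using hx
      | succ i ih =>
        have := hgU _ ih
        simpa [pow_succ', mul_assoc] using this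
    have hi' : g ^ i = (h : G) := hi
    exact hi' ▸ hp i
  let _ : MulAction (zpowers g) U :=
    { smul := fun h x => ⟨(h : G) * x * (h : G)⁻¹, hmem h x x.2⟩
      one_smul := fun x => Subtype.ext (show ((1 : zpowers g) : G) * x * ((1 : zpowers g) : G)⁻¹ = x by simp)
      mul_smul := fun a b x => Subtype.ext (show ((a * b : zpowers g) : G) * x * ((a * b : zpowers g) : G)⁻¹ =
        (a : G) * ((b : G) * x * (b : G)⁻¹) * (a : G)⁻¹ by simp [mul_assoc]) }
  have hp : IsPGroup r (zpowers g) := by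
    rintro ⟨_, i, rfl⟩
    refine ⟨k, Subtype.ext ?_⟩
    show (g ^ i) ^ r ^ k = 1
    rw [← zpow_natCast, ← zpow_mul, mul_comm, zpow_mul, zpow_natCast, hg, one_zpow]
  have hmod := hp.card_modEq_card_fixedPoints U
  have hfp : Nat.card (MulAction.fixedPoints (zpowers g) U) = 1 := by
    have hset : MulAction.fixedPoints (zpowers g) U = {(1 : U)} := by
      ext x
      rw [MulAction.mem_fixedPoints, Set.mem_singleton_iff]
      constructor
      · intro h
        exact Subtype.ext (hfix x x.2 (congrArg Subtype.val (h ⟨g, mem_zpowers g⟩)))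
      · rintro rfl h
        exact Subtype.ext (show (h : G) * ((1 : U) : G) * (h : G)⁻¹ = _ by simp)
    rw [hset]; simp
  rw [hfp] at hmod
  exact (Nat.modEq_iff_dvd' Nat.card_pos).1 hmod.symm

/-- Splitting of an invariant subgroup of `E` under an element of odd order. -/
theorem split {E X : Subgroup G} (hE2 : ∀ x ∈ E, x ^ 2 = 1) [IsMulCommutative E] (hXE : X ≤ E) {g : G}
    (hg : Odd (orderOf g)) (hgX : ∀ x ∈ X, g * x * g⁻¹ ∈ X) :
    ∃ W : Subgroup G, W ≤ X ∧ (∀ w ∈ W, g * w * g⁻¹ = w → w = 1) ∧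
      Nat.card W * Nat.card (X ⊓ centralizer ({g} : Set G) : Subgroup G) = Nat.card X ∧
      (∀ x ∈ X, ∃ u ∈ X, ∃ w ∈ W, g * u * g⁻¹ = u ∧ x = u * w) ∧ (∀ w ∈ W, g * w * g⁻¹ ∈ W) ∧
      ∀ h : G, (∀ x ∈ X, h * x * h⁻¹ ∈ X) → (∀ x ∈ X, h * (g * x * g⁻¹) * h⁻¹ = g * (h * x * h⁻¹) * g⁻¹) →
        ∀ w ∈ W, h * w * h⁻¹ ∈ W := by
  have hcomm : ∀ a ∈ X, ∀ b ∈ X, a * b = b * a := fun a ha b hb =>
    mul_comm_of_mem_isMulCommutative E (hXE ha) (hXE hb)
  let d : X →* G :=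
    { toFun := fun x => g * x * g⁻¹ * (x : G)⁻¹
      map_one' := by simp
      map_mul' := fun x y => by
        show g * ((x : G) * y) * g⁻¹ * ((x : G) * y)⁻¹ =
          g * x * g⁻¹ * (x : G)⁻¹ * (g * y * g⁻¹ * (y : G)⁻¹)
        calc g * ((x : G) * y) * g⁻¹ * ((x : G) * y)⁻¹
            = g * x * g⁻¹ * ((g * y * g⁻¹ * (y : G)⁻¹) * (x : G)⁻¹) := by group
          _ = g * x * g⁻¹ * ((x : G)⁻¹ * (g * y * g⁻¹ * (y : G)⁻¹)) := by
              rw [hcomm _ (mul_mem (hgX y y.2) (inv_mem y.2)) _ (inv_mem x.2)]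
          _ = g * x * g⁻¹ * (x : G)⁻¹ * (g * y * g⁻¹ * (y : G)⁻¹) := by group }
  have hdX : d.range ≤ X := by
    rintro _ ⟨x, rfl⟩
    exact mul_mem (hgX x x.2) (inv_mem x.2)
  have hker : d.ker = (X ⊓ centralizer ({g} : Set G)).subgroupOf X := by
    ext x
    rw [MonoidHom.mem_ker, mem_subgroupOf, mem_inf, mem_centralizer_singleton_iff]
    show g * x * g⁻¹ * (x : G)⁻¹ = 1 ↔ _
    rw [mul_inv_eq_one, mul_inv_eq_iff_eq_mul]
    exact ⟨fun h => ⟨x.2, h.symm⟩, fun h => h.2.symm⟩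
  have hfpf : ∀ w ∈ d.range, g * w * g⁻¹ = w → w = 1 := by
    rintro _ ⟨x, rfl⟩ hw
    exact eq_one_of_step (z := (x : G)) (show g * x * g⁻¹ = d x * x by
      show _ = g * x * g⁻¹ * (x : G)⁻¹ * x; group) hw (hE2 _ (hXE (hdX ⟨x, rfl⟩)))
      (Nat.coprime_two_left.2 hg)
  have hcard : Nat.card d.range * Nat.card (X ⊓ centralizer ({g} : Set G) : Subgroup G) = Nat.card X := by
    rw [← Nat.card_congr (subgroupOfEquivOfLe (inf_le_left : X ⊓ centralizer ({g} : Set G) ≤ X)).toEquiv,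
      ← hker, ← index_ker, mul_comm]
    exact d.ker.card_mul_index
  refine ⟨d.range, hdX, hfpf, hcard, ?_, ?_, ?_⟩
  · -- restricted to the range, `d` is bijective
    let e : d.range → d.range := fun w => ⟨d ⟨w, hdX w.2⟩, ⟨_, rfl⟩⟩
    have he : Function.Injective e := by
      intro a b hab
      have h0 : d ⟨a, hdX a.2⟩ = d ⟨b, hdX b.2⟩ := congrArg Subtype.val hab
      have h1 : d (⟨a, hdX a.2⟩ * (⟨b, hdX b.2⟩ : X)⁻¹) = 1 := by rw [map_mul, map_inv, h0, mul_inv_cancel]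
      have h2 : g * ((a : G) * (b : G)⁻¹) * g⁻¹ * ((a : G) * (b : G)⁻¹)⁻¹ = 1 := h1
      rw [mul_inv_eq_one] at h2
      exact Subtype.ext (mul_inv_eq_one.1 (hfpf _ (mul_mem a.2 (inv_mem b.2)) h2))
    intro x hx
    obtain ⟨w, hw⟩ := Finite.injective_iff_surjective.1 he ⟨d ⟨x, hx⟩, _, rfl⟩
    have hw' : d ⟨w, hdX w.2⟩ = d ⟨x, hx⟩ := congrArg Subtype.val hw
    have h1 : d (⟨x, hx⟩ * (⟨w, hdX w.2⟩ : X)⁻¹) = 1 := by rw [map_mul, map_inv, hw', mul_inv_cancel]
    refine ⟨x * (w : G)⁻¹, mul_mem hx (inv_mem (hdX w.2)), w, w.2, ?_, by group⟩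
    have h2 : g * (x * (w : G)⁻¹) * g⁻¹ * (x * (w : G)⁻¹)⁻¹ = 1 := h1
    exact mul_inv_eq_one.1 h2
  · rintro _ ⟨x, rfl⟩
    refine ⟨⟨_, hgX x x.2⟩, ?_⟩
    show g * (g * x * g⁻¹) * g⁻¹ * (g * x * g⁻¹)⁻¹ = g * (g * x * g⁻¹ * (x : G)⁻¹) * g⁻¹
    group
  · rintro h hh hc _ ⟨x, rfl⟩
    refine ⟨⟨_, hh x x.2⟩, ?_⟩
    show g * (h * x * h⁻¹) * g⁻¹ * (h * x * h⁻¹)⁻¹ = h * (g * x * g⁻¹ * (x : G)⁻¹) * h⁻¹
    rw [← hc x x.2]; group

/-- An `r`-element fixed-point-free on `E` inside a subgroup transitive on its nontrivial elements. -/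
theorem exists_fpf {E N : Subgroup G} [E.Normal] [IsMulCommutative E] (hE2 : ∀ x ∈ E, x ^ 2 = 1)
    {n : ℕ} (hn : 2 ≤ n) (hcard : Nat.card E = 2 ^ n)
    (htrans : ∀ x ∈ E, ∀ y ∈ E, x ≠ 1 → y ≠ 1 → ∃ g ∈ N, g * x * g⁻¹ = y) :
    ∃ r k : ℕ, ∃ a ∈ N, r.Prime ∧ n < r ∧ a ^ r ^ k = 1 ∧ ∀ x ∈ E, a * x * a⁻¹ = x → x = 1 := by
  obtain ⟨r, hr, hnr, hrdvd, hprim⟩ := exists_large_prime hn
  haveI : Fact r.Prime := ⟨hr⟩
  have hr2 : r ≠ 2 := by omega
  have S : Sylow r N := default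
  obtain ⟨P, hP⟩ : ∃ P, P = (S : Subgroup N).map N.subtype := ⟨_, rfl⟩
  have hPN : P ≤ N := hP ▸ map_subtype_le _
  have hPp : IsPGroup r P := hP ▸ S.isPGroup'.map _
  have hPpow : ∀ a ∈ P, ∃ k : ℕ, a ^ r ^ k = 1 := fun a ha => by
    obtain ⟨k, hk⟩ := hPp ⟨a, ha⟩
    exact ⟨k, by simpa using congrArg Subtype.val hk⟩
  have hPodd : ∀ a ∈ P, Odd (orderOf a) := fun a ha => by
    obtain ⟨k, hk⟩ := hPpow a ha
    exact ((hr.odd_of_ne_two hr2).pow).of_dvd_nat (orderOf_dvd_of_pow_eq_one hk)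
  have hnorm : ∀ (g : G), ∀ x ∈ E, g * x * g⁻¹ ∈ E := fun g x hx =>
    Subgroup.Normal.conj_mem inferInstance x hx g
  -- `P` fixes no nontrivial element
  have hPfix : ∀ v ∈ E, (∀ p ∈ P, p * v * p⁻¹ = v) → v = 1 := by
    intro v hv hvP
    by_contra hv1
    let f : N ⧸ (centralizer ({v} : Set G)).subgroupOf N → {e : E // e ≠ 1} :=
      Quotient.lift (fun g : N => (⟨⟨(g : G) * v * (g : G)⁻¹, hnorm g v hv⟩, fun h => hv1 (by
          have h' := congrArg Subtype.val h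
          simpa using h')⟩ : {e : E // e ≠ 1})) (by
        intro a b hab
        replace hab := QuotientGroup.leftRel_apply.1 hab
        rw [mem_subgroupOf, mem_centralizer_singleton_iff] at hab
        simp only [Subgroup.coe_mul, Subgroup.coe_inv] at hab
        apply Subtype.ext; apply Subtype.ext
        show (a : G) * v * (a : G)⁻¹ = (b : G) * v * (b : G)⁻¹
        calc (a : G) * v * (a : G)⁻¹ = a * (v * ((a : G)⁻¹ * b)) * (b : G)⁻¹ := by group
          _ = a * ((a : G)⁻¹ * b * v) * (b : G)⁻¹ := by rw [hab]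
          _ = _ := by group)
    have hf : Function.Bijective f := by
      constructor
      · rintro ⟨a⟩ ⟨b⟩ hab
        have hab' : (a : G) * v * (a : G)⁻¹ = (b : G) * v * (b : G)⁻¹ :=
          congrArg (fun z : {e : E // e ≠ 1} => ((z : E) : G)) hab
        apply QuotientGroup.eq.2
        rw [mem_subgroupOf, mem_centralizer_singleton_iff]
        simp only [Subgroup.coe_mul, Subgroup.coe_inv]
        calc (a : G)⁻¹ * b * v = (a : G)⁻¹ * (b * v * (b : G)⁻¹) * b := by group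
          _ = v * ((a : G)⁻¹ * b) := by rw [← hab']; group
      · rintro ⟨⟨y, hy⟩, hy1⟩
        obtain ⟨g, hg, hgy⟩ := htrans v hv y hy hv1 (fun h => hy1 (Subtype.ext h))
        exact ⟨QuotientGroup.mk (⟨g, hg⟩ : N), Subtype.ext (Subtype.ext hgy)⟩
    have hidx : ((centralizer ({v} : Set G)).subgroupOf N).index = 2 ^ n - 1 := by
      rw [index, Nat.card_congr (Equiv.ofBijective f hf), ← hcard]
      classical
      haveI := Fintype.ofFinite E
      simp
    have hle : (S : Subgroup N) ≤ (centralizer ({v} : Set G)).subgroupOf N := by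
      intro p hp
      rw [mem_subgroupOf, mem_centralizer_singleton_iff]
      have := hvP p (hP ▸ mem_map_of_mem _ hp)
      rw [mul_inv_eq_iff_eq_mul] at this
      exact this
    exact S.not_dvd_index ((hidx ▸ hrdvd).trans (index_dvd_of_le hle))
  -- an element central modulo the centralizer of `E`
  obtain ⟨Q, hQdef⟩ : ∃ Q, Q = (centralizer (E : Set G)).subgroupOf P := ⟨_, rfl⟩
  haveI : Q.Normal := hQdef ▸ Normal.subgroupOf inferInstance _
  obtain ⟨e0, he0, he01⟩ : ∃ e ∈ E, e ≠ 1 := by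
    by_contra hc
    push Not at hc
    have hb : E = ⊥ := (eq_bot_iff_forall _).2 hc
    rw [hb, card_bot] at hcard
    exact absurd hcard.symm (Nat.one_lt_two_pow (by omega : n ≠ 0)).ne'
  haveI : Nontrivial (P ⧸ Q) := by
    rw [QuotientGroup.nontrivial_iff]
    intro h
    refine he01 (hPfix e0 he0 fun p hp => ?_)
    have h1 : (⟨p, hp⟩ : P) ∈ Q := h ▸ mem_top _
    rw [hQdef, mem_subgroupOf, mem_centralizer_iff] at h1
    rw [mul_inv_eq_iff_eq_mul]
    exact (h1 e0 he0).symm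
  haveI := (hPp.to_quotient Q).center_nontrivial
  obtain ⟨⟨ā, hā⟩, hā1⟩ := exists_ne (1 : center (P ⧸ Q))
  obtain ⟨⟨a, ha⟩, rfl⟩ := QuotientGroup.mk'_surjective Q ā
  have haE : a ∉ centralizer (E : Set G) := fun h =>
    hā1 (Subtype.ext ((QuotientGroup.eq_one_iff _).2 (hQdef ▸ h)))
  have hac : ∀ p ∈ P, ∀ x ∈ E, p * (a * x * a⁻¹) * p⁻¹ = a * (p * x * p⁻¹) * a⁻¹ := by
    intro p hp x hx
    have h1 := mem_center_iff.1 hā (QuotientGroup.mk' Q ⟨p, hp⟩)
    rw [← map_mul, ← map_mul, QuotientGroup.mk'_eq_mk'] at h1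
    obtain ⟨z, hz, hzeq⟩ := h1
    rw [hQdef, mem_subgroupOf, mem_centralizer_iff] at hz
    have h2 : p * a * (z : G) = a * p := congrArg Subtype.val hzeq
    have h3 : (z : G) * x * (z : G)⁻¹ = x := by rw [← hz x hx, mul_inv_cancel_right]
    calc p * (a * x * a⁻¹) * p⁻¹ = p * a * ((z : G) * x * (z : G)⁻¹) * (p * a)⁻¹ := by rw [h3]; group
      _ = p * a * (z : G) * x * (p * a * (z : G))⁻¹ := by group
      _ = a * (p * x * p⁻¹) * a⁻¹ := by rw [h2]; group
  obtain ⟨k, hk⟩ := hPpow a ha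
  by_cases hU : ∀ x ∈ E, a * x * a⁻¹ = x → x = 1
  · exact ⟨r, k, a, hPN ha, hr, hnr, hk, hU⟩
  push Not at hU
  obtain ⟨u0, hu0E, hu0, hu01⟩ := hU
  obtain ⟨W, hWE, hWfix, hWcard, hdec, hWa, hWinv⟩ := split hE2 le_rfl (hPodd a ha) fun x hx => hnorm a x hx
  obtain ⟨U, hUdef⟩ : ∃ U, U = E ⊓ centralizer ({a} : Set G) := ⟨_, rfl⟩
  rw [← hUdef] at hWcard
  have hUmem : ∀ x, x ∈ U ↔ x ∈ E ∧ a * x * a⁻¹ = x := fun x => by
    rw [hUdef, mem_inf, mem_centralizer_singleton_iff, mul_inv_eq_iff_eq_mul]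
    exact and_congr_right fun _ => ⟨Eq.symm, Eq.symm⟩
  have hUE : U ≤ E := fun x hx => ((hUmem x).1 hx).1
  have hUP : ∀ p ∈ P, ∀ x ∈ U, p * x * p⁻¹ ∈ U := by
    intro p hp x hx
    obtain ⟨hxE, hxa⟩ := (hUmem x).1 hx
    exact (hUmem _).2 ⟨hnorm p x hxE, by rw [← hac p hp x hxE, hxa]⟩
  obtain ⟨e, he_le, he⟩ := (Nat.dvd_prime_pow Nat.prime_two).1 (hcard ▸ Subgroup.card_dvd_of_le hUE)
  obtain ⟨f, hf_le, hf⟩ := (Nat.dvd_prime_pow Nat.prime_two).1 (hcard ▸ Subgroup.card_dvd_of_le hWE)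
  have hef : f + e = n := by
    rw [he, hf, ← pow_add, hcard] at hWcard
    exact Nat.pow_right_injective le_rfl hWcard
  have he0' : 0 < e := by
    rcases Nat.eq_zero_or_pos e with rfl | h
    · rw [pow_zero] at he
      exact absurd (by simpa [Subgroup.card_eq_one.1 he] using (hUmem u0).2 ⟨hu0E, hu0⟩) hu01
    · exact h
  have hf0 : 0 < f := by
    rcases Nat.eq_zero_or_pos f with rfl | h
    · exfalso
      rw [pow_zero] at hf
      apply haE
      rw [mem_centralizer_iff]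
      intro x hx
      obtain ⟨u, -, w, hw, hu, hx'⟩ := hdec x hx
      rw [Subgroup.card_eq_one.1 hf, mem_bot] at hw
      rw [hw, mul_one] at hx'
      subst hx'
      rw [mul_inv_eq_iff_eq_mul] at hu
      exact hu.symm
    · exact h
  have h2f : 2 * f = n := hprim f hf0 (by omega) (hf ▸ dvd_card_sub_one hk hWa hWfix)
  -- `b` moving `U`
  obtain ⟨u1, hu1, hu11⟩ : ∃ u ∈ U, u ≠ 1 := ⟨u0, (hUmem u0).2 ⟨hu0E, hu0⟩, hu01⟩
  obtain ⟨b, hb, hbu⟩ : ∃ b ∈ P, b * u1 * b⁻¹ ≠ u1 := by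
    by_contra hc
    push Not at hc
    exact hu11 (hPfix u1 (hUE hu1) hc)
  obtain ⟨kb, hkb⟩ := hPpow b hb
  have hbfix : ∀ (X : Subgroup G), X ≤ E → Nat.card X = 2 ^ f → (∀ x ∈ X, b * x * b⁻¹ ∈ X) →
      (∀ x ∈ X, b * x * b⁻¹ = x → x = 1) ∨ ∀ x ∈ X, b * x * b⁻¹ = x := by
    intro X hX hXc hbX
    obtain ⟨Y, hYX, hYfix, hYcard, hdecY, hYb, -⟩ := split hE2 hX (hPodd b hb) hbX
    obtain ⟨j, hj_le, hj⟩ := (Nat.dvd_prime_pow Nat.prime_two).1 (hXc ▸ Subgroup.card_dvd_of_le hYX)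
    rcases Nat.eq_zero_or_pos j with rfl | hj0
    · right
      intro x hx
      obtain ⟨u, -, w, hw, hu, hx'⟩ := hdecY x hx
      rw [pow_zero] at hj
      rw [Subgroup.card_eq_one.1 hj, mem_bot] at hw
      rw [hw, mul_one] at hx'
      rw [hx', hu]
    · left
      intro x hx hfix
      have h2j := hprim j hj0 (by omega) (hj ▸ dvd_card_sub_one hkb hYb hYfix)
      have hj' : j = f := by omega
      subst hj'
      rw [hj, hXc] at hYcard
      have h1 : Nat.card (X ⊓ centralizer ({b} : Set G) : Subgroup G) = 1 :=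
        (Nat.mul_eq_left (by positivity)).1 hYcard
      have hmem : x ∈ X ⊓ centralizer ({b} : Set G) := mem_inf.2 ⟨hx, by
        rw [mem_centralizer_singleton_iff]
        rw [mul_inv_eq_iff_eq_mul] at hfix; exact hfix.symm⟩
      rwa [Subgroup.card_eq_one.1 h1, mem_bot] at hmem
  have hbU : ∀ x ∈ U, b * x * b⁻¹ = x → x = 1 :=
    (hbfix U hUE (by rw [he, show e = f by omega]) (hUP b hb)).resolve_right fun h => hbu (h u1 hu1)
  have hWU : ∀ x ∈ W, x ∈ U → x = 1 := fun x hx hxU => hWfix x hx ((hUmem x).1 hxU).2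
  have hbWmem : ∀ w ∈ W, b * w * b⁻¹ ∈ W := hWinv b (fun x hx => hnorm b x hx) (hac b hb)
  -- uniqueness of the decomposition
  have huniq : ∀ u ∈ U, ∀ w ∈ W, ∀ u' ∈ U, ∀ w' ∈ W, u * w = u' * w' → u = u' ∧ w = w' := by
    intro u hu w hw u' hu' w' hw' h
    have h1 : u'⁻¹ * u = w' * w⁻¹ := by
      calc u'⁻¹ * u = u'⁻¹ * (u * w) * w⁻¹ := by group
        _ = w' * w⁻¹ := by rw [h]; group
    have h2 := hWU _ (h1 ▸ mul_mem hw' (inv_mem hw) : u'⁻¹ * u ∈ W) (mul_mem (inv_mem hu') hu)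
    rw [inv_mul_eq_one] at h2
    subst h2
    exact ⟨rfl, mul_left_cancel h⟩
  rcases hbfix W hWE hf hbWmem with hbW | hbW
  · refine ⟨r, kb, b, hPN hb, hr, hnr, hkb, fun x hx hfix => ?_⟩
    obtain ⟨u, huE, w, hw, hu, rfl⟩ := hdec x hx
    have hu' : u ∈ U := (hUmem u).2 ⟨huE, hu⟩
    obtain ⟨h1, h2⟩ := huniq _ (hUP b hb u hu') _ (hbWmem w hw) u hu' w hw (by rw [← hfix]; group)
    rw [hbU u hu' h1, hbW w hw h2, mul_one]
  · obtain ⟨k', hk'⟩ := hPpow (a * b) (mul_mem ha hb)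
    refine ⟨r, k', a * b, hPN (mul_mem ha hb), hr, hnr, hk', fun x hx hfix => ?_⟩
    obtain ⟨u, huE, w, hw, hu, rfl⟩ := hdec x hx
    have hu' : u ∈ U := (hUmem u).2 ⟨huE, hu⟩
    have hbu' := hUP b hb u hu'
    have hau : a * (b * u * b⁻¹) * a⁻¹ = b * u * b⁻¹ := ((hUmem _).1 hbu').2
    obtain ⟨h1, h2⟩ := huniq _ hbu' _ (hWa w hw) u hu' w hw (by
      calc b * u * b⁻¹ * (a * w * a⁻¹) = a * (b * u * b⁻¹) * a⁻¹ * (a * (b * w * b⁻¹) * a⁻¹) := by
            rw [hau, hbW w hw]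
        _ = a * b * (u * w) * (a * b)⁻¹ := by group
        _ = u * w := hfix)
    rw [hbU u hu' h1, hWfix w hw h2, mul_one]

end Cfsg.Agent.Components.InvConj
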