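import Mathlib
import Cfsg.Agent.Lib.Components.InvConjTools

/-!
The rank contradiction: an elementary abelian 2-group `T0` with an `r`-element fixed-point-free on it,
acting nontrivially on a class-2 `q`-group `X` which acts faithfully on an elementary abelian 2-group of
order at most `4 ^ n`, `n < r`, does not exist.
-/

set_option autoImplicit false

universe u

namespace Cfsg.Agent.Components.InvConj

open Subgroup
open scoped commutatorElement

/-- An element of an odd `q`-group equal to its inverse is trivial. -/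
theorem eq_one_of_eq_inv {Q : Type u} [Group Q] {q : ℕ} [Fact q.Prime] (hq2 : q ≠ 2) {X : Subgroup Q}
    (hX : IsPGroup q X) {x : Q} (hx : x ∈ X) (h : x⁻¹ = x) : x = 1 := by
  obtain ⟨j, hj⟩ := hX ⟨x, hx⟩
  have h2 : x ^ 2 = 1 := by rw [pow_two]; nth_rw 1 [← h]; exact inv_mul_cancel x
  have h3 : orderOf x ∣ q ^ j := orderOf_dvd_of_pow_eq_one (by simpa using congrArg Subtype.val hj)
  have hco : (2 : ℕ).Coprime (q ^ j) :=
    Nat.Coprime.pow_right j ((Nat.coprime_primes Nat.prime_two Fact.out).2 (Ne.symm hq2))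
  exact orderOf_eq_one_iff.1 (Nat.dvd_one.1 (hco ▸ Nat.dvd_gcd (orderOf_dvd_of_pow_eq_one h2) h3))

/-- A commuting family of elements of order `q`, pairwise separated by sign patterns, generates a group
of order at least `q ^ k`. -/
theorem card_closure_ge {Q : Type u} [Group Q] [Finite Q] {q : ℕ} [Fact q.Prime] (hq2 : q ≠ 2)
    {X : Subgroup Q} (hX : IsPGroup q X) (w : ℕ → Q) (r : ℕ) (hwX : ∀ i, w i ∈ X) (hw1 : ∀ i, w i ≠ 1)
    (hcomm : ∀ i < r, ∀ j < r, w i * w j = w j * w i)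
    (hsign : ∀ i < r, ∀ j < r, i ≠ j → ∃ s : Q, (∀ m, s * w m * s⁻¹ = w m ∨ s * w m * s⁻¹ = (w m)⁻¹) ∧
      ((s * w i * s⁻¹ = w i ∧ s * w j * s⁻¹ = (w j)⁻¹) ∨ (s * w i * s⁻¹ = (w i)⁻¹ ∧ s * w j * s⁻¹ = w j))) :
    ∀ k ≤ r, q ^ k ≤ Nat.card (closure (w '' Set.Iio k)) := by
  have hq : q.Prime := Fact.out
  have hcl : ∀ k ≤ r, closure (w '' Set.Iio k) ≤ centralizer (closure (w '' Set.Iio k) : Set Q) := by
    intro k hk
    have h1 : closure (w '' Set.Iio k) ≤ centralizer (w '' Set.Iio k) := by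
      rw [closure_le]
      rintro _ ⟨i, hi, rfl⟩
      rw [SetLike.mem_coe, mem_centralizer_iff]
      rintro _ ⟨j, hj, rfl⟩
      exact hcomm j (lt_of_lt_of_le hj hk) i (lt_of_lt_of_le hi hk)
    rw [closure_le]
    rintro _ ⟨i, hi, rfl⟩
    rw [SetLike.mem_coe, mem_centralizer_iff]
    intro y hy
    exact (mem_centralizer_iff.1 (h1 hy) _ ⟨i, hi, rfl⟩).symm
  have hleX : ∀ k, closure (w '' Set.Iio k) ≤ X := fun k => by
    rw [closure_le]; rintro _ ⟨i, -, rfl⟩; exact hwX i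
  have hinv : ∀ (k : ℕ) (s : Q), (∀ m, s * w m * s⁻¹ = w m ∨ s * w m * s⁻¹ = (w m)⁻¹) →
      ∀ y ∈ closure (w '' Set.Iio k), s * y * s⁻¹ ∈ closure (w '' Set.Iio k) := by
    intro k s hs y hy
    induction hy using Subgroup.closure_induction with
    | mem x hx =>
      obtain ⟨m, hm, rfl⟩ := hx
      rcases hs m with h | h <;> rw [h]
      · exact subset_closure ⟨m, hm, rfl⟩
      · exact inv_mem (subset_closure ⟨m, hm, rfl⟩)
    | one => simp
    | mul a b _ _ ha hb =>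
      rw [show s * (a * b) * s⁻¹ = s * a * s⁻¹ * (s * b * s⁻¹) by group]
      exact mul_mem ha hb
    | inv a _ ha =>
      rw [show s * a⁻¹ * s⁻¹ = (s * a * s⁻¹)⁻¹ by group]
      exact inv_mem ha
  have hind : ∀ k, k ≤ r → ∀ j < r, k ≤ j → w j ∉ closure (w '' Set.Iio k) := by
    intro k
    induction k with
    | zero => intro _ j _ _ h; simp at h; exact hw1 j h
    | succ k ih =>
      intro hk j hj hkj hmem
      have hdec : ∀ x ∈ closure (w '' Set.Iio (k + 1)), ∃ e : ℤ, ∃ y ∈ closure (w '' Set.Iio k),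
          x = w k ^ e * y := by
        intro x hx
        have hck : ∀ y ∈ closure (w '' Set.Iio k), Commute (w k) y := by
          intro y hy
          have h1 : w k ∈ closure (w '' Set.Iio (k + 1)) := subset_closure ⟨k, Nat.lt_succ_self k, rfl⟩
          exact (mem_centralizer_iff.1 (hcl (k + 1) hk h1) y
            (closure_mono (Set.image_mono (Set.Iio_subset_Iio (Nat.le_succ k))) hy)).symm
        induction hx using Subgroup.closure_induction with
        | mem x hx =>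
          obtain ⟨m, hm, rfl⟩ := hx
          rcases Nat.lt_or_ge m k with h | h
          · exact ⟨0, w m, subset_closure ⟨m, h, rfl⟩, by simp⟩
          · obtain rfl : m = k := le_antisymm (Nat.lt_succ_iff.1 hm) h
            exact ⟨1, 1, one_mem _, by simp⟩
        | one => exact ⟨0, 1, one_mem _, by simp⟩
        | mul a b _ _ ha hb =>
          obtain ⟨e, y, hy, rfl⟩ := ha
          obtain ⟨e', y', hy', rfl⟩ := hb
          refine ⟨e + e', y * y', mul_mem hy hy', ?_⟩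
          have h1 : Commute (w k ^ e') y := (hck y hy).zpow_left e'
          rw [zpow_add]
          calc w k ^ e * y * (w k ^ e' * y') = w k ^ e * (y * w k ^ e') * y' := by group
            _ = w k ^ e * (w k ^ e' * y) * y' := by rw [h1.eq]
            _ = _ := by group
        | inv a _ ha =>
          obtain ⟨e, y, hy, rfl⟩ := ha
          refine ⟨-e, y⁻¹, inv_mem hy, ?_⟩
          rw [mul_inv_rev, zpow_neg]
          exact ((((hck y hy).zpow_left e).inv_inv).symm).eq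
      obtain ⟨e, y, hy, hey⟩ := hdec _ hmem
      have hkr : k < r := hk
      obtain ⟨s, hs, hcase⟩ := hsign k hkr j hj (by omega)
      have hsy := hinv k s hs y hy
      have hs2 : s * w j * s⁻¹ = (s * w k * s⁻¹) ^ e * (s * y * s⁻¹) := by
        rw [hey, conj_zpow]; group
      -- `w j ^ 2` lies in the smaller closure
      have hsq : w j * w j ∈ closure (w '' Set.Iio k) := by
        rcases hcase with ⟨h1, h2⟩ | ⟨h1, h2⟩
        · rw [h1, h2] at hs2
          have : (w j)⁻¹ * w j = y⁻¹ * y := by simp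
          have h3 : w j * w j = y * (s * y * s⁻¹)⁻¹ := by
            have h4 : Commute (w k ^ e) (s * y * s⁻¹) := by
              refine Commute.zpow_left ?_ e
              have h5 : w k ∈ closure (w '' Set.Iio (k + 1)) := subset_closure ⟨k, Nat.lt_succ_self k, rfl⟩
              exact (mem_centralizer_iff.1 (hcl (k + 1) hk h5) _
                (closure_mono (Set.image_mono (Set.Iio_subset_Iio (Nat.le_succ k))) hsy)).symm
            have h6 : w j = (s * y * s⁻¹)⁻¹ * (w k ^ e)⁻¹ := by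
              rw [← inv_inv (w j), hs2, mul_inv_rev]
            have h7 : w k ∈ closure (w '' Set.Iio (k + 1)) := subset_closure ⟨k, Nat.lt_succ_self k, rfl⟩
            have h8 : Commute (w k ^ e) y := Commute.zpow_left
              (mem_centralizer_iff.1 (hcl (k + 1) hk h7) _
                (closure_mono (Set.image_mono (Set.Iio_subset_Iio (Nat.le_succ k))) hy)).symm e
            calc w j * w j = w k ^ e * y * ((s * y * s⁻¹)⁻¹ * (w k ^ e)⁻¹) := by rw [← h6, ← hey]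
              _ = y * (w k ^ e * (s * y * s⁻¹)⁻¹) * (w k ^ e)⁻¹ := by rw [h8.eq]; group
              _ = y * ((s * y * s⁻¹)⁻¹ * w k ^ e) * (w k ^ e)⁻¹ := by rw [(h4.inv_right).eq]
              _ = _ := by group
          exact h3 ▸ mul_mem hy (inv_mem hsy)
        · rw [h1, h2, inv_zpow] at hs2
          have h7 : w k ∈ closure (w '' Set.Iio (k + 1)) := subset_closure ⟨k, Nat.lt_succ_self k, rfl⟩
          have h8 : Commute (w k ^ e) y := Commute.zpow_left
            (mem_centralizer_iff.1 (hcl (k + 1) hk h7) _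
              (closure_mono (Set.image_mono (Set.Iio_subset_Iio (Nat.le_succ k))) hy)).symm e
          have h3 : w j * w j = y * (s * y * s⁻¹) := by
            calc w j * w j = w k ^ e * y * ((w k ^ e)⁻¹ * (s * y * s⁻¹)) := by rw [← hs2, ← hey]
              _ = y * w k ^ e * ((w k ^ e)⁻¹ * (s * y * s⁻¹)) := by rw [h8.eq]
              _ = _ := by group
          exact h3 ▸ mul_mem hy hsy
      obtain ⟨l, hl⟩ := hX ⟨w j, hwX j⟩
      have hl' : w j ^ q ^ l = 1 := by simpa using congrArg Subtype.val hl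
      obtain ⟨c, hc⟩ := (hq.odd_of_ne_two hq2).pow (n := l)
      rw [hc, pow_succ, pow_mul, pow_two] at hl'
      refine ih (by omega) j hj (by omega) ?_
      rw [eq_inv_of_mul_eq_one_right hl']
      exact inv_mem (pow_mem hsq c)
  intro k
  induction k with
  | zero => intro _; rw [pow_zero]; exact Nat.card_pos
  | succ k ih =>
    intro hk
    obtain ⟨m, hm⟩ := IsPGroup.iff_card.1 (hX.to_le (hleX k))
    obtain ⟨m', hm'⟩ := IsPGroup.iff_card.1 (hX.to_le (hleX (k + 1)))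
    have hlt : closure (w '' Set.Iio k) < closure (w '' Set.Iio (k + 1)) :=
      lt_of_le_of_ne (closure_mono (Set.image_mono (Set.Iio_subset_Iio (Nat.le_succ k)))) fun h =>
        hind k (by omega) k hk le_rfl (h ▸ subset_closure ⟨k, Nat.lt_succ_self k, rfl⟩)
    have hne : Nat.card (closure (w '' Set.Iio k)) < Nat.card (closure (w '' Set.Iio (k + 1))) :=
      lt_of_le_of_ne (card_le_of_le hlt.le) fun h => hlt.ne (eq_of_le_of_card_ge hlt.le h.ge)
    have h1 := ih (by omega)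
    rw [hm, hm'] at hne
    rw [hm'] ; rw [hm] at h1
    have h2 : m < m' := (Nat.pow_lt_pow_iff_right hq.one_lt).1 hne
    have h3 : k ≤ m := (Nat.pow_le_pow_iff_right hq.one_lt).1 h1
    exact Nat.pow_le_pow_right hq.pos (by omega)

variable {Q : Type u} [Group Q] [Finite Q] {V : Type u} [CommGroup V] [Finite V]

theorem rank_contra (φ : Q →* MulAut V) (hV : ∀ v : V, v * v = 1) {n r : ℕ} [Fact r.Prime]
    (hn : n < r) (hcard : Nat.card V ≤ 2 ^ (2 * n)) {q : ℕ} [Fact q.Prime] (hq2 : q ≠ 2)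
    {X T0 : Subgroup Q} (hX : IsPGroup q X) (hfaith : ∀ x ∈ X, φ x = 1 → x = 1)
    (hT2 : ∀ t ∈ T0, t ^ 2 = 1) (hTX : ∀ t ∈ T0, ∀ x ∈ X, t * x * t⁻¹ ∈ X)
    (hne : ∃ t ∈ T0, ∃ x ∈ X, t * x * t⁻¹ ≠ x)
    (hcl : ∀ x ∈ X, ∀ y ∈ X, (∀ t ∈ T0, t * ⁅x, y⁆ * t⁻¹ = ⁅x, y⁆) ∧ Commute ⁅x, y⁆ x ∧ Commute ⁅x, y⁆ y)
    {a : Q} {k : ℕ} (ha : a ^ r ^ k = 1) (haX : ∀ x ∈ X, a * x * a⁻¹ ∈ X)
    (haT : ∀ t ∈ T0, a * t * a⁻¹ ∈ T0) (hafix : ∀ t ∈ T0, a * t * a⁻¹ = t → t = 1) : False := by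
  classical
  have hr : r.Prime := Fact.out
  have hq : q.Prime := Fact.out
  have hTinv : ∀ t ∈ T0, t⁻¹ = t := fun t ht =>
    inv_eq_of_mul_eq_one_right (by rw [← pow_two]; exact hT2 t ht)
  have hTcomm : ∀ s ∈ T0, ∀ t ∈ T0, s * t = t * s := fun s hs t ht => by
    rw [← hTinv _ (mul_mem hs ht), mul_inv_rev, hTinv t ht, hTinv s hs]
  -- a maximal centralising subgroup
  obtain ⟨K, hK, hKmax⟩ := (Set.toFinite {K : Subgroup Q | K ≤ T0 ∧ ∃ x ∈ X, (∀ s ∈ K, s * x * s⁻¹ = x) ∧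
      ∃ t ∈ T0, t * x * t⁻¹ ≠ x}).exists_maximal
    ⟨⊥, bot_le, by
      obtain ⟨t, ht, x, hx, h⟩ := hne
      exact ⟨x, hx, fun s hs => by rw [mem_bot.1 hs]; simp, t, ht, h⟩⟩
  obtain ⟨hKT, x0, hx0, hKx0, t0, ht0, htx0⟩ := hK
  obtain ⟨u, hu⟩ : ∃ u, u = x0⁻¹ * (t0 * x0 * t0⁻¹) := ⟨_, rfl⟩
  have huX : u ∈ X := hu ▸ mul_mem (inv_mem hx0) (hTX t0 ht0 x0 hx0)
  have hu1 : u ≠ 1 := fun h => htx0 (by rw [hu, inv_mul_eq_one] at h; exact h.symm)
  have hKu : ∀ s ∈ K, s * u * s⁻¹ = u := fun s hs => by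
    have hst := hTcomm s (hKT hs) t0 ht0
    calc s * u * s⁻¹ = (s * x0 * s⁻¹)⁻¹ * (s * t0 * x0 * (s * t0)⁻¹) := by rw [hu]; group
      _ = (s * x0 * s⁻¹)⁻¹ * (t0 * (s * x0 * s⁻¹) * t0⁻¹) := by rw [hst]; group
      _ = u := by rw [hKx0 s hs, hu]
  have ht0u : t0 * u * t0⁻¹ = u⁻¹ := by
    have h2 : t0 * t0 = 1 := by rw [← pow_two]; exact hT2 t0 ht0
    calc t0 * u * t0⁻¹ = (t0 * x0 * t0⁻¹)⁻¹ * (t0 * t0 * x0 * (t0 * t0)⁻¹) := by rw [hu]; group
      _ = u⁻¹ := by rw [h2, hu]; group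
  have ht0K : t0 ∉ K := fun h => hu1 (eq_one_of_eq_inv hq2 hX huX (by rw [← ht0u, hKu t0 h]))
  have hsign : ∀ t ∈ T0, t ∉ K → t * u * t⁻¹ = u⁻¹ := by
    intro t ht htK
    obtain ⟨v, hv⟩ : ∃ v, v = t * u * t⁻¹ := ⟨_, rfl⟩
    have hvX : v ∈ X := hv ▸ hTX t ht u huX
    have htv : t * v * t⁻¹ = u := by
      rw [hv, show t * (t * u * t⁻¹) * t⁻¹ = t * t * u * (t * t)⁻¹ by group, ← pow_two, hT2 t ht]; group
    have hcu : ⁅u, v⁆ = 1 := by
      refine eq_one_of_eq_inv hq2 hX (?_ : ⁅u, v⁆ ∈ X) ?_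
      · rw [commutatorElement_def]; exact mul_mem (mul_mem (mul_mem huX hvX) (inv_mem huX)) (inv_mem hvX)
      · rw [commutatorElement_inv]
        conv_rhs => rw [← (hcl u huX v hvX).1 t ht]
        rw [conjugate_commutatorElement, ← hv, htv]
    have huv : Commute u v := commutatorElement_eq_one_iff_mul_comm.1 hcu
    obtain ⟨y, hy⟩ : ∃ y, y = u * v := ⟨_, rfl⟩
    have hty : t * y * t⁻¹ = y := by
      rw [hy, show t * (u * v) * t⁻¹ = t * u * t⁻¹ * (t * v * t⁻¹) by group, ← hv, htv, huv.eq]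
    have hKy : ∀ s ∈ K, s * y * s⁻¹ = y := fun s hs => by
      have hst := hTcomm s (hKT hs) t ht
      rw [hy, show s * (u * v) * s⁻¹ = s * u * s⁻¹ * (s * v * s⁻¹) by group, hKu s hs, hv,
        show s * (t * u * t⁻¹) * s⁻¹ = (s * t) * u * (s * t)⁻¹ by group, hst,
        show t * s * u * (t * s)⁻¹ = t * (s * u * s⁻¹) * t⁻¹ by group, hKu s hs]
    have ht0y : t0 * y * t0⁻¹ = y := by
      by_contra hne'
      have hle : K ⊔ zpowers t ≤ T0 := sup_le hKT (zpowers_le.2 ht)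
      have h1 : K ⊔ zpowers t ≤ centralizer ({y} : Set Q) := by
        refine sup_le (fun s hs => ?_) (zpowers_le.2 ?_)
        · rw [mem_centralizer_singleton_iff]
          exact mul_inv_eq_iff_eq_mul.1 (hKy s hs)
        · rw [mem_centralizer_singleton_iff]
          exact mul_inv_eq_iff_eq_mul.1 hty
      have h2 := hKmax (y := K ⊔ zpowers t) ⟨hle, y, hy ▸ mul_mem huX hvX, fun s hs =>
        mul_inv_eq_iff_eq_mul.2 (mem_centralizer_singleton_iff.1 (h1 hs)), t0, ht0, hne'⟩ le_sup_left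
      exact htK (h2 (mem_sup_right (mem_zpowers t)))
    have ht0v : t0 * v * t0⁻¹ = v⁻¹ := by
      have hst := hTcomm t0 ht0 t ht
      rw [hv, show t0 * (t * u * t⁻¹) * t0⁻¹ = (t0 * t) * u * (t0 * t)⁻¹ by group, hst,
        show t * t0 * u * (t * t0)⁻¹ = t * (t0 * u * t0⁻¹) * t⁻¹ by group, ht0u]
      group
    have hy1 : y = 1 := by
      refine eq_one_of_eq_inv hq2 hX (hy ▸ mul_mem huX hvX) ?_
      conv_rhs => rw [← ht0y, hy, show t0 * (u * v) * t0⁻¹ = t0 * u * t0⁻¹ * (t0 * v * t0⁻¹) by group,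
        ht0u, ht0v]
      rw [hy, mul_inv_rev, (huv.inv_inv).eq]
    rw [← hv]
    exact eq_inv_of_mul_eq_one_right (hy.symm.trans hy1)
  -- pass to an element of order q
  obtain ⟨l, hl⟩ := hX ⟨u, huX⟩
  replace hl : u ^ q ^ l = 1 := by simpa using congrArg Subtype.val hl
  obtain ⟨j, -, hj⟩ := (Nat.dvd_prime_pow hq).1 (orderOf_dvd_of_pow_eq_one hl)
  have hj0 : j ≠ 0 := fun h => hu1 (orderOf_eq_one_iff.1 (by rw [hj, h, pow_zero]))
  obtain ⟨z, hz⟩ : ∃ z, z = u ^ q ^ (j - 1) := ⟨_, rfl⟩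
  have hzX : z ∈ X := hz ▸ pow_mem huX _
  have hzq : z ^ q = 1 := by
    rw [hz, ← pow_mul, ← pow_succ, show j - 1 + 1 = j by omega, ← hj, pow_orderOf_eq_one]
  have hz1 : z ≠ 1 := fun h => by
    rw [hz] at h
    have h1 := Nat.le_of_dvd (pow_pos hq.pos _) (hj ▸ orderOf_dvd_of_pow_eq_one h)
    have h2 : q ^ (j - 1) < q ^ j := Nat.pow_lt_pow_right hq.one_lt (by omega)
    omega
  have hzK : ∀ t ∈ K, t * z * t⁻¹ = z := fun t ht => by rw [hz, ← conj_pow, hKu t ht]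
  have hzs : ∀ t ∈ T0, t ∉ K → t * z * t⁻¹ = z⁻¹ := fun t ht htK => by
    rw [hz, ← conj_pow, hsign t ht htK, inv_pow]
  have hout : ∀ s ∈ T0, ∀ t ∈ T0, s ∉ K → t ∉ K → s * t ∈ K := by
    intro s hs t ht hsK htK
    by_contra h
    have h1 := hzs _ (mul_mem hs ht) h
    rw [show s * t * z * (s * t)⁻¹ = s * (t * z * t⁻¹) * s⁻¹ by group, hzs t ht htK,
      show s * z⁻¹ * s⁻¹ = (s * z * s⁻¹)⁻¹ by group, hzs s hs hsK, inv_inv] at h1
    exact hz1 (eq_one_of_eq_inv hq2 hX hzX h1.symm)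
  -- `K` is not invariant
  have hnot : ¬ ∀ s ∈ K, a * s * a⁻¹ ∈ K := by
    intro hinv
    let d : T0 → T0 := fun s => ⟨a * s * a⁻¹ * (s : Q)⁻¹, mul_mem (haT s s.2) (inv_mem s.2)⟩
    have hd : Function.Injective d := by
      intro s t hst
      have h : a * s * a⁻¹ * (s : Q)⁻¹ = a * t * a⁻¹ * (t : Q)⁻¹ := congrArg Subtype.val hst
      have h' : a * ((s : Q) * t) * a⁻¹ = s * t := by
        calc a * ((s : Q) * t) * a⁻¹ = a * s * a⁻¹ * (s : Q)⁻¹ * ((s : Q) * (a * t * a⁻¹)) := by group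
          _ = a * t * a⁻¹ * (t : Q)⁻¹ * ((s : Q) * (a * t * a⁻¹)) := by rw [h]
          _ = a * t * a⁻¹ * (t : Q)⁻¹ * ((a * t * a⁻¹) * (s : Q)) := by rw [hTcomm _ s.2 _ (haT t t.2)]
          _ = (a * t * a⁻¹ * (t : Q)⁻¹) * (a * t * a⁻¹) * s := by group
          _ = (a * t * a⁻¹) * (a * t * a⁻¹ * (t : Q)⁻¹) * s := by
              rw [hTcomm _ (mul_mem (haT t t.2) (inv_mem t.2)) _ (haT t t.2)]
          _ = (a * t * a⁻¹) ^ 2 * ((t : Q)⁻¹ * s) := by rw [pow_two]; group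
          _ = s * t := by rw [hT2 _ (haT t t.2), one_mul, hTinv t t.2, hTcomm _ t.2 _ s.2]
      have h1 := hafix _ (mul_mem s.2 t.2) h'
      exact Subtype.ext ((eq_inv_of_mul_eq_one_left h1).trans (hTinv t t.2))
    have hsurj := Finite.injective_iff_surjective.1 hd
    apply ht0K
    obtain ⟨s, hs⟩ := hsurj ⟨t0, ht0⟩
    have hs' : a * s * a⁻¹ * (s : Q)⁻¹ = t0 := congrArg Subtype.val hs
    rw [← hs']
    by_cases hsK : (s : Q) ∈ K
    · exact mul_mem (hinv _ hsK) (inv_mem hsK)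
    · by_cases hasK : a * s * a⁻¹ ∈ K
      · exfalso
        -- conjugation by `a` permutes `K`
        let e : K → K := fun x => ⟨a * x * a⁻¹, hinv x x.2⟩
        have he : Function.Injective e := fun x y hxy => Subtype.ext (by
          have h : a * (x : Q) * a⁻¹ = a * y * a⁻¹ := congrArg Subtype.val hxy
          simpa using h)
        obtain ⟨x, hx⟩ := Finite.injective_iff_surjective.1 he ⟨_, hasK⟩
        have h : a * (x : Q) * a⁻¹ = a * s * a⁻¹ := congrArg Subtype.val hx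
        exact hsK (by have h' : (x : Q) = s := by simpa using h
                      exact h' ▸ x.2)
      · exact hout _ (haT s s.2) _ (inv_mem s.2) hasK fun h => hsK (inv_mem_iff.1 h)
  -- powers of `a`
  have haTp : ∀ (i : ℕ), ∀ t ∈ T0, a ^ i * t * (a ^ i)⁻¹ ∈ T0 := by
    intro i
    induction i with
    | zero => intro t ht; simpa using ht
    | succ i ih =>
      intro t ht
      have := haT _ (ih t ht)
      simpa [pow_succ', mul_assoc] using this
  have haXp : ∀ (i : ℕ), ∀ x ∈ X, a ^ i * x * (a ^ i)⁻¹ ∈ X := by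
    intro i
    induction i with
    | zero => intro t ht; simpa using ht
    | succ i ih =>
      intro t ht
      have := haX _ (ih t ht)
      simpa [pow_succ', mul_assoc] using this
  have hainv : ∀ i : ℕ, ∃ i' : ℕ, (a ^ i)⁻¹ = a ^ i' := fun i => by
    obtain ⟨i', hi'⟩ := mem_powers_iff_mem_zpowers.2 (inv_mem (pow_mem (mem_zpowers a) i))
    exact ⟨i', hi'.symm⟩
  have hcT : ∀ i : ℕ, ∀ t ∈ T0, (a ^ i)⁻¹ * t * a ^ i ∈ T0 := fun i t ht => by
    obtain ⟨i', hi'⟩ := hainv i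
    have := haTp i' t ht
    rwa [← hi', inv_inv] at this
  obtain ⟨w, hw⟩ : ∃ w : ℕ → Q, ∀ i, w i = a ^ i * z * (a ^ i)⁻¹ := ⟨_, fun i => rfl⟩
  have hwX : ∀ i, w i ∈ X := fun i => hw i ▸ haXp i z hzX
  have hw1 : ∀ i, w i ≠ 1 := fun i h => hz1 (by rw [hw, conj_eq_one_iff] at h; exact h)
  have hwfix : ∀ i, ∀ s ∈ T0, (a ^ i)⁻¹ * s * a ^ i ∈ K → s * w i * s⁻¹ = w i := by
    intro i s hs h
    rw [hw, show s * (a ^ i * z * (a ^ i)⁻¹) * s⁻¹ =
      a ^ i * ((a ^ i)⁻¹ * s * a ^ i * z * ((a ^ i)⁻¹ * s * a ^ i)⁻¹) * (a ^ i)⁻¹ by group, hzK _ h]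
  have hwinv : ∀ i, ∀ s ∈ T0, (a ^ i)⁻¹ * s * a ^ i ∉ K → s * w i * s⁻¹ = (w i)⁻¹ := by
    intro i s hs h
    rw [hw, show s * (a ^ i * z * (a ^ i)⁻¹) * s⁻¹ =
      a ^ i * ((a ^ i)⁻¹ * s * a ^ i * z * ((a ^ i)⁻¹ * s * a ^ i)⁻¹) * (a ^ i)⁻¹ by group,
      hzs _ (hcT i s hs) h]
    group
  have hwor : ∀ s ∈ T0, ∀ m, s * w m * s⁻¹ = w m ∨ s * w m * s⁻¹ = (w m)⁻¹ := fun s hs m => by
    by_cases h : (a ^ m)⁻¹ * s * a ^ m ∈ K
    · exact Or.inl (hwfix m s hs h)
    · exact Or.inr (hwinv m s hs h)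
  have hdist : ∀ i < r, ∀ j < r, i < j → ∃ s ∈ T0,
      ¬ ((a ^ i)⁻¹ * s * a ^ i ∈ K ↔ (a ^ j)⁻¹ * s * a ^ j ∈ K) := by
    intro i hi j hj hij
    by_contra hc
    push Not at hc
    apply hnot
    obtain ⟨d, hd, rfl⟩ : ∃ d, 0 < d ∧ j = i + d := ⟨j - i, by omega, by omega⟩
    have hstep : ∀ s ∈ K, (a ^ d)⁻¹ * s * a ^ d ∈ K := by
      intro s hs
      have h := (hc (a ^ i * s * (a ^ i)⁻¹) (haTp i s (hKT hs))).1 (by
        rwa [show (a ^ i)⁻¹ * (a ^ i * s * (a ^ i)⁻¹) * a ^ i = s by group])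
      rwa [pow_add, show (a ^ i * a ^ d)⁻¹ * (a ^ i * s * (a ^ i)⁻¹) * (a ^ i * a ^ d) =
        (a ^ d)⁻¹ * s * a ^ d by group] at h
    have hpow : ∀ (b : Q), (∀ s ∈ K, b * s * b⁻¹ ∈ K) → ∀ m : ℕ, ∀ s ∈ K, b ^ m * s * (b ^ m)⁻¹ ∈ K := by
      intro b hb m
      induction m with
      | zero => intro s hs; simpa using hs
      | succ m ih =>
        intro s hs
        have := hb _ (ih s hs)
        simpa [pow_succ', mul_assoc] using this
    have hco : d.Coprime (orderOf a) := by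
      refine Nat.Coprime.of_dvd_right (orderOf_dvd_of_pow_eq_one ha) (Nat.Coprime.pow_right k ?_)
      exact (hr.coprime_iff_not_dvd.2 fun h => absurd (Nat.le_of_dvd hd h) (by omega)).symm
    obtain ⟨m, hm⟩ := exists_pow_eq_self_of_coprime hco
    have hb : ∀ s ∈ K, a⁻¹ * s * a⁻¹⁻¹ ∈ K := by
      intro s hs
      have h := hpow (a ^ d)⁻¹ (fun s hs => by simpa using hstep s hs) m s hs
      rwa [inv_pow, hm] at h
    intro s hs
    obtain ⟨m', hm'⟩ := mem_powers_iff_mem_zpowers.2 (show a ∈ zpowers a⁻¹ by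
      rw [zpowers_inv]; exact mem_zpowers a)
    have h := hpow a⁻¹ hb m' s hs
    have hm'' : (a⁻¹) ^ m' = a := hm'
    rwa [hm''] at h
  have hsep : ∀ i < r, ∀ j < r, i ≠ j → ∃ s ∈ T0,
      (s * w i * s⁻¹ = w i ∧ s * w j * s⁻¹ = (w j)⁻¹) ∨ (s * w i * s⁻¹ = (w i)⁻¹ ∧ s * w j * s⁻¹ = w j) := by
    intro i hi j hj hij
    obtain ⟨s, hs, h⟩ : ∃ s ∈ T0, ¬ ((a ^ i)⁻¹ * s * a ^ i ∈ K ↔ (a ^ j)⁻¹ * s * a ^ j ∈ K) := by
      rcases Nat.lt_or_gt_of_ne hij with h | h
      · exact hdist i hi j hj h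
      · obtain ⟨s, hs, h'⟩ := hdist j hj i hi h
        exact ⟨s, hs, fun h'' => h' h''.symm⟩
    refine ⟨s, hs, ?_⟩
    by_cases hiK : (a ^ i)⁻¹ * s * a ^ i ∈ K
    · exact Or.inl ⟨hwfix i s hs hiK, hwinv j s hs fun h' => h (iff_of_true hiK h')⟩
    · refine Or.inr ⟨hwinv i s hs hiK, hwfix j s hs ?_⟩
      by_contra h'
      exact h (iff_of_false hiK h')
  have hcomm : ∀ i < r, ∀ j < r, w i * w j = w j * w i := by
    intro i hi j hj
    rcases eq_or_ne i j with rfl | hij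
    · rfl
    obtain ⟨s, hs, hcase⟩ := hsep i hi j hj hij
    obtain ⟨hc1, hc2, hc3⟩ := hcl _ (hwX i) _ (hwX j)
    rw [← commutatorElement_eq_one_iff_mul_comm]
    refine eq_one_of_eq_inv hq2 hX ?_ ?_
    · rw [commutatorElement_def]
      exact mul_mem (mul_mem (mul_mem (hwX i) (hwX j)) (inv_mem (hwX i))) (inv_mem (hwX j))
    · have h := hc1 s hs
      rw [conjugate_commutatorElement] at h
      rcases hcase with ⟨h1, h2⟩ | ⟨h1, h2⟩
      · rw [h1, h2] at h
        have hid : ⁅w i, (w j)⁻¹⁆ = (w j)⁻¹ * ⁅w i, w j⁆⁻¹ * w j := by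
          simp [commutatorElement_def, mul_assoc]
        rw [hid, mul_assoc, (hc3.inv_left).eq, inv_mul_cancel_left] at h
        exact h
      · rw [h1, h2] at h
        have hid : ⁅(w i)⁻¹, w j⁆ = (w i)⁻¹ * ⁅w i, w j⁆⁻¹ * w i := by
          simp [commutatorElement_def, mul_assoc]
        rw [hid, mul_assoc, (hc2.inv_left).eq, inv_mul_cancel_left] at h
        exact h
  have hlow := card_closure_ge hq2 hX w r hwX hw1 hcomm
    (fun i hi j hj hij => by
      obtain ⟨s, hs, h⟩ := hsep i hi j hj hij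
      exact ⟨s, hwor s hs, h⟩) r le_rfl
  obtain ⟨B, hB⟩ : ∃ B, B = closure (w '' Set.Iio r) := ⟨_, rfl⟩
  have hBX : B ≤ X := hB ▸ (closure_le _).2 (by rintro _ ⟨i, -, rfl⟩; exact hwX i)
  have hBgen : ∀ x ∈ B, ∀ y ∈ B, x * y = y * x := by
    intro x hx y hy
    rw [hB] at hx hy
    induction hx, hy using Subgroup.closure_induction₂ with
    | mem a b ha hb =>
      obtain ⟨i, hi, rfl⟩ := ha
      obtain ⟨j, hj, rfl⟩ := hb
      exact hcomm i hi j hj
    | one_left x hx => simp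
    | one_right x hx => simp
    | mul_left a b c _ _ _ ha hb => exact Commute.mul_left (ha : Commute a c) hb
    | mul_right a b c _ _ _ ha hb => exact Commute.mul_right (ha : Commute c a) hb
    | inv_left a b _ _ h => exact Commute.inv_left (h : Commute a b)
    | inv_right a b _ _ h => exact Commute.inv_right (h : Commute a b)
  have hBq : ∀ x ∈ B, x ^ q = 1 := by
    intro x hx
    rw [hB] at hx
    induction hx using Subgroup.closure_induction with
    | mem x hx =>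
      obtain ⟨i, -, rfl⟩ := hx
      rw [hw, conj_pow, hzq]; simp
    | one => simp
    | mul a b ha hb iha ihb => rw [Commute.mul_pow (hBgen a (hB ▸ ha) b (hB ▸ hb)), iha, ihb, one_mul]
    | inv a _ iha => rw [inv_pow, iha, inv_one]
  letI : CommGroup B :=
    { (inferInstance : Group B) with mul_comm := fun x y => Subtype.ext (hBgen x x.2 y y.2) }
  obtain ⟨m, hm⟩ := IsPGroup.iff_card.1 (hX.to_le hBX)
  have hinj : Function.Injective (φ.comp B.subtype) := by
    rw [injective_iff_map_eq_one]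
    exact fun x hx => Subtype.ext (hfaith x (hBX x.2) hx)
  have h4 := four_pow_le (Nat.card V) (φ.comp B.subtype) le_rfl hV hinj hq2
    (fun x => Subtype.ext (by simpa using hBq x x.2)) m hm.symm
  rw [← hB, hm] at hlow
  have hrm : r ≤ m := (Nat.pow_le_pow_iff_right hq.one_lt).1 hlow
  have : 4 ^ r ≤ 4 ^ n := by
    calc 4 ^ r ≤ 4 ^ m := Nat.pow_le_pow_right (by norm_num) hrm
      _ ≤ Nat.card V := h4
      _ ≤ 2 ^ (2 * n) := hcard
      _ = 4 ^ n := by rw [pow_mul]; norm_num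
  have := (Nat.pow_le_pow_iff_right (by norm_num : 1 < 4)).1 this
  omega

end Cfsg.Agent.Components.InvConj
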