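import Mathlib
import Cfsg.Agent.Lib.Components.InvConjFpf
import Cfsg.Agent.Lib.Components.InvConjRank
import Cfsg.Agent.Lib.Invol.CriticalExists
import Cfsg.Agent.Lib.Invol.QuadZero
import Cfsg.Agent.Lib.Basics.Frattini
import Cfsg.Agent.Lib.Components.PPrimeCore

/-!
Thompson: a solvable group with trivial odd core and one class of at least two involutions has a normal
Sylow 2-subgroup.
-/

set_option autoImplicit false

universe u

namespace Cfsg.Agent.Components.InvConj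

open Subgroup
open scoped commutatorElement

variable {G : Type u} [Group G] [Finite G]

/-- The action of `G` on `C / Z`. -/
noncomputable def sectionAct (C Z : Subgroup G) [C.Normal] [Z.Normal] :
    G →* MulAut (C ⧸ Z.subgroupOf C) where
  toFun g := QuotientGroup.congr (Z.subgroupOf C) (Z.subgroupOf C) (MulAut.conjNormal g) (by
    ext x
    constructor
    · rintro ⟨y, hy, rfl⟩
      exact mem_subgroupOf.2 (by
        simpa [MulAut.conjNormal_apply] using Subgroup.Normal.conj_mem inferInstance (y : G) (mem_subgroupOf.1 hy) g)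
    · intro hx
      refine ⟨MulAut.conjNormal g⁻¹ x, mem_subgroupOf.2 (by
        simpa [MulAut.conjNormal_apply] using Subgroup.Normal.conj_mem inferInstance (x : G) (mem_subgroupOf.1 hx) g⁻¹),
        ?_⟩
      exact Subtype.ext (by simp [MulAut.conjNormal_apply, mul_assoc]))
  map_one' := by
    refine MulEquiv.ext fun x => ?_
    induction x using QuotientGroup.induction_on with
    | H x => simp [QuotientGroup.congr_mk]
  map_mul' g h := by
    refine MulEquiv.ext fun x => ?_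
    induction x using QuotientGroup.induction_on with
    | H x => simp [QuotientGroup.congr_mk]

theorem sectionAct_apply (C Z : Subgroup G) [C.Normal] [Z.Normal] (g : G) (c : C) :
    sectionAct C Z g (c : C ⧸ Z.subgroupOf C) = ((MulAut.conjNormal g c : C) : C ⧸ Z.subgroupOf C) := by
  simp [sectionAct, QuotientGroup.congr_mk]

theorem mem_ker_sectionAct (C Z : Subgroup G) [C.Normal] [Z.Normal] (g : G) :
    sectionAct C Z g = 1 ↔ ∀ c ∈ C, g * c * g⁻¹ * c⁻¹ ∈ Z := by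
  have hiff : ∀ c : C, sectionAct C Z g (c : C ⧸ Z.subgroupOf C) = (c : C ⧸ Z.subgroupOf C) ↔
      g * c * g⁻¹ * (c : G)⁻¹ ∈ Z := by
    intro c
    rw [sectionAct_apply, QuotientGroup.eq, mem_subgroupOf]
    have hn : Z.Normal := inferInstance
    simp only [Subgroup.coe_mul, Subgroup.coe_inv, MulAut.conjNormal_apply]
    rw [← inv_mem_iff, hn.mem_comm_iff]
    group
  constructor
  · intro h c hc
    exact (hiff ⟨c, hc⟩).1 (by rw [h]; simp)
  · intro h
    refine MulEquiv.ext fun x => ?_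
    induction x using QuotientGroup.induction_on with
    | H x => rw [MulAut.one_apply]; exact (hiff x).2 (h x x.2)

/-- All involutions are central in `O_2(G)` and lie in an elementary abelian normal subgroup. -/
theorem exists_involution_group (hsolv : Group.IsSolvable G) (hO : Cfsg.pPrimeCore 2 G = ⊥)
    (htwo : ∃ x y : G, x ≠ y ∧ x ≠ 1 ∧ x ^ 2 = 1 ∧ y ≠ 1 ∧ y ^ 2 = 1)
    (hconj : ∀ x y : G, x ≠ 1 → x ^ 2 = 1 → y ≠ 1 → y ^ 2 = 1 → IsConj x y) :
    ∃ E : Subgroup G, E.Normal ∧ IsMulCommutative E ∧ (∀ x : G, x ∈ E ↔ x ^ 2 = 1) ∧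
      E ≤ Cfsg.pCore 2 G ⊓ centralizer (Cfsg.pCore 2 G : Set G) := by
  haveI := hsolv
  obtain ⟨R, hR⟩ : ∃ R, R = Cfsg.pCore 2 G := ⟨_, rfl⟩
  haveI : R.Normal := hR ▸ inferInstance
  have hRp : IsPGroup 2 R := hR ▸ Basics.pCore_isPGroup 2
  have hCR : centralizer (R : Set G) ≤ R := hR ▸ Basics.centralizer_pCore_le hO
  obtain ⟨x0, -, -, hx0, -, -, -⟩ := htwo
  haveI : Nontrivial R := by
    rw [Subgroup.nontrivial_iff_ne_bot]
    rintro rfl
    exact hx0 (mem_bot.1 (hCR (mem_centralizer_iff.2 fun g hg => by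
      rw [show g = 1 from hg]; simp)))
  haveI := hRp.center_nontrivial
  obtain ⟨⟨⟨z, hz⟩, hzc⟩, hz1⟩ := exists_ne (1 : center R)
  have hz1' : z ≠ 1 := fun h => hz1 (Subtype.ext (Subtype.ext h))
  obtain ⟨k, hk⟩ := hRp ⟨z, hz⟩
  replace hk : z ^ 2 ^ k = 1 := by simpa using congrArg Subtype.val hk
  obtain ⟨j, -, hj⟩ := (Nat.dvd_prime_pow Nat.prime_two).1 (orderOf_dvd_of_pow_eq_one hk)
  have hj0 : j ≠ 0 := fun h => hz1' (orderOf_eq_one_iff.1 (by rw [hj, h, pow_zero]))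
  obtain ⟨v, hv⟩ : ∃ v, v = z ^ 2 ^ (j - 1) := ⟨_, rfl⟩
  have hv2 : v ^ 2 = 1 := by
    rw [hv, ← pow_mul, ← pow_succ, show j - 1 + 1 = j by omega, ← hj, pow_orderOf_eq_one]
  have hv1 : v ≠ 1 := fun h => by
    rw [hv] at h
    have h1 := Nat.le_of_dvd (pow_pos two_pos _) (hj ▸ orderOf_dvd_of_pow_eq_one h)
    have h2 : 2 ^ (j - 1) < 2 ^ j := Nat.pow_lt_pow_right one_lt_two (by omega)
    omega
  have hzR : z ∈ R ⊓ centralizer (R : Set G) := ⟨hz, mem_centralizer_iff.2 fun g hg =>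
    congrArg Subtype.val (mem_center_iff.1 hzc ⟨g, hg⟩)⟩
  haveI : (R ⊓ centralizer (R : Set G)).Normal := inferInstance
  have hall : ∀ x : G, x ^ 2 = 1 → x ∈ R ⊓ centralizer (R : Set G) := by
    intro x hx
    by_cases hx1 : x = 1
    · rw [hx1]; exact one_mem _
    obtain ⟨g, hg⟩ := isConj_iff.1 (hconj v x hv1 hv2 hx1 hx)
    rw [← hg]
    exact Subgroup.Normal.conj_mem inferInstance v (hv ▸ pow_mem hzR _) g
  have hcomm : ∀ x y : G, x ^ 2 = 1 → y ^ 2 = 1 → x * y = y * x := fun x y hx hy =>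
    (mem_centralizer_iff.1 (mem_inf.1 (hall y hy)).2 x (mem_inf.1 (hall x hx)).1)
  let E : Subgroup G :=
    { carrier := {x | x ^ 2 = 1}
      one_mem' := one_pow 2
      mul_mem' := fun {x y} hx hy => by
        show (x * y) ^ 2 = 1
        rw [Commute.mul_pow (hcomm x y hx hy), hx, hy, one_mul]
      inv_mem' := fun {x} hx => by show x⁻¹ ^ 2 = 1; rw [inv_pow, show x ^ 2 = 1 from hx, inv_one] }
  have hmem : ∀ x, x ∈ E ↔ x ^ 2 = 1 := fun x => Iff.rfl
  refine ⟨E, ⟨fun x hx g => (hmem _).2 (by rw [conj_pow, (hmem x).1 hx]; simp)⟩,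
    ⟨⟨fun x y => Subtype.ext (hcomm x y x.2 y.2)⟩⟩, hmem, hR ▸ fun x hx => hall x hx⟩

/-- Thompson's theorem. -/
theorem sylow_le_pCore (hsolv : Group.IsSolvable G) (hO : Cfsg.pPrimeCore 2 G = ⊥)
    (htwo : ∃ x y : G, x ≠ y ∧ x ≠ 1 ∧ x ^ 2 = 1 ∧ y ≠ 1 ∧ y ^ 2 = 1)
    (hconj : ∀ x y : G, x ≠ 1 → x ^ 2 = 1 → y ≠ 1 → y ^ 2 = 1 → IsConj x y) (S : Sylow 2 G) :
    (S : Subgroup G) ≤ Cfsg.pCore 2 G := by
  haveI := hsolv
  obtain ⟨E, hEn, hEc, hEmem, hER⟩ := exists_involution_group hsolv hO htwo hconj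
  obtain ⟨R, hR⟩ : ∃ R, R = Cfsg.pCore 2 G := ⟨_, rfl⟩
  rw [← hR]
  rw [← hR] at hER
  haveI : R.Normal := hR ▸ inferInstance
  have hRp : IsPGroup 2 R := hR ▸ Basics.pCore_isPGroup 2
  have hCR : centralizer (R : Set G) ≤ R := hR ▸ Basics.centralizer_pCore_le hO
  have hE2 : ∀ x ∈ E, x ^ 2 = 1 := fun x hx => (hEmem x).1 hx
  have htrans : ∀ x ∈ E, ∀ y ∈ E, x ≠ 1 → y ≠ 1 → ∃ g : G, g * x * g⁻¹ = y := fun x hx y hy hx1 hy1 =>
    isConj_iff.1 (hconj x y hx1 (hE2 x hx) hy1 (hE2 y hy))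
  have hodd := odd_index_centralizer hsolv E hE2 (fun x hx => (hEmem x).2 hx) htrans (by
    obtain ⟨x, y, hxy, hx1, hx, hy1, hy⟩ := htwo
    exact ⟨x, (hEmem x).2 hx, y, (hEmem y).2 hy, hxy, hx1, hy1⟩)
  obtain ⟨Ce, hCe⟩ : ∃ Ce, Ce = centralizer (E : Set G) := ⟨_, rfl⟩
  rw [← hCe] at hodd
  haveI : Ce.Normal := hCe ▸ inferInstance
  have hRCe : R ≤ Ce := by
    intro r hr
    rw [hCe, mem_centralizer_iff]
    intro x hx
    exact (mem_centralizer_iff.1 (mem_inf.1 (hER hx)).2 r hr).symm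
  have hSCe : (S : Subgroup G) ≤ Ce := by
    intro s hs
    obtain ⟨k, hk⟩ := S.isPGroup' ⟨s, hs⟩
    replace hk : s ^ 2 ^ k = 1 := by simpa using congrArg Subtype.val hk
    rw [← QuotientGroup.eq_one_iff (N := Ce)]
    refine orderOf_eq_one_iff.1 (Nat.dvd_one.1 ?_)
    have h1 : orderOf (s : G ⧸ Ce) ∣ 2 ^ k := orderOf_dvd_of_pow_eq_one (by
      rw [← QuotientGroup.mk_pow, hk, QuotientGroup.mk_one])
    have h2 : orderOf (s : G ⧸ Ce) ∣ Ce.index := orderOf_dvd_natCard _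
    exact (Nat.Coprime.pow_left k (Nat.coprime_two_left.2 hodd)) ▸ Nat.dvd_gcd h1 h2
  -- transitivity of the normalizer of `S`
  obtain ⟨N, hN⟩ : ∃ N, N = normalizer ((S : Subgroup G) : Set G) := ⟨_, rfl⟩
  have htransN : ∀ x ∈ E, ∀ y ∈ E, x ≠ 1 → y ≠ 1 → ∃ g ∈ N, g * x * g⁻¹ = y := by
    intro x hx y hy hx1 hy1
    obtain ⟨g, hg⟩ := htrans x hx y hy hx1 hy1
    have hmem : g ∈ ((N ⊔ Ce : Subgroup G) : Set G) := by
      have htop : normalizer ((S : Subgroup G) : Set G) ⊔ Ce = ⊤ := Sylow.normalizer_sup_eq_top' S hSCe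
      rw [hN, htop]; trivial
    rw [mul_normal] at hmem
    obtain ⟨m, hm, c, hc, rfl⟩ := Set.mem_mul.1 hmem
    refine ⟨m, hm, ?_⟩
    have h1 : c * x * c⁻¹ = x := by
      rw [mul_inv_eq_iff_eq_mul]
      exact (mem_centralizer_iff.1 (hCe ▸ hc) x hx).symm
    calc m * x * m⁻¹ = m * (c * x * c⁻¹) * m⁻¹ := by rw [h1]
      _ = y := by rw [← hg]; group
  have hEp : IsPGroup 2 E := fun x => ⟨1, Subtype.ext (by simpa using hE2 x x.2)⟩
  obtain ⟨n, hn⟩ := IsPGroup.iff_card.1 hEp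
  have hn2 : 2 ≤ n := by
    obtain ⟨x, y, hxy, hx1, hx, hy1, hy⟩ := htwo
    by_contra h
    have hle : Nat.card E ≤ 2 := hn ▸ (Nat.pow_le_pow_right two_pos (show n ≤ 1 by omega)).trans_eq (pow_one 2)
    let f : Fin 3 → E := ![1, ⟨x, (hEmem x).2 hx⟩, ⟨y, (hEmem y).2 hy⟩]
    have hf : Function.Injective f := by
      intro i j hij
      fin_cases i <;> fin_cases j <;> simp [f, Subtype.ext_iff] at hij ⊢
      all_goals first
        | exact hxy hij | exact hxy hij.symm | exact hx1 hij | exact hx1 hij.symm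
        | exact hy1 hij | exact hy1 hij.symm
    have := Nat.card_le_card_of_injective f hf
    simp at this; omega
  obtain ⟨r, k, a, haN, hr, hnr, hak, hafpf⟩ := exists_fpf (E := E) (N := N) hE2 hn2 hn htransN
  haveI : Fact r.Prime := ⟨hr⟩
  rw [hN, mem_normalizer_iff] at haN
  have hafS : ∀ s ∈ (S : Subgroup G), a * s * a⁻¹ = s → s = 1 := by
    intro s hs hfix
    by_contra hs1
    obtain ⟨l, hl⟩ := S.isPGroup' ⟨s, hs⟩
    replace hl : s ^ 2 ^ l = 1 := by simpa using congrArg Subtype.val hl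
    obtain ⟨j, -, hj⟩ := (Nat.dvd_prime_pow Nat.prime_two).1 (orderOf_dvd_of_pow_eq_one hl)
    have hj0 : j ≠ 0 := fun h => hs1 (orderOf_eq_one_iff.1 (by rw [hj, h, pow_zero]))
    have h2 : (s ^ 2 ^ (j - 1)) ^ 2 = 1 := by
      rw [← pow_mul, ← pow_succ, show j - 1 + 1 = j by omega, ← hj, pow_orderOf_eq_one]
    have h3 := hafpf _ ((hEmem _).2 h2) (by rw [← conj_pow, hfix])
    have h1 := Nat.le_of_dvd (pow_pos two_pos _) (hj ▸ orderOf_dvd_of_pow_eq_one h3)
    have h4 : 2 ^ (j - 1) < 2 ^ j := Nat.pow_lt_pow_right one_lt_two (by omega)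
    omega
  -- the critical subgroup
  obtain ⟨C0, hC0char, hC0frat, hC0comm, hC0self⟩ := Invol.CriticalExists.exists_critical (p := 2) hRp
  haveI := hC0char
  obtain ⟨C, hC⟩ : ∃ C, C = C0.map R.subtype := ⟨_, rfl⟩
  haveI : C.Normal := hC ▸ inferInstance
  have hCR' : C ≤ R := hC ▸ map_subtype_le _
  have hC0mem : ∀ c : R, c ∈ C0 → (c : G) ∈ C := fun c hc => hC ▸ mem_map_of_mem _ hc
  have hCmem0 : ∀ c, ∀ hc : c ∈ C, (⟨c, hCR' hc⟩ : R) ∈ C0 := by
    intro c hc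
    obtain ⟨d, hd, hdc⟩ := mem_map.1 (hC ▸ hc)
    have h0 : (⟨c, hCR' hc⟩ : R) = d := Subtype.ext hdc.symm
    rw [h0]; exact hd
  have hcent : ∀ d : R, d ∈ centralizer (C0 : Set R) → (d : G) ∈ centralizer (C : Set G) := by
    intro d hd
    rw [mem_centralizer_iff]
    intro c hc
    exact congrArg Subtype.val (mem_centralizer_iff.1 hd ⟨c, hCR' hc⟩ (hCmem0 c hc))
  obtain ⟨Z, hZ⟩ : ∃ Z, Z = C ⊓ centralizer (C : Set G) := ⟨_, rfl⟩
  haveI : Z.Normal := hZ ▸ inferInstance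
  have hCsq : ∀ c ∈ C, c ^ 2 ∈ Z := by
    intro c hc
    have h1 : (⟨⟨c, hCR' hc⟩, hCmem0 c hc⟩ : C0) ^ 2 ∈ frattini C0 :=
      Basics.pow_mem_frattini (hRp.to_subgroup C0) _
    have h2 := hC0frat (mem_map_of_mem C0.subtype h1)
    rw [hZ]
    exact mem_inf.2 ⟨pow_mem hc 2, by simpa using hcent _ h2⟩
  have hcommR : ∀ c ∈ C, ∀ x ∈ R, ⁅c, x⁆ ∈ Z := by
    intro c hc x hx
    have h := hC0comm (commutator_mem_commutator (hCmem0 c hc) (mem_top (⟨x, hx⟩ : R)))
    rw [hZ]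
    exact mem_inf.2 ⟨by simpa [commutatorElement_def] using hC0mem _ (mem_inf.1 h).1,
      by simpa [commutatorElement_def] using hcent _ (mem_inf.1 h).2⟩
  have hself : ∀ z ∈ R, z ∈ centralizer (C : Set G) → z ∈ C := by
    intro z hz hzc
    refine hC0mem ⟨z, hz⟩ (hC0self (mem_centralizer_iff.2 fun c hc => ?_))
    exact Subtype.ext (mem_centralizer_iff.1 hzc c (hC0mem c hc))
  have hZC : Z ≤ C := hZ ▸ inf_le_left
  have hEZ : E ≤ Z := by
    intro x hx
    have h := mem_inf.1 (hER hx)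
    have h2 : x ∈ centralizer (C : Set G) := centralizer_le hCR' h.2
    exact hZ ▸ mem_inf.2 ⟨hself x h.1 h2, h2⟩
  haveI : IsMulCommutative Z := ⟨⟨fun x y => Subtype.ext (by
    have hx : (x : G) ∈ C ⊓ centralizer (C : Set G) := hZ ▸ x.2
    have hy : (y : G) ∈ C ⊓ centralizer (C : Set G) := hZ ▸ y.2
    exact mem_centralizer_iff.1 (mem_inf.1 hy).2 x (mem_inf.1 hx).1)⟩⟩
  -- faithfulness on `C / Z` of odd elements centralizing `E`
  have hfaith : ∀ y ∈ Ce, Odd (orderOf y) → sectionAct C Z y = 1 → y = 1 := by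
    intro y hy hyodd hact
    rw [mem_ker_sectionAct] at hact
    have hyZ : ∀ z ∈ Z, y * z * y⁻¹ = z := by
      refine fix_abelian_two (hRp.to_le (hZC.trans hCR')) hyodd
        (fun z hz => Subgroup.Normal.conj_mem inferInstance z hz y) fun z hz hz2 => ?_
      rw [mul_inv_eq_iff_eq_mul]
      exact (mem_centralizer_iff.1 (hCe ▸ hy) z ((hEmem z).2 hz2)).symm
    have hyC : ∀ c ∈ C, y * c * y⁻¹ = c := by
      intro c hc
      obtain ⟨l, hl⟩ := (hRp.to_le (hZC.trans hCR')) ⟨_, hact c hc⟩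
      have h := eq_one_of_step (z := c) (y := y) (d := y * c * y⁻¹ * c⁻¹) (by group)
        (hyZ _ (hact c hc)) (k := 2 ^ l) (by simpa using congrArg Subtype.val hl)
        (Nat.Coprime.pow_left l (Nat.coprime_two_left.2 hyodd))
      rwa [mul_inv_eq_one] at h
    have hyR := fix_of_fix_critical hRp (C := C) (y := y) (Nat.coprime_two_right.2 hyodd)
      (fun z hz => Subgroup.Normal.conj_mem inferInstance z hz y)
      (fun r hr c hc => by simpa using Subgroup.Normal.conj_mem (inferInstance : C.Normal) c hc r⁻¹)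
      hself hyC
    have hymem : y ∈ R := hCR (mem_centralizer_iff.2 fun g hg => by
      have := hyR g hg
      rw [mul_inv_eq_iff_eq_mul] at this
      exact this.symm)
    obtain ⟨l, hl⟩ := hRp ⟨y, hymem⟩
    replace hl : y ^ 2 ^ l = 1 := by simpa using congrArg Subtype.val hl
    exact orderOf_eq_one_iff.1 (Nat.dvd_one.1 ((Nat.Coprime.pow_left l (Nat.coprime_two_left.2 hyodd)) ▸
      Nat.dvd_gcd (orderOf_dvd_of_pow_eq_one hl) dvd_rfl))
  -- `V = C / Z`
  haveI : (Z.subgroupOf C).Normal := Normal.subgroupOf inferInstance _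
  letI : CommGroup (C ⧸ Z.subgroupOf C) :=
    { (inferInstance : Group (C ⧸ Z.subgroupOf C)) with
      mul_comm := fun x y => by
        induction x using QuotientGroup.induction_on with
        | H x =>
          induction y using QuotientGroup.induction_on with
          | H y =>
            rw [← QuotientGroup.mk_mul, ← QuotientGroup.mk_mul, QuotientGroup.eq, mem_subgroupOf]
            have h := hcommR _ (inv_mem y.2) _ (inv_mem (hCR' x.2))
            simpa [commutatorElement_def, mul_assoc] using h }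
  have hV : ∀ v : C ⧸ Z.subgroupOf C, v * v = 1 := fun v => by
    induction v using QuotientGroup.induction_on with
    | H v =>
      rw [← QuotientGroup.mk_mul, QuotientGroup.eq_one_iff, mem_subgroupOf, Subgroup.coe_mul, ← pow_two]
      exact hCsq v v.2
  have hZcomm : ∀ z ∈ Z, ∀ c ∈ C, c * z = z * c := fun z hz c hc =>
    mem_centralizer_iff.1 (mem_inf.1 (hZ ▸ hz)).2 c hc
  have hcardV : Nat.card (C ⧸ Z.subgroupOf C) ≤ 2 ^ (2 * n) := by
    letI : CommGroup Z := { (inferInstance : Group Z) with mul_comm := fun a b => mul_comm' a b }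
    obtain ⟨P, hP⟩ : ∃ P, P = (powMonoidHom 2 : Z →* Z).range := ⟨_, rfl⟩
    have hker : Nat.card (powMonoidHom 2 : Z →* Z).ker = Nat.card E :=
      Nat.card_congr
        { toFun := fun x => ⟨(x : Z), (hEmem _).2 (by
            have h : (x : Z) ^ 2 = 1 := MonoidHom.mem_ker.1 x.2
            simpa using congrArg Subtype.val h)⟩
          invFun := fun x => ⟨⟨x, hEZ x.2⟩, MonoidHom.mem_ker.2 (Subtype.ext (hE2 x x.2))⟩
          left_inv := fun x => rfl
          right_inv := fun x => rfl }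
    have hW : Nat.card (Z ⧸ P) = 2 ^ n := by
      have h1 := (powMonoidHom 2 : Z →* Z).ker.card_mul_index
      rw [index_ker, ← hP, hker, hn] at h1
      have h2 := P.card_mul_index
      rw [← h1, mul_comm (2 ^ n)] at h2
      exact Nat.eq_of_mul_eq_mul_left Nat.card_pos h2
    have hWexp : ∀ w : Z ⧸ P, w * w = 1 := fun w => by
      induction w using QuotientGroup.induction_on with
      | H w =>
        rw [← QuotientGroup.mk_mul, QuotientGroup.eq_one_iff, hP, ← pow_two]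
        exact ⟨w, rfl⟩
    let q0 : C → Z ⧸ P := fun c => ((⟨(c : G) ^ 2, hCsq c c.2⟩ : Z) : Z ⧸ P)
    have hq0 : ∀ a b : C, (a⁻¹ * b) ∈ Z.subgroupOf C → q0 a = q0 b := by
      intro a b hab
      rw [mem_subgroupOf] at hab
      apply QuotientGroup.eq.2
      rw [hP]
      refine ⟨⟨_, hab⟩, Subtype.ext ?_⟩
      show ((a : G)⁻¹ * b) ^ 2 = ((a : G) ^ 2)⁻¹ * (b : G) ^ 2
      have hc : Commute (a : G) ((a : G)⁻¹ * b) := hZcomm _ hab a a.2
      calc ((a : G)⁻¹ * b) ^ 2 = ((a : G) ^ 2)⁻¹ * ((a : G) * ((a : G)⁻¹ * b)) ^ 2 := by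
            rw [hc.mul_pow, inv_mul_cancel_left]
        _ = _ := by rw [mul_inv_cancel_left]
    let q : C ⧸ Z.subgroupOf C → Z ⧸ P :=
      Quotient.lift q0 fun a b hab => hq0 a b (QuotientGroup.leftRel_apply.1 hab)
    let β0 : C → C → Z ⧸ P := fun a b => ((⟨⁅(b : G), (a : G)⁆, hcommR b b.2 a (hCR' a.2)⟩ : Z) : Z ⧸ P)
    have hbil : ∀ a a' b : C, β0 (a * a') b = β0 a b * β0 a' b := by
      intro a a' b
      show ((⟨_, _⟩ : Z) : Z ⧸ P) = ((⟨_, _⟩ : Z) : Z ⧸ P) * ((⟨_, _⟩ : Z) : Z ⧸ P)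
      rw [← QuotientGroup.mk_mul]
      congr 1
      apply Subtype.ext
      show ⁅(b : G), (a : G) * a'⁆ = ⁅(b : G), (a : G)⁆ * ⁅(b : G), (a' : G)⁆
      have h := hZcomm _ (hcommR b b.2 a' (hCR' a'.2)) a a.2
      calc ⁅(b : G), (a : G) * a'⁆ = ⁅(b : G), (a : G)⁆ * ((a : G) * ⁅(b : G), (a' : G)⁆ * (a : G)⁻¹) := by
            simp [commutatorElement_def, mul_assoc]
        _ = _ := by rw [h, mul_inv_cancel_right]
    have hqmul : ∀ a b : C, q0 (a * b) = q0 a * q0 b * β0 a b := by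
      intro a b
      show ((⟨_, _⟩ : Z) : Z ⧸ P) =
        ((⟨_, _⟩ : Z) : Z ⧸ P) * ((⟨_, _⟩ : Z) : Z ⧸ P) * ((⟨_, _⟩ : Z) : Z ⧸ P)
      rw [← QuotientGroup.mk_mul, ← QuotientGroup.mk_mul]
      congr 1
      apply Subtype.ext
      show ((a : G) * b) ^ 2 = (a : G) ^ 2 * (b : G) ^ 2 * ⁅(b : G), (a : G)⁆
      have h := hZcomm _ (hcommR b b.2 a (hCR' a.2))
      calc ((a : G) * b) ^ 2 = a * (⁅(b : G), (a : G)⁆ * (a * b)) * b := by
            rw [pow_two, commutatorElement_def]; group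
        _ = a * ((a * b) * ⁅(b : G), (a : G)⁆) * b := by rw [h _ (mul_mem a.2 b.2)]
        _ = a * a * b * (⁅(b : G), (a : G)⁆ * b) := by group
        _ = a * a * b * ((b : G) * ⁅(b : G), (a : G)⁆) := by rw [h _ b.2]
        _ = _ := by rw [pow_two, pow_two]; group
    have hquad : QuadZero.IsQuad q := by
      refine ⟨fun x y => q (x * y) * (q x * q y), fun x y => ?_, fun x x' y => ?_⟩
      · calc q (x * y) = q (x * y) * ((q x * q y) * (q x * q y)) := by rw [hWexp, mul_one]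
          _ = _ := by simp only [mul_assoc, mul_comm, mul_left_comm]
      · induction x using QuotientGroup.induction_on with
        | H x =>
          induction x' using QuotientGroup.induction_on with
          | H x' =>
            induction y using QuotientGroup.induction_on with
            | H y =>
              have e : ∀ a b : C, q ((a : C ⧸ Z.subgroupOf C) * (b : C ⧸ Z.subgroupOf C)) *
                  (q (a : C ⧸ Z.subgroupOf C) * q (b : C ⧸ Z.subgroupOf C)) = β0 a b := by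
                intro a b
                show q0 (a * b) * (q0 a * q0 b) = β0 a b
                rw [hqmul]
                calc q0 a * q0 b * β0 a b * (q0 a * q0 b) = (q0 a * q0 b) * (q0 a * q0 b) * β0 a b := by
                      simp only [mul_assoc, mul_comm, mul_left_comm]
                  _ = β0 a b := by rw [hWexp, one_mul]
              beta_reduce
              rw [← QuotientGroup.mk_mul, e, e, e, hbil]
    refine QuadZero.card_le hV hWexp q hquad (fun v => ?_) hW.le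
    induction v using QuotientGroup.induction_on with
    | H c =>
      show q0 c = 1 ↔ _
      rw [QuotientGroup.eq_one_iff, QuotientGroup.eq_one_iff, hP, mem_subgroupOf]
      constructor
      · rintro ⟨z, hz⟩
        have hz' : (z : G) ^ 2 = (c : G) ^ 2 := congrArg Subtype.val hz
        have hc : Commute (c : G) ((z : G)⁻¹) := (show Commute (c : G) z from hZcomm _ z.2 c c.2).inv_right
        have h1 : ((c : G) * (z : G)⁻¹) ^ 2 = 1 := by rw [hc.mul_pow, inv_pow, hz', mul_inv_cancel]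
        have h2 := mul_mem (hEZ ((hEmem _).2 h1)) z.2
        rwa [inv_mul_cancel_right] at h2
      · intro hc
        exact ⟨⟨c, hc⟩, rfl⟩
  -- pass to `Q = G / R`
  let π : G →* G ⧸ R := QuotientGroup.mk' R
  have hπ : ∀ x, π x = 1 ↔ x ∈ R := QuotientGroup.eq_one_iff
  have hπs : Function.Surjective π := QuotientGroup.mk'_surjective R
  let φ : G ⧸ R →* MulAut (C ⧸ Z.subgroupOf C) := QuotientGroup.lift R (sectionAct C Z) (fun r hr => by
    rw [MonoidHom.mem_ker, mem_ker_sectionAct]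
    intro c hc
    have h1 := inv_mem (hcommR c hc r hr)
    rwa [commutatorElement_inv, commutatorElement_def] at h1)
  haveI : Group.IsSolvable (G ⧸ R) := Group.isSolvable_of_surjective hπs
  have hQcore : Cfsg.pCore 2 (G ⧸ R) = ⊥ := by
    subst hR; exact Basics.pCore_quotient_eq_bot 2
  obtain ⟨Cb, hCb⟩ : ∃ Cb, Cb = Ce.map π := ⟨_, rfl⟩
  haveI : Cb.Normal := hCb ▸ Normal.map inferInstance π hπs
  obtain ⟨SQ, hSQ⟩ : ∃ SQ, SQ = (S : Subgroup G).map π := ⟨_, rfl⟩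
  by_contra hSR
  have hSQne : SQ ≠ ⊥ := fun h => hSR fun s hs =>
    (hπ s).1 (mem_bot.1 (h ▸ hSQ ▸ mem_map_of_mem π hs))
  have hSQp : IsPGroup 2 SQ := hSQ ▸ S.isPGroup'.map π
  obtain ⟨T0, hT0⟩ : ∃ T0 : Subgroup (G ⧸ R), ∀ t, t ∈ T0 ↔
      t ∈ SQ ∧ t ^ 2 = 1 ∧ ∀ s ∈ SQ, s * t = t * s := by
    refine ⟨{ carrier := {t | t ∈ SQ ∧ t ^ 2 = 1 ∧ ∀ s ∈ SQ, s * t = t * s}
              one_mem' := ⟨one_mem _, one_pow 2, fun s _ => by simp⟩
              mul_mem' := fun {x y} hx hy => ⟨mul_mem hx.1 hy.1, by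
                rw [Commute.mul_pow ((hx.2.2 y hy.1).symm), hx.2.1, hy.2.1, one_mul], fun s hs =>
                Commute.mul_right (hx.2.2 s hs) (hy.2.2 s hs)⟩
              inv_mem' := fun {x} hx => ⟨inv_mem hx.1, by rw [inv_pow, hx.2.1, inv_one], fun s hs =>
                Commute.inv_right (hx.2.2 s hs)⟩ }, fun t => Iff.rfl⟩
  obtain ⟨t0, ht0, ht01⟩ : ∃ t ∈ T0, t ≠ 1 := by
    haveI := (nontrivial_iff_ne_bot SQ).2 hSQne
    haveI := hSQp.center_nontrivial
    obtain ⟨⟨⟨z, hz⟩, hzc⟩, hz1⟩ := exists_ne (1 : center SQ)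
    have hz1' : z ≠ 1 := fun h => hz1 (Subtype.ext (Subtype.ext h))
    obtain ⟨l, hl⟩ := hSQp ⟨z, hz⟩
    replace hl : z ^ 2 ^ l = 1 := by simpa using congrArg Subtype.val hl
    obtain ⟨j, -, hj⟩ := (Nat.dvd_prime_pow Nat.prime_two).1 (orderOf_dvd_of_pow_eq_one hl)
    have hj0 : j ≠ 0 := fun h => hz1' (orderOf_eq_one_iff.1 (by rw [hj, h, pow_zero]))
    refine ⟨z ^ 2 ^ (j - 1), (hT0 _).2 ⟨pow_mem hz _, ?_, fun s hs => ?_⟩, fun h => ?_⟩
    · rw [← pow_mul, ← pow_succ, show j - 1 + 1 = j by omega, ← hj, pow_orderOf_eq_one]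
    · exact Commute.pow_right (congrArg Subtype.val (mem_center_iff.1 hzc ⟨s, hs⟩) : Commute s z) _
    · have h1 := Nat.le_of_dvd (pow_pos two_pos _) (hj ▸ orderOf_dvd_of_pow_eq_one h)
      have h2 : 2 ^ (j - 1) < 2 ^ j := Nat.pow_lt_pow_right one_lt_two (by omega)
      omega
  have hT0Cb : ∀ t ∈ T0, t ∈ Cb := fun t ht => hCb ▸ map_mono hSCe (hSQ ▸ ((hT0 t).1 ht).1)
  have ht02 : orderOf t0 = 2 := orderOf_eq_prime ((hT0 t0).1 ht0).2.1 ht01
  -- `t0` moves some `O_q ⊓ Cb`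
  obtain ⟨q, hq, hqmove⟩ : ∃ q : Nat.Primes, (q : ℕ) ≠ 2 ∧
      ∃ x ∈ Cb ⊓ Cfsg.pCore (q : ℕ) (G ⧸ R), t0 * x * t0⁻¹ ≠ x := by
    by_contra hc
    have hall' : ∀ q : Nat.Primes, Cfsg.pCore (q : ℕ) (G ⧸ R) ≤ centralizer ({t0} : Set (G ⧸ R)) := by
      intro q f hf
      haveI : Fact (q : ℕ).Prime := ⟨q.2⟩
      by_cases hq2 : (q : ℕ) = 2
      · rw [hq2, hQcore, mem_bot] at hf; rw [hf]; exact one_mem _
      obtain ⟨d, hd⟩ : ∃ d, d = t0 * f * t0⁻¹ * f⁻¹ := ⟨_, rfl⟩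
      have hdq : d ∈ Cfsg.pCore (q : ℕ) (G ⧸ R) :=
        hd ▸ mul_mem (Subgroup.Normal.conj_mem inferInstance f hf t0) (inv_mem hf)
      have hdC : d ∈ Cb := by
        rw [hd, show t0 * f * t0⁻¹ * f⁻¹ = t0 * (f * t0⁻¹ * f⁻¹) by group]
        exact mul_mem (hT0Cb t0 ht0) (Subgroup.Normal.conj_mem inferInstance _ (inv_mem (hT0Cb t0 ht0)) f)
      have hfix : t0 * d * t0⁻¹ = d := by
        by_contra h
        exact hc ⟨q, hq2, d, mem_inf.2 ⟨hdC, hdq⟩, h⟩
      obtain ⟨l, hl⟩ := Basics.pCore_isPGroup (G := G ⧸ R) (q : ℕ) ⟨d, hdq⟩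
      have h1 := eq_one_of_step (z := f) (by rw [hd]; group) hfix (k := (q : ℕ) ^ l)
        (by simpa using congrArg Subtype.val hl)
        (by rw [ht02]; exact Nat.Coprime.pow_left l ((Nat.coprime_primes q.2 Nat.prime_two).2 hq2))
      rw [hd, mul_inv_eq_one, mul_inv_eq_iff_eq_mul] at h1
      rw [mem_centralizer_singleton_iff]
      exact h1.symm
    have h1 : t0 ∈ Cfsg.fittingSubgroup (G ⧸ R) := by
      apply Basics.centralizer_fittingSubgroup_le
      rw [mem_centralizer_iff]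
      intro f hf
      have h2 : Cfsg.fittingSubgroup (G ⧸ R) ≤ centralizer ({t0} : Set (G ⧸ R)) := by
        rw [Basics.fittingSubgroup_eq_iSup_pCore]; exact iSup_le hall'
      exact mem_centralizer_singleton_iff.1 (h2 hf)
    have hF : Cfsg.fittingSubgroup (G ⧸ R) ≤ Cfsg.pPrimeCore 2 (G ⧸ R) := by
      rw [Basics.fittingSubgroup_eq_iSup_pCore]
      refine iSup_le fun q => ?_
      haveI : Fact (q : ℕ).Prime := ⟨q.2⟩
      by_cases hq2 : (q : ℕ) = 2
      · rw [hq2, hQcore]; exact bot_le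
      obtain ⟨l, hl⟩ := IsPGroup.iff_card.1 (Basics.pCore_isPGroup (G := G ⧸ R) (q : ℕ))
      exact Basics.le_pPrimeCore (hl ▸ Nat.Coprime.pow_left l ((Nat.coprime_primes q.2 Nat.prime_two).2 hq2))
    have h2 := orderOf_dvd_natCard (⟨t0, hF h1⟩ : Cfsg.pPrimeCore 2 (G ⧸ R))
    rw [Subgroup.orderOf_mk, ht02] at h2
    exact Basics.not_dvd_card_pPrimeCore 2 h2
  haveI : Fact (q : ℕ).Prime := ⟨q.2⟩
  obtain ⟨X0, hX0⟩ : ∃ X0, X0 = Cb ⊓ Cfsg.pCore (q : ℕ) (G ⧸ R) := ⟨_, rfl⟩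
  haveI : X0.Normal := hX0 ▸ inferInstance
  have hX0p : IsPGroup (q : ℕ) X0 := (Basics.pCore_isPGroup (q : ℕ)).to_le (hX0 ▸ inf_le_right)
  obtain ⟨D0, hD0char, -, hD0comm, hD0self⟩ := Invol.CriticalExists.exists_critical hX0p
  haveI := hD0char
  obtain ⟨D, hD⟩ : ∃ D, D = D0.map X0.subtype := ⟨_, rfl⟩
  haveI : D.Normal := hD ▸ inferInstance
  have hDX : D ≤ X0 := hD ▸ map_subtype_le _
  have hD0mem : ∀ c : X0, c ∈ D0 → (c : G ⧸ R) ∈ D := fun c hc => hD ▸ mem_map_of_mem _ hc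
  have hDmem0 : ∀ c, ∀ hc : c ∈ D, (⟨c, hDX hc⟩ : X0) ∈ D0 := by
    intro c hc
    obtain ⟨d, hd, hdc⟩ := mem_map.1 (hD ▸ hc)
    have h0 : (⟨c, hDX hc⟩ : X0) = d := Subtype.ext hdc.symm
    rw [h0]; exact hd
  obtain ⟨Z1, hZ1⟩ : ∃ Z1, Z1 = D ⊓ centralizer (D : Set (G ⧸ R)) := ⟨_, rfl⟩
  haveI : Z1.Normal := hZ1 ▸ inferInstance
  have hDcomm : ∀ x ∈ D, ∀ y ∈ D, ⁅x, y⁆ ∈ Z1 := by
    intro x hx y hy
    have h := hD0comm (commutator_mem_commutator (hDmem0 x hx) (mem_top (⟨y, hDX hy⟩ : X0)))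
    rw [hZ1]
    refine mem_inf.2 ⟨by simpa [commutatorElement_def] using hD0mem _ (mem_inf.1 h).1, ?_⟩
    rw [mem_centralizer_iff]
    intro c hc
    simpa [commutatorElement_def] using
      congrArg Subtype.val (mem_centralizer_iff.1 (mem_inf.1 h).2 _ (hDmem0 c hc))
  have hDmove : ∃ x ∈ D, t0 * x * t0⁻¹ ≠ x := by
    by_contra hc
    push Not at hc
    obtain ⟨x, hx, hxne⟩ := hqmove
    refine hxne (fix_of_fix_critical hX0p (C := D)
      (by rw [ht02]; exact (Nat.coprime_primes Nat.prime_two q.2).2 (Ne.symm hq))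
      (fun z hz => Subgroup.Normal.conj_mem inferInstance z hz t0)
      (fun r hr c hc => by simpa using Subgroup.Normal.conj_mem (inferInstance : D.Normal) c hc r⁻¹)
      (fun z hz hzc => ?_) hc x (hX0 ▸ hx))
    refine hD0mem ⟨z, hz⟩ (hD0self (mem_centralizer_iff.2 fun c hc => ?_))
    exact Subtype.ext (mem_centralizer_iff.1 hzc c (hD0mem c hc))
  -- choose the class-two group
  obtain ⟨X, hXn, hXD, hXmove, hXcl⟩ : ∃ X : Subgroup (G ⧸ R), X.Normal ∧ X ≤ D ∧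
      (∃ t ∈ T0, ∃ x ∈ X, t * x * t⁻¹ ≠ x) ∧
      ∀ x ∈ X, ∀ y ∈ X, (∀ t ∈ T0, t * ⁅x, y⁆ * t⁻¹ = ⁅x, y⁆) ∧ Commute ⁅x, y⁆ x ∧ Commute ⁅x, y⁆ y := by
    by_cases hfixZ : ∀ t ∈ T0, ∀ x ∈ Z1, t * x * t⁻¹ = x
    · refine ⟨D, inferInstance, le_rfl, ⟨t0, ht0, hDmove⟩, fun x hx y hy => ?_⟩
      have h := hDcomm x hx y hy
      have hc := mem_centralizer_iff.1 (mem_inf.1 (hZ1 ▸ h)).2
      exact ⟨fun t ht => hfixZ t ht _ h, (hc x hx).symm, (hc y hy).symm⟩
    · push Not at hfixZ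
      refine ⟨Z1, inferInstance, hZ1 ▸ inf_le_left, hfixZ, fun x hx y hy => ?_⟩
      have h1 : ⁅x, y⁆ = 1 := commutatorElement_eq_one_iff_mul_comm.2
        (mem_centralizer_iff.1 (mem_inf.1 (hZ1 ▸ hy)).2 x (mem_inf.1 (hZ1 ▸ hx)).1)
      rw [h1]
      exact ⟨fun t _ => by simp, Commute.one_left x, Commute.one_left y⟩
  haveI := hXn
  have hXp : IsPGroup (q : ℕ) X := hX0p.to_le (hXD.trans hDX)
  refine rank_contra (r := r) φ hV hnr hcardV hq (X := X) (T0 := T0) hXp ?_ (fun t ht => ((hT0 t).1 ht).2.1)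
    (fun t _ x hx => Subgroup.Normal.conj_mem inferInstance x hx t) hXmove hXcl
    (a := π a) (k := k) (by rw [← map_pow, hak, map_one])
    (fun x hx => Subgroup.Normal.conj_mem inferInstance x hx _) ?_ ?_
  · -- faithfulness
    intro x hx hφ
    obtain ⟨g, rfl⟩ := hπs x
    obtain ⟨l, hl⟩ := hXp ⟨π g, hx⟩
    replace hl : π g ^ (q : ℕ) ^ l = 1 := by simpa using congrArg Subtype.val hl
    obtain ⟨m, j, hm1, hm2⟩ := Components.exists_p_element_lift π hl
    have hgCe : g ∈ Ce := by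
      have h := hDX (hXD hx)
      rw [hX0, mem_inf, hCb] at h
      obtain ⟨c, hc, hcg⟩ := h.1
      have h' : c⁻¹ * g ∈ R := (hπ _).1 (by rw [map_mul, map_inv, hcg, inv_mul_cancel])
      simpa using mul_mem hc (hRCe h')
    have hodd' : Odd (orderOf (g ^ m)) :=
      ((q.2.odd_of_ne_two hq).pow).of_dvd_nat (orderOf_dvd_of_pow_eq_one hm1)
    have h1 := hfaith _ (pow_mem hgCe m) hodd' (by
      have h2 : φ (π (g ^ m)) = 1 := by rw [hm2]; exact hφ
      exact h2)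
    rw [← hm2, h1, map_one]
  · -- `a` normalizes `T0`
    intro t ht
    obtain ⟨htS, ht2, htc⟩ := (hT0 t).1 ht
    rw [hSQ] at htS
    obtain ⟨s, hs, rfl⟩ := htS
    refine (hT0 _).2 ⟨?_, by rw [conj_pow, ht2]; simp, fun s' hs' => ?_⟩
    · rw [hSQ, ← map_inv, ← map_mul, ← map_mul]
      exact mem_map_of_mem π ((haN s).1 hs)
    · rw [hSQ] at hs'
      obtain ⟨u, hu, rfl⟩ := hs'
      have hu' : a⁻¹ * u * a ∈ (S : Subgroup G) := (haN _).2 (by rw [show a * (a⁻¹ * u * a) * a⁻¹ = u by group]; exact hu)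
      have h := htc _ (hSQ ▸ mem_map_of_mem π hu')
      simp only [map_mul, map_inv] at h
      calc π u * (π a * π s * (π a)⁻¹) = π a * ((π a)⁻¹ * π u * π a * π s) * (π a)⁻¹ := by group
        _ = π a * (π s * ((π a)⁻¹ * π u * π a)) * (π a)⁻¹ := by rw [h]
        _ = π a * π s * (π a)⁻¹ * π u := by group
  · -- `a` is fixed point free on `T0`
    intro t ht hfix
    obtain ⟨htS, -, -⟩ := (hT0 t).1 ht
    rw [hSQ] at htS
    obtain ⟨s, hs, rfl⟩ := htS
    rw [← map_inv, ← map_mul, ← map_mul] at hfix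
    have hd : s⁻¹ * (a * s * a⁻¹) ∈ R := (hπ _).1 (by rw [map_mul, map_inv, hfix, inv_mul_cancel])
    -- `x ↦ x⁻¹ * x^a` is injective on `S`, so bijective on `R`
    let e : R → R := fun x => ⟨(x : G)⁻¹ * (a * x * a⁻¹),
      mul_mem (inv_mem x.2) (Subgroup.Normal.conj_mem inferInstance (x : G) x.2 a)⟩
    have hinj : ∀ x ∈ (S : Subgroup G), ∀ y ∈ (S : Subgroup G),
        x⁻¹ * (a * x * a⁻¹) = y⁻¹ * (a * y * a⁻¹) → x = y := by
      intro x hx y hy h
      have h1 : a * (y * x⁻¹) * a⁻¹ = y * x⁻¹ := by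
        calc a * (y * x⁻¹) * a⁻¹ = y * (y⁻¹ * (a * y * a⁻¹)) * (a * x * a⁻¹)⁻¹ := by group
          _ = y * (x⁻¹ * (a * x * a⁻¹)) * (a * x * a⁻¹)⁻¹ := by rw [h]
          _ = y * x⁻¹ := by group
      exact (mul_inv_eq_one.1 (hafS _ (mul_mem hy (inv_mem hx)) h1)).symm
    have hRS : R ≤ (S : Subgroup G) := hR ▸ Basics.pCore_le_sylow 2 S
    have he : Function.Injective e := fun x y hxy =>
      Subtype.ext (hinj x (hRS x.2) y (hRS y.2) (congrArg Subtype.val hxy))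
    obtain ⟨x, hx⟩ := Finite.injective_iff_surjective.1 he ⟨_, hd⟩
    have := hinj x (hRS x.2) s hs (congrArg Subtype.val hx)
    exact (hπ s).2 (this ▸ x.2)

end Cfsg.Agent.Components.InvConj
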