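import Mathlib
import Cfsg.Agent.Lib.Components.InvConjMain
import Cfsg.Agent.Lib.Coprime23.PLength

/-!
Solvable groups with one class of at least two involutions: 2-length one, and the Sylow 2-subgroup is
homocyclic or has a solvable group of automorphisms transitive on involutions.
-/

set_option autoImplicit false

universe u

namespace Cfsg.Agent.Components.InvConj

open Subgroup

/-- An abelian 2-group with all involutions conjugate under automorphisms is homocyclic. -/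
theorem homocyclic {A : Type u} [CommGroup A] [Finite A] (hA : IsPGroup 2 A)
    (htrans : ∀ x y : A, x ≠ 1 → x ^ 2 = 1 → y ≠ 1 → y ^ 2 = 1 → ∃ f : MulAut A, f x = y) :
    ∃ m r : ℕ, Nonempty (A ≃* (Fin r → Multiplicative (ZMod (2 ^ m)))) := by
  classical
  obtain ⟨ι, hι, n, hn1, ⟨e⟩⟩ := CommGroup.equiv_prod_multiplicative_zmod_of_finite A
  haveI := fun i => (⟨by have := hn1 i; omega⟩ : NeZero (n i))
  have hpow : ∀ i, ∃ k, n i = 2 ^ (k + 1) := by
    intro i
    obtain ⟨k, hk⟩ := hA (e.symm (Pi.mulSingle i (Multiplicative.ofAdd (1 : ZMod (n i)))))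
    rw [← map_pow, MulEquiv.map_eq_one_iff] at hk
    have hk' := congrFun hk i
    rw [Pi.pow_apply, Pi.mulSingle_eq_same, Pi.one_apply, ← ofAdd_nsmul, ofAdd_eq_one, nsmul_one,
      ZMod.natCast_eq_zero_iff] at hk'
    obtain ⟨j, -, hj⟩ := (Nat.dvd_prime_pow Nat.prime_two).1 hk'
    rcases j with _ | j
    · have := hn1 i; rw [hj, pow_zero] at this; omega
    · exact ⟨j, hj⟩
  choose k hk using hpow
  -- all exponents agree
  have hle : ∀ i j, k j ≤ k i := by
    intro i j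
    by_contra hlt
    push Not at hlt
    let z : ∀ l, ((l : ι) → Multiplicative (ZMod (n l))) := fun l =>
      Pi.mulSingle l (Multiplicative.ofAdd ((2 ^ k l : ℕ) : ZMod (n l)))
    have hz1 : ∀ l, z l ≠ 1 := by
      intro l h
      have h' := congrFun h l
      simp only [z] at h'
      rw [Pi.mulSingle_eq_same, Pi.one_apply, ofAdd_eq_one, ZMod.natCast_eq_zero_iff, hk l,
        pow_succ] at h'
      have := Nat.le_of_dvd (pow_pos two_pos _) h'
      have : 0 < 2 ^ k l := pow_pos two_pos _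
      omega
    have hz2 : ∀ l, z l ^ 2 = 1 := by
      intro l
      rw [← Pi.mulSingle_pow, ← ofAdd_nsmul]
      have : 2 • ((2 ^ k l : ℕ) : ZMod (n l)) = 0 := by
        rw [nsmul_eq_mul, ← Nat.cast_mul, ZMod.natCast_eq_zero_iff, hk l, pow_succ, mul_comm]
      rw [this, ofAdd_zero, Pi.mulSingle_one]
    obtain ⟨f, hf⟩ := htrans (e.symm (z j)) (e.symm (z i))
      (fun h => hz1 j (by simpa using congrArg e h)) (by rw [← map_pow, hz2, map_one])
      (fun h => hz1 i (by simpa using congrArg e h)) (by rw [← map_pow, hz2, map_one])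
    -- `z j` is a `2 ^ k j`-th power, `z i` is not
    let w := Pi.mulSingle (M := fun l => Multiplicative (ZMod (n l))) j (Multiplicative.ofAdd (1 : ZMod (n j)))
    have hw : z j = w ^ 2 ^ k j := by
      show Pi.mulSingle j _ = _
      rw [← Pi.mulSingle_pow, ← ofAdd_nsmul, nsmul_one]
    rw [hw, map_pow, map_pow] at hf
    have h1 := congrArg e hf
    rw [map_pow, MulEquiv.apply_symm_apply] at h1
    have h2 := congrFun h1 i
    rw [Pi.pow_apply] at h2
    obtain ⟨c, hc⟩ : ∃ c, 2 ^ k j = n i * c := by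
      rw [hk i]; exact pow_dvd_pow 2 hlt
    have h3 : ∀ x : Multiplicative (ZMod (n i)), x ^ 2 ^ k j = 1 := by
      intro x
      rw [hc, pow_mul]
      have hx : x ^ n i = 1 := by
        rw [← ofAdd_toAdd x, ← ofAdd_nsmul, nsmul_eq_mul, ZMod.natCast_self, zero_mul, ofAdd_zero]
      rw [hx, one_pow]
    rw [h3] at h2
    apply hz1 i
    funext l
    by_cases hl : l = i
    · subst hl; exact h2.symm
    · simp [z, Pi.mulSingle_eq_of_ne hl]
  rcases isEmpty_or_nonempty ι with hι0 | ⟨⟨i0⟩⟩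
  · exact ⟨0, 0, ⟨e.trans
      { toFun := fun _ i => i.elim0
        invFun := fun _ i => isEmptyElim i
        left_inv := fun _ => funext fun i => isEmptyElim i
        right_inv := fun _ => funext fun i => i.elim0
        map_mul' := fun _ _ => funext fun i => i.elim0 }⟩⟩
  · have hn : ∀ i, n i = 2 ^ (k i0 + 1) := fun i => by
      rw [hk i, le_antisymm (hle i0 i) (hle i i0)]
    obtain ⟨σ⟩ : Nonempty (Fin (Fintype.card ι) ≃ ι) := ⟨(Fintype.equivFin ι).symm⟩
    refine ⟨k i0 + 1, Fintype.card ι, ⟨e.trans ?_⟩⟩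
    exact (MulEquiv.piCongrRight fun i => AddEquiv.toMultiplicative (ZMod.ringEquivCongr (hn i)).toAddEquiv).trans
      { toFun := fun x i => x (σ i)
        invFun := fun y i => y (σ.symm i)
        left_inv := fun x => funext fun i => congrArg x (σ.apply_symm_apply i)
        right_inv := fun y => funext fun i => congrArg y (σ.symm_apply_apply i)
        map_mul' := fun _ _ => rfl }

theorem main {G : Type u} [Group G] [Finite G] (hG : Group.IsSolvable G) (S : Sylow 2 G)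
    (htwo : ∃ x y : G, x ∈ (S : Subgroup G) ∧ y ∈ (S : Subgroup G) ∧ x ≠ y ∧ x ≠ 1 ∧ x ^ 2 = 1 ∧ y ≠ 1 ∧
      y ^ 2 = 1)
    (hconj : ∀ x y : G, x ≠ 1 → x ^ 2 = 1 → y ≠ 1 → y ^ 2 = 1 → IsConj x y) :
    Cfsg.PLengthLE 2 1 G ∧ ((∃ m r : ℕ, Nonempty (↥(S : Subgroup G) ≃* (Fin r → Multiplicative (ZMod (2 ^ m))))) ∨
      (¬ IsMulCommutative (S : Subgroup G) ∧ ∃ Y : Subgroup (MulAut ↥(S : Subgroup G)), Group.IsSolvable Y ∧
        ∀ x y : ↥(S : Subgroup G), x ≠ 1 → x ^ 2 = 1 → y ≠ 1 → y ^ 2 = 1 → ∃ a ∈ Y, a x = y)) := by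
  haveI := hG
  obtain ⟨O, hO⟩ : ∃ O, O = Cfsg.pPrimeCore 2 G := ⟨_, rfl⟩
  haveI : O.Normal := hO ▸ inferInstance
  have hOodd : ¬ 2 ∣ Nat.card O := hO ▸ Basics.not_dvd_card_pPrimeCore 2
  let π : G →* G ⧸ O := QuotientGroup.mk' O
  have hπ : ∀ x, π x = 1 ↔ x ∈ O := QuotientGroup.eq_one_iff
  have hπs : Function.Surjective π := QuotientGroup.mk'_surjective O
  haveI : Group.IsSolvable (G ⧸ O) := Group.isSolvable_of_surjective hπs
  have hinjS : ∀ x ∈ (S : Subgroup G), π x = 1 → x = 1 := by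
    intro x hx h
    obtain ⟨l, hl⟩ := S.isPGroup' ⟨x, hx⟩
    replace hl : x ^ 2 ^ l = 1 := by simpa using congrArg Subtype.val hl
    have h1 := orderOf_dvd_natCard (⟨x, (hπ x).1 h⟩ : O)
    rw [Subgroup.orderOf_mk] at h1
    exact orderOf_eq_one_iff.1 (Nat.dvd_one.1
      ((Nat.Coprime.pow_left l ((Nat.prime_two.coprime_iff_not_dvd).2 hOodd)) ▸
        Nat.dvd_gcd (orderOf_dvd_of_pow_eq_one hl) h1))
  have hlift : ∀ z : G ⧸ O, z ≠ 1 → z ^ 2 = 1 → ∃ x : G, x ≠ 1 ∧ x ^ 2 = 1 ∧ π x = z := by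
    intro z hz hz2
    obtain ⟨x, rfl⟩ := hπs z
    rw [← map_pow, hπ] at hz2
    obtain ⟨c, hc⟩ : Odd (Nat.card O) := Nat.odd_iff.2 (Nat.two_dvd_ne_zero.1 hOodd)
    refine ⟨x ^ Nat.card O, fun h => ?_, ?_, ?_⟩
    · apply hz
      have h' := congrArg π h
      rw [map_one, map_pow, hc, pow_succ, pow_mul, ← map_pow π x 2, (hπ _).2 hz2, one_pow, one_mul] at h'
      exact h'
    · rw [← pow_mul, mul_comm, pow_mul]
      exact congrArg Subtype.val (pow_card_eq_one' (x := (⟨x ^ 2, hz2⟩ : O)))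
    · rw [map_pow, hc, pow_succ, pow_mul, ← map_pow π x 2, (hπ _).2 hz2, one_pow, one_mul]
  have hconjQ : ∀ x y : G ⧸ O, x ≠ 1 → x ^ 2 = 1 → y ≠ 1 → y ^ 2 = 1 → IsConj x y := by
    intro x y hx hx2 hy hy2
    obtain ⟨a, ha, ha2, rfl⟩ := hlift x hx hx2
    obtain ⟨b, hb, hb2, rfl⟩ := hlift y hy hy2
    exact π.map_isConj (hconj a b ha ha2 hb hb2)
  have hOQ : Cfsg.pPrimeCore 2 (G ⧸ O) = ⊥ := by subst hO; exact Basics.pPrimeCore_quotient_eq_bot 2
  have htwoQ : ∃ x y : G ⧸ O, x ≠ y ∧ x ≠ 1 ∧ x ^ 2 = 1 ∧ y ≠ 1 ∧ y ^ 2 = 1 := by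
    obtain ⟨x, y, hx, hy, hxy, hx1, hx2, hy1, hy2⟩ := htwo
    refine ⟨π x, π y, fun h => hxy ?_, fun h => hx1 (hinjS x hx h), by rw [← map_pow, hx2, map_one],
      fun h => hy1 (hinjS y hy h), by rw [← map_pow, hy2, map_one]⟩
    exact inv_mul_eq_one.1 (hinjS _ (mul_mem (inv_mem hx) hy) (by rw [map_mul, map_inv, h, inv_mul_cancel]))
  obtain ⟨E, hEn, -, hEmem, hEle⟩ := exists_involution_group inferInstance hOQ htwoQ hconjQ
  let T : Sylow 2 (G ⧸ O) := S.mapSurjective hπs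
  have hT : (T : Subgroup (G ⧸ O)) = Cfsg.pCore 2 (G ⧸ O) :=
    le_antisymm (sylow_le_pCore inferInstance hOQ htwoQ hconjQ T) (Basics.pCore_le_sylow 2 T)
  have hTS : (S : Subgroup G).map π = Cfsg.pCore 2 (G ⧸ O) := by rw [← hT]; rfl
  refine ⟨?_, ?_⟩
  · obtain ⟨B, hB⟩ : ∃ B, B = (Cfsg.pCore 2 (G ⧸ O)).comap π := ⟨_, rfl⟩
    haveI : B.Normal := hB ▸ Normal.comap inferInstance π
    refine Coprime23.pLengthLE_one_of_series O B ((Nat.prime_two.coprime_iff_not_dvd).2 hOodd).symm ?_ ?_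
    · obtain ⟨k, hk⟩ := IsPGroup.iff_card.1 (Basics.pCore_isPGroup (G := G ⧸ O) 2)
      refine ⟨k, ?_⟩
      have h1 : π.ker.relIndex B = Nat.card (Cfsg.pCore 2 (G ⧸ O)) := by
        rw [Subgroup.relIndex_ker, hB, map_comap_eq_self_of_surjective hπs]
      rwa [QuotientGroup.ker_mk', hk] at h1
    · rw [hB, index_comap_of_surjective _ hπs, ← hT]
      exact ((Nat.prime_two.coprime_iff_not_dvd).2 T.not_dvd_index).symm
  -- the action of `G` on `S`
  let g : (S : Subgroup G) →* Cfsg.pCore 2 (G ⧸ O) :=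
    (π.comp (S : Subgroup G).subtype).codRestrict _ fun s => hTS ▸ mem_map_of_mem π s.2
  have hg : Function.Bijective g := by
    constructor
    · rw [injective_iff_map_eq_one]
      exact fun s hs => Subtype.ext (hinjS s s.2 (congrArg Subtype.val hs))
    · rintro ⟨z, hz⟩
      obtain ⟨s, hs, rfl⟩ := mem_map.1 (hTS.symm ▸ hz)
      exact ⟨⟨s, hs⟩, rfl⟩
  let e : (S : Subgroup G) ≃* Cfsg.pCore 2 (G ⧸ O) := MulEquiv.ofBijective g hg
  let act : (G ⧸ O) →* MulAut (S : Subgroup G) :=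
    { toFun := fun q => (e.trans (MulAut.conjNormal q)).trans e.symm
      map_one' := MulEquiv.ext fun x => by simp
      map_mul' := fun a b => MulEquiv.ext fun x => by simp }
  have htrans : ∀ x y : (S : Subgroup G), x ≠ 1 → x ^ 2 = 1 → y ≠ 1 → y ^ 2 = 1 → ∃ q, act q x = y := by
    intro x y hx hx2 hy hy2
    have h : ∀ z : (S : Subgroup G), z ≠ 1 → z ^ 2 = 1 →
        ((e z : G ⧸ O)) ≠ 1 ∧ (e z : G ⧸ O) ^ 2 = 1 := fun z hz hz2 =>
      ⟨fun h => hz (e.injective ((Subtype.ext h : e z = 1).trans (map_one e).symm)),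
        by rw [← SubgroupClass.coe_pow, ← map_pow, hz2, map_one, OneMemClass.coe_one]⟩
    obtain ⟨q, hq⟩ := isConj_iff.1 (hconjQ _ _ (h x hx hx2).1 (h x hx hx2).2 (h y hy hy2).1 (h y hy hy2).2)
    refine ⟨q, e.injective ?_⟩
    show e (e.symm (MulAut.conjNormal q (e x))) = e y
    rw [MulEquiv.apply_symm_apply]
    exact Subtype.ext hq
  by_cases hcomm : IsMulCommutative (S : Subgroup G)
  · left
    letI : CommGroup (S : Subgroup G) :=
      { (inferInstance : Group (S : Subgroup G)) with mul_comm := fun a b => mul_comm' a b }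
    refine homocyclic S.isPGroup' fun x y hx hx2 hy hy2 => ?_
    obtain ⟨q, hq⟩ := htrans x y hx hx2 hy hy2
    exact ⟨act q, hq⟩
  · right
    refine ⟨hcomm, act.range, Group.isSolvable_of_surjective act.rangeRestrict_surjective, fun x y hx hx2 hy hy2 => ?_⟩
    obtain ⟨q, hq⟩ := htrans x y hx hx2 hy hy2
    exact ⟨act q, ⟨q, rfl⟩, hq⟩

end Cfsg.Agent.Components.InvConj
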