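import Cfsg.Agent.Lib.LocalEvenA.PMin
import Cfsg.Agent.Lib.LocalEvenA.Core
import Cfsg.Agent.Lib.OddLocal.PAction
import Cfsg.Agent.Lib.Basics.Solvability
import Cfsg.Agent.Lib.Components.FStar2
import Cfsg.Agent.Lib.Components.BaumannBlock
import Cfsg.Agent.Lib.Components.CompAction

/-! An isolated `p`-minimal subgroup: the structure of the normal closure of its `p`-residual,
first in a group with trivial `p`-core. -/

set_option autoImplicit false
set_option linter.style.haveILetI false
set_option linter.unusedSectionVars false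

namespace Cfsg.Agent.Isolated

open scoped commutatorElement
open Subgroup Cfsg
open Cfsg.Agent.LocalEvenA (subnormal_le_pCore)

variable {G : Type*} [Group G] {p : ℕ}

/-- An element of order prime to `p` of `M ⊔ X`, `X` a `p`-group normalizing `M`, lies in `M`. -/
theorem mem_of_coprime_sup {M X : Subgroup G} (hn : X ≤ normalizer (M : Set G)) (hX : IsPGroup p X)
    {g : G} (hg : g ∈ M ⊔ X) (ho : (orderOf g).Coprime p) : g ∈ M := by
  rw [← SetLike.mem_coe, Subgroup.coe_mul_of_right_le_normalizer_left M X hn] at hg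
  obtain ⟨m, hm, h, hh, heq⟩ := hg
  have key : ∀ n : ℕ, (m * h) ^ n * (h ^ n)⁻¹ ∈ M := by
    intro n
    induction n with
    | zero => simp
    | succ n ih =>
      have h1 : h ^ n * m * (h ^ n)⁻¹ ∈ M :=
        (Subgroup.mem_normalizer_iff.1 ((normalizer (M : Set G)).pow_mem (hn hh) n) m).1 hm
      have e : (m * h) ^ (n + 1) * (h ^ (n + 1))⁻¹ =
          ((m * h) ^ n * (h ^ n)⁻¹) * (h ^ n * m * (h ^ n)⁻¹) := by
        rw [pow_succ, pow_succ]; group
      rw [e]
      exact M.mul_mem ih h1
  obtain ⟨k, hk⟩ := hX ⟨h, hh⟩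
  have hk' : h ^ p ^ k = 1 := congrArg Subtype.val hk
  have hp : g ^ p ^ k ∈ M := by
    have := key (p ^ k)
    rw [hk', inv_one, mul_one] at this
    rwa [← heq]
  obtain ⟨j, hj⟩ := exists_pow_eq_self_of_coprime (ho.symm.pow_left k)
  rw [← hj]
  exact M.pow_mem hp j

/-- `O^p(X) ≤ M` as soon as `X ≤ M ⊔ A` with `A` a `p`-group normalizing `M`. -/
theorem pResidualOf_le_of_le_sup {M A X : Subgroup G} (hn : A ≤ normalizer (M : Set G))
    (hA : IsPGroup p A) (h : pResidualOf p X ≤ M ⊔ A) : pResidualOf p X ≤ M := by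
  rw [BBlock.pResidualOf_eq_closure] at h ⊢
  rw [closure_le]
  intro g hg
  exact mem_of_coprime_sup hn hA (h (subset_closure hg)) hg.2

/-- The data of an isolated `p`-minimal subgroup `Q ⊔ S` in a group with trivial `p`-core;
`L` is generated by the other `p`-minimal overgroups of `S` and `Z` is a `p`-subgroup normal in
`L` but not in `Q ⊔ S`. -/
structure Data [Finite G] [Fact p.Prime] (S : Sylow p G) (Q L Z : Subgroup G) : Prop where
  core : pCore p G = ⊥
  sL : (S : Subgroup G) ≤ L
  zS : Z ≤ (S : Subgroup G)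
  lZ : L ≤ normalizer (Z : Set G)
  sQ : (S : Subgroup G) ≤ normalizer (Q : Set G)
  qres : pResidualOf p Q = Q
  small : ∀ H : Subgroup G, (S : Subgroup G) ≤ H → ¬ Q ≤ H → H ≤ L
  gen : ∀ H : Subgroup G, (S : Subgroup G) ≤ H → Q ≤ H → H ≤ (L ⊓ H) ⊔ (Q ⊔ (S : Subgroup G))
  qZ : ¬ Q ≤ normalizer (Z : Set G)
  uniq : ∀ A B : Subgroup G, (S : Subgroup G) ≤ A → (S : Subgroup G) ≤ B →
    A ≤ Q ⊔ (S : Subgroup G) → B ≤ Q ⊔ (S : Subgroup G) → Q ≤ A ⊔ B → Q ≤ A ∨ Q ≤ B

namespace Data

variable [Finite G] [Fact p.Prime] {S : Sylow p G} {Q L Z : Subgroup G}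

theorem le_of_le_sup (D : Data S Q L Z) {M : Subgroup G}
    (hn : (S : Subgroup G) ≤ normalizer (M : Set G)) (h : Q ≤ M ⊔ (S : Subgroup G)) : Q ≤ M := by
  have := pResidualOf_le_of_le_sup hn S.2 (X := Q) (by rw [D.qres]; exact h)
  rwa [D.qres] at this

theorem not_le_L (D : Data S Q L Z) : ¬ Q ≤ L := fun h => D.qZ (h.trans D.lZ)

/-- A subgroup normalized by `S` either contains `Q` or lies in `L`. -/
theorem dichotomy (D : Data S Q L Z) {M : Subgroup G}
    (hn : (S : Subgroup G) ≤ normalizer (M : Set G)) : Q ≤ M ∨ M ≤ L := by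
  by_cases h : Q ≤ M ⊔ (S : Subgroup G)
  · exact .inl (D.le_of_le_sup hn h)
  · exact .inr (le_sup_left.trans (D.small _ le_sup_right h))

theorem normal_dichotomy (D : Data S Q L Z) {N : Subgroup G} (hN : N.Normal) :
    normalClosure (Q : Set G) ≤ N ∨ N ≤ L.normalCore := by
  haveI := hN
  rcases D.dichotomy (M := N) (by rw [normalizer_eq_top_iff.2 hN]; exact le_top) with h | h
  · exact .inl (normalClosure_le_normal h)
  · exact .inr (normal_le_normalCore.2 h)

theorem sup_L_eq_top (D : Data S Q L Z) : normalClosure (Q : Set G) ⊔ L = ⊤ := by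
  refine top_le_iff.1 ((D.gen ⊤ le_top le_top).trans (sup_le ?_ (sup_le ?_ ?_)))
  · exact inf_le_left.trans le_sup_right
  · exact le_normalClosure.trans le_sup_left
  · exact D.sL.trans le_sup_right

theorem normalClosure_not_le (D : Data S Q L Z) :
    ¬ normalClosure (Q : Set G) ≤ L.normalCore :=
  fun h => D.not_le_L ((le_normalClosure.trans h).trans (normalCore_le L))

/-- A subnormal subgroup of `G` lying in `L` and normalized by `Z` is centralized by `Z`. -/
theorem commutator_eq_bot_of_le (D : Data S Q L Z) {M : Subgroup G} (hM : M.IsSubnormal)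
    (hML : M ≤ L) (hZM : Z ≤ normalizer (M : Set G)) : ⁅M, Z⁆ = ⊥ := by
  have hle : ⁅M, Z⁆ ≤ M ⊓ Z := by
    rw [commutator_le]
    intro m hm z hz
    refine ⟨?_, ?_⟩
    · rw [commutatorElement_def, mul_assoc, mul_assoc, ← mul_assoc z]
      exact M.mul_mem hm (BBlock.nconj (hZM hz) (M.inv_mem hm))
    · rw [commutatorElement_def]
      exact Z.mul_mem (BBlock.nconj (D.lZ (hML hm)) hz) (Z.inv_mem hz)
  have hsn : (M ⊓ Z).IsSubnormal := by
    refine Components.isSubnormal_of_normal_in inf_le_left hM fun m hm => ?_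
    exact BBlock.normalizes_inf (le_normalizer hm) (D.lZ (hML hm))
  have := subnormal_le_pCore hsn (S.2.to_le (inf_le_right.trans D.zS))
  rw [D.core] at this
  exact le_bot_iff.1 (hle.trans this)

/-- `Y = ⟨Q^G⟩` centralizes the largest normal subgroup of `G` inside `L`. -/
theorem commutator_normalCore (D : Data S Q L Z) :
    ⁅normalClosure (Q : Set G), L.normalCore⁆ = ⊥ := by
  have h1 : ⁅L.normalCore, Z⁆ = ⊥ := D.commutator_eq_bot_of_le (Components.isSubnormal_of_normal _)
    (normalCore_le L) (by rw [normalizer_eq_top_iff.2 inferInstance]; exact le_top)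
  set R := normalClosure (Z : Set G) with hR
  have hRC : R ≤ centralizer (L.normalCore : Set G) := by
    refine normalClosure_le_normal ?_
    intro z hz
    exact commutator_eq_bot_iff_le_centralizer.1 (Components.commutator_eq_bot_symm h1) hz
  rcases D.normal_dichotomy (N := R) inferInstance with h | h
  · exact commutator_eq_bot_iff_le_centralizer.2 (h.trans hRC)
  · exfalso
    have hZc : Z ≤ L.normalCore := le_normalClosure.trans h
    have hle : Z ≤ centralizer (Z : Set G) :=
      (le_normalClosure.trans hRC).trans (centralizer_le (SetLike.coe_subset_coe.2 hZc))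
    have hsn : Z.IsSubnormal := Components.isSubnormal_of_normal_in hZc
      (Components.isSubnormal_of_normal _)
      ((normalCore_le L).trans D.lZ)
    have hb : Z = ⊥ := le_bot_iff.1 (D.core ▸ subnormal_le_pCore hsn (S.2.to_le D.zS))
    refine D.qZ ?_
    rw [hb, normalizer_eq_top_iff.2 inferInstance]
    exact le_top

theorem le_center (D : Data S Q L Z) {N : Subgroup G} (hN : N.Normal)
    (_hNY : N ≤ normalClosure (Q : Set G)) (hne : ¬ normalClosure (Q : Set G) ≤ N) :
    ⁅N, normalClosure (Q : Set G)⁆ = ⊥ := by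
  rcases D.normal_dichotomy hN with h | h
  · exact absurd h hne
  · refine le_bot_iff.1 ?_
    rw [Subgroup.commutator_comm N, ← D.commutator_normalCore]
    exact commutator_mono le_rfl h

theorem not_centralizes (D : Data S Q L Z) {M : Subgroup G} (hQ : Q ≤ M) : ⁅M, Z⁆ ≠ ⊥ := by
  intro h
  exact D.qZ (hQ.trans ((commutator_eq_bot_iff_le_centralizer.1 h).trans
    (centralizer_le_normalizer _)))

/-! ### The coprime case -/

theorem coprime_of_mem {Y : Subgroup G} (hY : ¬ p ∣ Nat.card Y) {y : G} (hy : y ∈ Y) :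
    (orderOf y).Coprime p := by
  refine ((Fact.out : p.Prime).coprime_iff_not_dvd.2 fun h => hY (h.trans ?_)).symm
  have := orderOf_dvd_natCard (⟨y, hy⟩ : Y)
  rwa [← Subgroup.orderOf_coe] at this

theorem inf_eq_bot_of_coprime {Y : Subgroup G} (hY : ¬ p ∣ Nat.card Y) {A : Subgroup G}
    (hA : IsPGroup p A) : Y ⊓ A = ⊥ := by
  refine eq_bot_iff.2 fun x hx => ?_
  obtain ⟨k, hk⟩ := hA ⟨x, hx.2⟩
  exact mem_bot.2 (LocalEvenA.eq_one_of_pPow_of_coprime (congrArg Subtype.val hk)
    (coprime_of_mem hY hx.1))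

/-- In the coprime case a subgroup of `Y` inside `L` is centralized by `Z`. -/
theorem commutator_inf_L (D : Data S Q L Z) (hY : ¬ p ∣ Nat.card (normalClosure (Q : Set G)))
    {M : Subgroup G} (hMY : M ≤ normalClosure (Q : Set G)) (hML : M ≤ L) : ⁅M, Z⁆ = ⊥ := by
  refine le_bot_iff.1 ?_
  rw [← inf_eq_bot_of_coprime hY (S.2.to_le D.zS), commutator_le]
  intro m hm z hz
  refine ⟨?_, ?_⟩
  · rw [commutatorElement_def, mul_assoc, mul_assoc, ← mul_assoc z]
    exact mul_mem (hMY hm) (normalClosure_normal.conj_mem _ (inv_mem (hMY hm)) z)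
  · rw [commutatorElement_def]
    exact Z.mul_mem (BBlock.nconj (D.lZ (hML hm)) hz) (Z.inv_mem hz)

theorem invariant_sylow (D : Data S Q L Z) {K : Subgroup G}
    (hK : (S : Subgroup G) ≤ normalizer (K : Set G)) (hcop : ¬ p ∣ Nat.card K) (r : ℕ)
    [Fact r.Prime] :
    ∃ T : Subgroup G, T ≤ K ∧ IsPGroup r T ∧ (S : Subgroup G) ≤ normalizer (T : Set G) ∧
      ¬ r ∣ T.relIndex K := by
  obtain ⟨T, -, h1, h2, h3, h4⟩ := OddLocal.exists_invariant_sylow_ge (q := r) S.2 hK hcop bot_le
    IsPGroup.of_bot (by rw [normalizer_eq_top_iff.2 inferInstance]; exact le_top)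
  exact ⟨T, h1, h2, h3, h4⟩

theorem Q_ne_bot (D : Data S Q L Z) : Q ≠ ⊥ := fun h => D.qZ (h ▸ bot_le)

theorem Q_prime_power (D : Data S Q L Z) (hY : ¬ p ∣ Nat.card (normalClosure (Q : Set G))) :
    ∃ t : ℕ, t.Prime ∧ t ≠ p ∧ IsPGroup t Q := by
  have hQ : ¬ p ∣ Nat.card Q := OddLocal.not_dvd_card_of_le le_normalClosure hY
  by_contra hcon
  push Not at hcon
  obtain ⟨M, ⟨hSM, hMP, hQM⟩, hmax⟩ := Set.Finite.exists_maximal
    (Set.toFinite {A : Subgroup G | (S : Subgroup G) ≤ A ∧ A ≤ Q ⊔ (S : Subgroup G) ∧ ¬ Q ≤ A})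
    ⟨(S : Subgroup G), le_rfl, le_sup_right, fun h => D.Q_ne_bot (by
      rw [← inf_eq_bot_of_coprime hQ S.2, inf_eq_left.2 h])⟩
  apply hQM
  have hidx : (M ⊓ Q).relIndex Q = 1 := by
    rw [Nat.eq_one_iff_not_exists_prime_dvd]
    intro r hr hdvd
    haveI := Fact.mk hr
    obtain ⟨T, hTQ, hTr, hTS, hTi⟩ := D.invariant_sylow D.sQ hQ r
    have hTM : T ≤ M := by
      have hQT : ¬ Q ≤ T ⊔ (S : Subgroup G) := by
        intro h
        have hle := D.le_of_le_sup hTS h
        have hQr : IsPGroup r Q := hTr.to_le hle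
        refine hcon r hr ?_ hQr
        rintro rfl
        refine D.Q_ne_bot ?_
        rw [← inf_eq_bot_of_coprime hQ hQr, inf_idem]
      have hA : M ⊔ (T ⊔ (S : Subgroup G)) ≤ Q ⊔ (S : Subgroup G) :=
        sup_le hMP (sup_le (hTQ.trans le_sup_left) le_sup_right)
      by_contra hne
      have hnot : ¬ Q ≤ M ⊔ (T ⊔ (S : Subgroup G)) := fun h =>
        (D.uniq M _ hSM le_sup_right hMP (le_sup_right.trans hA) h).elim hQM hQT
      exact hne ((le_sup_left.trans le_sup_right).trans
        (hmax (y := M ⊔ (T ⊔ (S : Subgroup G))) ⟨hSM.trans le_sup_left, hA, hnot⟩ le_sup_left))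
    exact hTi (hdvd.trans (relIndex_dvd_of_le_left _ (le_inf hTM hTQ)))
  exact (Subgroup.relIndex_eq_one.1 hidx).trans inf_le_left

theorem coprime_case (D : Data S Q L Z) (hY : ¬ p ∣ Nat.card (normalClosure (Q : Set G))) :
    ∃ t : ℕ, t.Prime ∧ t ≠ p ∧ IsPGroup t (normalClosure (Q : Set G)) ∧
      Q = normalClosure (Q : Set G) ∧
      (normalClosure (Q : Set G)).lowerCentralSeries 2 = ⊥ := by
  obtain ⟨t, ht, htp, hQt⟩ := D.Q_prime_power hY
  haveI := Fact.mk ht
  set Y := normalClosure (Q : Set G) with hYdef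
  have hQY : Q ≤ Y := le_normalClosure
  have hSY : (S : Subgroup G) ≤ normalizer (Y : Set G) := by
    rw [normalizer_eq_top_iff.2 inferInstance]; exact le_top
  have hZS' : (S : Subgroup G) ≤ normalizer (Z : Set G) := D.sL.trans D.lZ
  set C := Y ⊓ centralizer (Z : Set G) with hC
  have hLC : Y ⊓ L ≤ C :=
    le_inf inf_le_left (commutator_eq_bot_iff_le_centralizer.1
      (D.commutator_inf_L hY inf_le_left inf_le_right))
  obtain ⟨T, hQT, hTY, hTt, hTS, hTi⟩ := OddLocal.exists_invariant_sylow_ge (q := t) S.2 hSY hY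
    hQY hQt D.sQ
  have hcop : (C.relIndex Y).Coprime (T.relIndex Y) := by
    refine Nat.coprime_of_dvd fun r hr h1 h2 => ?_
    haveI := Fact.mk hr
    rcases eq_or_ne r t with rfl | hrt
    · exact hTi h2
    obtain ⟨Tr, hrY, hrr, hrS, hri⟩ := D.invariant_sylow hSY hY r
    have hTrL : Tr ≤ L := by
      rcases D.dichotomy hrS with h | h
      · refine absurd ?_ D.Q_ne_bot
        exact le_bot_iff.1 ((le_inf le_rfl h).trans
          (IsPGroup.disjoint_of_ne t r hrt.symm _ _ hQt hrr).le_bot)
      · exact h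
    exact hri (h1.trans (relIndex_dvd_of_le_left _ ((le_inf hrY hTrL).trans hLC)))
  have hZN : Z ≤ (normalizer (T : Set G)).normalCore := by
    intro z hz g
    have hgtop : g⁻¹ ∈ Y ⊔ normalizer (T : Set G) := by
      let T' : Sylow t Y :=
        (hTt.comap_subtype (K := Y)).toSylow (by rw [comap_subtype]; exact hTi)
      have := Sylow.normalizer_sup_eq_top T'
      have e : (T' : Subgroup Y).map Y.subtype = T := by
        show (T.comap Y.subtype).map Y.subtype = T
        rw [Subgroup.map_comap_eq, range_subtype, inf_eq_right.2 hTY]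
      rw [e, sup_comm] at this
      rw [this]; trivial
    rw [mem_sup_of_normal_left] at hgtop
    obtain ⟨y, hy, n, hn, hg⟩ := hgtop
    obtain ⟨c, hc, x, hx, hcx⟩ := Basics.exists_mul_of_coprime_index
      (H := C.subgroupOf Y) (K := T.subgroupOf Y) hcop ⟨y, hy⟩
    have hyx : y = (c : G) * x := congrArg Subtype.val hcx
    have hcz : (c : G) ∈ centralizer (Z : Set G) := (mem_subgroupOf.1 hc).2
    have e : g * z * g⁻¹ = (n⁻¹ * (x : G)⁻¹) * z * (n⁻¹ * (x : G)⁻¹)⁻¹ := by
      have hg' : g = n⁻¹ * (x : G)⁻¹ * (c : G)⁻¹ := by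
        rw [← inv_inv g, ← hg, hyx]; group
      have hcomm : (c : G)⁻¹ * z * c = z := by
        rw [mul_assoc, (mem_centralizer_iff.1 hcz z hz)]; group
      calc g * z * g⁻¹ = n⁻¹ * (x : G)⁻¹ * ((c : G)⁻¹ * z * c) * (n⁻¹ * (x : G)⁻¹)⁻¹ := by
            rw [hg']; group
        _ = _ := by rw [hcomm]
    rw [e]
    have hm : n⁻¹ * (x : G)⁻¹ ∈ normalizer (T : Set G) :=
      mul_mem (inv_mem hn) (inv_mem (le_normalizer (mem_subgroupOf.1 hx)))
    exact mul_mem (mul_mem hm (hTS (D.zS hz))) (inv_mem hm)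
  have hYN : Y ≤ normalizer (T : Set G) := by
    set R := normalClosure (Z : Set G)
    rcases D.normal_dichotomy (N := R) inferInstance with h | h
    · exact h.trans ((normalClosure_le_normal hZN).trans (normalCore_le _))
    · exfalso
      have hZc : Z ≤ L.normalCore := le_normalClosure.trans h
      have h2 : ⁅Q, Z⁆ = ⊥ := le_bot_iff.1 (D.commutator_normalCore ▸
        commutator_mono hQY hZc)
      exact D.not_centralizes le_rfl h2
  have hTn : T.Normal := by
    haveI : (T.subgroupOf Y).Normal := normal_subgroupOf_of_le_normalizer hYN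
    let T' : Sylow t Y :=
      (hTt.comap_subtype (K := Y)).toSylow (by rw [comap_subtype]; exact hTi)
    haveI : (T' : Subgroup Y).Characteristic := T'.characteristic_of_normal
      (show (T.comap Y.subtype).Normal from ‹(T.subgroupOf Y).Normal›)
    have e : (T' : Subgroup Y).map Y.subtype = T := by
      show (T.comap Y.subtype).map Y.subtype = T
      rw [Subgroup.map_comap_eq, range_subtype, inf_eq_right.2 hTY]
    rw [← e]; infer_instance
  have hYT : Y = T := le_antisymm (normalClosure_le_normal hQT) hTY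
  have hYt : IsPGroup t Y := hYT ▸ hTt
  have hDY : (Y ⊓ L) ⊔ Q = Y := by
    refine le_antisymm (sup_le inf_le_left hQY) ?_
    intro y hy
    refine mem_of_coprime_sup (X := (S : Subgroup G)) ?_ S.2 ?_ (coprime_of_mem hY hy)
    · intro s hs
      refine mem_normalizer_iff_map_conj_eq.2 ?_
      rw [Subgroup.map_sup, mem_normalizer_iff_map_conj_eq.1 (D.sQ hs),
        mem_normalizer_iff_map_conj_eq.1 (BBlock.normalizes_inf (hSY hs) (le_normalizer (D.sL hs)))]
    · refine ((D.gen (Y ⊔ (S : Subgroup G)) le_sup_right (hQY.trans le_sup_left)).trans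
        (sup_le ?_ ?_)) (mem_sup_left hy)
      · rintro g ⟨hgL, hgYS⟩
        replace hgYS : g ∈ Y ⊔ (S : Subgroup G) := hgYS
        rw [mem_sup_of_normal_left] at hgYS
        obtain ⟨a, ha, s, hs, rfl⟩ := hgYS
        exact mul_mem (mem_sup_left (mem_sup_left ⟨ha, by
          simpa using L.mul_mem hgL (inv_mem (D.sL hs))⟩)) (mem_sup_right hs)
      · exact sup_le (le_sup_right.trans le_sup_left) le_sup_right
  -- the derived subgroup of `Y` is central in `Y`
  set W := ⁅Y, Z⁆ with hW
  have hLY : L ≤ normalizer (Y : Set G) := by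
    rw [normalizer_eq_top_iff.2 inferInstance]; exact le_top
  have hWn : W.Normal := by
    rw [← normalizer_eq_top_iff, ← top_le_iff, ← D.sup_L_eq_top]
    exact sup_le (BBlock.le_normalizer_commutator_left _ _)
      (fun g hg => BBlock.normalizes_commutator (hLY hg) (D.lZ hg))
  have hWY : W ≤ Y := by
    rw [hW, commutator_le]
    intro y hy z _
    rw [commutatorElement_def, mul_assoc, mul_assoc, ← mul_assoc z]
    exact mul_mem hy (normalClosure_normal.conj_mem _ (inv_mem hy) z)
  have hYW : Y ≤ W := by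
    rcases D.normal_dichotomy hWn with h | h
    · exact h
    · exfalso
      have hWc : W ≤ Y ⊓ centralizer (Z : Set G) :=
        (le_inf hWY (h.trans (normalCore_le L))).trans hLC
      refine D.not_centralizes hQY (le_bot_iff.1 ?_)
      rw [commutator_le]
      intro y hy z hz
      have hcW : ⁅z, y⁆ ∈ W := by
        rw [hW, Subgroup.commutator_comm Y]
        exact commutator_mem_commutator hz hy
      have hcomm : Commute z ⁅z, y⁆ := mem_centralizer_iff.1 (hWc hcW).2 z hz
      have key : ∀ n : ℕ, z ^ n * y = ⁅z, y⁆ ^ n * y * z ^ n := by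
        intro n
        induction n with
        | zero => simp
        | succ n ih =>
          calc z ^ (n + 1) * y = z * (z ^ n * y) := by rw [pow_succ', mul_assoc]
            _ = (z * ⁅z, y⁆ ^ n) * y * z ^ n := by rw [ih]; group
            _ = ⁅z, y⁆ ^ n * (z * y) * z ^ n := by rw [(hcomm.pow_right n).eq]; group
            _ = ⁅z, y⁆ ^ n * (⁅z, y⁆ * y * z) * z ^ n := by rw [commutatorElement_def]; group
            _ = ⁅z, y⁆ ^ (n + 1) * y * z ^ (n + 1) := by rw [pow_succ, pow_succ']; group
      obtain ⟨k, hk⟩ := (S.2.to_le D.zS) ⟨z, hz⟩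
      have hk' : z ^ p ^ k = 1 := congrArg Subtype.val hk
      have hc1 : ⁅z, y⁆ ^ p ^ k = 1 := by
        have := key (p ^ k)
        rw [hk', one_mul, mul_one] at this
        exact mul_eq_right.1 this.symm
      have := LocalEvenA.eq_one_of_pPow_of_coprime hc1 (coprime_of_mem hY (hWY hcW))
      rw [mem_bot, ← inv_inv ⁅y, z⁆, commutatorElement_inv, this, inv_one]
  set N := L.normalCore ⊓ Y with hN
  have hY' : ⁅Y, Y⁆ ≤ N := by
    refine le_inf ?_ (commutator_le_left _ _)
    rcases D.normal_dichotomy (N := ⁅Y, Y⁆) inferInstance with h | h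
    · exfalso
      haveI := hYt.isNilpotent
      obtain ⟨n, hn⟩ := (isNilpotent_iff_lowerCentralSeries Y).1 ‹_›
      have hall : ∀ m, Y ≤ Y.lowerCentralSeries m := by
        intro m
        induction m with
        | zero => exact le_rfl
        | succ m ih =>
          rw [Subgroup.lowerCentralSeries_succ]
          exact h.trans (commutator_mono ih le_rfl)
      exact D.Q_ne_bot (le_bot_iff.1 ((hQY.trans (hall n)).trans hn.le))
    · exact h
  have hNc : ⁅Y, N⁆ = ⊥ :=
    le_bot_iff.1 (D.commutator_normalCore ▸ commutator_mono le_rfl inf_le_left)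
  have hclass : Y.lowerCentralSeries 2 = ⊥ := by
    show ⁅⁅Y, Y⁆, Y⁆ = ⊥
    rw [← le_bot_iff, ← hNc, Subgroup.commutator_comm _ Y]
    exact commutator_mono le_rfl hY'
  have hNQ : N ≤ normalizer (Q : Set G) :=
    ((commutator_eq_bot_iff_le_centralizer.1 (Components.commutator_eq_bot_symm hNc)).trans
      (centralizer_le (SetLike.coe_subset_coe.2 hQY))).trans (centralizer_le_normalizer _)
  have hNn : N.Normal := Subgroup.normal_inf_normal _ _
  -- `Y = Q N`
  have hQZ' : Z ≤ normalizer (Q : Set G) := D.zS.trans D.sQ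
  set K := Q ⊔ N with hK
  have hKY : K ≤ Y := sup_le hQY inf_le_right
  have hYK : Y ≤ normalizer (K : Set G) := by
    refine le_normalizer_iff_commutator_le_left.2 ?_
    exact ((commutator_mono hKY le_rfl).trans hY').trans le_sup_right
  have hZK : Z ≤ normalizer (K : Set G) := fun z hz => by
    refine mem_normalizer_iff_map_conj_eq.2 ?_
    rw [hK, Subgroup.map_sup, mem_normalizer_iff_map_conj_eq.1 (hQZ' hz),
      mem_normalizer_iff_map_conj_eq.1 (mem_normalizer_iff.2 fun x => ?_)]
    exact ⟨fun hx => hNn.conj_mem x hx z, fun hx => by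
      simpa [mul_assoc] using hNn.conj_mem _ hx z⁻¹⟩
  have hcomm_sup : ∀ (A B U : Subgroup G), A ≤ normalizer (U : Set G) → B ≤ normalizer (U : Set G) →
      ⁅A, Z⁆ ≤ U → ⁅B, Z⁆ ≤ U → ⁅A ⊔ B, Z⁆ ≤ U := by
    intro A B U hA hB hAZ hBZ
    rw [commutator_le] at hAZ hBZ ⊢
    suffices ∀ g ∈ A ⊔ B, g ∈ normalizer (U : Set G) ∧ ∀ z ∈ Z, ⁅g, z⁆ ∈ U from
      fun g hg z hz => (this g hg).2 z hz
    intro g hg
    rw [sup_eq_closure] at hg
    induction hg using Subgroup.closure_induction with
    | mem x hx =>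
      rcases hx with h | h
      · exact ⟨hA h, hAZ x h⟩
      · exact ⟨hB h, hBZ x h⟩
    | one => exact ⟨one_mem _, fun z _ => by simp⟩
    | mul x y _ _ hx hy =>
      refine ⟨mul_mem hx.1 hy.1, fun z hz => ?_⟩
      rw [show ⁅x * y, z⁆ = x * ⁅y, z⁆ * x⁻¹ * ⁅x, z⁆ by simp [commutatorElement_def, mul_assoc]]
      exact mul_mem (BBlock.nconj hx.1 (hy.2 z hz)) (hx.2 z hz)
    | inv x _ hx =>
      refine ⟨inv_mem hx.1, fun z hz => ?_⟩
      rw [show ⁅x⁻¹, z⁆ = x⁻¹ * ⁅x, z⁆⁻¹ * x⁻¹⁻¹ by simp [commutatorElement_def, mul_assoc]]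
      exact BBlock.nconj (inv_mem hx.1) (inv_mem (hx.2 z hz))
  have hQZQ : ⁅Q, Z⁆ ≤ Q := by
    rw [commutator_le]
    intro a ha z hz
    rw [commutatorElement_def, mul_assoc, mul_assoc, ← mul_assoc z]
    exact mul_mem ha (BBlock.nconj (hQZ' hz) (inv_mem ha))
  have hYQN : Y ≤ K := by
    refine hYW.trans ?_
    rw [hW]
    conv_lhs => rw [← hDY]
    refine hcomm_sup _ _ _ (inf_le_left.trans hYK) (hQY.trans hYK) ?_ (hQZQ.trans le_sup_left)
    exact (D.commutator_inf_L hY inf_le_left inf_le_right).le.trans bot_le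
  have hYQ : Y ≤ Q := by
    refine hYW.trans ((commutator_mono hYQN le_rfl).trans ?_)
    refine hcomm_sup _ _ _ le_normalizer hNQ hQZQ ?_
    exact (D.commutator_inf_L hY inf_le_right (inf_le_left.trans (normalCore_le L))).le.trans bot_le
  exact ⟨t, ht, htp, hYt, le_antisymm hQY hYQ, hclass⟩

/-! ### The component case -/

theorem not_nilpotent (D : Data S Q L Z) (hY : p ∣ Nat.card (normalClosure (Q : Set G))) :
    ¬ Group.IsNilpotent (normalClosure (Q : Set G)) := by
  intro hnil
  set Y := normalClosure (Q : Set G)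
  haveI := hnil
  obtain ⟨P⟩ : Nonempty (Sylow p Y) := inferInstance
  haveI : (P : Subgroup Y).Normal := inferInstance
  haveI : (P : Subgroup Y).Characteristic := P.characteristic_of_normal inferInstance
  have hle : (P : Subgroup Y).map Y.subtype ≤ ⊥ :=
    D.core ▸ Components.le_pCore inferInstance (P.2.map _)
  have hb : (P : Subgroup Y) = ⊥ := by
    rw [← Subgroup.map_eq_bot_iff_of_injective _ Y.subtype_injective]; exact le_bot_iff.1 hle
  have := P.not_dvd_index
  rw [hb, index_bot] at this
  exact this hY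

theorem perfect (D : Data S Q L Z) (hY : p ∣ Nat.card (normalClosure (Q : Set G))) :
    ⁅normalClosure (Q : Set G), normalClosure (Q : Set G)⁆ = normalClosure (Q : Set G) := by
  refine le_antisymm (commutator_le_left _ _) ?_
  by_contra h
  exact D.not_nilpotent hY (isNilpotent_of_lowerCentralSeries_eq_bot (n := 2)
    (D.le_center inferInstance (commutator_le_left _ _) h))

theorem layer_eq_top (D : Data S Q L Z) (hY : p ∣ Nat.card (normalClosure (Q : Set G))) :
    Cfsg.layer ↥(normalClosure (Q : Set G)) = ⊤ := by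
  set Y := normalClosure (Q : Set G) with hYdef
  set E := (Cfsg.layer ↥Y).map Y.subtype with hE
  by_cases hYE : Y ≤ E
  · rw [← map_injective Y.subtype_injective |>.eq_iff, ← MonoidHom.range_eq_map, range_subtype]
    exact le_antisymm (map_subtype_le _) hYE
  exfalso
  have hEc : ⁅E, Y⁆ = ⊥ := D.le_center inferInstance (map_subtype_le _) hYE
  have hEb : Cfsg.layer ↥Y = ⊥ := by
    rw [← Subgroup.map_eq_bot_iff_of_injective _ Y.subtype_injective, ← le_bot_iff, ← hEc]
    conv_lhs => rw [← Components.layer_commutator_eq_self (G := ↥Y), Subgroup.map_commutator]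
    exact commutator_mono le_rfl (map_subtype_le _)
  set F := (Cfsg.fittingSubgroup ↥Y).map Y.subtype with hF
  by_cases hYF : Y ≤ F
  · refine D.not_nilpotent hY ?_
    have e : Y = F := le_antisymm hYF (map_subtype_le _)
    have htop : Cfsg.fittingSubgroup ↥Y = ⊤ := by
      rw [← map_injective Y.subtype_injective |>.eq_iff, ← MonoidHom.range_eq_map, range_subtype]
      exact e.symm
    haveI : Group.IsNilpotent (Cfsg.fittingSubgroup ↥Y) := Components.fitting_isNilpotent
    exact Group.nilpotent_of_surjective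
      (h := ‹_›) (Cfsg.fittingSubgroup ↥Y).subtype (fun y => ⟨⟨y, htop ▸ mem_top y⟩, rfl⟩)
  have hFc : ⁅F, Y⁆ = ⊥ := D.le_center inferInstance (map_subtype_le _) hYF
  have hFS : Cfsg.generalizedFittingSubgroup ↥Y = Cfsg.fittingSubgroup ↥Y := by
    rw [Cfsg.generalizedFittingSubgroup, hEb, bot_sup_eq]
  have htop : (⊤ : Subgroup ↥Y) ≤ Cfsg.fittingSubgroup ↥Y := by
    rw [← hFS]
    refine le_trans ?_ Components.centralizer_fStar_le
    intro y _
    rw [hFS, mem_centralizer_iff]
    intro f hf
    refine Subtype.ext ?_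
    exact (mem_centralizer_iff.1
      (commutator_eq_bot_iff_le_centralizer.1 hFc ⟨f, hf, rfl⟩) (y : G) y.2).symm
  exact hYF fun y hy => ⟨⟨y, hy⟩, htop trivial, rfl⟩

theorem le_iSup_components (D : Data S Q L Z)
    (hY : p ∣ Nat.card (normalClosure (Q : Set G))) {U : Subgroup G}
    (h : ∀ K : Subgroup G, Cfsg.IsComponent K → K ≤ normalClosure (Q : Set G) → K ≤ U) :
    normalClosure (Q : Set G) ≤ U := by
  set Y := normalClosure (Q : Set G)
  have hle : Cfsg.layer ↥Y ≤ U.comap Y.subtype := by
    rw [Components.layer_le_iff]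
    intro K hK
    rw [← map_le_iff_le_comap]
    exact h _ ((Components.isComponent_map_subtype_iff (Components.isSubnormal_of_normal Y) K).2 hK)
      (map_subtype_le K)
  rw [D.layer_eq_top hY] at hle
  exact fun y hy => hle (mem_top (⟨y, hy⟩ : Y))

theorem le_layer (D : Data S Q L Z) (hY : p ∣ Nat.card (normalClosure (Q : Set G))) :
    normalClosure (Q : Set G) ≤ Cfsg.layer G :=
  D.le_iSup_components hY fun _ hK _ => Components.component_le_layer hK

theorem transitive (D : Data S Q L Z) (hY : p ∣ Nat.card (normalClosure (Q : Set G)))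
    {K₁ K₂ : Subgroup G} (h₁ : Cfsg.IsComponent K₁) (h₁Y : K₁ ≤ normalClosure (Q : Set G))
    (h₂ : Cfsg.IsComponent K₂) (h₂Y : K₂ ≤ normalClosure (Q : Set G)) :
    ∃ s ∈ (S : Subgroup G), K₂ = K₁.map (MulAut.conj s).toMonoidHom := by
  set Y := normalClosure (Q : Set G) with hYdef
  have hSZ : (S : Subgroup G) ≤ normalizer (Z : Set G) := D.sL.trans D.lZ
  let M : Subgroup G → Subgroup G := fun K => Components.orbitSup K (S : Subgroup G)
  have hcomm : ∀ {K : Subgroup G} {g : G}, g ∈ normalizer (Z : Set G) →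
      K.map (MulAut.conj g).toMonoidHom ≤ centralizer (Z : Set G) →
      K ≤ centralizer (Z : Set G) := by
    intro K g hg h x hx
    rw [mem_centralizer_iff]
    intro z hz
    have := mem_centralizer_iff.1 (h ⟨x, hx, rfl⟩) (g * z * g⁻¹) (BBlock.nconj hg hz)
    simp only [MulEquiv.coe_toMonoidHom, MulAut.conj_apply] at this
    exact mul_left_cancel (a := g) (mul_right_cancel (b := g⁻¹) (by simpa [mul_assoc] using this))
  -- a component outside the orbit containing `Q` is centralized by `Z`
  have hout : ∀ {K : Subgroup G}, Cfsg.IsComponent K → K ≤ Y → ¬ Q ≤ M K →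
      K ≤ centralizer (Z : Set G) := by
    intro K hK hKY hQ
    have hn : (S : Subgroup G) ≤ normalizer (M K : Set G) := Components.normalizer_orbitSup K _
    have hsn : (M K).IsSubnormal := by
      refine Components.isSubnormal_of_normal_in (Components.orbitSup_le_layer hK _)
        (Components.isSubnormal_of_normal _) ?_
      intro g hg
      refine Components.mem_normalizer_of_conj_le ?_
      show (Components.orbitSup K (S : Subgroup G)).map _ ≤ Components.orbitSup K (S : Subgroup G)
      rw [Components.orbitSup, Subgroup.map_iSup]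
      refine iSup_le fun u => le_iSup_of_le u (le_of_eq ?_)
      exact mem_normalizer_iff_map_conj_eq.1
        (Components.layer_le_normalizer (Components.isComponent_conj (u : G) hK) hg)
    exact (Components.le_orbitSup K _).trans (commutator_eq_bot_iff_le_centralizer.1
      (D.commutator_eq_bot_of_le hsn ((D.dichotomy hn).resolve_left hQ) (D.zS.trans hn)))
  obtain ⟨K₀, hK₀, hK₀Y, hQ₀⟩ : ∃ K, Cfsg.IsComponent K ∧ K ≤ Y ∧ Q ≤ M K := by
    by_contra h
    push Not at h
    exact D.not_centralizes le_normalClosure (commutator_eq_bot_iff_le_centralizer.2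
      (D.le_iSup_components hY fun K hK hKY => hout hK hKY (h K hK hKY)))
  let Orb : Subgroup G → Prop := fun K =>
    ∃ s ∈ (S : Subgroup G), K = K₀.map (MulAut.conj s).toMonoidHom
  have hOrbC : ∀ {K : Subgroup G}, Cfsg.IsComponent K → ¬ Orb K → K ≤ centralizer (M K₀ : Set G) := by
    intro K hK hno
    refine commutator_eq_bot_iff_le_centralizer.1 (Components.commutator_eq_bot_symm ?_)
    rw [commutator_eq_bot_iff_le_centralizer]
    refine iSup_le fun u => ?_
    rcases Components.component_eq_or_commute (Components.isComponent_conj (u : G) hK₀) hK with h | h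
    · exact absurd ⟨u, u.2, h.symm⟩ hno
    · exact commutator_eq_bot_iff_le_centralizer.1 h
  have hPne : ∀ {U : Subgroup G}, Y ≤ centralizer (U : Set G) → Q ≤ U → False := by
    intro U hU hQU
    have h1 : Y ≤ Y ⊓ centralizer (Y : Set G) := by
      refine normalClosure_le_normal (le_inf le_normalClosure ?_)
      exact (commutator_eq_bot_iff_le_centralizer.1 (Components.commutator_eq_bot_symm
        (commutator_eq_bot_iff_le_centralizer.2 (hU.trans (centralizer_le hQU)))))
    refine D.Q_ne_bot (le_bot_iff.1 (le_normalClosure.trans ?_))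
    show Y ≤ ⊥
    exact (D.perfect hY).ge.trans
      (commutator_eq_bot_iff_le_centralizer.2 (h1.trans inf_le_right)).le
  have hin : ∀ {K : Subgroup G}, Orb K → ¬ K ≤ centralizer (Z : Set G) := by
    rintro K ⟨s, hs, rfl⟩ hK
    refine D.not_centralizes hQ₀ (commutator_eq_bot_iff_le_centralizer.2 ?_)
    refine iSup_le fun u => ?_
    refine hcomm (g := s * (u : G)⁻¹) (hSZ (mul_mem hs (inv_mem u.2))) ?_
    rw [Components.conj_map_comp]
    simpa using hK
  have hiff : ∀ {K : Subgroup G}, Cfsg.IsComponent K → K ≤ Y →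
      ¬ K ≤ centralizer (Z : Set G) → Orb K := by
    intro K hK hKY hKZ
    by_contra hno
    have hQK : Q ≤ M K := not_not.1 fun h => hKZ (hout hK hKY h)
    have hMM : M K ≤ centralizer (M K₀ : Set G) := by
      refine iSup_le fun u => hOrbC (Components.isComponent_conj _ hK) ?_
      rintro ⟨s, hs, he⟩
      refine hno ⟨(u : G)⁻¹ * s, mul_mem (inv_mem u.2) hs, ?_⟩
      rw [← Components.conj_map_comp, ← he, Components.conj_map_comp, inv_mul_cancel,
        Components.conj_map_one]
    refine hPne (U := M K₀ ⊓ M K) ?_ (le_inf hQ₀ hQK)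
    refine D.le_iSup_components hY fun K' hK' _ => ?_
    by_cases ho : Orb K'
    · obtain ⟨s, hs, rfl⟩ := ho
      refine le_trans ?_ (centralizer_le (SetLike.coe_subset_coe.2 (inf_le_right : M K₀ ⊓ M K ≤ _)))
      refine le_trans (b := M K₀) ?_ (commutator_eq_bot_iff_le_centralizer.1
        (Components.commutator_eq_bot_symm (commutator_eq_bot_iff_le_centralizer.2 hMM)))
      exact le_iSup (fun u : ↥(S : Subgroup G) => K₀.map (MulAut.conj (u : G)).toMonoidHom) ⟨s, hs⟩
    · exact (hOrbC hK' ho).trans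
        (centralizer_le (SetLike.coe_subset_coe.2 (inf_le_left : M K₀ ⊓ M K ≤ _)))
  have hMn : (M K₀).Normal := by
    rw [← normalizer_eq_top_iff, ← top_le_iff, ← D.sup_L_eq_top]
    refine sup_le (((D.le_layer hY).trans ?_)) fun g hg => ?_
    · intro g hg
      refine Components.mem_normalizer_of_conj_le ?_
      show (Components.orbitSup K₀ (S : Subgroup G)).map _ ≤ Components.orbitSup K₀ (S : Subgroup G)
      rw [Components.orbitSup, Subgroup.map_iSup]
      refine iSup_le fun u => le_iSup_of_le u (le_of_eq ?_)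
      exact mem_normalizer_iff_map_conj_eq.1
        (Components.layer_le_normalizer (Components.isComponent_conj (u : G) hK₀) hg)
    · refine Components.mem_normalizer_of_conj_le ?_
      show (Components.orbitSup K₀ (S : Subgroup G)).map _ ≤ Components.orbitSup K₀ (S : Subgroup G)
      rw [Components.orbitSup, Subgroup.map_iSup]
      refine iSup_le fun u => ?_
      rw [Components.conj_map_comp]
      obtain ⟨s, hs, he⟩ := hiff (Components.isComponent_conj (g * (u : G)) hK₀) (by
          rw [← mem_normalizer_iff_map_conj_eq.1 (show g * (u : G) ∈ normalizer (Y : Set G) by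
            rw [normalizer_eq_top_iff.2 inferInstance]; trivial)]
          exact Subgroup.map_mono hK₀Y)
        (fun h => hin ⟨1, one_mem _, (Components.conj_map_one _).symm⟩
          (hcomm (mul_mem (D.lZ hg) (hSZ u.2)) h))
      rw [he]
      exact le_iSup (fun v : ↥(S : Subgroup G) => K₀.map (MulAut.conj (v : G)).toMonoidHom) ⟨s, hs⟩
  haveI := hMn
  have hYM : Y ≤ M K₀ := normalClosure_le_normal hQ₀
  have hall : ∀ {K : Subgroup G}, Cfsg.IsComponent K → K ≤ Y → Orb K := by
    intro K hK hKY
    by_contra hno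
    refine Components.isComponent_ne_bot hK ?_
    rw [← Components.isComponent_commutator_eq_self hK, commutator_eq_bot_iff_le_centralizer]
    exact (hOrbC hK hno).trans (centralizer_le (SetLike.coe_subset_coe.2 (hKY.trans hYM)))
  obtain ⟨s, hs, hes⟩ := hall h₁ h₁Y
  obtain ⟨r, hr, her⟩ := hall h₂ h₂Y
  refine ⟨r * s⁻¹, mul_mem hr (inv_mem hs), ?_⟩
  rw [hes, Components.conj_map_comp, inv_mul_cancel_right, her]

theorem residual_le_fStar (D : Data S Q L Z) : Q ≤ Cfsg.generalizedFittingSubgroup G := by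
  by_cases hY : p ∣ Nat.card (normalClosure (Q : Set G))
  · exact le_normalClosure.trans ((D.le_layer hY).trans Components.layer_le_fStar)
  · obtain ⟨t, ht, -, hYt, -, -⟩ := D.coprime_case hY
    haveI := Fact.mk ht
    exact le_normalClosure.trans ((Components.le_fitting inferInstance hYt.isNilpotent).trans
      Components.fitting_le_fStar)

theorem coprime_of_solvable (D : Data S Q L Z)
    (hsol : Group.IsSolvable ↥(normalClosure (Q : Set G))) :
    ¬ p ∣ Nat.card (normalClosure (Q : Set G)) := by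
  intro hY
  set Y := normalClosure (Q : Set G)
  have hc : _root_.commutator ↥Y = ⊤ := by
    rw [commutator_def, ← map_injective Y.subtype_injective |>.eq_iff, Subgroup.map_commutator,
      ← MonoidHom.range_eq_map, range_subtype]
    exact D.perfect hY
  haveI := hsol
  haveI : Nontrivial ↥Y := by
    rw [Subgroup.nontrivial_iff_ne_bot]
    exact fun h => D.Q_ne_bot (le_bot_iff.1 (le_normalClosure.trans h.le))
  exact absurd hc (Group.IsSolvable.commutator_lt_top_of_nontrivial ↥Y).ne

end Data

end Cfsg.Agent.Isolated
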