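import Cfsg.Agent.Lib.Components.IsolatedPMin
import Cfsg.Agent.Lib.Basics.Cores

/-! An isolated `p`-minimal subgroup: passage to `G / O_p(G)` (S3044, S3045). -/

set_option autoImplicit false
set_option linter.style.haveILetI false

namespace Cfsg.Agent.Isolated

open Subgroup Cfsg

variable {G : Type*} [Group G] {p : ℕ}

/-- Every overgroup `H` of `S` is generated by `N_H(S)` and the `p`-minimal subgroups in it. -/
theorem gen_pMinimal [Finite G] [Fact p.Prime] (S : Sylow p G) :
    ∀ H : Subgroup G, (S : Subgroup G) ≤ H →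
      H ≤ (normalizer ((S : Subgroup G) : Set G) ⊓ H) ⊔
        ⨆ P : {P : Subgroup G // (S : Subgroup G) ≤ P ∧ P ≤ H ∧ IsPMinimal p ↥P},
          (P : Subgroup G) := by
  intro H
  induction H using WellFoundedLT.induction with
  | ind H ih =>
    intro hSH
    by_cases hn : ((S.subtype hSH : Subgroup ↥H)).Normal
    · exact (le_inf ((normal_subgroupOf_iff_le_normalizer hSH).1 hn) le_rfl).trans le_sup_left
    by_cases hu : ∃! M : Subgroup ↥H, IsCoatom M ∧ (S.subtype hSH : Subgroup ↥H) ≤ M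
    · exact (le_iSup (fun P : {P : Subgroup G // (S : Subgroup G) ≤ P ∧ P ≤ H ∧ IsPMinimal p ↥P} =>
        (P : Subgroup G))
        ⟨H, hSH, le_rfl, LocalEvenA.isPMinimal_of_good (S.subtype hSH) ⟨hn, hu⟩⟩).trans le_sup_right
    have hne : (S.subtype hSH : Subgroup ↥H) ≠ ⊤ := fun h => hn (h ▸ inferInstance)
    obtain ⟨M1, hM1, hS1⟩ := (eq_top_or_exists_le_coatom _).resolve_left hne
    obtain ⟨M2, ⟨hM2, hS2⟩, h12⟩ : ∃ M2 : Subgroup ↥H,
        (IsCoatom M2 ∧ (S.subtype hSH : Subgroup ↥H) ≤ M2) ∧ M2 ≠ M1 := by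
      by_contra hc
      push Not at hc
      exact hu ⟨M1, ⟨hM1, hS1⟩, fun M hM => hc M hM⟩
    have hstep : ∀ M : Subgroup ↥H, IsCoatom M → (S.subtype hSH : Subgroup ↥H) ≤ M →
        M.map H.subtype ≤ (normalizer ((S : Subgroup G) : Set G) ⊓ H) ⊔
          ⨆ P : {P : Subgroup G // (S : Subgroup G) ≤ P ∧ P ≤ H ∧ IsPMinimal p ↥P},
            (P : Subgroup G) := by
      intro M hM hS
      refine (ih (M.map H.subtype) (lt_of_le_of_ne (map_subtype_le M) fun h => hM.1 ?_)
        fun s hs => ⟨⟨s, hSH hs⟩, hS hs, rfl⟩).trans (sup_le ?_ ?_)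
      · rw [← comap_map_eq_self_of_injective H.subtype_injective M, h]
        exact Subgroup.subgroupOf_self H
      · exact (inf_le_inf_left _ (map_subtype_le M)).trans le_sup_left
      · refine iSup_le fun ⟨P, h1, h2, h3⟩ => ?_
        exact (le_iSup (fun P : {P : Subgroup G // (S : Subgroup G) ≤ P ∧ P ≤ H ∧ IsPMinimal p ↥P} =>
          (P : Subgroup G)) ⟨P, h1, h2.trans (map_subtype_le M), h3⟩).trans le_sup_right
    have htop : M1 ⊔ M2 = ⊤ := by
      refine hM1.2 _ (lt_of_le_of_ne le_sup_left fun h => ?_)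
      rcases eq_or_lt_of_le (h.ge.trans' (le_sup_right : M2 ≤ M1 ⊔ M2)) with h2 | h2
      · exact h12 h2
      · exact hM1.1 (hM2.2 _ h2)
    have e : H = M1.map H.subtype ⊔ M2.map H.subtype := by
      rw [← Subgroup.map_sup, htop, ← MonoidHom.range_eq_map, range_subtype]
    conv_lhs => rw [e]
    exact sup_le (hstep M1 hM1 hS1) (hstep M2 hM2 hS2)

/-- The hypotheses of S3044/S3045. -/
structure Setup [Finite G] [Fact p.Prime] (S : Sylow p G) (P L Y : Subgroup G) : Prop where
  hSP : (S : Subgroup G) ≤ P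
  hPmin : IsPMinimal p ↥P
  hL : L = Subgroup.normalizer ((S : Subgroup G) : Set G) ⊔
    ⨆ P' : {P' : Subgroup G // (S : Subgroup G) ≤ P' ∧ IsPMinimal p ↥P' ∧ P' ≠ P}, (P' : Subgroup G)
  hiso : ¬ pCoreOf p L ≤ pCoreOf p P
  hY : Y = Subgroup.normalClosure ((pResidualOf p P : Subgroup G) : Set G)

namespace Setup

variable [Finite G] [Fact p.Prime] {S : Sylow p G} {P L Y : Subgroup G}

theorem sL (D : Setup S P L Y) : (S : Subgroup G) ≤ L := by
  rw [D.hL]; exact le_normalizer.trans le_sup_left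

theorem residual_le (_D : Setup S P L Y) : pResidualOf p P ≤ P := map_subtype_le _

theorem le_normalizer_residual (_D : Setup S P L Y) :
    P ≤ normalizer (pResidualOf p P : Set G) :=
  fun _ hg => BBlock.normalizes_pResidualOf (le_normalizer hg)

theorem residual_sup (D : Setup S P L Y) : pResidualOf p P ⊔ (S : Subgroup G) = P := by
  refine le_antisymm (sup_le D.residual_le D.hSP) ?_
  haveI : (pResidual p ↥P).Characteristic := LocalEvenA.pResidual_characteristic' p _
  have hq : IsPGroup p (↥P ⧸ pResidual p ↥P) := LocalEvenA.pResidual_quotient_isPGroup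
  let T := (S.subtype D.hSP).mapSurjective (QuotientGroup.mk'_surjective (pResidual p ↥P))
  have hT : (T : Subgroup (↥P ⧸ pResidual p ↥P)) = ⊤ :=
    (T.is_maximal' (hq.to_subgroup ⊤) le_top).symm
  have h2 : (S.subtype D.hSP : Subgroup ↥P) ⊔ pResidual p ↥P = ⊤ := by
    have := congrArg (Subgroup.comap (QuotientGroup.mk' (pResidual p ↥P))) hT
    rw [Sylow.coe_mapSurjective, comap_map_eq, QuotientGroup.ker_mk', comap_top] at this
    exact this
  intro x hx
  have h3 := Subgroup.mem_map_of_mem P.subtype (h2.ge (mem_top (⟨x, hx⟩ : ↥P)))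
  rw [Subgroup.map_sup] at h3
  have e : (S.subtype D.hSP : Subgroup ↥P).map P.subtype = (S : Subgroup G) :=
    map_subgroupOf_eq_of_le D.hSP
  rw [e, sup_comm] at h3
  exact h3

theorem le_pCoreOf_P (D : Setup S P L Y) {A : Subgroup G} (hA : A ≤ (S : Subgroup G))
    (hQ : pResidualOf p P ≤ normalizer (A : Set G)) (hS : (S : Subgroup G) ≤ normalizer (A : Set G)) :
    A ≤ pCoreOf p P :=
  LocalEvenA.le_pCoreOf (hA.trans D.hSP) (D.residual_sup.ge.trans (sup_le hQ hS)) (S.2.to_le hA)

theorem pCoreOf_L_le (D : Setup S P L Y) : pCoreOf p L ≤ (S : Subgroup G) := by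
  have h := IsPGroup.le_sylow_of_normal (N := pCore p ↥L) (LocalEvenA.pCore_isPGroup' p _)
    (S.subtype D.sL)
  exact (Subgroup.map_mono (f := L.subtype) h).trans (map_subgroupOf_eq_of_le D.sL).le

theorem pCore_le_S (_D : Setup S P L Y) : pCore p G ≤ (S : Subgroup G) :=
  IsPGroup.le_sylow_of_normal (LocalEvenA.pCore_isPGroup' p G) S

theorem small (D : Setup S P L Y) {H : Subgroup G} (hS : (S : Subgroup G) ≤ H) (hP : ¬ P ≤ H) :
    H ≤ L := by
  refine (gen_pMinimal S H hS).trans (sup_le (inf_le_left.trans (D.hL ▸ le_sup_left))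
    (iSup_le fun ⟨P', h1, h2, h3⟩ => ?_))
  rw [D.hL]
  exact le_trans (le_iSup (fun P' : {P' : Subgroup G // (S : Subgroup G) ≤ P' ∧ IsPMinimal p ↥P' ∧
    P' ≠ P} => (P' : Subgroup G)) ⟨P', h1, h3, fun e => hP (e ▸ h2)⟩) le_sup_right

theorem gen (D : Setup S P L Y) {H : Subgroup G} (hS : (S : Subgroup G) ≤ H) :
    H ≤ (L ⊓ H) ⊔ P := by
  refine (gen_pMinimal S H hS).trans (sup_le ((inf_le_inf_right _ (D.hL ▸ le_sup_left)).trans
    le_sup_left) (iSup_le fun ⟨P', h1, h2, h3⟩ => ?_))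
  rcases eq_or_ne P' P with rfl | hne
  · exact le_sup_right
  · refine le_trans (le_inf ?_ h2) le_sup_left
    rw [D.hL]
    exact le_trans (le_iSup (fun P' : {P' : Subgroup G // (S : Subgroup G) ≤ P' ∧ IsPMinimal p ↥P' ∧
      P' ≠ P} => (P' : Subgroup G)) ⟨P', h1, h3, hne⟩) le_sup_right

theorem residual_le_Y (D : Setup S P L Y) : pResidualOf p P ≤ Y := by
  rw [D.hY]; exact le_normalClosure

theorem Y_normal (D : Setup S P L Y) : Y.Normal := by rw [D.hY]; infer_instance

theorem sup_L (D : Setup S P L Y) : Y ⊔ L = ⊤ := by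
  refine top_le_iff.1 ((D.gen le_top).trans (sup_le (inf_le_left.trans le_sup_right) ?_))
  rw [← D.residual_sup]
  exact sup_le (D.residual_le_Y.trans le_sup_left) (D.sL.trans le_sup_right)

theorem isolated_sub (D : Setup S P L Y) :
    ¬ pCoreOf p ((Subgroup.normalizer ((S : Subgroup G) : Set G) ⊓ (Y ⊔ (S : Subgroup G))) ⊔
      ⨆ P' : {P' : Subgroup G // (S : Subgroup G) ≤ P' ∧ P' ≤ Y ⊔ (S : Subgroup G) ∧
        IsPMinimal p ↥P' ∧ P' ≠ P}, (P' : Subgroup G)) ≤ pCoreOf p P := by
  intro h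
  refine D.hiso (le_trans ?_ h)
  refine LocalEvenA.le_pCoreOf ?_ ?_ (S.2.to_le D.pCoreOf_L_le)
  · exact D.pCoreOf_L_le.trans ((le_inf le_normalizer le_sup_right).trans le_sup_left)
  · refine le_trans ?_ (LocalEvenA.le_normalizer_pCoreOf p L)
    refine sup_le (inf_le_left.trans (D.hL ▸ le_sup_left)) (iSup_le fun ⟨P', h1, _, h3, h4⟩ => ?_)
    rw [D.hL]
    exact le_trans (le_iSup (fun P' : {P' : Subgroup G // (S : Subgroup G) ≤ P' ∧ IsPMinimal p ↥P' ∧
      P' ≠ P} => (P' : Subgroup G)) ⟨P', h1, h3, h4⟩) le_sup_right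

variable [(pCore p G).Normal]

local notation "π" => QuotientGroup.mk' (pCore p G)

theorem comap_map_of_le (D : Setup S P L Y) {H : Subgroup G} (hS : (S : Subgroup G) ≤ H) :
    (H.map π).comap π = H := by
  rw [comap_map_eq, QuotientGroup.ker_mk', sup_eq_left]
  exact D.pCore_le_S.trans hS

theorem S_le_comap (D : Setup S P L Y) {H : Subgroup (G ⧸ pCore p G)}
    (hS : ((S.mapSurjective (QuotientGroup.mk'_surjective (pCore p G))) : Subgroup _) ≤ H) :
    (S : Subgroup G) ≤ H.comap π := by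
  rwa [Sylow.coe_mapSurjective, map_le_iff_le_comap] at hS

theorem data (D : Setup S P L Y) :
    Data (S.mapSurjective (QuotientGroup.mk'_surjective (pCore p G)))
      ((pResidualOf p P).map π) (L.map π) ((pCoreOf p L).map π) where
  core := Basics.pCore_quotient_eq_bot p
  sL := by rw [Sylow.coe_mapSurjective]; exact Subgroup.map_mono D.sL
  zS := by rw [Sylow.coe_mapSurjective]; exact Subgroup.map_mono D.pCoreOf_L_le
  lZ := (Subgroup.map_mono (LocalEvenA.le_normalizer_pCoreOf p L)).trans (le_normalizer_map π)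
  sQ := by
    rw [Sylow.coe_mapSurjective]
    exact (Subgroup.map_mono (D.hSP.trans D.le_normalizer_residual)).trans (le_normalizer_map π)
  qres := by
    refine le_antisymm (map_subtype_le _) ?_
    conv_lhs => rw [BBlock.pResidualOf_eq_closure, MonoidHom.map_closure]
    rw [BBlock.pResidualOf_eq_closure, Subgroup.closure_le]
    rintro _ ⟨x, ⟨hx, ho⟩, rfl⟩
    refine Subgroup.subset_closure ⟨Subgroup.mem_map_of_mem π ?_,
      ho.coprime_dvd_left (orderOf_map_dvd _ x)⟩
    rw [BBlock.pResidualOf_eq_closure]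
    exact Subgroup.subset_closure ⟨hx, ho⟩
  small := by
    intro H hS hQ
    have hS' := D.S_le_comap hS
    have hP : ¬ P ≤ H.comap π := fun h => hQ (map_le_iff_le_comap.2 (D.residual_le.trans h))
    calc H = (H.comap π).map π :=
          (map_comap_eq_self_of_surjective (QuotientGroup.mk'_surjective _) H).symm
      _ ≤ L.map π := Subgroup.map_mono (D.small hS' hP)
  gen := by
    intro H hS hQ
    have hS' := D.S_le_comap hS
    calc H = (H.comap π).map π :=
          (map_comap_eq_self_of_surjective (QuotientGroup.mk'_surjective _) H).symm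
      _ ≤ ((L ⊓ H.comap π) ⊔ P).map π := Subgroup.map_mono (D.gen hS')
      _ ≤ _ := by
        rw [Sylow.coe_mapSurjective, ← Subgroup.map_sup (pResidualOf p P), D.residual_sup,
          Subgroup.map_sup]
        refine sup_le_sup_right ((Subgroup.map_inf_le _ _ _).trans (inf_le_inf_left _ ?_)) _
        exact map_comap_le _ _
  qZ := by
    intro h
    refine D.hiso (D.le_pCoreOf_P D.pCoreOf_L_le ?_ (D.sL.trans (LocalEvenA.le_normalizer_pCoreOf p L)))
    intro g hg
    refine BBlock.mem_normalizer_of_conj_mem fun z hz => ?_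
    have h1 := BBlock.nconj (h (mem_map_of_mem π hg)) (mem_map_of_mem π hz)
    rw [← map_inv, ← map_mul, ← map_mul, ← mem_comap, comap_map_eq, QuotientGroup.ker_mk'] at h1
    refine (sup_le le_rfl ?_ : pCoreOf p L ⊔ pCore p G ≤ pCoreOf p L) h1
    refine LocalEvenA.le_pCoreOf (D.pCore_le_S.trans D.sL) ?_ (LocalEvenA.pCore_isPGroup' p G)
    rw [normalizer_eq_top_iff.2 inferInstance]
    exact le_top
  uniq := by
    intro A B hSA hSB hAP hBP hQ
    rw [Sylow.coe_mapSurjective, ← Subgroup.map_sup, D.residual_sup] at hAP hBP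
    have hA' := (Subgroup.comap_mono (f := π) hAP).trans (D.comap_map_of_le D.hSP).le
    have hB' := (Subgroup.comap_mono (f := π) hBP).trans (D.comap_map_of_le D.hSP).le
    by_contra hc
    push Not at hc
    obtain ⟨-, M, ⟨hM, hSM⟩, huniq⟩ := D.hPmin (S.subtype D.hSP)
    have key : ∀ C : Subgroup (G ⧸ pCore p G),
        ((S.mapSurjective (QuotientGroup.mk'_surjective (pCore p G))) : Subgroup _) ≤ C →
        C.comap π ≤ P → ¬ (pResidualOf p P).map π ≤ C → C.comap π ≤ M.map P.subtype := by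
      intro C hSC hCP hQC
      have hne : (C.comap π).subgroupOf P ≠ ⊤ := fun h =>
        hQC (map_le_iff_le_comap.2 (D.residual_le.trans (subgroupOf_eq_top.1 h)))
      obtain ⟨N, hN, hCN⟩ := (eq_top_or_exists_le_coatom _).resolve_left hne
      have hNM : N = M := huniq N ⟨hN, le_trans (fun x hx => D.S_le_comap hSC hx) hCN⟩
      intro x hx
      exact ⟨⟨x, hCP hx⟩, hNM ▸ hCN (show (⟨x, hCP hx⟩ : ↥P) ∈ (C.comap π).subgroupOf P from hx), rfl⟩
    have hSM' : (S : Subgroup G) ≤ M.map P.subtype := fun s hs => ⟨⟨s, D.hSP hs⟩, hSM hs, rfl⟩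
    have hMc := D.comap_map_of_le hSM'
    have hle : A ⊔ B ≤ (M.map P.subtype).map π := by
      refine sup_le ?_ ?_
      · calc A = (A.comap π).map π :=
              (map_comap_eq_self_of_surjective (QuotientGroup.mk'_surjective _) A).symm
          _ ≤ _ := Subgroup.map_mono (key A hSA hA' hc.1)
      · calc B = (B.comap π).map π :=
              (map_comap_eq_self_of_surjective (QuotientGroup.mk'_surjective _) B).symm
          _ ≤ _ := Subgroup.map_mono (key B hSB hB' hc.2)
    have hQM : pResidualOf p P ≤ M.map P.subtype := by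
      rw [← hMc, ← map_le_iff_le_comap]; exact hQ.trans hle
    refine hM.1 (eq_top_iff.2 fun x _ => ?_)
    obtain ⟨y, hy, e⟩ := (sup_le hQM hSM') (D.residual_sup.ge x.2)
    exact Subtype.ext e ▸ hy

theorem map_Y (D : Setup S P L Y) :
    Y.map π = normalClosure (((pResidualOf p P).map π : Subgroup (G ⧸ pCore p G)) : Set _) := by
  rw [D.hY, Subgroup.map_normalClosure _ _ (QuotientGroup.mk'_surjective _), Subgroup.coe_map]

theorem pCore_Y (D : Setup S P L Y) : pCore p ↥Y = (pCore p G).subgroupOf Y := by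
  haveI := D.Y_normal
  refine le_antisymm ?_ (LocalEvenA.le_pCore_of_normal inferInstance
    ((LocalEvenA.pCore_isPGroup' p G).comap_subtype))
  intro y hy
  have hn : ((pCore p ↥Y).map Y.subtype).Normal := inferInstance
  exact LocalEvenA.le_pCore_of_normal hn ((LocalEvenA.pCore_isPGroup' p _).map _) ⟨y, hy, rfl⟩

/-- `Y / O_p(Y)` is the image of `Y` in `G / O_p(G)`. -/
theorem exists_equiv (D : Setup S P L Y) [(pCore p ↥Y).Normal] :
    ∃ e : (↥Y ⧸ pCore p ↥Y) ≃* ↥(Y.map π), ∀ y : ↥Y, (e (y : ↥Y ⧸ pCore p ↥Y) : G ⧸ pCore p G) = π y := by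
  have hk : ((π).subgroupMap Y).ker = pCore p ↥Y := by
    rw [D.pCore_Y]
    ext y
    rw [MonoidHom.mem_ker, Subgroup.mem_subgroupOf, ← QuotientGroup.eq_one_iff, Subtype.ext_iff]
    rfl
  exact ⟨(QuotientGroup.quotientMulEquivOfEq hk.symm).trans
    (QuotientGroup.quotientKerEquivOfSurjective _ (MonoidHom.subgroupMap_surjective _ _)),
    fun _ => rfl⟩

theorem residual_eq_Y (D : Setup S P L Y) (h : (pResidualOf p P).map π = Y.map π) :
    pResidualOf p P = Y := by
  set Q := pResidualOf p P with hQ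
  have hOQ : pCore p G ≤ normalizer (Q : Set G) :=
    (D.pCore_le_S.trans D.hSP).trans D.le_normalizer_residual
  have hYle : Y ≤ Q ⊔ pCore p G := by
    have := comap_map_eq (QuotientGroup.mk' (pCore p G)) Q
    rw [QuotientGroup.ker_mk'] at this
    rw [← this, h]
    exact le_comap_map _ _
  refine le_antisymm D.residual_le_Y ?_
  haveI := D.Y_normal
  have hn : Q.Normal := by
    rw [← normalizer_eq_top_iff, eq_top_iff]
    intro g _
    conv => rw [hQ, BBlock.pResidualOf_eq_closure]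
    refine BBlock.normalizes_closure fun x hx => ?_
    rw [← BBlock.pResidualOf_eq_closure]
    have hx' : x ∈ Q := by rw [hQ, BBlock.pResidualOf_eq_closure]; exact subset_closure hx
    refine mem_of_coprime_sup hOQ (LocalEvenA.pCore_isPGroup' p G)
      (hYle (‹Y.Normal›.conj_mem x (D.residual_le_Y hx') g)) ?_
    rw [show g * x * g⁻¹ = MulAut.conj g x from rfl, MulEquiv.orderOf_eq]
    exact hx.2
  conv_lhs => rw [D.hY]
  exact normalClosure_le_normal le_rfl

theorem structure_Y (D : Setup S P L Y) :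
    (pResidualOf p P = Y ∨
     ∃ _ : (pCore p ↥Y).Normal,
       p ∣ Nat.card (↥Y ⧸ pCore p ↥Y) ∧ layer (↥Y ⧸ pCore p ↥Y) = ⊤ ∧
       ∀ K₁ K₂ : Subgroup (↥Y ⧸ pCore p ↥Y), IsComponent K₁ → IsComponent K₂ →
         ∃ s ∈ (S : Subgroup G),
           ((K₂.comap (QuotientGroup.mk' (pCore p ↥Y))).map Y.subtype) =
             (((K₁.comap (QuotientGroup.mk' (pCore p ↥Y))).map Y.subtype)).map
               (MulAut.conj s).toMonoidHom) := by
  have E := D.data
  by_cases hdvd : p ∣ Nat.card (Y.map π)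
  · right
    haveI hn : (pCore p ↥Y).Normal := LocalEvenA.pCore_normal' p _
    obtain ⟨e, he⟩ := D.exists_equiv
    haveI := D.Y_normal
    haveI : (Y.map π).Normal := ‹Y.Normal›.map _ (QuotientGroup.mk'_surjective _)
    refine ⟨hn, by rwa [Nat.card_congr e.toEquiv], ?_, ?_⟩
    · have h1 : layer ↥(Y.map π) = ⊤ := by
        rw [D.map_Y]
        exact E.layer_eq_top (D.map_Y ▸ hdvd)
      have h2 := Components.map_layer_equiv e.symm
      rw [h1, Subgroup.map_top_of_surjective _ e.symm.surjective] at h2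
      exact h2.symm
    · intro K₁ K₂ h₁ h₂
      have hlift : ∀ K : Subgroup (↥Y ⧸ pCore p ↥Y), IsComponent K →
          IsComponent ((K.map e.toMonoidHom).map (Y.map π).subtype) := fun K hK =>
        (Components.isComponent_map_subtype_iff (Components.isSubnormal_of_normal _) _).2
          (Components.isComponent_map_equiv e hK)
      have hmem : ∀ (K : Subgroup (↥Y ⧸ pCore p ↥Y)) (x : G),
          x ∈ (K.comap (QuotientGroup.mk' (pCore p ↥Y))).map Y.subtype ↔
            x ∈ Y ∧ π x ∈ (K.map e.toMonoidHom).map (Y.map π).subtype := by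
        intro K x
        constructor
        · rintro ⟨y, hy, rfl⟩
          exact ⟨y.2, e y, ⟨_, hy, rfl⟩, he y⟩
        · rintro ⟨hx, w, ⟨k, hk, rfl⟩, hw⟩
          refine ⟨⟨x, hx⟩, ?_, rfl⟩
          show ((⟨x, hx⟩ : ↥Y) : ↥Y ⧸ pCore p ↥Y) ∈ K
          rw [e.injective (Subtype.ext ((he ⟨x, hx⟩).trans hw.symm) :
            e ((⟨x, hx⟩ : ↥Y) : ↥Y ⧸ pCore p ↥Y) = e k)]
          exact hk
      obtain ⟨σ, hσ, he'⟩ := E.transitive (D.map_Y ▸ hdvd) (hlift K₁ h₁)
        ((map_subtype_le _).trans D.map_Y.le) (hlift K₂ h₂) ((map_subtype_le _).trans D.map_Y.le)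
      rw [Sylow.coe_mapSurjective] at hσ
      obtain ⟨s, hs, rfl⟩ := hσ
      refine ⟨s, hs, ?_⟩
      ext x
      rw [hmem, he', OddLocal.mem_map_conj_iff, OddLocal.mem_map_conj_iff, hmem]
      refine and_congr ?_ (by rw [map_mul, map_mul, map_inv])
      constructor
      · intro hx
        simpa using ‹Y.Normal›.conj_mem x hx s⁻¹
      · intro hx
        simpa [mul_assoc] using ‹Y.Normal›.conj_mem _ hx s
  · left
    obtain ⟨t, -, -, -, hQY, -⟩ := E.coprime_case (D.map_Y ▸ hdvd)
    exact D.residual_eq_Y (hQY.trans D.map_Y.symm)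

theorem residual_le_fStar (D : Setup S P L Y) :
    pResidualOf p P ≤ (generalizedFittingSubgroup (G ⧸ pCore p G)).comap π :=
  map_le_iff_le_comap.1 D.data.residual_le_fStar

theorem solvable_case (D : Setup S P L Y) (hsol : Group.IsSolvable ↥Y) :
    pResidualOf p P = Y ∧
      ∃ _ : (pCore p ↥Y).Normal, ∃ t : ℕ, t.Prime ∧ t ≠ p ∧ IsPGroup t (↥Y ⧸ pCore p ↥Y) ∧
        ∃ _ : Group.IsNilpotent (↥Y ⧸ pCore p ↥Y),
          Group.nilpotencyClass (↥Y ⧸ pCore p ↥Y) ≤ 2 := by
  have E := D.data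
  haveI hn : (pCore p ↥Y).Normal := LocalEvenA.pCore_normal' p _
  obtain ⟨e, -⟩ := D.exists_equiv
  haveI := hsol
  have hs : Group.IsSolvable ↥(Y.map π) :=
    Group.isSolvable_of_surjective (MonoidHom.subgroupMap_surjective π Y)
  obtain ⟨t, ht, htp, hYt, hQY, hcl⟩ :=
    E.coprime_case (E.coprime_of_solvable (by rw [← D.map_Y]; exact hs))
  rw [← D.map_Y] at hYt hcl hQY
  refine ⟨D.residual_eq_Y hQY, hn, t, ht, htp, hYt.of_equiv e.symm, ?_⟩
  haveI hnilY : Group.IsNilpotent ↥(Y.map π) := isNilpotent_of_lowerCentralSeries_eq_bot hcl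
  have hnil : Group.IsNilpotent (↥Y ⧸ pCore p ↥Y) :=
    Group.nilpotent_of_surjective e.symm.toMonoidHom e.symm.surjective
  refine ⟨hnil, le_trans (Group.nilpotencyClass_le_of_surjective e.symm.toMonoidHom e.symm.surjective) ?_⟩
  rw [← Subgroup.lowerCentralSeries_eq_bot_iff_nilpotencyClass_le,
    ← map_injective (Y.map π).subtype_injective |>.eq_iff, top_subtype_lowerCentralSeries,
    Subgroup.map_bot]
  exact hcl

end Setup

end Cfsg.Agent.Isolated
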