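import Cfsg.Agent.Lib.Components.PLocal2
import Cfsg.Agent.Lib.Components.PComponent

/-!
# The preimage of the layer of `N_G(P) / O_{p'}(N_G(P))`
-/

set_option autoImplicit false
set_option linter.unusedSectionVars false
set_option linter.style.haveILetI false

namespace Cfsg.Agent.Components

open scoped commutatorElement
open Subgroup Cfsg

variable {G H C : Type*} [Group G] [Finite G] [Group H] [Finite H] [Group C] [Finite C]
  {p : ℕ} [hp : Fact p.Prime]

/-- The preimage of the layer of `G / O_{p'}(G)`. -/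
noncomputable def layerPre (p : ℕ) (G : Type*) [Group G] : Subgroup G :=
  (Cfsg.layer (G ⧸ Cfsg.pPrimeCore p G)).comap (QuotientGroup.mk' (Cfsg.pPrimeCore p G))

/-- The preimage of the layer of `N / O_{p'}(N)` as a subgroup of the ambient group. -/
noncomputable def lstar {G : Type*} [Group G] (p : ℕ) (N : Subgroup G) : Subgroup G :=
  (layerPre p ↥N).map N.subtype

theorem lstar_le (N : Subgroup G) : lstar p N ≤ N := map_subtype_le _

theorem pPrimeCore_le_layerPre : Cfsg.pPrimeCore p G ≤ layerPre p G :=
  le_trans (le_of_eq (QuotientGroup.ker_mk' _).symm) (MonoidHom.ker_le_comap _ _)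

/-- A quasisimple subgroup lies in every normalized subgroup catching all `p^k`-th powers. -/
theorem qs_le_of_pPower_mem {K N : Subgroup G} (hK : Cfsg.IsQuasisimple ↥K)
    (hn : K ≤ normalizer (N : Set G)) (h : ∀ x ∈ K, ∃ k : ℕ, x ^ p ^ k ∈ N) : K ≤ N := by
  rcases isQuasisimple_normalized_cases hK hn with h1 | h1
  · exact h1
  exfalso
  haveI := hK.2
  have hp' : IsPGroup p (↥K ⧸ center ↥K) := by
    intro q
    obtain ⟨x, rfl⟩ := QuotientGroup.mk'_surjective _ q
    obtain ⟨k, hk⟩ := h x x.2
    refine ⟨k, ?_⟩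
    rw [← map_pow]
    refine (QuotientGroup.eq_one_iff _).mpr ?_
    have hkc : ((x ^ p ^ k : ↥K) : G) ∈ (center ↥K).map K.subtype := by
      rw [map_subtype_center]
      refine ⟨(x ^ p ^ k).2, h1 ⟨?_, (x ^ p ^ k).2⟩⟩
      simpa using hk
    obtain ⟨b', hb', he⟩ := hkc
    rwa [← show b' = x ^ p ^ k from Subtype.ext he]
  haveI := hp'.isNilpotent
  haveI := hK.1
  exact Group.IsPerfect.not_isSolvable (↥K ⧸ center ↥K) inferInstance

theorem layerPre_le_of_coprime {W : Subgroup G}
    (h : ∀ x ∈ layerPre p G, (orderOf x).Coprime p → x ∈ W) : layerPre p G ≤ W := by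
  set O := Cfsg.pPrimeCore p G with hO
  set π := QuotientGroup.mk' O
  set S : Set G := {x | x ∈ layerPre p G ∧ (orderOf x).Coprime p} with hS
  set D := closure S with hD
  haveI hLn : (layerPre p G).Normal := Normal.comap inferInstance _
  have hDn : D.Normal := by
    apply normal_of_map_conj_eq
    intro g
    rw [hD, MonoidHom.map_closure]
    congr 1
    ext x
    constructor
    · rintro ⟨y, hy, rfl⟩
      exact ⟨hLn.conj_mem y hy.1 g, by
        rw [MulEquiv.coe_toMonoidHom, MulEquiv.orderOf_eq]; exact hy.2⟩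
    · intro hx
      refine ⟨g⁻¹ * x * g, ⟨?_, ?_⟩, by simp [mul_assoc]⟩
      · simpa using hLn.conj_mem x hx.1 g⁻¹
      · have : g⁻¹ * x * g = MulAut.conj g⁻¹ x := by simp
        rw [this, MulEquiv.orderOf_eq]; exact hx.2
  have hOD : O ≤ D := fun x hx => subset_closure ⟨pPrimeCore_le_layerPre hx,
    pPrimeCore_coprime.coprime_dvd_left (Subgroup.orderOf_dvd_natCard _ hx)⟩
  have hDW : D ≤ W := (closure_le _).mpr fun x hx => h x hx.1 hx.2
  refine le_trans ?_ hDW
  haveI := hDn.map π (QuotientGroup.mk'_surjective O)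
  have hlay : Cfsg.layer (G ⧸ O) ≤ D.map π := by
    rw [layer_le_iff]
    intro K hK
    refine qs_le_of_pPower_mem (p := p) hK.2 le_normalizer_of_normal fun q hq => ?_
    obtain ⟨x, rfl⟩ := QuotientGroup.mk'_surjective O q
    have hxL : x ∈ layerPre p G := component_le_layer hK hq
    obtain ⟨a, b, hab, ⟨k, hk⟩, hb, ha', hb'⟩ :=
      LocalEvenA.exists_pPart (p := p) (isOfFinOrder_of_finite x)
    refine ⟨k, b ^ p ^ k, pow_mem (show b ∈ D from subset_closure ⟨(zpowers_le.mpr hxL) hb', hb⟩) _, ?_⟩
    have hc : Commute a b := by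
      obtain ⟨i, rfl⟩ := mem_zpowers_iff.mp ha'
      obtain ⟨j, rfl⟩ := mem_zpowers_iff.mp hb'
      exact Commute.zpow_zpow (Commute.refl x) i j
    rw [← map_pow, ← hab, hc.mul_pow, hk, one_mul]
  calc layerPre p G ≤ (D.map π).comap π := comap_mono hlay
    _ = D := by rw [comap_map_eq, QuotientGroup.ker_mk', sup_eq_left.mpr hOD]

theorem layerPre_commute_pGroup {R : Subgroup G} [R.Normal] (hR : IsPGroup p ↥R) {x y : G}
    (hx : x ∈ layerPre p G) (hy : y ∈ R) : Commute x y := by
  set π := QuotientGroup.mk' (Cfsg.pPrimeCore p G)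
  haveI : (R.map π).Normal := Normal.map inferInstance _ (QuotientGroup.mk'_surjective _)
  haveI := (hR.map π).isNilpotent
  have h := commutator_eq_bot_iff_forall.mp
    (layer_commute_normal_solvable (R.map π) inferInstance) (π x) hx (π y) (mem_map_of_mem π hy)
  have h1 : ⁅x, y⁆ ∈ Cfsg.pPrimeCore p G ⊓ R := by
    refine ⟨(QuotientGroup.eq_one_iff _).mp ?_, ?_⟩
    · change π ⁅x, y⁆ = 1
      rw [map_commutatorElement]
      exact commutatorElement_eq_one_iff_mul_comm.mpr h
    · exact R.mul_mem (Normal.conj_mem inferInstance y hy x) (R.inv_mem hy)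
  rw [inf_eq_bot_of_coprime_isPGroup pPrimeCore_coprime hR, mem_bot] at h1
  exact commutatorElement_eq_one_iff_mul_comm.mp h1

theorem layerPre_of_normal_range (f : C →* H) (hf : Function.Injective f) (hn : f.range.Normal) :
    (layerPre p C).map f ≤ layerPre p H ∧
      (layerPre p H ≤ f.range → layerPre p H ≤ (layerPre p C).map f) := by
  set O := Cfsg.pPrimeCore p H with hO
  set π := QuotientGroup.mk' O with hπ
  set g := π.comp f with hg
  have hgk : g.ker = Cfsg.pPrimeCore p C := by
    apply le_antisymm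
    · refine le_pPrimeCore (MonoidHom.normal_ker g) ?_
      rw [← card_map_of_injective (K := g.ker) hf]
      refine pPrimeCore_coprime.coprime_dvd_left (card_dvd_of_le (?_ : g.ker.map f ≤ O))
      rintro _ ⟨x, hx, rfl⟩
      exact (QuotientGroup.eq_one_iff _).mp (MonoidHom.mem_ker.mp hx)
    · intro x hx
      refine (QuotientGroup.eq_one_iff _).mpr (subnormal_coprime_le_pPrimeCore
        (S := (Cfsg.pPrimeCore p C).map f) ?_ ?_ (mem_map_of_mem f hx))
      · refine isSubnormal_of_normal_in (K := f.range) (map_le_range _ _) (isSubnormal_of_normal _) ?_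
        have := le_normalizer_map (H := Cfsg.pPrimeCore p C) f
        rwa [normalizer_eq_top, ← MonoidHom.range_eq_map] at this
      · rw [card_map_of_injective hf]; exact pPrimeCore_coprime
  haveI hgn : g.range.Normal := by
    rw [MonoidHom.range_comp]
    exact hn.map _ (QuotientGroup.mk'_surjective O)
  let e : C ⧸ Cfsg.pPrimeCore p C ≃* ↥g.range :=
    (QuotientGroup.quotientMulEquivOfEq hgk.symm).trans (QuotientGroup.quotientKerEquivRange g)
  have he : ∀ x : C, ((e (QuotientGroup.mk' _ x) : ↥g.range) : H ⧸ O) = g x := fun x => rfl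
  have hlay := map_layer_equiv e
  constructor
  · rintro _ ⟨x, hx, rfl⟩
    have h1 : e (QuotientGroup.mk' _ x) ∈ Cfsg.layer ↥g.range := by
      rw [← hlay]; exact mem_map_of_mem _ hx
    have h2 := component_map_layer_le (isSubnormal_of_normal g.range)
      (mem_map_of_mem g.range.subtype h1)
    change g x ∈ Cfsg.layer (H ⧸ O)
    rw [← he x]
    exact h2
  · intro hle x hx
    obtain ⟨c, rfl⟩ := hle hx
    refine mem_map_of_mem f ?_
    have hlr : Cfsg.layer (H ⧸ O) ≤ (Cfsg.layer ↥g.range).map g.range.subtype := by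
      rw [layer_le_iff]
      intro K hK
      refine component_le_map_layer hK fun k hk => ?_
      obtain ⟨y, rfl⟩ := QuotientGroup.mk'_surjective O k
      obtain ⟨d, rfl⟩ := hle (show y ∈ layerPre p H from component_le_layer hK hk)
      exact ⟨d, rfl⟩
    obtain ⟨z, hz, hzc⟩ := hlr (show g c ∈ Cfsg.layer (H ⧸ O) from hx)
    have : z = e (QuotientGroup.mk' _ c) := Subtype.ext (hzc.trans (he c).symm)
    rw [this, ← hlay] at hz
    obtain ⟨w, hw, hwe⟩ := hz
    have hw' : w = QuotientGroup.mk' _ c := e.injective hwe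
    rw [hw'] at hw
    exact hw

theorem lstar_of_normal_in {A B : Subgroup G} (hle : A ≤ B) (hn : B ≤ normalizer (A : Set G)) :
    lstar p A ≤ lstar p B ∧ (lstar p B ≤ A → lstar p B ≤ lstar p A) := by
  have hr : (inclusion hle).range = A.subgroupOf B := inclusion_range hle
  have h := layerPre_of_normal_range (p := p) (inclusion hle) (inclusion_injective hle)
    (hr ▸ normal_subgroupOf_of_le_normalizer hn)
  have e : lstar p A = ((layerPre p ↥A).map (inclusion hle)).map B.subtype := by
    rw [lstar, map_map]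
    rfl
  refine ⟨e ▸ Subgroup.map_mono h.1, fun hBA => e ▸ Subgroup.map_mono (h.2 ?_)⟩
  rw [hr]
  exact fun x hx => hBA (mem_map_of_mem _ hx)

theorem lstar_le_of_coprime {N W : Subgroup G}
    (h : ∀ x ∈ lstar p N, (orderOf x).Coprime p → x ∈ W) : lstar p N ≤ W :=
  map_le_iff_le_comap.mpr (layerPre_le_of_coprime fun x hx hc =>
    h _ (mem_map_of_mem _ hx) (by rwa [show N.subtype x = (x : G) from rfl, Subgroup.orderOf_coe]))

theorem lstar_commute_pGroup {N R : Subgroup G} (hRN : R ≤ N) (hR : IsPGroup p ↥R)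
    (hn : N ≤ normalizer (R : Set G)) {x y : G} (hx : x ∈ lstar p N) (hy : y ∈ R) :
    Commute x y := by
  obtain ⟨x', hx', rfl⟩ := hx
  haveI : (R.subgroupOf N).Normal := normal_subgroupOf_of_le_normalizer hn
  exact congrArg Subtype.val (layerPre_commute_pGroup (R := R.subgroupOf N)
    (hR.comap_of_injective N.subtype N.subtype_injective) hx' (y := ⟨y, hRN hy⟩) hy).eq

theorem lstar_normalizer_le_centralizer {P : Subgroup G} (hP : IsPGroup p ↥P) :
    lstar p (normalizer (P : Set G)) ≤ centralizer (P : Set G) :=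
  fun _ hx => mem_centralizer_iff.mpr fun _ hy =>
    (lstar_commute_pGroup le_normalizer hP le_rfl hx hy).eq.symm

theorem isPGroup_pCore : IsPGroup p ↥(Cfsg.pCore p G) := sSup_isPGroup_of_normal

theorem lstar_normalizer_le_centralizer_pCore {P : Subgroup G} (hP : IsPGroup p ↥P) :
    lstar p (normalizer (P : Set G)) ≤ centralizer (Cfsg.pCore p G : Set G) := by
  set N := normalizer (P : Set G) with hN
  refine lstar_le_of_coprime fun x hx hc => ?_
  rw [mem_centralizer_iff]
  intro r hr
  refine (pq_lemma hP hc (fun y hy => lstar_commute_pGroup le_normalizer hP le_rfl hx hy)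
    isPGroup_pCore le_normalizer_of_normal (le_normalizer_of_normal (mem_top x))
    (fun r hr hrP => ?_) r hr).eq.symm
  refine lstar_commute_pGroup (R := Cfsg.pCore p G ⊓ N) inf_le_right
    (isPGroup_pCore.to_le inf_le_left) ?_ hx ⟨hr, ?_⟩
  · intro g hg
    apply mem_normalizer_of_map_conj_eq
    rw [Subgroup.map_inf _ _ _ (MulAut.conj g).injective,
      map_conj_eq_of_mem_normalizer (le_normalizer_of_normal (mem_top g)),
      map_conj_eq_of_mem_normalizer (le_normalizer hg)]
  · exact centralizer_le_normalizer _ (mem_centralizer_iff.mpr fun y hy => (hrP y hy).eq.symm)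

theorem lstar_normalizer_le_sup {P Z : Subgroup G} [Z.Normal] (hP : IsPGroup p ↥P)
    (hZ : Z ≤ Cfsg.pCore p G) :
    lstar p (normalizer (P : Set G)) ≤ lstar p (normalizer ((P ⊔ Z : Subgroup G) : Set G)) := by
  set N := normalizer (P : Set G)
  set A := centralizer ((P ⊔ Z : Subgroup G) : Set G) with hA
  have hAN : A ≤ N :=
    (centralizer_le (show (P : Set G) ⊆ ((P ⊔ Z : Subgroup G) : Set G) from SetLike.coe_subset_coe.mpr le_sup_left)).trans (centralizer_le_normalizer _)
  have hNA : N ≤ normalizer (A : Set G) := by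
    refine le_trans ?_ (normalizer_le_normalizer_centralizer _)
    intro g hg
    apply mem_normalizer_of_map_conj_eq
    rw [Subgroup.map_sup, map_conj_eq_of_mem_normalizer hg,
      map_conj_eq_of_mem_normalizer (le_normalizer_of_normal (mem_top g))]
  have h1 := (lstar_of_normal_in (p := p) hAN hNA).2 fun x hx => by
    rw [hA, mem_centralizer_iff]
    intro y hy
    have hle : P ⊔ Z ≤ centralizer ({x} : Set G) := by
      refine sup_le (fun u hu => ?_) (fun u hu => ?_)
      · rw [mem_centralizer_singleton_iff]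
        exact (lstar_commute_pGroup le_normalizer hP le_rfl hx hu).eq.symm
      · rw [mem_centralizer_singleton_iff]
        exact mem_centralizer_iff.mp (lstar_normalizer_le_centralizer_pCore hP hx) u (hZ hu)
    exact mem_centralizer_singleton_iff.mp (hle hy)
  exact h1.trans (lstar_of_normal_in (centralizer_le_normalizer _)
    (normalizer_le_normalizer_centralizer _)).1

end Cfsg.Agent.Components
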