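import Cfsg.Agent.Lib.Components.SylowFix
import Cfsg.Agent.Lib.Components.NormalizerLayer
import Cfsg.Agent.Lib.ClassK.LBalance

/-!
# L-balance for the prime 2

For every finite group `X` and 2-subgroup `T`, the 2-layer of `C_X(T)` lies in the 2-layer of `X`.
No hypothesis on composition factors is needed.
-/

set_option autoImplicit false
set_option linter.unusedSectionVars false
set_option linter.style.haveILetI false

namespace Cfsg.Agent.Components

open scoped commutatorElement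
open Subgroup Cfsg ConjFunctor

universe u

variable {G : Type u} [Group G] [Finite G]

local instance : Fact (Nat.Prime 2) := ⟨Nat.prime_two⟩

/-- An element normalizing an odd subgroup `O` and commuting with `l` modulo `O` commutes with an
element of `l O`. -/
theorem exists_commute_of_mod_odd (O : Subgroup G) (hO : (Nat.card O).Coprime 2) :
    ∀ (j : ℕ) (q : G), q ^ 2 ^ j = 1 → q ∈ normalizer (O : Set G) →
      ∀ l : G, l⁻¹ * (q * l * q⁻¹) ∈ O → ∃ o ∈ O, Commute q (l * o) := by
  intro j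
  induction j with
  | zero =>
    intro q hq _ l _
    rw [pow_zero, pow_one] at hq
    exact ⟨1, one_mem _, by rw [hq]; exact Commute.one_left _⟩
  | succ j ih =>
    intro q hq hqN l hl
    have hq2N : q * q ∈ normalizer (O : Set G) := mul_mem hqN hqN
    obtain ⟨o, ho, hc⟩ := ih (q * q) (by rw [← sq, ← pow_mul, ← pow_succ', hq]) hq2N l (by
      have h1 : q * (l⁻¹ * (q * l * q⁻¹)) * q⁻¹ ∈ O := (mem_normalizer_iff.mp hqN _).mp hl
      have h2 := mul_mem hl h1
      have e : l⁻¹ * (q * q * l * (q * q)⁻¹) =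
          l⁻¹ * (q * l * q⁻¹) * (q * (l⁻¹ * (q * l * q⁻¹)) * q⁻¹) := by group
      rwa [e])
    set y := l * o with hy
    set d := y⁻¹ * (q * y * q⁻¹) with hd
    have hdO : d ∈ O := by
      have e : d = o⁻¹ * (l⁻¹ * (q * l * q⁻¹)) * (q * o * q⁻¹) := by rw [hd, hy]; group
      rw [e]
      exact mul_mem (mul_mem (inv_mem ho) hl) ((mem_normalizer_iff.mp hqN _).mp ho)
    have hdq : q * d * q⁻¹ = d⁻¹ := by
      have hc' : q * q * y = y * (q * q) := hc.eq
      calc q * d * q⁻¹ = q * y⁻¹ * q⁻¹ * (q * q * y) * (q * q)⁻¹ := by rw [hd]; group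
        _ = q * y⁻¹ * q⁻¹ * (y * (q * q)) * (q * q)⁻¹ := by rw [hc']
        _ = d⁻¹ := by rw [hd]; group
    set n := Nat.card O with hn
    have hodd : n % 2 = 1 := Nat.odd_iff.mp (Nat.coprime_two_right.mp hO)
    have hdn : d ^ n = 1 :=
      congrArg Subtype.val (pow_card_eq_one' (x := (⟨d, hdO⟩ : ↥O)))
    set s := d ^ ((n + 1) / 2) with hs
    have hs2 : d * s⁻¹ = s := by
      rw [mul_inv_eq_iff_eq_mul, hs, ← pow_add,
        show (n + 1) / 2 + (n + 1) / 2 = n + 1 by omega, pow_succ, hdn, one_mul]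
    have hsq : q * s * q⁻¹ = s⁻¹ := by
      rw [hs, ← conj_pow, hdq, inv_pow]
    refine ⟨o * s, mul_mem ho (pow_mem hdO _), ?_⟩
    rw [← mul_assoc, ← hy, commute_iff_eq]
    calc q * (y * s) = (q * y * q⁻¹) * (q * s * q⁻¹) * q := by group
      _ = (y * d) * s⁻¹ * q := by rw [hsq, hd, mul_inv_cancel_left]
      _ = y * s * q := by rw [mul_assoc y, hs2]

/-- The invariant of the induction. -/
def GoodPair (K T L : Subgroup G) : Prop :=
  L ≤ centralizer (T : Set G) ∧ commutator ↥L = ⊤ ∧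
    ∀ l ∈ L, ∀ d ∈ K ⊓ centralizer (T : Set G),
      ⁅l, d⁆ ∈ (Cfsg.pPrimeCore 2 ↥(K ⊓ centralizer (T : Set G) : Subgroup G)).map
        (K ⊓ centralizer (T : Set G)).subtype

theorem goodPair_step {K T L : Subgroup G} [K.Normal] {q : G} (hqK : q ∈ K)
    (hqT : q ∈ normalizer (T : Set G)) {j : ℕ} (hqj : q ^ 2 ^ j = 1) (h : GoodPair K T L) :
    ∃ L₁, GoodPair K (T ⊔ zpowers q) L₁ ∧ L₁ ⊔ K = L ⊔ K := by
  classical
  obtain ⟨hLT, hperf, hcom⟩ := h
  set Cc := centralizer (T : Set G) with hCc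
  set D := K ⊓ Cc with hD
  set O := (Cfsg.pPrimeCore 2 ↥D).map D.subtype with hO
  have hOD : O ≤ D := map_subtype_le _
  have hOK : O ≤ K := hOD.trans inf_le_left
  have hOc : (Nat.card O).Coprime 2 := by
    rw [hO, card_map_of_injective D.subtype_injective]; exact pPrimeCore_coprime
  have hND : ∀ g ∈ normalizer (Cc : Set G), g ∈ normalizer (D : Set G) := fun g hg => by
    rw [← cj_eq_iff, hD, cj_inf, cj_eq_iff.mpr (le_normalizer_of_normal (mem_top g)),
      cj_eq_iff.mpr hg]
  have hqC : q ∈ normalizer (Cc : Set G) := normalizer_le_normalizer_centralizer T hqT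
  have hqD := hND q hqC
  have hqO : q ∈ normalizer (O : Set G) := le_normalizer_coreOf D hqD
  have hLD : L ≤ normalizer (D : Set G) := fun g hg => hND g (le_normalizer (hLT hg))
  have hLO : L ≤ normalizer (O : Set G) := hLD.trans (le_normalizer_coreOf D)
  -- `q` centralizes `L` modulo `O`
  have hd : ∀ l ∈ L, ⁅q, l⁆ ∈ D := by
    intro l hl
    refine ⟨?_, ?_⟩
    · have h1 := K.mul_mem hqK ((inferInstance : K.Normal).conj_mem q⁻¹ (K.inv_mem hqK) l)
      simpa [commutatorElement_def, mul_assoc] using h1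
    · rw [commutatorElement_def]
      exact Cc.mul_mem ((mem_normalizer_iff.mp hqC l).mp (hLT hl)) (Cc.inv_mem (hLT hl))
  set π := QuotientGroup.mk' (Cfsg.pPrimeCore 2 ↥D) with hπ
  have htriv : ∀ (a b : ↥D), ⁅(a : G), (b : G)⁆ ∈ O → π a * π b = π b * π a := by
    intro a b hab
    obtain ⟨o, ho, hoe⟩ := hab
    have e : o = ⁅a, b⁆ := Subtype.ext (by simpa [commutatorElement_def] using hoe)
    rw [← commutatorElement_eq_one_iff_mul_comm, ← map_commutatorElement, ← e]
    exact (QuotientGroup.eq_one_iff o).mpr ho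
  have hqL : ∀ l ∈ L, ∀ d ∈ D, ⁅q * l * q⁻¹, d⁆ ∈ O := by
    intro l hl d hd'
    have h1 : q⁻¹ * d * q ∈ D := (mem_normalizer_iff''.mp hqD d).mp hd'
    have h2 := (mem_normalizer_iff.mp hqO _).mp (hcom l hl _ h1)
    have e : ⁅q * l * q⁻¹, d⁆ = q * ⁅l, q⁻¹ * d * q⁆ * q⁻¹ := by
      simp only [commutatorElement_def]; group
    rwa [e]
  let f : ↥L →* ↥D ⧸ Cfsg.pPrimeCore 2 ↥D :=
    MonoidHom.mk' (fun a => π ⟨⁅q, (a : G)⁆, hd a a.2⟩) (fun a b => by
      obtain ⟨o, ho, hoe⟩ := hcom a a.2 _ (hd b b.2)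
      have hoe' : (o : G) = ⁅(a : G), ⁅q, (b : G)⁆⁆ := hoe
      have e : (⟨⁅q, ((a * b : ↥L) : G)⁆, hd _ (a * b).2⟩ : ↥D) =
          ⟨⁅q, (a : G)⁆, hd a a.2⟩ * (o * ⟨⁅q, (b : G)⁆, hd b b.2⟩) := by
        refine Subtype.ext ?_
        simp only [Subgroup.coe_mul, hoe', commutatorElement_def]
        group
      have ho1 : π o = 1 := (QuotientGroup.eq_one_iff o).mpr ho
      show π _ = π _ * π _
      rw [e, map_mul, map_mul, ho1, one_mul])
  have hfc : ∀ a b : ↥L, f a * f b = f b * f a := by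
    intro a b
    refine htriv ⟨_, hd a a.2⟩ ⟨_, hd b b.2⟩ ?_
    have h1 := hqL a a.2 _ (hd b b.2)
    have h2 : ⁅(a : G)⁻¹, ⁅q, (b : G)⁆⁆ ∈ O := hcom _ (inv_mem a.2) _ (hd b b.2)
    have e : ⁅⁅q, (a : G)⁆, ⁅q, (b : G)⁆⁆ = (q * a * q⁻¹) * ⁅(a : G)⁻¹, ⁅q, (b : G)⁆⁆ *
        (q * a * q⁻¹)⁻¹ * ⁅q * a * q⁻¹, ⁅q, (b : G)⁆⁆ := by
      simp only [commutatorElement_def]; group
    show ⁅⁅q, (a : G)⁆, ⁅q, (b : G)⁆⁆ ∈ O
    rw [e]
    refine O.mul_mem ((mem_normalizer_iff.mp ?_ _).mp h2) h1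
    exact (normalizer (O : Set G)).mul_mem ((normalizer (O : Set G)).mul_mem hqO (hLO a.2))
      ((normalizer (O : Set G)).inv_mem hqO)
  have hker : commutator ↥L ≤ f.ker := by
    rw [_root_.commutator_def, commutator_le]
    intro a _ b _
    rw [MonoidHom.mem_ker, map_commutatorElement, commutatorElement_eq_one_iff_mul_comm]
    exact hfc a b
  have hqlO : ∀ l ∈ L, ⁅q, l⁆ ∈ O := fun l hl => by
    have h1 : f ⟨l, hl⟩ = 1 := MonoidHom.mem_ker.mp (hker (hperf ▸ mem_top _))
    exact mem_map_of_mem D.subtype ((QuotientGroup.eq_one_iff (N := Cfsg.pPrimeCore 2 ↥D) _).mp h1)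
  -- a minimal replacement of `L`
  set W := (L ⊔ O) ⊓ centralizer ({q} : Set G) with hW
  have hWL : L ≤ W ⊔ K := by
    intro l hl
    obtain ⟨o, ho, hc⟩ := exists_commute_of_mod_odd O hOc j q hqj hqO l (by
      have h1 := (mem_normalizer_iff.mp (hLO (inv_mem hl)) _).mp (hqlO l hl)
      have e : l⁻¹ * ⁅q, l⁆ * (l⁻¹)⁻¹ = l⁻¹ * (q * l * q⁻¹) := by
        simp only [commutatorElement_def]; group
      rwa [e] at h1)
    have h1 : l * o ∈ W := ⟨mul_mem (mem_sup_left hl) (mem_sup_right ho),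
      mem_centralizer_singleton_iff.mpr hc.eq.symm⟩
    have := mul_mem (mem_sup_left (T := K) h1) (mem_sup_right (S := W) (hOK (inv_mem ho)))
    simpa using this
  obtain ⟨L₁, hmin⟩ := (Set.toFinite {M : Subgroup G | M ≤ W ∧ L ≤ M ⊔ K}).exists_minimal
    ⟨W, le_rfl, hWL⟩
  obtain ⟨hL₁W, hL₁⟩ := hmin.prop
  have hL₁perf : ⁅L₁, L₁⁆ = L₁ := by
    refine le_antisymm (commutator_le_self _) (hmin.le_of_le ⟨(commutator_le_self _).trans hL₁W, ?_⟩
      (commutator_le_self _))
    set σ := QuotientGroup.mk' K with hσ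
    have h1 : L.map σ ≤ L₁.map σ := by
      refine (Subgroup.map_mono hL₁).trans ?_
      rw [Subgroup.map_sup, show K.map σ = ⊥ by rw [Subgroup.map_eq_bot_iff, QuotientGroup.ker_mk'],
        sup_bot_eq]
    have hLc : ⁅L, L⁆ = L := Subgroup.isPerfect_iff.mp ⟨hperf⟩
    have h2 : L.map σ ≤ (⁅L₁, L₁⁆).map σ := by
      rw [map_commutator]
      conv_lhs => rw [← hLc, map_commutator]
      exact commutator_mono h1 h1
    rw [map_le_iff_le_comap, comap_map_eq, QuotientGroup.ker_mk'] at h2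
    exact h2
  have hLOC : L ⊔ O ≤ Cc := sup_le hLT (hOD.trans inf_le_right)
  refine ⟨L₁, ⟨?_, (Subgroup.isPerfect_iff.mpr hL₁perf).commutator_eq_top, ?_⟩, ?_⟩
  · intro x hx
    have hxq := (hL₁W hx).2
    have : T ⊔ zpowers q ≤ centralizer ({x} : Set G) := by
      refine sup_le (fun t ht => ?_) (zpowers_le.mpr ?_)
      · exact mem_centralizer_singleton_iff.mpr
          (mem_centralizer_iff.mp (hLOC (hL₁W hx).1) t ht)
      · exact mem_centralizer_singleton_iff.mpr (mem_centralizer_singleton_iff.mp hxq).symm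
    exact mem_centralizer_iff.mpr fun t ht => mem_centralizer_singleton_iff.mp (this ht)
  · intro x hx d hd'
    set D' := K ⊓ centralizer ((T ⊔ zpowers q : Subgroup G) : Set G) with hD'
    have hD'D : D' ≤ D := inf_le_inf_left K (centralizer_le (SetLike.coe_subset_coe.mpr le_sup_left))
    have h1 : ⁅x, d⁆ ∈ O := by
      have hx' : x ∈ ((L ⊔ O : Subgroup G) : Set G) := (hL₁W hx).1
      rw [coe_mul_of_left_le_normalizer_right _ _ hLO] at hx'
      obtain ⟨l, hl, o, ho, rfl⟩ := hx'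
      have h2 : ⁅o, d⁆ ∈ O := by
        rw [commutatorElement_def, mul_assoc, mul_assoc]
        refine O.mul_mem ho ?_
        rw [← mul_assoc]
        exact (mem_normalizer_iff.mp (le_normalizer_coreOf D (le_normalizer (hD'D hd'))) _).mp
          (O.inv_mem ho)
      have h3 := (mem_normalizer_iff.mp (hLO hl) _).mp h2
      have e : ⁅l * o, d⁆ = l * ⁅o, d⁆ * l⁻¹ * ⁅l, d⁆ := by
        simp only [commutatorElement_def]; group
      rw [e]
      exact O.mul_mem h3 (hcom l hl d (hD'D hd'))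
    have hN : (O.subgroupOf D').Normal :=
      normal_subgroupOf_of_le_normalizer fun g hg => le_normalizer_coreOf D (le_normalizer (hD'D hg))
    have h2 : O.subgroupOf D' ≤ Cfsg.pPrimeCore 2 ↥D' := by
      refine le_pPrimeCore hN ?_
      rw [← card_map_of_injective (K := O.subgroupOf D') D'.subtype_injective, subgroupOf_map_subtype]
      exact hOc.coprime_dvd_left (card_dvd_of_le inf_le_left)
    have hxD' : ⁅x, d⁆ ∈ D' := by
      refine ⟨hOK h1, ?_⟩
      have hxc : x ∈ centralizer ((T ⊔ zpowers q : Subgroup G) : Set G) := by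
        refine mem_centralizer_iff.mpr fun t ht => mem_centralizer_singleton_iff.mp
          ((sup_le (fun t ht => ?_) (zpowers_le.mpr ?_) : T ⊔ zpowers q ≤ centralizer ({x} : Set G)) ht)
        · exact mem_centralizer_singleton_iff.mpr
            (mem_centralizer_iff.mp (hLOC (hL₁W hx).1) t ht)
        · exact mem_centralizer_singleton_iff.mpr
            (mem_centralizer_singleton_iff.mp (hL₁W hx).2).symm
      rw [commutatorElement_def]
      refine Subgroup.mul_mem _ (Subgroup.mul_mem _ (Subgroup.mul_mem _ hxc hd'.2)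
        (Subgroup.inv_mem _ hxc)) (Subgroup.inv_mem _ hd'.2)
    exact ⟨⟨_, hxD'⟩, h2 h1, rfl⟩
  · refine le_antisymm (sup_le ?_ le_sup_right) (sup_le hL₁ le_sup_right)
    exact (hL₁W.trans inf_le_left).trans (sup_le le_sup_left (hOK.trans le_sup_right))

/-- Growing `T` up to a Sylow 2-subgroup of `K`. -/
theorem exists_goodPair_sylow {K : Subgroup G} [K.Normal] :
    ∀ (n : ℕ) (T L : Subgroup G), Nat.card G ≤ Nat.card T + n → IsPGroup 2 T → GoodPair K T L →
      ∃ S L₀ : Subgroup G, IsSylIn 2 S K ∧ L₀ ≤ centralizer (S : Set G) ∧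
        commutator ↥L₀ = ⊤ ∧ L₀ ⊔ K = L ⊔ K := by
  intro n
  induction n using Nat.strong_induction_on with
  | _ n ih =>
  intro T L hn hT hgood
  obtain ⟨R, hR, hTR⟩ := exists_isSylIn_ge (p := 2) (le_sup_right : T ≤ K ⊔ T) hT
  by_cases hTe : T = R
  · refine ⟨R ⊓ K, L, ?_, hgood.1.trans (centralizer_le (hTe ▸ inf_le_left)), hgood.2.1, rfl⟩
    refine isSylIn_inf_of_conj hR.2.1 fun W hW _ hWK => ?_
    obtain ⟨c, -, hc⟩ := exists_conj_le_of_isSylIn hR (hWK.trans le_sup_left) hW
    exact ⟨c, le_normalizer_of_normal (mem_top c), hc⟩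
  obtain ⟨q, hq, hqT⟩ := SetLike.exists_of_lt (lt_nS hR.2.1 hTR hTe)
  have hq' : q ∈ ((K ⊔ T : Subgroup G) : Set G) := hR.1 hq.1
  rw [normal_mul] at hq'
  obtain ⟨k, hk, t, ht, rfl⟩ := hq'
  have hkR : k ∈ R := by simpa using R.mul_mem hq.1 (R.inv_mem (hTR ht))
  have hkN : k ∈ normalizer (T : Set G) := by
    simpa using (normalizer (T : Set G)).mul_mem hq.2 ((normalizer (T : Set G)).inv_mem (le_normalizer ht))
  have hkT : k ∉ T := fun hkT => hqT (mul_mem hkT ht)
  obtain ⟨j, hj⟩ := hR.2.1 ⟨k, hkR⟩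
  obtain ⟨L₁, hgood₁, hL₁⟩ := goodPair_step hk hkN (congrArg Subtype.val hj) hgood
  have hlt : Nat.card T < Nat.card (T ⊔ zpowers k : Subgroup G) :=
    lt_of_le_of_ne (card_le_of_le le_sup_left) fun e => hkT (by
      rw [eq_of_le_of_card_ge (le_sup_left : T ≤ T ⊔ zpowers k) e.ge]
      exact mem_sup_right (mem_zpowers k))
  have hle : Nat.card (T ⊔ zpowers k : Subgroup G) ≤ Nat.card G :=
    Subgroup.card_le_card_group _
  obtain ⟨S, L₀, hS, hc, hp, he⟩ := ih (Nat.card G - Nat.card (T ⊔ zpowers k : Subgroup G))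
    (by omega) (T ⊔ zpowers k) L₁ (by omega)
    (hR.2.1.to_le (sup_le hTR (zpowers_le.mpr hkR))) hgood₁
  exact ⟨S, L₀, hS, hc, hp, he.trans hL₁⟩

theorem le_sup_centralizer_of_goodPair (hO : Cfsg.pPrimeCore 2 G = ⊥) {K T L : Subgroup G}
    [K.Normal] (hT : IsPGroup 2 T) (h : GoodPair K T L) (hgen : pGen 2 L = L) :
    L ≤ K ⊔ centralizer (K : Set G) := by
  obtain ⟨S, L₀, hS, hc, hp, he⟩ :=
    exists_goodPair_sylow (Nat.card G) T L (Nat.le_add_left _ _) hT h
  have h1 : pGen 2 L₀ ≤ centralizer (K : Set G) := by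
    refine (closure_le _).mpr ?_
    rintro u ⟨hu, j, hj⟩
    refine mem_centralizer_iff.mpr fun k hk => ?_
    have := commutator_mem_core_of_centralizes_sylow hS hc hp hu hj hk
    rw [hO, mem_bot] at this
    exact (commutatorElement_eq_one_iff_mul_comm.mp this).symm
  set σ := QuotientGroup.mk' K with hσ
  have hmap : ∀ M : Subgroup G, (M ⊔ K).map σ = M.map σ := fun M => by
    rw [Subgroup.map_sup, show K.map σ = ⊥ by rw [Subgroup.map_eq_bot_iff, QuotientGroup.ker_mk'],
      sup_bot_eq]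
  have h2 : L.map σ ≤ (centralizer (K : Set G)).map σ := by
    rw [← hgen, map_pGen, ← hmap L, ← he, hmap, ← map_pGen]
    exact Subgroup.map_mono h1
  rw [map_le_iff_le_comap, comap_map_eq, QuotientGroup.ker_mk'] at h2
  exact h2.trans (sup_comm _ _).le

/-- L-balance in a core-free group. -/
theorem pComponent_centralizer_le_layer (hO : Cfsg.pPrimeCore 2 G = ⊥) {T C : Subgroup G}
    (hT : IsPGroup 2 T) (hC : C = centralizer (T : Set G)) {J : Subgroup ↥C}
    (hJ : Cfsg.IsPComponent 2 J) : J.map C.subtype ≤ Cfsg.layer G := by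
  set L := J.map C.subtype with hL
  set E := Cfsg.layer G with hE
  set D' := E.subgroupOf C with hD'
  have hLperf : ⁅L, L⁆ = L := by rw [hL, ← map_commutator, pComponent_commutator_eq_self hJ]
  have hLgen : pGen 2 L = L := by rw [hL, ← map_pGen, pComponent_pGen hJ]
  set O' := Cfsg.pPrimeCore 2 ↥C
  set π := QuotientGroup.mk' O'
  rcases component_le_or_commute hJ.2.1
    ((isSubnormal_of_normal D').map (QuotientGroup.mk'_surjective O')) with h1 | h1
  · rw [map_le_iff_le_comap, comap_map_eq, QuotientGroup.ker_mk'] at h1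
    have h2 : J ≤ D' := by
      rw [← pComponent_pGen hJ]
      refine (pGen_mono h1).trans (pGen_le_of_coprime_relIndex
        (isSubnormal_of_normal _).subgroupOf ?_)
      exact pPrimeCore_coprime.coprime_dvd_left (relIndex_self_sup_dvd _ _)
    exact map_le_iff_le_comap.mpr h2
  rw [← map_commutator, Subgroup.map_eq_bot_iff, QuotientGroup.ker_mk'] at h1
  have hgood : GoodPair E T L := by
    refine ⟨hC ▸ map_subtype_le J, (Subgroup.isPerfect_iff.mpr hLperf).commutator_eq_top, ?_⟩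
    rw [← hC]
    rintro _ ⟨a, ha, rfl⟩ d hd
    set D := E ⊓ C with hD
    have h2 : ⁅a, ⟨d, hd.2⟩⁆ ∈ O' := h1 (commutator_mem_commutator ha hd.1)
    set N := (O'.map C.subtype).subgroupOf D with hN
    have hNn : N.Normal := normal_subgroupOf_of_le_normalizer fun g hg =>
      le_normalizer_coreOf C (le_normalizer hg.2)
    have h3 : N ≤ Cfsg.pPrimeCore 2 ↥D := by
      refine le_pPrimeCore hNn ?_
      rw [← card_map_of_injective (K := N) D.subtype_injective, subgroupOf_map_subtype]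
      refine Nat.Coprime.coprime_dvd_left (card_dvd_of_le inf_le_left) ?_
      rw [card_map_of_injective C.subtype_injective]
      exact pPrimeCore_coprime
    have h4 : ⁅(a : G), d⁆ ∈ D := by
      refine ⟨?_, ?_⟩
      · rw [commutatorElement_def]
        exact E.mul_mem ((inferInstance : E.Normal).conj_mem d hd.1 _) (E.inv_mem hd.1)
      · exact (⁅a, (⟨d, hd.2⟩ : ↥C)⁆).2
    have h5 : ⁅(a : G), d⁆ ∈ O'.map C.subtype := ⟨_, h2, rfl⟩
    exact ⟨⟨_, h4⟩, h3 h5, rfl⟩
  have hle := le_sup_centralizer_of_goodPair hO hT hgood hLgen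
  -- `L` centralizes `O_2(G)`
  have hLR : L ≤ centralizer (Cfsg.pCore 2 G : Set G) := by
    have h2 : L ≤ lstar 2 C := by
      refine Subgroup.map_mono ?_
      exact map_le_iff_le_comap.mp (component_le_layer hJ.2.1)
    exact (h2.trans (lstar_of_normal_in (hC ▸ centralizer_le_normalizer _)
      (hC ▸ normalizer_le_normalizer_centralizer T)).1).trans (lstar_normalizer_le_centralizer_pCore hT)
  have hF : Cfsg.fittingSubgroup G = Cfsg.pCore 2 G := fitting_eq_pCore_of_core_eq_bot hO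
  have hle2 : L ≤ E ⊔ Cfsg.fittingSubgroup G := by
    intro x hx
    have hx' : x ∈ ((E ⊔ centralizer (E : Set G) : Subgroup G) : Set G) := hle hx
    rw [normal_mul] at hx'
    obtain ⟨e, he, c, hc, rfl⟩ := hx'
    have hcR : c ∈ centralizer (Cfsg.fittingSubgroup G : Set G) := by
      have := mul_mem (inv_mem (layer_le_centralizer_fitting he)) (hF ▸ hLR hx :
        e * c ∈ centralizer (Cfsg.fittingSubgroup G : Set G))
      simpa using this
    have hcF : c ∈ Cfsg.generalizedFittingSubgroup G := by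
      refine centralizer_fStar_le ?_
      have hFS : Cfsg.generalizedFittingSubgroup G ≤ centralizer ({c} : Set G) := by
        rw [Cfsg.generalizedFittingSubgroup]
        refine sup_le (fun a ha => ?_) (fun a ha => ?_)
        · exact mem_centralizer_singleton_iff.mpr (mem_centralizer_iff.mp hc a ha)
        · exact mem_centralizer_singleton_iff.mpr (mem_centralizer_iff.mp hcR a ha)
      exact mem_centralizer_iff.mpr fun a ha => mem_centralizer_singleton_iff.mp (hFS ha)
    exact mul_mem (mem_sup_left he) hcF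
  set σ := QuotientGroup.mk' E with hσ
  have h6 : L.map σ ≤ (Cfsg.fittingSubgroup G).map σ := by
    refine (Subgroup.map_mono hle2).trans ?_
    rw [Subgroup.map_sup, show E.map σ = ⊥ by rw [Subgroup.map_eq_bot_iff, QuotientGroup.ker_mk'],
      bot_sup_eq]
  haveI hnil : Group.IsNilpotent ↥((Cfsg.fittingSubgroup G).map σ) :=
    map_nilpotent fitting_isNilpotent σ
  haveI hs : Group.IsSolvable ↥(L.map σ) :=
    Group.isSolvable_of_isSolvable_injective (inclusion_injective h6)
  by_contra hne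
  have hne' : L.map σ ≠ ⊥ := by
    rw [Ne, Subgroup.map_eq_bot_iff, QuotientGroup.ker_mk']
    exact hne
  haveI := (nontrivial_iff_ne_bot _).mpr hne'
  haveI : Group.IsPerfect ↥(L.map σ) :=
    Subgroup.isPerfect_iff.mpr (by rw [← map_commutator, hLperf])
  exact Group.IsPerfect.not_isSolvable ↥(L.map σ) hs

/-- L-balance for the prime 2. -/
theorem lBalanceTwo {T : Subgroup G} (hT : IsPGroup 2 T) :
    (Cfsg.pLayer 2 ↥(centralizer (T : Set G))).map (centralizer (T : Set G)).subtype ≤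
      Cfsg.pLayer 2 G := by
  set O := Cfsg.pPrimeCore 2 G with hOdef
  set π := QuotientGroup.mk' O with hπ
  set N := centralizer (T : Set G) with hN
  set N' := centralizer ((T.map π : Subgroup (G ⧸ O)) : Set (G ⧸ O)) with hN'
  have hNN : N.map π = N' := map_centralizer_of_coprime pPrimeCore_coprime hT
  let f : ↥N →* ↥N' := (MulEquiv.subgroupCongr hNN).toMonoidHom.comp (π.subgroupMap N)
  have hf : Function.Surjective f :=
    (MulEquiv.subgroupCongr hNN).surjective.comp (π.subgroupMap_surjective N)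
  have hfc : ∀ a : ↥N, (f a : G ⧸ O) = π a := fun a => rfl
  have hk : (Nat.card f.ker).Coprime 2 := by
    have h1 : f.ker.map N.subtype ≤ O := by
      rintro _ ⟨a, ha, rfl⟩
      refine (QuotientGroup.eq_one_iff _).mp ?_
      exact (hfc a).symm.trans (congrArg Subtype.val (MonoidHom.mem_ker.mp ha))
    rw [← card_map_of_injective (K := f.ker) N.subtype_injective]
    exact pPrimeCore_coprime.coprime_dvd_left (card_dvd_of_le h1)
  set L := (Cfsg.pLayer 2 ↥N).map N.subtype with hLdef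
  have hO' : Cfsg.pPrimeCore 2 (G ⧸ O) = ⊥ := pPrimeCore_quotient_eq_bot
  have hgenL : pGen 2 L = L := by rw [hLdef, ← map_pGen, ClassK.pGen_pLayer]
  have h5 : L.map π ≤ Cfsg.layer (G ⧸ O) := by
    -- the image lies in the preimage of the layer of `C / O(C)`, hence in the 2-layer of `C`
    have h1 : (Cfsg.pLayer 2 ↥N).map f ≤ Cfsg.pLayer 2 ↥N' := by
      set P' := Cfsg.pLayer 2 ↥N'
      have h2 : layerPre 2 ↥N' ≤ P' ⊔ Cfsg.pPrimeCore 2 ↥N' := by
        rw [layerPre, ← map_pLayer, comap_map_eq, QuotientGroup.ker_mk']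
      rw [← ClassK.pGen_pLayer, map_pGen]
      refine (pGen_mono ((ClassK.map_pLayer_le_layerPre f hf hk).trans h2)).trans
        (pGen_le_of_coprime_relIndex (isSubnormal_of_normal _).subgroupOf ?_)
      exact pPrimeCore_coprime.coprime_dvd_left (relIndex_self_sup_dvd _ _)
    have h3 : L.map π ≤ (Cfsg.pLayer 2 ↥N').map N'.subtype := by
      rintro _ ⟨_, ⟨a, ha, rfl⟩, rfl⟩
      exact ⟨f a, h1 (mem_map_of_mem f ha), hfc a⟩
    refine h3.trans (map_le_iff_le_comap.mpr (sSup_le fun J hJ => ?_))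
    exact map_le_iff_le_comap.mp (pComponent_centralizer_le_layer hO' (hT.map π) hN' hJ)
  rw [← map_pLayer, map_le_iff_le_comap, comap_map_eq, QuotientGroup.ker_mk'] at h5
  rw [← hgenL]
  refine (pGen_mono h5).trans ?_
  refine pGen_le_of_coprime_relIndex (isSubnormal_of_normal _).subgroupOf ?_
  exact pPrimeCore_coprime.coprime_dvd_left (relIndex_self_sup_dvd _ _)

end Cfsg.Agent.Components
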