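import Cfsg.Agent.Lib.Components.Descent

set_option autoImplicit false

namespace Cfsg.Agent.Components.ResLimit

open Cfsg Cfsg.Agent.Fusion

universe u

variable {Ω : Type u} [Group Ω] {p : ℕ}

/-- A residual limit is a subsystem. -/
theorem limit_sub {U S : Subgroup Ω} {L : FusionSystem U} {F : FusionSystem S}
    (h : L.IsResidualLimitOf F p) : L.IsSubsystemOf F := by
  induction h with
  | stable G p h1 h2 => exact fun _ _ h => h
  | step G p D D' hD hD' hlim ih => exact fun P φ hφ => hD.2.1 P (hD'.2.1.1 P (ih P hφ))

end Cfsg.Agent.Components.ResLimit
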