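import Cfsg.Agent.Lib.Components.SupersolubleType
import Cfsg.Agent.Lib.Fusion.FrattiniAction
import Cfsg.Agent.Lib.Invol.MaxClassTwo
import Cfsg.Agent.Lib.Basics.Frattini
import Cfsg.Prelude.Def_CaseTheorems

/-!
A metacyclic `p`-group which is not homocyclic of rank two and, for `p = 2`, not of maximal class has a
characteristic line in its Frattini quotient; its `p'`-automorphism groups are abelian of exponent `p - 1`.
-/

set_option autoImplicit false
set_option linter.style.haveILetI false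

namespace Cfsg.Agent.Components.MetaLine

open Cfsg
open scoped commutatorElement

universe u

variable {W : Type u} [Group W] {p : ℕ} [hp : Fact p.Prime]

/-- Action on the quotient by a characteristic subgroup. -/
noncomputable def chRep (K : Subgroup W) [K.Characteristic] : MulAut W →* MulAut (W ⧸ K) where
  toFun φ := QuotientGroup.congr K K φ (Subgroup.characteristic_iff_map_eq.mp inferInstance φ)
  map_one' := MulEquiv.ext fun x => by
    obtain ⟨x, rfl⟩ := QuotientGroup.mk_surjective x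
    rfl
  map_mul' a b := MulEquiv.ext fun x => by
    obtain ⟨x, rfl⟩ := QuotientGroup.mk_surjective x
    rfl

theorem scalar {B : Type u} [Group B] (C : Subgroup B) (hC : Nat.card C ∣ p) (σ τ : MulAut B)
    (hσ : ∀ x ∈ C, σ x ∈ C) (hτ : ∀ x ∈ C, τ x ∈ C) :
    (∀ x ∈ C, σ (τ x) = τ (σ x)) ∧ ∀ x ∈ C, (σ ^ (p - 1)) x = x := by
  haveI : Finite C := Nat.finite_of_card_ne_zero fun h => by
    rw [h, zero_dvd_iff] at hC; exact hp.out.ne_zero hC
  haveI : IsCyclic C := by
    rcases (Nat.dvd_prime hp.out).mp hC with h | h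
    · haveI := (Nat.card_eq_one_iff_unique.mp h).1
      infer_instance
    · exact isCyclic_of_prime_card h
  obtain ⟨⟨c, hc⟩, hgen⟩ := IsCyclic.exists_generator (α := C)
  have hg : ∀ x ∈ C, ∃ j : ℤ, c ^ j = x := fun x hx => by
    obtain ⟨j, hj⟩ := hgen ⟨x, hx⟩
    exact ⟨j, congrArg Subtype.val hj⟩
  obtain ⟨i, hi⟩ := hg _ (hσ c hc)
  obtain ⟨k, hk⟩ := hg _ (hτ c hc)
  have hs : ∀ x ∈ C, σ x = x ^ i := fun x hx => by
    obtain ⟨j, rfl⟩ := hg x hx
    rw [map_zpow, ← hi, ← zpow_mul, ← zpow_mul, mul_comm]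
  have ht : ∀ x ∈ C, τ x = x ^ k := fun x hx => by
    obtain ⟨j, rfl⟩ := hg x hx
    rw [map_zpow, ← hk, ← zpow_mul, ← zpow_mul, mul_comm]
  refine ⟨fun x hx => by rw [hs _ (hτ x hx), ht _ hx, ht _ (hσ x hx), hs _ hx, ← zpow_mul, ← zpow_mul,
    mul_comm], fun x hx => ?_⟩
  have hn : ∀ n : ℕ, (σ ^ n) x = x ^ (i ^ n) := by
    intro n
    induction n with
    | zero => simp
    | succ n ih => rw [pow_succ' σ, MulAut.mul_apply, ih, map_zpow, hs x hx, ← zpow_mul, pow_succ']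
  by_cases hx1 : x = 1
  · rw [hx1, map_one]
  have hxp : x ^ (p : ℤ) = 1 := by
    rw [zpow_natCast]
    exact orderOf_dvd_iff_pow_eq_one.mp
      ((Subgroup.orderOf_mk x hx ▸ orderOf_dvd_natCard (⟨x, hx⟩ : C) : orderOf x ∣ _).trans hC)
  have hi0 : ¬ (p : ℤ) ∣ i := fun ⟨t, ht⟩ => hx1 (σ.injective (by
    rw [hs x hx, ht, zpow_mul, hxp, one_zpow, map_one]))
  have hfer : (p : ℤ) ∣ i ^ (p - 1) - 1 := by
    rw [← ZMod.intCast_zmod_eq_zero_iff_dvd]
    push_cast
    rw [ZMod.pow_card_sub_one_eq_one (fun h => hi0 ((ZMod.intCast_zmod_eq_zero_iff_dvd i p).mp h)),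
      sub_self]
  obtain ⟨t, ht⟩ := hfer
  rw [hn, show i ^ (p - 1) = (p : ℤ) * t + 1 by omega, zpow_add, zpow_mul, hxp, one_zpow, one_mul,
    zpow_one]

theorem card_quot_le [Finite W] (hW : IsPGroup p W) {a b : W} (hgen : ∀ w : W, ∃ i j : ℤ, w = a ^ i * b ^ j) :
    (frattini W).index ∣ p ^ 2 := by
  obtain ⟨n, hn⟩ := hW.exists_card_eq
  obtain ⟨r, -, hr⟩ := (Nat.dvd_prime_pow hp.out).mp (hn ▸ (frattini W).index_dvd_card)
  rw [hr]
  refine Nat.pow_dvd_pow p ?_
  have hp1 : ∀ x : W ⧸ frattini W, x ^ p = 1 := fun x => by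
    obtain ⟨x, rfl⟩ := QuotientGroup.mk_surjective x
    exact (QuotientGroup.eq_one_iff _).mpr (Basics.pow_mem_frattini hW x)
  let f : Fin p × Fin p → W ⧸ frattini W := fun ij => (a : W ⧸ frattini W) ^ (ij.1 : ℕ) * (b : W ⧸ frattini W) ^ (ij.2 : ℕ)
  have hf : Function.Surjective f := fun q => by
    obtain ⟨w, rfl⟩ := QuotientGroup.mk_surjective q
    obtain ⟨i, j, rfl⟩ := hgen w
    have hm : ∀ (x : W ⧸ frattini W) (i : ℤ), ∃ k : Fin p, x ^ (k : ℕ) = x ^ i := fun x i => by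
      refine ⟨⟨(i % p).toNat, by
        have := Int.emod_lt_of_pos i (b := (p : ℤ)) (by exact_mod_cast hp.out.pos)
        have h0 : 0 ≤ i % (p : ℤ) := Int.emod_nonneg _ (by exact_mod_cast hp.out.ne_zero)
        omega⟩, ?_⟩
      rw [← zpow_natCast, Int.toNat_of_nonneg (Int.emod_nonneg _ (by exact_mod_cast hp.out.ne_zero))]
      conv_rhs => rw [← Int.emod_add_mul_ediv i p, zpow_add, zpow_mul, zpow_natCast, hp1, one_zpow, mul_one]
    obtain ⟨k, hk⟩ := hm a i
    obtain ⟨l, hl⟩ := hm b j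
    exact ⟨(k, l), by simp [f, hk, hl]⟩
  have := Nat.card_le_card_of_surjective f hf
  rw [← Subgroup.index_eq_card, hr, Nat.card_prod, Nat.card_fin, ← pow_two] at this
  exact (Nat.pow_le_pow_iff_right hp.out.one_lt).mp this

theorem two_mem_frattini_index [Finite W] (hW : IsPGroup p W) {a b : W}
    (hgen : ∀ w : W, ∃ i j : ℤ, w = a ^ i * b ^ j) (h2 : (frattini W).index = p ^ 2) {i j : ℤ}
    (hw : a ^ i * b ^ j ∈ frattini W) : (p : ℤ) ∣ i ∧ (p : ℤ) ∣ j := by
  set N := frattini W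
  have hp1 : ∀ x : W ⧸ N, x ^ p = 1 := fun x => by
    obtain ⟨x, rfl⟩ := QuotientGroup.mk_surjective x
    exact (QuotientGroup.eq_one_iff _).mpr (Basics.pow_mem_frattini hW x)
  have hsmall : ∀ c : W ⧸ N, (∀ q : W ⧸ N, q ∈ Subgroup.zpowers c) → False := fun c hc => by
    have h1 : Nat.card (W ⧸ N) = orderOf c := by
      rw [← Nat.card_zpowers, (eq_top_iff.mpr fun q _ => hc q : Subgroup.zpowers c = ⊤),
        Subgroup.card_top]
    have h2' := orderOf_dvd_of_pow_eq_one (hp1 c)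
    rw [← h1, ← Subgroup.index_eq_card, h2, ← pow_one p, ← pow_mul] at h2'
    have := (Nat.pow_dvd_pow_iff_le_right hp.out.one_lt).mp h2'
    omega
  have hcomm : ∀ x y : W ⧸ N, x * y = y * x := by
    haveI := hW.isNilpotent
    intro x y
    obtain ⟨x, rfl⟩ := QuotientGroup.mk_surjective x
    obtain ⟨y, rfl⟩ := QuotientGroup.mk_surjective y
    rw [← QuotientGroup.mk_mul, ← QuotientGroup.mk_mul, QuotientGroup.eq]
    exact Basics.commutator_le_frattini (by
      rw [commutator_def, show (x * y)⁻¹ * (y * x) = ⁅y⁻¹, x⁻¹⁆ by simp [commutatorElement_def, mul_assoc]]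
      exact Subgroup.commutator_mem_commutator (Subgroup.mem_top _) (Subgroup.mem_top _))
  have hinv : ∀ (x : W ⧸ N) (i : ℤ), ¬ (p : ℤ) ∣ i → x ∈ Subgroup.zpowers (x ^ i) := fun x i hi => by
    obtain ⟨u, v, huv⟩ := ((Nat.prime_iff_prime_int.mp hp.out).coprime_iff_not_dvd.mpr hi : IsCoprime (p : ℤ) i)
    refine ⟨v, ?_⟩
    show (x ^ i) ^ v = x
    rw [← zpow_mul, show i * v = 1 + (p : ℤ) * -u by linarith, zpow_add, zpow_one, zpow_mul,
      zpow_natCast, hp1, one_zpow, mul_one]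
  have he : (a : W ⧸ N) ^ i * (b : W ⧸ N) ^ j = 1 := by
    rw [← QuotientGroup.mk_zpow, ← QuotientGroup.mk_zpow, ← QuotientGroup.mk_mul]
    exact (QuotientGroup.eq_one_iff _).mpr hw
  constructor <;> by_contra hn
  · refine hsmall (b : W ⧸ N) fun q => ?_
    have ha : (a : W ⧸ N) ∈ Subgroup.zpowers (b : W ⧸ N) :=
      Subgroup.zpowers_le.mpr (by rw [eq_inv_of_mul_eq_one_left he, ← zpow_neg]; exact Subgroup.zpow_mem_zpowers _ _)
        (hinv _ i hn)
    obtain ⟨w, rfl⟩ := QuotientGroup.mk_surjective q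
    obtain ⟨k, l, rfl⟩ := hgen w
    exact Subgroup.mul_mem _ (Subgroup.zpow_mem _ ha k) (Subgroup.zpow_mem_zpowers _ l)
  · refine hsmall (a : W ⧸ N) fun q => ?_
    have hb : (b : W ⧸ N) ∈ Subgroup.zpowers (a : W ⧸ N) :=
      Subgroup.zpowers_le.mpr (by rw [eq_inv_of_mul_eq_one_right he, ← zpow_neg]; exact Subgroup.zpow_mem_zpowers _ _)
        (hinv _ j hn)
    obtain ⟨w, rfl⟩ := QuotientGroup.mk_surjective q
    obtain ⟨k, l, rfl⟩ := hgen w
    exact Subgroup.mul_mem _ (Subgroup.zpow_mem_zpowers _ k) (Subgroup.zpow_mem _ hb l)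

omit hp in
theorem mul_pow_central {G : Type u} [Group G] (x y : G) (hc : ∀ g : G, Commute (y * x * y⁻¹ * x⁻¹) g) (n : ℕ) :
    (x * y) ^ n = x ^ n * y ^ n * (y * x * y⁻¹ * x⁻¹) ^ n.choose 2 := by
  set c := y * x * y⁻¹ * x⁻¹ with hcd
  have hyx : y * x = x * y * c := by
    rw [← (hc (x * y)).eq, hcd]; group
  have hyn : ∀ k : ℕ, y ^ k * x = x * y ^ k * c ^ k := by
    intro k
    induction k with
    | zero => simp
    | succ k ih =>
      rw [pow_succ', mul_assoc, ih, ← mul_assoc, ← mul_assoc, hyx, mul_assoc (x * y) c,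
        ((hc (y ^ k))).eq, pow_succ' c]
      simp only [mul_assoc]
  induction n with
  | zero => simp
  | succ k ih =>
    have e : (k + 1).choose 2 = k + k.choose 2 := by rw [Nat.choose_succ_succ, Nat.choose_one_right]
    rw [pow_succ, ih, e, mul_assoc, ((hc (x * y)).pow_left _).eq, ← mul_assoc, mul_assoc (x ^ k),
      ← mul_assoc (y ^ k), hyn, pow_add, pow_succ x, pow_succ y]
    calc x ^ k * (x * y ^ k * c ^ k * y) * c ^ k.choose 2
        = x ^ k * x * y ^ k * (c ^ k * y) * c ^ k.choose 2 := by simp only [mul_assoc]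
      _ = x ^ k * x * y ^ k * (y * c ^ k) * c ^ k.choose 2 := by rw [((hc y).pow_left k).eq]
      _ = _ := by simp only [pow_add, pow_zero, one_mul, mul_assoc]

/-- The characteristic maximal subgroup. -/
theorem exists_char [Finite W] (hW : IsPGroup p W) (hm : IsMetacyclic W)
    (h2 : (frattini W).index = p ^ 2)
    (hnh : ¬ ∃ n : ℕ, 0 < n ∧ Nonempty (W ≃* Multiplicative (ZMod (p ^ n)) × Multiplicative (ZMod (p ^ n))))
    (hmc : ¬ (p = 2 ∧ (commutator W).index = 4 ∧ ¬ IsMulCommutative W)) :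
    ∃ K : Subgroup W, K.Characteristic ∧ frattini W ≤ K ∧ K ≠ frattini W ∧ K ≠ ⊤ := by
  classical
  haveI := hW.isNilpotent
  obtain ⟨A, hAn, hAc, hAq⟩ := hm
  haveI := hAn; haveI := hAc; haveI := hAq
  obtain ⟨⟨a, haA⟩, hga⟩ := IsCyclic.exists_generator (α := A)
  obtain ⟨b', hgb⟩ := IsCyclic.exists_generator (α := W ⧸ A)
  obtain ⟨b, rfl⟩ := QuotientGroup.mk_surjective b'
  have hA : ∀ x ∈ A, ∃ i : ℤ, a ^ i = x := fun x hx => by
    obtain ⟨i, hi⟩ := hga ⟨x, hx⟩
    exact ⟨i, congrArg Subtype.val hi⟩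
  have hgen : ∀ w : W, ∃ i j : ℤ, w = a ^ i * b ^ j := fun w => by
    obtain ⟨j, hj⟩ := hgb w
    have hj' : ((b ^ j : W) : W ⧸ A) = w := by rw [QuotientGroup.mk_zpow]; exact hj
    obtain ⟨i, hi⟩ := hA (w * (b ^ j)⁻¹) ((QuotientGroup.eq_one_iff _).mp (by
      rw [QuotientGroup.mk_mul, QuotientGroup.mk_inv, hj', mul_inv_cancel]))
    exact ⟨i, j, by rw [hi, inv_mul_cancel_right]⟩
  set D := commutator W with hD
  have hDA : D ≤ A := by
    rw [hD, commutator_def, Subgroup.commutator_le]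
    intro x _ y _
    refine (QuotientGroup.eq_one_iff _).mp ?_
    obtain ⟨i, hi⟩ := hgb x
    obtain ⟨j, hj⟩ := hgb y
    rw [commutatorElement_def, QuotientGroup.mk_mul, QuotientGroup.mk_mul, QuotientGroup.mk_mul,
      QuotientGroup.mk_inv, QuotientGroup.mk_inv, ← hi, ← hj]
    show (b : W ⧸ A) ^ i * (b : W ⧸ A) ^ j * ((b : W ⧸ A) ^ i)⁻¹ * ((b : W ⧸ A) ^ j)⁻¹ = 1
    rw [← zpow_neg, ← zpow_neg, ← zpow_add, ← zpow_add, ← zpow_add,
      show i + j + -i + -j = 0 by ring, zpow_zero]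
  have hDΦ : D ≤ frattini W := Basics.commutator_le_frattini
  haveI : D.Characteristic := by rw [hD, commutator_def]; infer_instance
  have hDn : D.Normal := inferInstance
  -- the exponent of the abelianization
  have hcq : ∀ x y : W ⧸ D, x * y = y * x := by
    intro x y
    obtain ⟨x, rfl⟩ := QuotientGroup.mk_surjective x
    obtain ⟨y, rfl⟩ := QuotientGroup.mk_surjective y
    rw [← QuotientGroup.mk_mul, ← QuotientGroup.mk_mul, QuotientGroup.eq]
    rw [hD, commutator_def, show (x * y)⁻¹ * (y * x) = ⁅y⁻¹, x⁻¹⁆ by simp [commutatorElement_def, mul_assoc]]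
    exact Subgroup.commutator_mem_commutator (Subgroup.mem_top _) (Subgroup.mem_top _)
  have hex : ∃ k, ∀ w : W, w ^ p ^ k ∈ D := by
    obtain ⟨n, hn⟩ := hW.exists_card_eq
    exact ⟨n, fun w => by rw [← hn, pow_card_eq_one']; exact D.one_mem⟩
  set k := Nat.find hex with hk
  have hkspec : ∀ w : W, w ^ p ^ k ∈ D := Nat.find_spec hex
  have hk1 : 1 ≤ k := by
    by_contra h
    have hall : ∀ w : W, w ∈ frattini W := fun w => hDΦ (by
      have := hkspec w
      rwa [show k = 0 by omega, pow_zero, pow_one] at this)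
    rw [(eq_top_iff.mpr fun w _ => hall w : frattini W = ⊤), Subgroup.index_top] at h2
    exact (Nat.one_lt_pow two_ne_zero hp.out.one_lt).ne h2
  obtain ⟨k₀, hk0⟩ : ∃ k₀, k = k₀ + 1 := ⟨k - 1, by omega⟩
  -- first homomorphism
  let f : W →* W ⧸ D := MonoidHom.mk' (fun w => (w : W ⧸ D) ^ p ^ k₀) fun x y => by
    rw [QuotientGroup.mk_mul]
    exact (show Commute (x : W ⧸ D) y from hcq _ _).mul_pow _
  have hfmem : ∀ w, w ∈ f.ker ↔ w ^ p ^ k₀ ∈ D := fun w => by
    rw [MonoidHom.mem_ker]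
    show (w : W ⧸ D) ^ p ^ k₀ = 1 ↔ _
    rw [← QuotientGroup.mk_pow, QuotientGroup.eq_one_iff]
  have hK1c : f.ker.Characteristic := Subgroup.characteristic_iff_comap_eq.mpr fun φ => by
    have hd : ∀ z, φ z ∈ D ↔ z ∈ D := fun z =>
      ⟨fun h => by
        have := Fusion.mem_of_char D φ⁻¹ h
        rwa [MulAut.inv_apply, MulEquiv.symm_apply_apply] at this, Fusion.mem_of_char D φ⟩
    ext w
    rw [Subgroup.mem_comap, hfmem, hfmem]
    show (φ w) ^ _ ∈ D ↔ _
    rw [← map_pow, hd]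
  have hK1Φ : frattini W ≤ f.ker := by
    have hsub : ∀ x : W, x ^ p ∈ f.ker := fun x => by
      rw [hfmem, ← pow_mul, ← pow_succ', ← hk0]; exact hkspec x
    intro w hw
    obtain ⟨i, j, rfl⟩ := hgen w
    obtain ⟨⟨i', rfl⟩, ⟨j', rfl⟩⟩ := two_mem_frattini_index hW hgen h2 hw
    refine f.ker.mul_mem ?_ ?_ <;> rw [zpow_mul, zpow_natCast] <;>
      exact f.ker.zpow_mem (hsub _) _
  have hK1top : f.ker ≠ ⊤ := fun h => Nat.find_min hex (show k₀ < k by omega) fun w =>
    (hfmem w).mp (h ▸ Subgroup.mem_top w)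
  by_cases hK1 : f.ker ≠ frattini W
  · exact ⟨f.ker, hK1c, hK1Φ, hK1, hK1top⟩
  rw [not_not] at hK1
  have hinj : ∀ i j : ℤ, (a ^ i * b ^ j) ^ p ^ k₀ ∈ D → (p : ℤ) ∣ i ∧ (p : ℤ) ∣ j := fun i j h =>
    two_mem_frattini_index hW hgen h2 (hK1 ▸ (hfmem _).mpr h)
  have hbad : a ^ p ^ k₀ ∉ D := fun h => by
    have := (hinj 1 0 (by simpa using h)).1
    have := Int.eq_one_of_dvd_one (by positivity) this
    exact hp.out.one_lt.ne' (by exact_mod_cast this)
  -- `D` is generated by `a ^ p ^ k`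
  have hDgen : ∀ x ∈ D, ∃ t : ℤ, (a ^ p ^ k) ^ t = x := by
    intro x hx
    obtain ⟨i, rfl⟩ := hA x (hDA hx)
    obtain ⟨n, hn⟩ := hW a
    obtain ⟨g, hg⟩ : ∃ g : ℕ, g = Int.gcd i ((p ^ n : ℕ) : ℤ) := ⟨_, rfl⟩
    have hag : a ^ g ∈ D := by
      rw [← zpow_natCast, hg, Int.gcd_eq_gcd_ab, zpow_add, zpow_mul, zpow_mul (a := a),
        zpow_natCast (n := p ^ n), hn, one_zpow, mul_one]
      exact D.zpow_mem hx _
    obtain ⟨j, hjn, hj⟩ := (Nat.dvd_prime_pow hp.out).mp (show g ∣ p ^ n by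
      rw [hg]; exact Int.natCast_dvd_natCast.mp (Int.gcd_dvd_right _ _))
    have hkj : k ≤ j := by
      by_contra hlt
      refine hbad ?_
      rw [show p ^ k₀ = g * p ^ (k₀ - j) by rw [hj, ← pow_add]; congr 1; omega, pow_mul]
      exact D.pow_mem hag _
    have : ((p ^ k : ℕ) : ℤ) ∣ i := by
      refine dvd_trans ?_ (hg ▸ Int.gcd_dvd_left i ((p ^ n : ℕ) : ℤ))
      rw [hj]; exact_mod_cast pow_dvd_pow p hkj
    obtain ⟨t, rfl⟩ := this
    exact ⟨t, by rw [zpow_mul, zpow_natCast]⟩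
  set c := a ^ p ^ k with hc
  have hcD : c ∈ D := hkspec a
  by_cases hc1 : c = 1
  · exfalso
    have hab : ∀ x y : W, x * y = y * x := fun x y => by
      have h1 : y⁻¹ * x⁻¹ * (y * x) ∈ D := by
        rw [hD, commutator_def, show y⁻¹ * x⁻¹ * (y * x) = ⁅y⁻¹, x⁻¹⁆ by simp [commutatorElement_def, mul_assoc]]
        exact Subgroup.commutator_mem_commutator (Subgroup.mem_top _) (Subgroup.mem_top _)
      obtain ⟨t, ht⟩ := hDgen _ h1
      rw [hc1, one_zpow] at ht
      calc x * y = x * y * (y⁻¹ * x⁻¹ * (y * x)) := by rw [← ht, mul_one]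
        _ = y * x := by group
    have hD1 : ∀ x ∈ D, x = 1 := fun x hx => by
      obtain ⟨t, ht⟩ := hDgen x hx
      rw [← ht, hc1, one_zpow]
    refine hnh ⟨k, hk1, ?_⟩
    letI : CommGroup W := { (inferInstance : Group W) with mul_comm := hab }
    let q : ℕ := p ^ k
    have hq : ∀ w : W, w ^ q = 1 := fun w => hD1 _ (hkspec w)
    haveI : NeZero q := ⟨pow_ne_zero _ hp.out.ne_zero⟩
    have hz : ∀ (w : W) (i : ℤ), w ^ ((i : ZMod q).val : ℤ) = w ^ i := fun w i => by
      refine orderOf_dvd_sub_iff_zpow_eq_zpow.mp (dvd_trans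
        (Int.natCast_dvd_natCast.mpr (orderOf_dvd_of_pow_eq_one (hq w))) ?_)
      rw [← ZMod.intCast_zmod_eq_zero_iff_dvd]
      simp
    let Ψ : Multiplicative (ZMod q) × Multiplicative (ZMod q) →* W := MonoidHom.mk'
      (fun ij => a ^ ((ij.1.toAdd).val : ℤ) * b ^ ((ij.2.toAdd).val : ℤ)) fun x y => by
        have hadd : ∀ (w : W) (u v : ZMod q), w ^ ((u + v).val : ℤ) = w ^ (u.val : ℤ) * w ^ (v.val : ℤ) :=
          fun w u v => by
            rw [← zpow_add, ← hz w ((u.val : ℤ) + v.val)]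
            simp
        simp only [Prod.fst_mul, Prod.snd_mul, toAdd_mul, hadd]
        rw [mul_mul_mul_comm]
    have hsurj : Function.Surjective Ψ := fun w => by
      obtain ⟨i, j, rfl⟩ := hgen w
      exact ⟨(Multiplicative.ofAdd (i : ZMod q), Multiplicative.ofAdd (j : ZMod q)), by
        simp only [Ψ, MonoidHom.mk'_apply, toAdd_ofAdd, hz]⟩
    have hinj' : ∀ (m : ℕ) (i j : ℤ), m ≤ k → (a ^ i * b ^ j) ^ p ^ (k - m) = 1 →
        ((p ^ m : ℕ) : ℤ) ∣ i ∧ ((p ^ m : ℕ) : ℤ) ∣ j := by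
      intro m
      induction m with
      | zero => intro i j _ _; simp
      | succ m ih =>
        intro i j hm h
        obtain ⟨⟨i', rfl⟩, ⟨j', rfl⟩⟩ := ih i j (by omega) (by
          rw [show p ^ (k - m) = p ^ (k - (m + 1)) * p by rw [← pow_succ]; congr 1; omega, pow_mul, h,
            one_pow])
        have e : (a ^ i' * b ^ j') ^ p ^ k₀ = 1 := by
          rw [show p ^ k₀ = p ^ m * p ^ (k - (m + 1)) by rw [← pow_add]; congr 1; omega, pow_mul,
            ← zpow_natCast (a ^ i' * b ^ j') (p ^ m), mul_zpow, ← zpow_mul, ← zpow_mul, mul_comm i',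
            mul_comm j']
          exact h
        obtain ⟨h1, h2'⟩ := hinj i' j' (e ▸ D.one_mem)
        rw [pow_succ, Nat.cast_mul]
        exact ⟨mul_dvd_mul_left _ h1, mul_dvd_mul_left _ h2'⟩
    refine ⟨(MulEquiv.ofBijective Ψ ⟨(injective_iff_map_eq_one Ψ).mpr fun ij h => ?_, hsurj⟩).symm⟩
    obtain ⟨h1, h2'⟩ := hinj' k _ _ le_rfl (by rw [Nat.sub_self, pow_zero, pow_one]; exact h)
    have hval : ∀ u : ZMod q, ((q : ℕ) : ℤ) ∣ (u.val : ℤ) → u = 0 := fun u hu => by
      rw [← ZMod.intCast_zmod_eq_zero_iff_dvd] at hu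
      simpa using hu
    exact Prod.ext (Multiplicative.toAdd.injective (hval _ h1))
      (Multiplicative.toAdd.injective (hval _ h2'))
  -- second homomorphism
  let N : Subgroup W := Subgroup.zpowers (c ^ p)
  haveI hNc : N.Characteristic := Subgroup.characteristic_iff_map_le.mpr fun φ => by
    rw [MonoidHom.map_zpowers, Subgroup.zpowers_le]
    obtain ⟨t, ht⟩ := hDgen (φ c) (Fusion.mem_of_char D φ hcD)
    refine ⟨t, ?_⟩
    show (c ^ p) ^ t = φ (c ^ p)
    rw [map_pow, ← ht, ← zpow_natCast c p, ← zpow_natCast _ p, ← zpow_mul, ← zpow_mul, mul_comm]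
  have hNn : N.Normal := inferInstance
  have hcentral : ∀ g : W ⧸ N, Commute (c : W ⧸ N) g := by
    have hcp : (c : W ⧸ N) ^ (p : ℤ) = 1 := by
      rw [zpow_natCast, ← QuotientGroup.mk_pow]
      exact (QuotientGroup.eq_one_iff _).mpr (Subgroup.mem_zpowers _)
    intro g
    obtain ⟨g, rfl⟩ := QuotientGroup.mk_surjective g
    obtain ⟨t, ht⟩ := hDgen _ (hDn.conj_mem _ hcD g)
    have ht' : (g : W ⧸ N) * c * (g : W ⧸ N)⁻¹ = (c : W ⧸ N) ^ t := by
      rw [← QuotientGroup.mk_zpow, ht]; rfl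
    have hiter : ∀ m : ℕ, (g : W ⧸ N) ^ m * c * ((g : W ⧸ N) ^ m)⁻¹ = (c : W ⧸ N) ^ (t ^ m) := by
      intro m
      induction m with
      | zero => simp
      | succ m ih =>
        rw [pow_succ' (g : W ⧸ N), mul_inv_rev,
          show (g : W ⧸ N) * (g : W ⧸ N) ^ m * c * (((g : W ⧸ N) ^ m)⁻¹ * (g : W ⧸ N)⁻¹) =
            (g : W ⧸ N) * ((g : W ⧸ N) ^ m * c * ((g : W ⧸ N) ^ m)⁻¹) * (g : W ⧸ N)⁻¹ by
            simp only [mul_assoc],
          ih, ← conj_zpow, ht', ← zpow_mul, pow_succ']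
    obtain ⟨n, hn⟩ := hW g
    have h1 := hiter (p ^ n)
    rw [show (g : W ⧸ N) ^ p ^ n = 1 by rw [← QuotientGroup.mk_pow, hn, QuotientGroup.mk_one], one_mul,
      inv_one, mul_one] at h1
    obtain ⟨d, hd⟩ : (p : ℤ) ∣ t ^ p ^ n - t := by
      rw [← ZMod.intCast_zmod_eq_zero_iff_dvd]
      push_cast
      rw [ZMod.pow_card_pow, sub_self]
    rw [show t ^ p ^ n = (p : ℤ) * d + t by omega, zpow_add, zpow_mul, hcp, one_zpow, one_mul] at h1
    rw [← h1] at ht'
    exact (mul_inv_eq_iff_eq_mul.mp ht').symm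
  have hcomm : ∀ x y : W ⧸ N, ∃ t : ℤ, y * x * y⁻¹ * x⁻¹ = (c : W ⧸ N) ^ t := by
    intro x y
    obtain ⟨x, rfl⟩ := QuotientGroup.mk_surjective x
    obtain ⟨y, rfl⟩ := QuotientGroup.mk_surjective y
    obtain ⟨t, ht⟩ := hDgen (y * x * y⁻¹ * x⁻¹) (by
      rw [hD, commutator_def]
      exact Subgroup.commutator_mem_commutator (Subgroup.mem_top y) (Subgroup.mem_top x))
    exact ⟨t, by rw [← QuotientGroup.mk_zpow, ht]; rfl⟩
  have hcp : (c : W ⧸ N) ^ p = 1 := by
    rw [← QuotientGroup.mk_pow]; exact (QuotientGroup.eq_one_iff _).mpr (Subgroup.mem_zpowers _)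
  have hchoose : p ∣ (p ^ k).choose 2 := by
    rw [Nat.choose_two_right]
    rcases hp.out.eq_two_or_odd' with rfl | hodd
    · have hk2 : 2 ≤ k := by
        by_contra hlt
        have hk0' : k₀ = 0 := by omega
        refine hmc ⟨rfl, ?_, fun hab => hc1 ?_⟩
        · have : D = frattini W := le_antisymm hDΦ fun w hw => by
            have := (hfmem w).mp (hK1 ▸ hw)
            rwa [hk0', pow_zero, pow_one] at this
          rw [this, h2]
          norm_num
        · have : D = ⊥ := by rw [hD, commutator_def, Subgroup.commutator_eq_bot_iff_le_centralizer]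
                             exact fun x _ y _ => hab.is_comm.comm y x
          rw [this, Subgroup.mem_bot] at hcD
          exact hcD
      rw [show 2 ^ k * (2 ^ k - 1) / 2 = 2 ^ (k - 1) * (2 ^ k - 1) by
        rw [show 2 ^ k = 2 * 2 ^ (k - 1) by rw [← pow_succ']; congr 1; omega, mul_assoc,
          Nat.mul_div_cancel_left _ two_pos]]
      exact Dvd.dvd.mul_right (dvd_pow_self 2 (by omega)) _
    · refine (Nat.Coprime.dvd_mul_left (m := 2) ?_).mp ?_
      · exact (Nat.coprime_primes hp.out Nat.prime_two).mpr fun h => by subst h; exact absurd hodd (by decide)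
      · rw [Nat.mul_div_cancel' ((Nat.even_mul_pred_self _).two_dvd)]
        exact Dvd.dvd.mul_right (dvd_pow_self p (by omega)) _
  let g : W →* W ⧸ N := MonoidHom.mk' (fun w => (w : W ⧸ N) ^ p ^ k) fun x y => by
    obtain ⟨t, ht⟩ := hcomm x y
    obtain ⟨r, hr⟩ := hchoose
    rw [QuotientGroup.mk_mul, mul_pow_central _ _ (fun z => ht ▸ (hcentral z).zpow_left t), ht, hr,
      pow_mul (( c : W ⧸ N) ^ t), show ((c : W ⧸ N) ^ t) ^ p = 1 by
        rw [← zpow_natCast, ← zpow_mul, mul_comm, zpow_mul, zpow_natCast, hcp, one_zpow],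
      one_pow, mul_one]
  have hgmem : ∀ w, w ∈ g.ker ↔ w ^ p ^ k ∈ N := fun w => by
    rw [MonoidHom.mem_ker]
    show (w : W ⧸ N) ^ p ^ k = 1 ↔ _
    rw [← QuotientGroup.mk_pow, QuotientGroup.eq_one_iff]
  have hga' : a ∉ g.ker := fun h => by
    obtain ⟨t, ht⟩ := (hgmem a).mp h
    obtain ⟨n, hn⟩ := hW c
    have e : c ^ ((p : ℤ) * t - 1) = 1 := by
      rw [zpow_sub, zpow_mul, zpow_natCast, zpow_one]
      exact mul_inv_eq_one.mpr ht
    have hcop : IsCoprime ((p : ℤ) * t - 1) ((p : ℤ) ^ n) := IsCoprime.pow_right ⟨-1, t, by ring⟩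
    obtain ⟨u, v, huv⟩ := hcop
    refine hc1 ?_
    calc c = c ^ (u * ((p : ℤ) * t - 1) + v * (p : ℤ) ^ n) := by rw [huv, zpow_one]
      _ = 1 := by
        rw [zpow_add, mul_comm u, zpow_mul, e, one_zpow, one_mul, mul_comm v, zpow_mul,
          ← Nat.cast_pow, zpow_natCast, hn, one_zpow]
  have hK2c : g.ker.Characteristic := Subgroup.characteristic_iff_comap_eq.mpr fun φ => by
    have hd : ∀ z, φ z ∈ N ↔ z ∈ N := fun z =>
      ⟨fun h => by
        have := Fusion.mem_of_char N φ⁻¹ h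
        rwa [MulAut.inv_apply, MulEquiv.symm_apply_apply] at this, Fusion.mem_of_char N φ⟩
    ext w
    rw [Subgroup.mem_comap, hgmem, hgmem]
    show (φ w) ^ _ ∈ N ↔ _
    rw [← map_pow, hd]
  have hpow : ∀ x : W, x ^ p ∈ g.ker := fun x => by
    obtain ⟨t, ht⟩ := hDgen _ (hkspec x)
    rw [hgmem, ← pow_mul, mul_comm p, pow_mul, ← ht, ← zpow_natCast _ p, ← zpow_mul, mul_comm t,
      zpow_mul, zpow_natCast]
    exact N.zpow_mem (Subgroup.mem_zpowers _) _
  refine ⟨g.ker, hK2c, fun w hw => ?_, fun h => ?_, fun h => hga' (h ▸ Subgroup.mem_top a)⟩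
  · obtain ⟨i, j, rfl⟩ := hgen w
    obtain ⟨⟨i', rfl⟩, ⟨j', rfl⟩⟩ := two_mem_frattini_index hW hgen h2 hw
    refine g.ker.mul_mem ?_ ?_ <;> rw [zpow_mul, zpow_natCast] <;> exact g.ker.zpow_mem (hpow _) _
  · -- the image of `g` has order at most `p`
    have hrange : g.range ≤ Subgroup.zpowers (c : W ⧸ N) := by
      rintro _ ⟨w, rfl⟩
      obtain ⟨t, ht⟩ := hDgen _ (hkspec w)
      show (w : W ⧸ N) ^ p ^ k ∈ _
      rw [← QuotientGroup.mk_pow, ← ht, QuotientGroup.mk_zpow]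
      exact ⟨t, rfl⟩
    have h1 : g.ker.index ∣ p := by
      rw [Subgroup.index_ker]
      refine (Subgroup.card_dvd_of_le hrange).trans ?_
      rw [Nat.card_zpowers]
      exact orderOf_dvd_of_pow_eq_one hcp
    rw [h, h2] at h1
    have := Nat.le_of_dvd hp.out.pos h1
    nlinarith [hp.out.two_le]

/-- The `p'`-automorphism groups. -/
theorem aut_abelian [Finite W] (hW : IsPGroup p W) (hm : IsMetacyclic W)
    (hnh : ¬ ∃ n : ℕ, 0 < n ∧ Nonempty (W ≃* Multiplicative (ZMod (p ^ n)) × Multiplicative (ZMod (p ^ n))))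
    (hmc : ¬ (p = 2 ∧ (commutator W).index = 4 ∧ ¬ IsMulCommutative W))
    (H : Subgroup (MulAut W)) (hH : (Nat.card H).Coprime p) :
    IsMulCommutative H ∧ ∀ h ∈ H, h ^ (p - 1) = 1 := by
  haveI := hW.isNilpotent
  have hidx : (frattini W).index ∣ p ^ 2 := by
    obtain ⟨A, hAn, hAc, hAq⟩ := hm
    haveI := hAn; haveI := hAc; haveI := hAq
    obtain ⟨⟨a, haA⟩, hga⟩ := IsCyclic.exists_generator (α := A)
    obtain ⟨b', hgb⟩ := IsCyclic.exists_generator (α := W ⧸ A)
    obtain ⟨b, rfl⟩ := QuotientGroup.mk_surjective b'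
    refine card_quot_le hW (a := a) (b := b) fun w => ?_
    obtain ⟨j, hj⟩ := hgb w
    have hj' : ((b ^ j : W) : W ⧸ A) = w := by rw [QuotientGroup.mk_zpow]; exact hj
    obtain ⟨i, hi⟩ := hga ⟨w * (b ^ j)⁻¹, (QuotientGroup.eq_one_iff _).mp (by
      rw [QuotientGroup.mk_mul, QuotientGroup.mk_inv, hj', mul_inv_cancel])⟩
    have hi' : a ^ i = w * (b ^ j)⁻¹ := congrArg Subtype.val hi
    exact ⟨i, j, by rw [hi', inv_mul_cancel_right]⟩
  obtain ⟨K, hKc, hKΦ, hKW, hKK⟩ : ∃ K : Subgroup W, K.Characteristic ∧ frattini W ≤ K ∧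
      K.index ∣ p ∧ (frattini W).relIndex K ∣ p := by
    obtain ⟨r, hr, hr'⟩ := (Nat.dvd_prime_pow hp.out).mp hidx
    by_cases h2 : r = 2
    · obtain ⟨K, hKc, hKΦ, hK1, hK2⟩ := exists_char hW hm (by rw [hr', h2]) hnh hmc
      have hmul := Subgroup.relIndex_mul_index hKΦ
      rw [hr', h2] at hmul
      obtain ⟨s, hs, hs'⟩ := (Nat.dvd_prime_pow hp.out).mp (Dvd.intro_left _ hmul : K.index ∣ p ^ 2)
      have hs1 : s = 1 := by
        rcases Nat.lt_or_ge s 1 with h0 | h0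
        · exfalso
          rw [show s = 0 by omega, pow_zero] at hs'
          exact hK2 (Subgroup.index_eq_one.mp hs')
        · by_contra hne
          rw [show s = 2 by omega] at hs'
          rw [hs'] at hmul
          have : (frattini W).relIndex K = 1 := by
            nlinarith [pow_pos hp.out.pos 2]
          exact hK1 (le_antisymm (Subgroup.relIndex_eq_one.mp this) hKΦ)
      rw [hs1, pow_one] at hs'
      refine ⟨K, hKc, hKΦ, dvd_of_eq hs', dvd_of_eq ?_⟩
      rw [hs', pow_two] at hmul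
      exact Nat.eq_of_mul_eq_mul_right hp.out.pos hmul
    · refine ⟨frattini W, inferInstance, le_rfl, ?_, by rw [Subgroup.relIndex_self]; exact one_dvd _⟩
      rw [hr']
      exact (pow_dvd_pow p (show r ≤ 1 by omega)).trans (dvd_of_eq (pow_one p))
  haveI := hKc
  set C := K.map (QuotientGroup.mk' (frattini W)) with hCdef
  have hC : Nat.card C ∣ p := by
    refine (dvd_of_eq ?_).trans hKK
    rw [hCdef, Subgroup.relIndex, Subgroup.index_eq_card]
    refine Nat.card_congr (Equiv.symm ?_)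
    exact Equiv.ofBijective (fun x => Quotient.liftOn' x (fun v : K => (⟨((v : W) : W ⧸ frattini W),
        ⟨v, v.2, rfl⟩⟩ : C)) fun u v huv => Subtype.ext (QuotientGroup.eq.mpr (by
          rw [QuotientGroup.leftRel_apply] at huv; exact huv)))
      ⟨fun x y hxy => by
        induction x using Quotient.inductionOn' with
        | h u => induction y using Quotient.inductionOn' with
          | h v =>
            refine Quotient.sound' ?_
            rw [QuotientGroup.leftRel_apply]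
            have he : ((u : W) : W ⧸ frattini W) = ((v : W) : W ⧸ frattini W) := congrArg Subtype.val hxy
            show ((u : W))⁻¹ * (v : W) ∈ frattini W
            exact QuotientGroup.eq.mp he,
      fun ⟨z, v, hv, hz⟩ => ⟨QuotientGroup.mk ⟨v, hv⟩, Subtype.ext hz⟩⟩
  have hCinv : ∀ φ : MulAut W, ∀ x ∈ C, Fusion.fratRep W φ x ∈ C := by
    rintro φ _ ⟨v, hv, rfl⟩
    exact ⟨φ v, Fusion.mem_of_char K φ hv, rfl⟩
  have hT : Nat.card (⊤ : Subgroup (W ⧸ K)) ∣ p := by
    rw [Subgroup.card_top, ← Subgroup.index_eq_card]; exact hKW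
  -- an element trivial on both sections is trivial
  have hstab : ∀ d ∈ H, (∀ x ∈ C, Fusion.fratRep W d x = x) → (∀ x : W ⧸ K, chRep K d x = x) →
      d = 1 := by
    intro d hd h1 h2
    haveI := Fusion.finite_mulAut W
    set φ := Fusion.fratRep W d
    have hφp : φ ^ p = 1 := MulEquiv.ext fun v => by
      have hu : v⁻¹ * φ v ∈ C := by
        obtain ⟨w, rfl⟩ := QuotientGroup.mk_surjective v
        refine ⟨w⁻¹ * d w, QuotientGroup.eq.mp ?_, rfl⟩
        exact (h2 (w : W ⧸ K)).symm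
      have hn : ∀ n : ℕ, (φ ^ n) v = v * (v⁻¹ * φ v) ^ n := by
        intro n
        induction n with
        | zero => simp
        | succ n ih =>
          rw [pow_succ' φ, MulAut.mul_apply, ih, map_mul, map_pow, h1 _ hu, pow_succ' (v⁻¹ * φ v),
            ← mul_assoc, mul_inv_cancel_left]
      rw [hn, show (v⁻¹ * φ v) ^ p = 1 from orderOf_dvd_iff_pow_eq_one.mp
        ((Subgroup.orderOf_mk _ hu ▸ orderOf_dvd_natCard (⟨_, hu⟩ : C) : _ ∣ _).trans hC), mul_one]
      rfl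
    have hker : d ^ p ∈ (Fusion.fratRep W).ker := by
      rw [MonoidHom.mem_ker, map_pow]; exact hφp
    obtain ⟨t, ht⟩ := Fusion.isPGroup_ker_fratRep hW ⟨d ^ p, hker⟩
    have h3 : d ^ (p * p ^ t) = 1 := by rw [pow_mul]; exact congrArg Subtype.val ht
    have h4 : d ^ Nat.card H = 1 := congrArg Subtype.val (pow_card_eq_one' (x := (⟨d, hd⟩ : H)))
    exact Supersol.eq_one_of_coprime h3 h4 (Nat.Coprime.mul_left hH.symm (hH.symm.pow_left _))
  refine ⟨⟨⟨fun x y => Subtype.ext ?_⟩⟩, fun h hh => ?_⟩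
  · have : (x : MulAut W) * y * (x : MulAut W)⁻¹ * (y : MulAut W)⁻¹ = 1 := by
      refine hstab _ (H.mul_mem (H.mul_mem (H.mul_mem x.2 y.2) (H.inv_mem x.2)) (H.inv_mem y.2)) ?_ ?_
      · intro z hz
        set σ := Fusion.fratRep W (x : MulAut W)
        set τ := Fusion.fratRep W (y : MulAut W)
        obtain ⟨hc, -⟩ := scalar C hC σ τ (hCinv _) (hCinv _)
        rw [map_mul, map_mul, map_mul, map_inv, map_inv]
        have hz' : τ⁻¹ z ∈ C := by rw [← map_inv]; exact hCinv _ z hz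
        have hz'' : σ⁻¹ (τ⁻¹ z) ∈ C := by rw [← map_inv]; exact hCinv _ _ hz'
        show σ (τ (σ⁻¹ (τ⁻¹ z))) = z
        rw [hc _ hz'', MulAut.apply_inv_self, MulAut.apply_inv_self]
      · intro z
        set σ := chRep K (x : MulAut W)
        set τ := chRep K (y : MulAut W)
        obtain ⟨hc, -⟩ := scalar ⊤ hT σ τ (fun _ _ => Subgroup.mem_top _) (fun _ _ => Subgroup.mem_top _)
        rw [map_mul, map_mul, map_mul, map_inv, map_inv]
        show σ (τ (σ⁻¹ (τ⁻¹ z))) = z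
        rw [hc _ (Subgroup.mem_top _), MulAut.apply_inv_self, MulAut.apply_inv_self]
    have e : (x : MulAut W) * y = (y : MulAut W) * x :=
      mul_inv_eq_one.mp (by rwa [mul_inv_rev, ← mul_assoc])
    exact e
  · refine hstab _ (H.pow_mem hh _) (fun z hz => ?_) fun z => ?_
    · rw [map_pow]
      exact (scalar C hC (Fusion.fratRep W h) 1 (hCinv _) (fun _ h' => h')).2 z hz
    · rw [map_pow]
      exact (scalar ⊤ hT (chRep K h) 1 (fun _ h' => h') (fun _ h' => h')).2 z (Subgroup.mem_top _)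

end Cfsg.Agent.Components.MetaLine
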