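import Cfsg.Agent.Lib.Components.CentralizerOfNormal
import Cfsg.Agent.Lib.Components.ResidualExtensionMain

/-!
For a weakly normal subsystem `E` over `T` and a fully normalized `P ≤ T` containing its centraliser
in `T`: the automorphisms of `P C_S(P)` lifting automorphisms in `E` trivially modulo `P` have a
complement to `C_S(P)` containing the elements induced by `N_T(P)`, whose fixed points are found by
averaging.
-/

set_option autoImplicit false
set_option linter.style.haveILetI false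
set_option linter.unusedSectionVars false
set_option linter.unusedVariables false

namespace Cfsg.Agent.Components.NormalLiftGroup

open Cfsg.FusionSystem (centralizerIn normalizerIn)
open Cfsg.Agent.Fusion
open Cfsg.Agent.Components.ResidualExtension (exists_conj_of_stab isFullyNormalized_sub)

universe u

section Group

variable {p : ℕ} [Fact p.Prime] {A : Type*} [Group A] [Finite A]

/-- A normal complement to a central `p`-subgroup, from the transfer. -/
theorem exists_complement {W Pt : Subgroup A} (hW : IsPGroup p W) (hWc : W ≤ Subgroup.center A)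
    (hdisj : W ⊓ Pt = ⊥) (hidx : ¬ p ∣ (W ⊔ Pt).index)
    (hconj : ∀ x ∈ Pt, ∀ g : A, g * x * g⁻¹ ∈ W ⊔ Pt → g * x * g⁻¹ ∈ Pt) :
    ∃ A' : Subgroup A, Pt ≤ A' ∧ (∀ a : A, (orderOf a).Coprime p → a ∈ A') ∧
      ¬ p ∣ (Pt.subgroupOf A').index := by
  classical
  set H := W ⊔ Pt with hH
  have hcomm : ∀ (w : W) (x : Pt), Commute (W.subtype w) (Pt.subtype x) := fun w x =>
    ((Subgroup.mem_center_iff.mp (hWc w.2)) x).symm
  letI : CommGroup W :=
    { (inferInstance : Group W) with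
      mul_comm := fun a b => Subtype.ext ((Subgroup.mem_center_iff.mp (hWc b.2)) a) }
  let c : W × Pt →* A := MonoidHom.noncommCoprod W.subtype Pt.subtype hcomm
  have hcinj : Function.Injective c := by
    rw [injective_iff_map_eq_one]
    rintro ⟨w, x⟩ h
    have h1 : (w : A) * x = 1 := h
    have h2 : (w : A) ∈ W ⊓ Pt := ⟨w.2, by
      rw [eq_inv_of_mul_eq_one_left h1]; exact Pt.inv_mem x.2⟩
    rw [hdisj, Subgroup.mem_bot] at h2
    rw [h2, one_mul] at h1
    exact Prod.ext (Subtype.ext h2) (Subtype.ext h1)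
  have hrange : H = c.range := by
    rw [MonoidHom.noncommCoprod_range, Subgroup.range_subtype, Subgroup.range_subtype]
  let φ : H →* W := (MonoidHom.fst W Pt).comp
    ((MonoidHom.ofInjective hcinj).symm.toMonoidHom.comp (Subgroup.inclusion hrange.le))
  have hφ : ∀ (w : W) (x : Pt) (h : (w : A) * x ∈ H), φ ⟨(w : A) * x, h⟩ = w := by
    intro w x h
    show ((MonoidHom.ofInjective hcinj).symm ⟨(w : A) * x, hrange.le h⟩).1 = w
    have : (⟨(w : A) * x, hrange.le h⟩ : c.range) = MonoidHom.ofInjective hcinj (w, x) :=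
      Subtype.ext rfl
    rw [this, MulEquiv.symm_apply_apply]
  have hφW : ∀ (w : W) (h : (w : A) ∈ H), φ ⟨w, h⟩ = w := fun w h => by
    have := hφ w 1 (by simpa using h)
    simpa using this
  have hφP : ∀ (x : Pt) (h : (x : A) ∈ H), φ ⟨x, h⟩ = 1 := fun x h => by
    have := hφ 1 x (by simpa using h)
    simpa using this
  set τ := MonoidHom.transfer φ with hτ
  have hτP : ∀ x ∈ Pt, τ x = 1 := by
    intro x hx
    letI := H.fintypeQuotientOfFiniteIndex
    rw [hτ, MonoidHom.transfer_eq_prod_quotient_orbitRel_zpowers_quot]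
    refine Finset.prod_eq_one fun q _ => ?_
    set g := q.out.out
    have hm := QuotientGroup.out_conj_pow_minimalPeriod_mem H x q.out
    set k := Function.minimalPeriod (x • ·) q.out
    have h1 := hconj _ (Pt.pow_mem hx k) g⁻¹ (by rw [inv_inv]; exact hm)
    rw [inv_inv] at h1
    exact hφP ⟨_, h1⟩ hm
  have hidx0 : H.index ≠ 0 := Subgroup.index_ne_zero_of_finite
  have hτW : ∀ w : W, τ w = w ^ H.index := by
    intro w
    have key : ∀ (k : ℕ) (g₀ : A), g₀⁻¹ * (w : A) ^ k * g₀ ∈ H →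
        g₀⁻¹ * (w : A) ^ k * g₀ = (w : A) ^ k := fun k g₀ _ => by
      rw [mul_assoc, ← (Subgroup.mem_center_iff.mp (hWc (W.pow_mem w.2 k))) g₀,
        inv_mul_cancel_left]
    rw [hτ, MonoidHom.transfer_eq_pow φ _ key]
    have := hφW (w ^ H.index) (by
      rw [SubmonoidClass.coe_pow]; exact Subgroup.mem_sup_left (W.pow_mem w.2 _))
    simpa only [SubmonoidClass.coe_pow] using this
  obtain ⟨e, he⟩ := IsPGroup.iff_card.mp hW
  have hcop : (Nat.card W).Coprime H.index := by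
    rw [he]
    exact Nat.Coprime.pow_left e ((Fact.out : p.Prime).coprime_iff_not_dvd.mpr hidx)
  have hτsurj : Function.Surjective τ := fun w => by
    obtain ⟨v, hv⟩ := (powCoprime hcop).surjective w
    exact ⟨v, (hτW v).trans hv⟩
  refine ⟨τ.ker, fun x hx => hτP x hx, fun a ha => ?_, ?_⟩
  · refine MonoidHom.mem_ker.mpr (orderOf_eq_one_iff.mp (Nat.eq_one_of_dvd_coprimes
      (Nat.Coprime.pow_right e ha) (orderOf_map_dvd τ a) (he ▸ orderOf_dvd_natCard _)))
  · have hle : Pt ≤ τ.ker := fun x hx => hτP x hx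
    have h1 : τ.ker.index = Nat.card W := by
      rw [Subgroup.index_ker, MonoidHom.range_eq_top.mpr hτsurj, Subgroup.card_top]
    have h2 := Subgroup.relIndex_mul_index hle
    have h3 := Subgroup.relIndex_mul_index (le_sup_right : Pt ≤ H)
    have hcardH : Nat.card H = Nat.card W * Nat.card Pt := by
      rw [hrange, Nat.card_congr (MonoidHom.ofInjective hcinj).symm.toEquiv, Nat.card_prod]
    have h4 : Pt.relIndex H = Nat.card W := by
      have h5 := Subgroup.card_mul_index (Pt.subgroupOf H)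
      rw [Nat.card_congr (Subgroup.subgroupOfEquivOfLe (le_sup_right : Pt ≤ H)).toEquiv,
        hcardH, mul_comm (Nat.card W)] at h5
      exact Nat.eq_of_mul_eq_mul_left Nat.card_pos h5
    rw [h4, ← h2, h1, mul_comm] at h3
    intro hdvd
    refine hidx ?_
    rw [Nat.eq_of_mul_eq_mul_right Nat.card_pos h3]
    exact hdvd

end Group

variable {Ω : Type u} [Group Ω] {S T P Q : Subgroup Ω} {F : FusionSystem S} {E : FusionSystem T}
variable {p : ℕ} [Finite S] [Fact p.Prime]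

/-- `θ` lifts an automorphism of `P` in `E` trivially modulo `P` on `C_S(P)`. -/
def IsLift (F : FusionSystem S) (E : FusionSystem T) (P Q : Subgroup Ω) (θ : MulAut Q) : Prop :=
  θ ∈ F.autGroup Q ∧ (∃ α ∈ E.autGroup P, ∀ x ∈ P, autFun θ x = autFun α x) ∧
    ∀ c ∈ centralizerIn S P, c⁻¹ * autFun θ c ∈ P

/-- The lifts form a group. -/
theorem exists_liftSubgroup (hPT : P ≤ T) (hTS : T ≤ S) (hQdef : Q = P ⊔ centralizerIn S P) :
    ∃ A : Subgroup (MulAut Q), ∀ θ, θ ∈ A ↔ IsLift F E P Q θ := by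
  have hPS : P ≤ S := hPT.trans hTS
  have hPQ : P ≤ Q := hQdef ▸ le_sup_left
  have hCQ : centralizerIn S P ≤ Q := hQdef ▸ le_sup_right
  have hQS : Q ≤ S := hQdef ▸ sup_le hPS centralizerIn_le
  haveI := finite_of_le hQS
  haveI := finite_mulAut Q
  let M : Submonoid (MulAut Q) :=
    { carrier := {θ | IsLift F E P Q θ}
      one_mem' := ⟨Subgroup.one_mem _, ⟨1, Subgroup.one_mem _, fun x hx => by
        rw [autFun_one (hPQ hx), autFun_one hx]⟩, fun c hc => by
          rw [autFun_one (hCQ hc), inv_mul_cancel]; exact P.one_mem⟩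
      mul_mem' := by
        rintro a b ⟨ha, ⟨α, hα, hax⟩, hac⟩ ⟨hb, ⟨β, hβ, hbx⟩, hbc⟩
        refine ⟨Subgroup.mul_mem _ ha hb, ⟨α * β, Subgroup.mul_mem _ hα hβ, fun x hx => ?_⟩,
          fun c hc => ?_⟩
        · rw [autFun_mul _ _ (hPQ hx), autFun_mul _ _ hx, hbx x hx, hax _ (autFun_mem β hx)]
        · have hm := mapTo_of_mem_autGroup hQS ha
          rw [autFun_mul _ _ (hCQ hc), ← mul_inv_cancel_left c (autFun b c),
            hm.map_mul (hCQ hc) (hPQ (hbc c hc)), ← mul_assoc]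
          exact P.mul_mem (hac c hc) (by rw [hax _ (hbc c hc)]; exact autFun_mem α (hbc c hc)) }
  refine ⟨{ toSubmonoid := M
            inv_mem' := fun {a} ha => ?_ }, fun θ => Iff.rfl⟩
  obtain ⟨n, hn⟩ : ∃ n : ℕ, a ^ n = a⁻¹ := by
    refine ⟨orderOf a - 1, eq_inv_of_mul_eq_one_left ?_⟩
    rw [← pow_succ, Nat.sub_add_cancel (orderOf_pos a), pow_orderOf_eq_one]
  show a⁻¹ ∈ M
  exact hn ▸ M.pow_mem ha n

/-- Conjugation by an element of `N_T(P)` is a lift. -/
theorem isLift_cj (hi : E.IsInvariantIn F) (hP : HT F T P) (hQdef : Q = P ⊔ centralizerIn S P)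
    {t : Ω} (ht : t ∈ normalizerIn T P) :
    ∃ θ : MulAut Q, IsLift F E P Q θ ∧ θ ∈ autInducedBy S Q ∧ ∀ x ∈ Q, autFun θ x = cj t x := by
  have hsc := hi.2.1
  have hTS := hsc.1
  have hPT := hP.1
  have hPS := hPT.trans hTS
  have hPQ : P ≤ Q := hQdef ▸ le_sup_left
  have hCQ : centralizerIn S P ≤ Q := hQdef ▸ le_sup_right
  have hQS : Q ≤ S := hQdef ▸ sup_le hPS centralizerIn_le
  haveI := finite_of_le hPS
  haveI := finite_of_le hQS
  have hn : t ∈ Subgroup.normalizer (P : Set Ω) := ht.2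
  have htC : ∀ c ∈ centralizerIn S P, t * c * t⁻¹ ∈ centralizerIn S P := fun c hc => by
    refine mem_centralizerIn.mpr ⟨S.mul_mem (S.mul_mem (hTS ht.1) hc.1) (S.inv_mem (hTS ht.1)),
      fun x hx => ?_⟩
    have hx' := (Subgroup.mem_normalizer_iff''.mp hn x).mp hx
    calc x * (t * c * t⁻¹) = t * ((t⁻¹ * x * t) * c) * t⁻¹ := by group
      _ = t * (c * (t⁻¹ * x * t)) * t⁻¹ := by rw [(mem_centralizerIn.mp hc).2 _ hx']
      _ = t * c * t⁻¹ * x := by group
  have hnQ : t ∈ Subgroup.normalizer (Q : Set Ω) := mem_normalizer_of_forall fun y hy => by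
    have hle : Q ≤ Q.comap (MulAut.conj t).toMonoidHom := by
      conv_lhs => rw [hQdef]
      exact sup_le (fun w hw => hPQ ((Subgroup.mem_normalizer_iff.mp hn w).mp hw))
        (fun w hw => hCQ (htC w hw))
    exact hle hy
  obtain ⟨θ, hθ⟩ := exists_conjAut hnQ
  obtain ⟨α, hα⟩ := exists_conjAut hn
  have hθS : θ ∈ autInducedBy S Q := mem_autInducedBy_iff_cj.mpr ⟨t, hTS ht.1, hθ⟩
  refine ⟨θ, ⟨autInducedBy_le_autGroup hQS hθS, ⟨α, autInducedBy_le_autGroup hPT
    (mem_autInducedBy_iff_cj.mpr ⟨t, ht.1, hα⟩), fun x hx => by rw [hθ x (hPQ hx), hα x hx]⟩,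
    fun c hc => ?_⟩, hθS, hθ⟩
  rw [hθ c (hCQ hc), cj_apply]
  refine hP.2 _ (isConj_refl hPS) (mem_centralizerIn.mpr ⟨?_, ?_⟩)
  · have := T.mul_mem (StronglyClosed.conj_mem hsc (S.inv_mem hc.1) ht.1) (T.inv_mem ht.1)
    rwa [show c⁻¹ * t * c⁻¹⁻¹ * t⁻¹ = c⁻¹ * (t * c * t⁻¹) by group] at this
  · exact (mem_centralizerIn.mp
      ((centralizerIn S P).mul_mem ((centralizerIn S P).inv_mem hc) (htC c hc))).2

/-- Automorphisms of `P` in `E` with lifts, of order prime to `p`, have lifts of order prime to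
`p`. -/
theorem exists_coprime_lift (hPT : P ≤ T) (hTS : T ≤ S) (hQdef : Q = P ⊔ centralizerIn S P)
    {α : MulAut P} (hcop : (orderOf α).Coprime p) {θ : MulAut Q} (hθ : IsLift F E P Q θ)
    (hθα : ∀ x ∈ P, autFun θ x = autFun α x) :
    ∃ θ' : MulAut Q, IsLift F E P Q θ' ∧ (orderOf θ').Coprime p ∧
      ∀ x ∈ P, autFun θ' x = autFun α x := by
  have hPQ : P ≤ Q := hQdef ▸ le_sup_left
  have hQS : Q ≤ S := hQdef ▸ sup_le (hPT.trans hTS) centralizerIn_le
  haveI := finite_of_le hQS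
  haveI := finite_mulAut Q
  obtain ⟨A, hA⟩ := exists_liftSubgroup (F := F) (E := E) hPT hTS hQdef
  obtain ⟨a, m, hm, ham⟩ :=
    Nat.exists_eq_pow_mul_and_not_dvd (orderOf_pos θ).ne' p (Fact.out : p.Prime).ne_one
  obtain ⟨k, hk0, hk1⟩ := Nat.chineseRemainder (Nat.Coprime.pow_left a hcop.symm) 0 1
  have hpow : ∀ n : ℕ, ∀ x ∈ P, autFun (θ ^ n) x = autFun (α ^ n) x := by
    intro n
    induction n with
    | zero => intro x hx; rw [pow_zero, pow_zero, autFun_one (hPQ hx), autFun_one hx]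
    | succ n ih =>
      intro x hx
      rw [pow_succ' θ, pow_succ' α, autFun_mul _ _ (hPQ hx), autFun_mul _ _ hx, ih x hx,
        hθα _ (autFun_mem _ hx)]
  have hαk : α ^ k = α := by
    conv_rhs => rw [← pow_one α]
    exact pow_eq_pow_iff_modEq.mpr hk1
  refine ⟨θ ^ k, (hA _).mp (A.pow_mem ((hA _).mpr hθ) k), ?_, fun x hx => ?_⟩
  · obtain ⟨c, hc⟩ := Nat.modEq_zero_iff_dvd.mp hk0
    have hdvd : orderOf (θ ^ k) ∣ m := orderOf_dvd_of_pow_eq_one (by
      rw [← pow_mul, hc, mul_right_comm, ← ham, pow_mul, pow_orderOf_eq_one, one_pow])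
    exact Nat.Coprime.coprime_dvd_left hdvd
      (((Fact.out : p.Prime).coprime_iff_not_dvd.mpr hm).symm)
  · rw [hpow k x hx, hαk]

/-- The subgroup generated by the conjugates in `Aut_E(P)` of the automorphisms induced by `T`. -/
def nclT (E : FusionSystem T) (P : Subgroup Ω) : Subgroup (MulAut P) :=
  Subgroup.closure {β | ∃ a ∈ E.autGroup P, ∃ c ∈ autInducedBy T P, β = a * c * a⁻¹}

theorem nclT_le (hPT : P ≤ T) : nclT E P ≤ E.autGroup P :=
  (Subgroup.closure_le _).mpr fun _ ⟨_, ha, _, hc, h⟩ => h ▸ Subgroup.mul_mem _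
    (Subgroup.mul_mem _ ha (autInducedBy_le_autGroup hPT hc)) (Subgroup.inv_mem _ ha)

theorem autInducedBy_le_nclT : autInducedBy T P ≤ nclT E P := fun c hc =>
  Subgroup.subset_closure ⟨1, Subgroup.one_mem _, c, hc, by simp⟩

theorem nclT_conj {b : MulAut P} (hb : b ∈ E.autGroup P) {β : MulAut P} (hβ : β ∈ nclT E P) :
    b * β * b⁻¹ ∈ nclT E P := by
  induction hβ using Subgroup.closure_induction with
  | mem x hx =>
    obtain ⟨a, ha, c, hc, rfl⟩ := hx
    exact Subgroup.subset_closure ⟨b * a, Subgroup.mul_mem _ hb ha, c, hc, by group⟩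
  | one => simp
  | mul x y _ _ hx hy => simpa [mul_assoc] using Subgroup.mul_mem _ hx hy
  | inv x _ hx => simpa [mul_assoc] using Subgroup.inv_mem _ hx

theorem nclT_normal : ((nclT E P).subgroupOf (E.autGroup P)).Normal :=
  ⟨fun x hx g => nclT_conj g.2 hx⟩

/-- Every element of `nclT` lifts. -/
theorem exists_lift_of_nclT (hS : IsPGroup p S) (hE : E.IsWeaklyNormalIn F p) (hP : HT F T P)
    (hPfn : F.IsFullyNormalized P) (hQdef : Q = P ⊔ centralizerIn S P) {α : MulAut P}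
    (hα : α ∈ nclT E P) :
    ∃ θ : MulAut Q, IsLift F E P Q θ ∧ ∀ x ∈ P, autFun θ x = autFun α x := by
  obtain ⟨hEs, hF, hi⟩ := id hE
  have hTS := hi.2.1.1
  have hPT := hP.1
  have hPS := hPT.trans hTS
  have hPQ : P ≤ Q := hQdef ▸ le_sup_left
  have hCQ : centralizerIn S P ≤ Q := hQdef ▸ le_sup_right
  have hQS : Q ≤ S := hQdef ▸ sup_le hPS centralizerIn_le
  haveI := finite_of_le hPS
  haveI := finite_of_le hQS
  obtain ⟨A, hA⟩ := exists_liftSubgroup (F := F) (E := E) hPT hTS hQdef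
  have hrec := isReceptive_of_isFullyNormalized hS hF hPfn
  induction hα using Subgroup.closure_induction with
  | one => exact ⟨1, (hA _).mp A.one_mem, fun x hx => by rw [autFun_one (hPQ hx), autFun_one hx]⟩
  | mul a b _ _ ha hb =>
    obtain ⟨θa, hθa, hax⟩ := ha
    obtain ⟨θb, hθb, hbx⟩ := hb
    exact ⟨θa * θb, (hA _).mp (A.mul_mem ((hA _).mpr hθa) ((hA _).mpr hθb)), fun x hx => by
      rw [autFun_mul _ _ (hPQ hx), autFun_mul _ _ hx, hbx x hx, hax _ (autFun_mem b hx)]⟩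
  | inv a _ ha =>
    obtain ⟨θ, hθ, hax⟩ := ha
    refine ⟨θ⁻¹, (hA _).mp (A.inv_mem ((hA _).mpr hθ)), fun x hx => ?_⟩
    conv_lhs => rw [← autFun_autFun_inv a hx, ← hax _ (autFun_mem _ hx)]
    exact autFun_inv_autFun θ (hPQ (autFun_mem _ hx))
  | mem β hβ =>
    obtain ⟨b, hb, c, hc, rfl⟩ := hβ
    obtain ⟨t, ht, htc⟩ := mem_autInducedBy_iff_cj.mp hc
    have htN : t ∈ normalizerIn T P := ⟨ht, mem_normalizer_of_forall fun x hx => by
      have := autFun_mem c hx; rwa [htc x hx] at this⟩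
    obtain ⟨θ, ⟨hθF, -, hθc⟩, -, hθt⟩ := isLift_cj hi hP hQdef htN
    have hbF := IsSubsystemOf.autGroup_le hi.1 _ hb
    have hm := mapTo_of_mem_autGroup hPS hbF
    obtain ⟨g, hg, hgb⟩ := (isReceptive_iff.mp hrec).2 P _ hm (img_autFun b)
    have hgQ : MapTo F Q g :=
      hg.restrict (hQdef ▸ sup_le (le_extSub hm) (centralizerIn_le_extSub hm))
    have hgC : ∀ c ∈ centralizerIn S P, g c ∈ centralizerIn S P := fun c hc => by
      have := hgQ.map_mem_centralizerIn hPQ (hCQ hc) hc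
      rwa [img_congr hgb, img_autFun] at this
    haveI := finite_of_le (centralizerIn_le (S := S) (P := P))
    have hgCimg := img_eq_self_of_forall (hgQ.restrict hCQ) hgC
    have hgimg : img g Q = Q := by
      conv_lhs => rw [hQdef]
      rw [(hQdef ▸ hgQ : MapTo F (P ⊔ centralizerIn S P) g).img_sup le_sup_left le_sup_right,
        img_congr hgb, img_autFun, hgCimg, ← hQdef]
    set γ := autOf hgQ hgimg with hγ
    have hγb : ∀ x ∈ P, autFun γ⁻¹ x = autFun b⁻¹ x := fun x hx => by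
      conv_lhs => rw [← autFun_autFun_inv b hx, ← hgb _ (autFun_mem _ hx),
        ← autFun_autOf hgQ hgimg (hPQ (autFun_mem _ hx))]
      exact autFun_inv_autFun γ (hPQ (autFun_mem _ hx))
    have hagree : ∀ x ∈ P, autFun (γ * θ * γ⁻¹) x = autFun (b * c * b⁻¹) x := fun x hx => by
      rw [autFun_mul _ _ (hPQ hx), autFun_mul _ _ (autFun_mem _ (hPQ hx)), hγb x hx,
        autFun_mul _ _ hx, autFun_mul _ _ (autFun_mem _ hx), hθt _ (hPQ (autFun_mem _ hx)),
        ← htc _ (autFun_mem _ hx), hγ,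
        autFun_autOf hgQ hgimg (hPQ (autFun_mem c (autFun_mem _ hx))),
        hgb _ (autFun_mem c (autFun_mem _ hx))]
    refine ⟨γ * θ * γ⁻¹, ⟨Subgroup.mul_mem _ (Subgroup.mul_mem _ (autOf_mem _ _) hθF)
      (Subgroup.inv_mem _ (autOf_mem _ _)), ⟨_, Subgroup.mul_mem _ (Subgroup.mul_mem _ hb
        (autInducedBy_le_autGroup hPT hc)) (Subgroup.inv_mem _ hb), hagree⟩, fun d hd => ?_⟩,
      hagree⟩
    obtain ⟨d₀, hd₀, rfl⟩ := (hgQ.mem_img_iff hCQ).mp (hgCimg.ge hd)
    have hd₀Q := hCQ hd₀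
    have hgd : g d₀ = autFun γ d₀ := (autFun_autOf hgQ hgimg hd₀Q).symm
    rw [hgd, autFun_mul _ _ (autFun_mem γ hd₀Q),
      autFun_inv_autFun γ hd₀Q, autFun_mul _ _ hd₀Q, ← mul_inv_cancel_left d₀ (autFun θ d₀),
      (mapTo_of_mem_autGroup hQS (autOf_mem hgQ hgimg)).map_mul hd₀Q (hPQ (hθc d₀ hd₀)),
      inv_mul_cancel_left, autFun_autOf hgQ hgimg (hPQ (hθc d₀ hd₀)), hgb _ (hθc d₀ hd₀)]
    exact autFun_mem b (hθc d₀ hd₀)

/-- Averaging: an element of `C_S(T)` is corrected by an element of `Z(P)` commuting with `N_T(P)`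
to one fixed by all lifts of order prime to `p`. -/
theorem exists_fixed (hS : IsPGroup p S) (hE : E.IsWeaklyNormalIn F p) (hP : HT F T P)
    (hPfn : F.IsFullyNormalized P) (hQdef : Q = P ⊔ centralizerIn S P) {u : Ω}
    (hu : u ∈ centralizerIn S T) {V : Subgroup Ω}
    (hV : ∀ θ, IsLift F E P Q θ → u⁻¹ * autFun θ u ∈ V) :
    ∃ z ∈ P ⊓ V, (∀ x ∈ P, x * z = z * x) ∧ (∀ t ∈ normalizerIn T P, t * z = z * t) ∧
      ∀ θ, IsLift F E P Q θ → (orderOf θ).Coprime p → autFun θ (u * z) = u * z := by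
  classical
  obtain ⟨hEs, hF, hi⟩ := id hE
  have hsc := hi.2.1
  have hTS := hsc.1
  have hPT := hP.1
  have hPS := hPT.trans hTS
  have hPQ : P ≤ Q := hQdef ▸ le_sup_left
  have hCQ : centralizerIn S P ≤ Q := hQdef ▸ le_sup_right
  have hQS : Q ≤ S := hQdef ▸ sup_le hPS centralizerIn_le
  haveI := finite_of_le hPS
  haveI := finite_of_le hQS
  haveI := finite_mulAut Q
  haveI := finite_mulAut P
  haveI := finite_of_le hTS
  have hTp := hS.to_le hTS
  have huP : u ∈ centralizerIn S P := centralizerIn_anti hPT hu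
  have huQ : u ∈ Q := hCQ huP
  obtain ⟨A₁, hA₁⟩ := exists_liftSubgroup (F := F) (E := E) hPT hTS hQdef
  have hQn : normalizerIn S P ≤ Subgroup.normalizer (Q : Set Ω) := fun y hy => by
    refine mem_normalizer_of_forall fun w hw => ?_
    have hle : Q ≤ Q.comap (MulAut.conj y).toMonoidHom := by
      conv_lhs => rw [hQdef]
      refine sup_le (fun w hw => hPQ (conj_mem_of_mem_normalizerIn hy hw)) fun c hc => hCQ ?_
      refine mem_centralizerIn.mpr ⟨S.mul_mem (S.mul_mem hy.1 hc.1) (S.inv_mem hy.1),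
        fun x hx => ?_⟩
      have hx' := (Subgroup.mem_normalizer_iff''.mp hy.2 x).mp hx
      calc x * (y * c * y⁻¹) = y * ((y⁻¹ * x * y) * c) * y⁻¹ := by group
        _ = y * (c * (y⁻¹ * x * y)) * y⁻¹ := by rw [(mem_centralizerIn.mp hc).2 _ hx']
        _ = y * c * y⁻¹ * x := by group
    exact hle hw
  have hQN : Q ≤ normalizerIn S P :=
    hQdef ▸ sup_le (le_normalizerIn hPS) centralizerIn_le_normalizerIn
  -- the two subgroups
  set W₀ := autInducedBy (centralizerIn S P) Q with hW₀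
  set Pt₀ := autInducedBy (normalizerIn T P) Q with hPt₀
  set W := W₀.subgroupOf A₁ with hW
  set Pt := Pt₀.subgroupOf A₁ with hPt
  have hWp : IsPGroup p W :=
    (isPGroup_autInducedBy (hS.to_le centralizerIn_le) Q).comap_of_injective _
      (Subgroup.subtype_injective _)
  have hcomm : ∀ {v : Ω}, v ∈ P → v ∈ centralizerIn S P → ∀ y ∈ Q, v * y = y * v := by
    intro v hv hvC y hy
    have hle : Q ≤ Subgroup.centralizer ({v} : Set Ω) := by
      rw [hQdef]
      refine sup_le (fun x hx => ?_) (fun c hc => ?_) <;>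
        refine Subgroup.mem_centralizer_iff.mpr fun w hw => ?_ <;>
        rw [Set.mem_singleton_iff.mp hw]
      · exact ((mem_centralizerIn.mp hvC).2 x hx).symm
      · exact (mem_centralizerIn.mp hc).2 v hv
    exact Subgroup.mem_centralizer_iff.mp (hle hy) v rfl
  have hWc : W ≤ Subgroup.center A₁ := by
    rintro ⟨w, hwA⟩ hw
    obtain ⟨s, hs, hsw⟩ := mem_autInducedBy_iff_cj.mp (Subgroup.mem_subgroupOf.mp hw)
    refine Subgroup.mem_center_iff.mpr fun θ => Subtype.ext (autFun_ext fun y hy => ?_)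
    obtain ⟨hθF, -, hθc⟩ := (hA₁ _).mp θ.2
    have hm := mapTo_of_mem_autGroup hQS hθF
    show autFun ((θ : MulAut Q) * w) y = autFun (w * (θ : MulAut Q)) y
    rw [autFun_mul _ _ hy, autFun_mul _ _ hy, hsw y hy, hsw _ (autFun_mem _ hy), cj_apply,
      cj_apply, hm.map_conj (hCQ hs) hy]
    set s' := autFun (θ : MulAut Q) s with hs'
    have hv : s⁻¹ * s' ∈ P := hθc s hs
    obtain ⟨α, -, hθα⟩ := ((hA₁ _).mp θ.2).2.1
    have himg : img (autFun (θ : MulAut Q)) P = P := (img_congr hθα).trans (img_autFun α)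
    have hs'C : s' ∈ centralizerIn S P := himg ▸ hm.map_mem_centralizerIn hPQ (hCQ hs) hs
    have hvC : s⁻¹ * s' ∈ centralizerIn S P := Subgroup.mul_mem _ (Subgroup.inv_mem _ hs) hs'C
    have h1 := hcomm hv hvC _ (autFun_mem (θ : MulAut Q) hy)
    calc s' * autFun (θ : MulAut Q) y * s'⁻¹
        = s * ((s⁻¹ * s') * autFun (θ : MulAut Q) y) * (s⁻¹ * s')⁻¹ * s⁻¹ := by group
      _ = s * autFun (θ : MulAut Q) y * s⁻¹ := by rw [h1]; group
  have hdisj : W ⊓ Pt = ⊥ := by
    rw [eq_bot_iff]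
    rintro ⟨w, hwA⟩ ⟨hw, hwt⟩
    obtain ⟨s, hs, hsw⟩ := mem_autInducedBy_iff_cj.mp (Subgroup.mem_subgroupOf.mp hw)
    obtain ⟨t, ht, htw⟩ := mem_autInducedBy_iff_cj.mp (Subgroup.mem_subgroupOf.mp hwt)
    have htC : t ∈ centralizerIn S P := mem_centralizerIn.mpr ⟨hTS ht.1, fun x hx => by
      have h1 := (htw x (hPQ hx)).symm.trans (hsw x (hPQ hx))
      rw [cj_apply, cj_apply, ← (mem_centralizerIn.mp hs).2 x hx, mul_inv_cancel_right] at h1
      calc x * t = t * x * t⁻¹ * t := by rw [h1]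
        _ = t * x := by group⟩
    have htP : t ∈ P :=
      hP.2 _ (isConj_refl hPS) (mem_centralizerIn.mpr ⟨ht.1, (mem_centralizerIn.mp htC).2⟩)
    refine Subgroup.mem_bot.mpr (Subtype.ext (autFun_ext fun y hy => ?_))
    show autFun w y = autFun (1 : MulAut Q) y
    rw [autFun_one hy, htw y hy, cj_apply, hcomm htP htC y hy, mul_inv_cancel_right]
  have hmemPt : ∀ {t : Ω}, t ∈ normalizerIn T P → ∀ θ : A₁,
      (∀ x ∈ Q, autFun (θ : MulAut Q) x = cj t x) → θ ∈ Pt := fun ht θ hθ =>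
    Subgroup.mem_subgroupOf.mpr (mem_autInducedBy_iff_cj.mpr ⟨_, ht, hθ⟩)
  let ρ : A₁ →* MulAut P :=
    MonoidHom.mk' (fun θ => ((hA₁ _).mp θ.2).2.1.choose) fun a b => autFun_ext fun x hx => by
      obtain ⟨-, hax⟩ := ((hA₁ _).mp a.2).2.1.choose_spec
      obtain ⟨-, hbx⟩ := ((hA₁ _).mp b.2).2.1.choose_spec
      obtain ⟨-, habx⟩ := ((hA₁ _).mp (a * b).2).2.1.choose_spec
      rw [← habx x hx, autFun_mul _ _ hx, ← hbx x hx, ← hax _ (by
        rw [hbx x hx]; exact autFun_mem _ hx)]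
      exact autFun_mul _ _ (hPQ hx)
  have hρ : ∀ θ : A₁, ρ θ ∈ E.autGroup P ∧
      ∀ x ∈ P, autFun (θ : MulAut Q) x = autFun (ρ θ) x := fun θ =>
    ((hA₁ _).mp θ.2).2.1.choose_spec
  have hker : ∀ θ : A₁, ρ θ = 1 → θ ∈ W := by
    intro θ hθ
    obtain ⟨hθF, -, hθc⟩ := (hA₁ _).mp θ.2
    have hm := mapTo_of_mem_autGroup hQS hθF
    obtain ⟨y, hy, hyx⟩ := exists_conj_of_stab hS hF hPfn hPQ hQN hQn hm
      (fun x hx => by rw [(hρ θ).2 x hx, hθ, autFun_one hx]) fun x hx => by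
      have hle : ∀ x ∈ Q, x⁻¹ * autFun (θ : MulAut Q) x ∈ P := by
        intro x hx
        have hn : centralizerIn S P ≤ Subgroup.normalizer (P : Set Ω) :=
          fun c hc => (centralizerIn_le_normalizerIn hc).2
        have h1 : x ∈ ((centralizerIn S P ⊔ P : Subgroup Ω) : Set Ω) := by
          rw [sup_comm, ← hQdef]; exact hx
        rw [Subgroup.coe_mul_of_left_le_normalizer_right _ P hn] at h1
        obtain ⟨c, hc, r, hr, rfl⟩ := h1
        rw [hm.map_mul (hCQ hc) (hPQ hr), (hρ θ).2 r hr, hθ, autFun_one hr]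
        have := P.mul_mem (P.mul_mem (P.inv_mem hr) (hθc c hc)) hr
        rwa [show r⁻¹ * (c⁻¹ * autFun (θ : MulAut Q) c) * r =
          (c * r)⁻¹ * (autFun (θ : MulAut Q) c * r) by group] at this
      exact hle x hx
    exact Subgroup.mem_subgroupOf.mpr (mem_autInducedBy_iff_cj.mpr
      ⟨y, hy, fun x hx => by rw [hyx x hx, cj_apply]⟩)
  have hidx : ¬ p ∣ (W ⊔ Pt).index := by
    have hle : (autInducedBy T P).comap ρ ≤ W ⊔ Pt := by
      intro θ hθ
      obtain ⟨t, ht, htx⟩ := mem_autInducedBy_iff_cj.mp (Subgroup.mem_comap.mp hθ)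
      have htN : t ∈ normalizerIn T P := ⟨ht, mem_normalizer_of_forall fun x hx => by
        have := autFun_mem (ρ θ) hx; rwa [htx x hx] at this⟩
      obtain ⟨κ, hκ, -, hκt⟩ := isLift_cj hi hP hQdef htN
      have hκA : κ ∈ A₁ := (hA₁ _).mpr hκ
      have h1 : θ * (⟨κ, hκA⟩ : A₁)⁻¹ ∈ W := by
        refine hker _ ?_
        have h2 : ρ ⟨κ, hκA⟩ = ρ θ := autFun_ext fun x hx => by
          rw [← (hρ _).2 x hx, htx x hx]; exact hκt x (hPQ hx)
        rw [map_mul, map_inv, h2, mul_inv_cancel]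
      have := Subgroup.mul_mem _ (Subgroup.mem_sup_left (T := Pt) h1)
        (Subgroup.mem_sup_right (hmemPt htN ⟨κ, hκA⟩ hκt))
      rwa [inv_mul_cancel_right] at this
    intro hdvd
    have h1 := hdvd.trans (Subgroup.index_dvd_of_le hle)
    rw [Subgroup.index_comap] at h1
    have hrange : ρ.range ≤ E.autGroup P := by rintro _ ⟨θ, rfl⟩; exact (hρ θ).1
    have hP₀ : autInducedBy T P ≤ ρ.range := by
      intro c hc
      obtain ⟨t, ht, htx⟩ := mem_autInducedBy_iff_cj.mp hc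
      have htN : t ∈ normalizerIn T P := ⟨ht, mem_normalizer_of_forall fun x hx => by
        have := autFun_mem c hx; rwa [htx x hx] at this⟩
      obtain ⟨κ, hκ, -, hκt⟩ := isLift_cj hi hP hQdef htN
      refine ⟨⟨κ, (hA₁ _).mpr hκ⟩, autFun_ext fun x hx => ?_⟩
      rw [← (hρ _).2 x hx, htx x hx]
      exact hκt x (hPQ hx)
    have hfa := ((isFullyAutomized_iff hTp).mp (isFullyAutomized_of_isFullyNormalized hTp hEs
      (isFullyNormalized_sub hS hF hi hPT hPfn))).2
    exact hfa (h1.trans (Subgroup.relIndex_mul_relIndex _ _ _ hP₀ hrange ▸ dvd_mul_right _ _))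
  have hconj : ∀ x ∈ Pt, ∀ g : A₁, g * x * g⁻¹ ∈ W ⊔ Pt → g * x * g⁻¹ ∈ Pt := by
    intro x hx g hgx
    obtain ⟨t, ht, htx⟩ := mem_autInducedBy_iff_cj.mp (Subgroup.mem_subgroupOf.mp hx)
    have hS' : ((g * x * g⁻¹ : A₁) : MulAut Q) ∈ autInducedBy (normalizerIn S P) Q := by
      have hle : W ⊔ Pt ≤ (autInducedBy (normalizerIn S P) Q).subgroupOf A₁ := sup_le
        (Subgroup.comap_mono (autInducedBy_mono centralizerIn_le_normalizerIn Q))
        (Subgroup.comap_mono (autInducedBy_mono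
          (fun y (hy : y ∈ normalizerIn T P) => (⟨hTS hy.1, hy.2⟩ : y ∈ normalizerIn S P)) Q))
      exact Subgroup.mem_subgroupOf.mp (hle hgx)
    obtain ⟨s, hs, hsx⟩ := mem_autInducedBy_iff_cj.mp hS'
    obtain ⟨NS, hNS⟩ : ∃ NS : FusionSystem (normalizerIn S P), F.IsNormalizerSystem P NS :=
      ⟨_, isNormalizerSystem_nSys F hPS⟩
    have hNSsat := isSaturated_normalizerSystem hS hF hPfn hNS
    haveI := finite_of_le (normalizerIn_le (S := S) (P := P))
    have hNp : IsPGroup p (normalizerIn S P) := hS.to_le normalizerIn_le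
    have hfn : NS.IsFullyNormalized Q :=
      ⟨hQN, fun Z _ => by
        haveI := finite_of_le (S := normalizerIn S P)
          (normalizerIn_le (S := normalizerIn S P) (P := Q))
        exact Subgroup.card_le_of_le fun y hy => ⟨hy.1, hQn hy.1⟩⟩
    obtain ⟨hgF, ⟨α, -, hgα⟩, -⟩ := (hA₁ _).mp g.2
    have hgm := mapTo_of_mem_autGroup hQS hgF
    have hgP : img (autFun (g : MulAut Q)) P = P := (img_congr hgα).trans (img_autFun α)
    have hgNS : MapTo NS Q (autFun (g : MulAut Q)) := (mapTo_nSys_iff hNS).mpr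
      ⟨hQN, fun y hy => hQN (autFun_mem _ hy), _, by rwa [sup_eq_left.mpr hPQ], fun _ _ => rfl,
        hgP⟩
    obtain ⟨e, he, heg⟩ := (isReceptive_iff.mp (isReceptive_of_isFullyNormalized hNp hNSsat hfn)).2
      Q _ hgNS (img_autFun _)
    have htN : t ∈ normalizerIn S P := ⟨hTS ht.1, ht.2⟩
    have htext : t ∈ extSub (normalizerIn S P) hgNS := by
      refine ⟨⟨htN, hQn htN⟩, s, hs, fun y hy => ?_⟩
      have h1 := hsx _ (autFun_mem (g : MulAut Q) hy)
      rw [Subgroup.coe_mul, Subgroup.coe_mul, Subgroup.coe_inv,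
        autFun_mul _ _ (autFun_mem _ hy), autFun_inv_autFun _ hy, autFun_mul _ _ hy, htx y hy,
        cj_apply, cj_apply] at h1
      exact h1
    obtain ⟨e', he', he'x, he'P⟩ := ((mapTo_nSys_iff hNS).mp he).2.2
    have heT : e t ∈ normalizerIn T P := by
      refine ⟨?_, (he.mem htext).2⟩
      rw [← he'x t htext]
      exact StronglyClosed.map_mem hsc he' (Subgroup.mem_sup_left htext) ht.1
    refine hmemPt heT _ fun y hy => ?_
    have hv := autFun_mem (g : MulAut Q)⁻¹ hy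
    have htv : t * autFun (g : MulAut Q)⁻¹ y * t⁻¹ ∈ Q :=
      (Subgroup.mem_normalizer_iff.mp (hQn htN) _).mp hv
    rw [Subgroup.coe_mul, Subgroup.coe_mul, Subgroup.coe_inv, autFun_mul _ _ hy,
      autFun_mul _ _ (autFun_mem _ hy), htx _ hv, cj_apply, ← heg _ htv,
      he.map_conj htext (le_extSub hgNS hv), heg _ hv, autFun_autFun_inv _ hy, cj_apply]
  obtain ⟨A', hPtA', hcopA', hidx'⟩ := exists_complement hWp hWc hdisj hidx hconj
  -- averaging
  set Z : Subgroup Ω := P ⊓ centralizerIn S P with hZ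
  haveI := finite_of_le (inf_le_left.trans hPS : Z ≤ S)
  letI : CommGroup Z :=
    { (inferInstance : Group Z) with
      mul_comm := fun a b => Subtype.ext ((mem_centralizerIn.mp b.2.2).2 a a.2.1) }
  have hδ : ∀ θ : A₁, u⁻¹ * autFun (θ : MulAut Q) u ∈ Z := fun θ => by
    obtain ⟨hθF, ⟨α, -, hθα⟩, hθc⟩ := (hA₁ _).mp θ.2
    have hm := mapTo_of_mem_autGroup hQS hθF
    have h1 := hm.map_mem_centralizerIn hPQ huQ huP
    rw [img_congr hθα, img_autFun] at h1
    exact ⟨hθc u huP, Subgroup.mul_mem _ (Subgroup.inv_mem _ huP) h1⟩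
  have hact : ∀ (θ : A₁) (v : Z), autFun (θ : MulAut Q) v ∈ Z := fun θ v => by
    obtain ⟨hθF, ⟨α, -, hθα⟩, -⟩ := (hA₁ _).mp θ.2
    have hm := mapTo_of_mem_autGroup hQS hθF
    have h1 := hm.map_mem_centralizerIn hPQ (hPQ v.2.1) v.2.2
    rw [img_congr hθα, img_autFun] at h1
    exact ⟨by rw [hθα _ v.2.1]; exact autFun_mem α v.2.1, h1⟩
  let act : A₁ → (Z →* Z) := fun θ => MonoidHom.mk' (fun v => ⟨_, hact θ v⟩) fun v w =>
    Subtype.ext ((mapTo_of_mem_autGroup hQS ((hA₁ _).mp θ.2).1).map_mul (hPQ v.2.1) (hPQ w.2.1))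
  let δ : A₁ → Z := fun θ => ⟨_, hδ θ⟩
  have hmul : ∀ a b : A₁, δ (a * b) = δ a * act a (δ b) := by
    intro a b
    refine Subtype.ext ?_
    show u⁻¹ * autFun ((a : MulAut Q) * (b : MulAut Q)) u =
      (u⁻¹ * autFun (a : MulAut Q) u) * autFun (a : MulAut Q) (u⁻¹ * autFun (b : MulAut Q) u)
    have hm := mapTo_of_mem_autGroup hQS ((hA₁ _).mp a.2).1
    conv_lhs => rw [autFun_mul _ _ huQ, ← mul_inv_cancel_left u (autFun (b : MulAut Q) u),
      hm.map_mul huQ (hPQ (hδ b).1), ← mul_assoc]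
  have hδPt : ∀ x ∈ Pt, δ x = 1 := fun x hx => by
    obtain ⟨t, ht, htx⟩ := mem_autInducedBy_iff_cj.mp (Subgroup.mem_subgroupOf.mp hx)
    refine Subtype.ext ?_
    show u⁻¹ * autFun (x : MulAut Q) u = 1
    rw [htx u huQ, cj_apply, (mem_centralizerIn.mp hu).2 t ht.1]
    group
  set H₀ := Pt.subgroupOf A' with hH₀
  let D : A' ⧸ H₀ → Z := fun q => Quotient.liftOn' q (fun g => δ g) fun a b hab => by
    rw [QuotientGroup.leftRel_apply] at hab
    show δ (a : A₁) = δ (b : A₁)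
    rw [show (b : A₁) = (a : A₁) * ((a⁻¹ * b : A') : A₁) by simp, hmul,
      hδPt _ (Subgroup.mem_subgroupOf.mp hab), map_one, mul_one]
  letI := Fintype.ofFinite (A' ⧸ H₀)
  set z₀ : Z := ∏ q, D q with hz₀
  have hz₀h : ∀ h : A', δ (h : A₁) ^ H₀.index * act (h : A₁) z₀ = z₀ := by
    intro h
    calc δ (h : A₁) ^ H₀.index * act (h : A₁) z₀
        = ∏ q : A' ⧸ H₀, δ (h : A₁) * act (h : A₁) (D q) := by
          rw [hz₀, map_prod, Finset.prod_mul_distrib, Finset.prod_const, Finset.card_univ,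
            Subgroup.index_eq_card, Nat.card_eq_fintype_card]
      _ = ∏ q : A' ⧸ H₀, D (h • q) := Finset.prod_congr rfl fun q _ => by
          induction q using QuotientGroup.induction_on with
          | H g => exact (hmul _ _).symm
      _ = z₀ := Equiv.prod_comp (MulAction.toPerm h) D
  obtain ⟨e, he⟩ := IsPGroup.iff_card.mp (hS.to_le (inf_le_left.trans hPS : Z ≤ S))
  have hcop : (Nat.card Z).Coprime H₀.index := by
    rw [he]
    exact Nat.Coprime.pow_left e ((Fact.out : p.Prime).coprime_iff_not_dvd.mpr hidx')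
  obtain ⟨z, hz⟩ := (powCoprime hcop).surjective z₀
  change z ^ H₀.index = z₀ at hz
  have hzfix : ∀ h : A', δ (h : A₁) * act (h : A₁) z = z := fun h => by
    refine (powCoprime hcop).injective ?_
    show (δ (h : A₁) * act (h : A₁) z) ^ H₀.index = z ^ H₀.index
    rw [mul_pow, ← map_pow, hz, hz₀h h]
  have hfix : ∀ h : A', autFun ((h : A₁) : MulAut Q) (u * z) = u * z := fun h => by
    have h1 := congrArg Subtype.val (hzfix h)
    have hm := mapTo_of_mem_autGroup hQS ((hA₁ _).mp (h : A₁).2).1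
    rw [hm.map_mul huQ (hPQ z.2.1),
      ← mul_inv_cancel_left u (autFun ((h : A₁) : MulAut Q) u), mul_assoc]
    exact congrArg (u * ·) h1
  have hzV : (z : Ω) ∈ V := by
    have h0 : (z₀ : Ω) ∈ V := by
      have : z₀ ∈ V.subgroupOf Z := Subgroup.prod_mem _ fun q _ => by
        induction q using QuotientGroup.induction_on with
        | H g => exact Subgroup.mem_subgroupOf.mpr (hV _ ((hA₁ _).mp (g : A₁).2))
      exact this
    have hm : z ∈ Subgroup.zpowers z₀ := by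
      obtain ⟨m, hm⟩ := exists_pow_eq_self_of_coprime (x := z)
        (Nat.Coprime.coprime_dvd_right (orderOf_dvd_natCard _) hcop.symm)
      exact ⟨m, by show z₀ ^ (m : ℤ) = z; rw [zpow_natCast, ← hz, hm]⟩
    obtain ⟨m, hm⟩ := hm
    rw [← hm]
    show ((z₀ ^ m : Z) : Ω) ∈ V
    rw [SubgroupClass.coe_zpow]
    exact V.zpow_mem h0 m
  refine ⟨z, ⟨z.2.1, hzV⟩, fun x hx => (mem_centralizerIn.mp z.2.2).2 x hx, fun t ht => ?_,
    fun θ hθ hθcop => ?_⟩
  · obtain ⟨κ, hκ, -, hκt⟩ := isLift_cj hi hP hQdef ht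
    have hκA' : (⟨κ, (hA₁ _).mpr hκ⟩ : A₁) ∈ A' := hPtA' (hmemPt ht _ hκt)
    have h1 := hfix ⟨_, hκA'⟩
    have huzQ : u * (z : Ω) ∈ Q := Q.mul_mem huQ (hPQ z.2.1)
    change autFun κ (u * z) = u * z at h1
    rw [hκt _ huzQ, cj_apply] at h1
    have hut := (mem_centralizerIn.mp hu).2 t ht.1
    have h2 : t * (z : Ω) * t⁻¹ = z := by
      calc t * (z : Ω) * t⁻¹ = u⁻¹ * (t * u * (z : Ω) * t⁻¹) := by rw [hut]; group
        _ = z := by rw [mul_assoc t u, h1]; group
    calc t * (z : Ω) = t * z * t⁻¹ * t := by group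
      _ = z * t := by rw [h2]
  · have hθA' : (⟨θ, (hA₁ _).mpr hθ⟩ : A₁) ∈ A' :=
      hcopA' _ (by rwa [← Subgroup.orderOf_coe])
    exact hfix ⟨_, hθA'⟩

end Cfsg.Agent.Components.NormalLiftGroup
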