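import Cfsg.Agent.Lib.Components.PLocal

/-!
# Consequences for centralizers of p-subgroups
-/

set_option autoImplicit false
set_option linter.unusedSectionVars false
set_option linter.style.haveILetI false

namespace Cfsg.Agent.Components

open scoped commutatorElement
open Subgroup Cfsg

variable {G : Type*} [Group G] [Finite G] {p : ℕ} [hp : Fact p.Prime]

theorem qs_le_centralizer_of_coprime_elements {L : Subgroup G} (hL : Cfsg.IsQuasisimple ↥L)
    {S : Set G} (hn : L ≤ normalizer (centralizer S : Set G))
    (h : ∀ x ∈ L, (orderOf x).Coprime p → x ∈ centralizer S) : L ≤ centralizer S := by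
  rcases isQuasisimple_normalized_cases hL hn with h1 | h1
  · exact h1
  exfalso
  haveI := hL.2
  have hp' : IsPGroup p (↥L ⧸ center ↥L) := by
    intro q
    obtain ⟨x, rfl⟩ := QuotientGroup.mk'_surjective _ q
    obtain ⟨a, b, hab, ⟨k, hk⟩, hb, -, -⟩ :=
      LocalEvenA.exists_pPart (p := p) (isOfFinOrder_of_finite x)
    refine ⟨k, ?_⟩
    have hbz : b ∈ center ↥L := by
      have h2 : (b : G) ∈ (center ↥L).map L.subtype := by
        rw [map_subtype_center]
        exact ⟨b.2, h1 ⟨h _ b.2 (by rwa [Subgroup.orderOf_coe]), b.2⟩⟩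
      obtain ⟨b', hb', he⟩ := h2
      rwa [← show b' = b from Subtype.ext he]
    rw [← hab, map_mul, show QuotientGroup.mk' (center ↥L) b = 1 from
      (QuotientGroup.eq_one_iff _).mpr hbz, mul_one, ← map_pow, hk, map_one]
  haveI := hp'.isNilpotent
  haveI := hL.1
  exact Group.IsPerfect.not_isSolvable (↥L ⧸ center ↥L) inferInstance

theorem normalizer_le_normalizer_centralizer (S : Subgroup G) :
    normalizer (S : Set G) ≤ normalizer (centralizer (S : Set G) : Set G) := by
  intro g hg
  rw [mem_normalizer_iff]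
  have key : ∀ g ∈ normalizer (S : Set G), ∀ x ∈ centralizer (S : Set G),
      g * x * g⁻¹ ∈ centralizer (S : Set G) := by
    intro g hg x hx
    rw [mem_centralizer_iff]
    intro s hs
    have := mem_centralizer_iff.mp hx _ ((mem_normalizer_iff.mp (inv_mem hg) s).mp hs)
    simp only [inv_inv] at this
    calc s * (g * x * g⁻¹) = g * (g⁻¹ * s * g * x) * g⁻¹ := by group
      _ = g * (x * (g⁻¹ * s * g)) * g⁻¹ := by rw [this]
      _ = g * x * g⁻¹ * s := by group
  intro x
  refine ⟨key g hg x, fun h => ?_⟩
  have := key g⁻¹ (inv_mem hg) _ h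
  simpa [mul_assoc] using this

/-- In a group with trivial p-layer, `O_{p'}` of the centralizer of a p-subgroup lies in `O_{p'}`. -/
theorem centralizer_core_le_of_pLayer_eq_bot (hL : Cfsg.pLayer p G = ⊥) {P : Subgroup G}
    (hP : IsPGroup p ↥P) {D : Subgroup G} (hD : D ≤ centralizer (P : Set G))
    (hDn : centralizer (P : Set G) ≤ normalizer (D : Set G)) (hDc : (Nat.card D).Coprime p) :
    D ≤ Cfsg.pPrimeCore p G := by
  set H := normalizer (P : Set G) with hH
  have hCH : centralizer (P : Set G) ≤ H := centralizer_le_normalizer _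
  haveI hCn : ((centralizer (P : Set G)).subgroupOf H).Normal :=
    normal_subgroupOf_of_le_normalizer (normalizer_le_normalizer_centralizer P)
  have hsn : (D.subgroupOf H).IsSubnormal := by
    refine IsSubnormal.step _ ((centralizer (P : Set G)).subgroupOf H) (fun x hx => hD hx)
      (isSubnormal_of_normal _) (normal_subgroupOf_of_le_normalizer ?_)
    intro x hx
    rw [mem_normalizer_iff]
    intro y
    exact mem_normalizer_iff.mp (hDn hx) (y : G)
  have h1 := subnormal_coprime_le_pPrimeCore (p := p) hsn
    (by rwa [Nat.card_congr (subgroupOfEquivOfLe (hD.trans hCH)).toEquiv])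
  have h2 := Subgroup.map_mono (f := H.subtype) h1
  rw [map_subgroupOf_eq_of_le (hD.trans hCH)] at h2
  exact h2.trans (pLocal_of_pLayer_eq_bot hL hP).2

/-- Balance between two elements when the second centralizer has trivial p-layer. -/
theorem centralizerPPrimeCore_inf_le {a b : G} (hab : Commute a b)
    (ha : IsPGroup p ↥(zpowers a))
    (hL : Cfsg.pLayer p ↥(centralizer ({b} : Set G)) = ⊥) :
    Cfsg.centralizerPPrimeCore p a ⊓ centralizer {b} ≤ Cfsg.centralizerPPrimeCore p b := by
  set Ca := centralizer ({a} : Set G) with hCa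
  set Cb := centralizer ({b} : Set G) with hCb
  set D := Cfsg.centralizerPPrimeCore p a ⊓ Cb with hD
  have haCb : zpowers a ≤ Cb := zpowers_le.mpr (mem_centralizer_singleton_iff.mpr hab.eq)
  have hDa : D ≤ Ca := inf_le_left.trans (map_subtype_le _)
  have hn : Ca ⊓ Cb ≤ normalizer (D : Set G) := by
    intro g hg
    apply mem_normalizer_of_map_conj_eq
    rw [hD, Subgroup.map_inf _ _ _ (MulAut.conj g).injective,
      map_conj_eq_of_mem_normalizer (le_normalizer hg.2), Cfsg.centralizerPPrimeCore]
    rw [map_conj_eq_of_mem_normalizer]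
    have := le_normalizer_map (H := Cfsg.pPrimeCore p ↥Ca) Ca.subtype
    rw [normalizer_eq_top, ← MonoidHom.range_eq_map, range_subtype] at this
    exact this hg.1
  have hcz : ∀ x : ↥Cb, x ∈ centralizer ((zpowers a).subgroupOf Cb : Set ↥Cb) ↔ (x : G) ∈ Ca := by
    intro x
    rw [hCa, mem_centralizer_singleton_iff, mem_centralizer_iff]
    refine ⟨fun h => ?_, fun h y hy => ?_⟩
    · exact (congrArg Subtype.val (h ⟨a, haCb (mem_zpowers a)⟩ (mem_zpowers a))).symm
    · obtain ⟨n, hn⟩ := mem_zpowers_iff.mp (show (y : G) ∈ zpowers a from hy)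
      apply Subtype.ext
      simp only [Subgroup.coe_mul, ← hn]
      exact ((Commute.zpow_left (show Commute a (x : G) from h.symm) n)).eq
  have hDle : D ≤ Cb := inf_le_right
  have h := centralizer_core_le_of_pLayer_eq_bot (G := ↥Cb) hL (P := (zpowers a).subgroupOf Cb)
    (ha.comap_of_injective Cb.subtype Cb.subtype_injective) (D := D.subgroupOf Cb)
    (fun x hx => (hcz x).mpr (hDa hx))
    (fun x hx => by
      rw [mem_normalizer_iff]
      intro y
      exact mem_normalizer_iff.mp (hn ⟨(hcz x).mp hx, x.2⟩) (y : G))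
    (by
      rw [Nat.card_congr (subgroupOfEquivOfLe hDle).toEquiv]
      refine Nat.Coprime.coprime_dvd_left (card_dvd_of_le inf_le_left) ?_
      rw [Cfsg.centralizerPPrimeCore, card_map_of_injective Ca.subtype_injective]
      exact pPrimeCore_coprime)
  have := Subgroup.map_mono (f := Cb.subtype) h
  rwa [map_subgroupOf_eq_of_le hDle] at this

end Cfsg.Agent.Components
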