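import Cfsg.Agent.Lib.Components.Subnormal

/-!
# Quasisimple groups
-/

set_option autoImplicit false

namespace Cfsg.Agent.Components

open scoped commutatorElement
open Subgroup Cfsg

variable {G G' : Type*} [Group G] [Group G'] {X Y : Type*} [Group X] [Group Y]

theorem qs_perfect (hX : Cfsg.IsQuasisimple X) : commutator X = ⊤ :=
  hX.1.commutator_eq_top

theorem qs_nontrivial (hX : Cfsg.IsQuasisimple X) : Nontrivial X :=
  have := hX.2
  (QuotientGroup.mk'_surjective (center X)).nontrivial

theorem qs_center_ne_top (hX : Cfsg.IsQuasisimple X) : center X ≠ ⊤ := by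
  have := hX.2
  intro h
  exact not_subsingleton (X ⧸ center X) (QuotientGroup.subsingleton_iff.mpr h)

theorem qs_not_isMulCommutative (hX : Cfsg.IsQuasisimple X) :
    ¬ IsMulCommutative X := by
  intro h
  exact (qs_center_ne_top hX) (center_eq_top_iff.mpr h)

theorem qs_not_isSolvable (hX : Cfsg.IsQuasisimple X) : ¬ Group.IsSolvable X :=
  haveI := (qs_nontrivial hX)
  haveI := hX.1
  Group.IsPerfect.not_isSolvable X

theorem qs_quotient_not_isMulCommutative (hX : Cfsg.IsQuasisimple X) :
    ¬ IsMulCommutative (X ⧸ center X) := by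
  intro h
  have := hX.2
  haveI := hX.1
  exact Group.IsPerfect.not_isMulCommutative (X ⧸ center X) h

/-- Normal subgroups of a quasisimple group. -/
theorem qs_normal_cases (hX : Cfsg.IsQuasisimple X) (N : Subgroup X) [hN : N.Normal] :
    N = ⊤ ∨ N ≤ center X := by
  have := hX.2
  have hn : (N.map (QuotientGroup.mk' (center X))).Normal :=
    hN.map _ (QuotientGroup.mk'_surjective _)
  rcases hn.eq_bot_or_eq_top with h | h
  · right
    rw [Subgroup.map_eq_bot_iff, QuotientGroup.ker_mk'] at h
    exact h
  · left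
    have htop : N ⊔ center X = ⊤ := by
      have := congrArg (comap (QuotientGroup.mk' (center X))) h
      rw [comap_map_eq, QuotientGroup.ker_mk', comap_top] at this
      exact this
    have hcom : ⁅(⊤ : Subgroup X), ⊤⁆ ≤ N := by
      rw [commutator_le]
      intro a _ b _
      have ha : a ∈ N ⊔ center X := by rw [htop]; exact mem_top a
      have hb : b ∈ N ⊔ center X := by rw [htop]; exact mem_top b
      rw [sup_comm, mem_sup_of_normal_left] at ha hb
      obtain ⟨y, hy, a', ha', rfl⟩ := ha
      obtain ⟨z, hz, b', hb', rfl⟩ := hb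
      have e : ⁅y * a', z * b'⁆ = ⁅a', b'⁆ := by
        simp only [commutatorElement_def, mul_inv_rev]
        have hy' := mem_center_iff.mp hy
        have hz' := mem_center_iff.mp hz
        calc y * a' * (z * b') * (a'⁻¹ * y⁻¹) * (b'⁻¹ * z⁻¹)
            = (a' * y) * (b' * z) * (a'⁻¹ * y⁻¹) * (b'⁻¹ * z⁻¹) := by rw [← hy', ← hz']
          _ = a' * (y * (b' * (z * a'⁻¹))) * y⁻¹ * (b'⁻¹ * z⁻¹) := by group
          _ = a' * ((b' * (z * a'⁻¹)) * y) * y⁻¹ * (b'⁻¹ * z⁻¹) := by rw [← hy']
          _ = a' * b' * ((z * (a'⁻¹ * b'⁻¹)) * z⁻¹) := by group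
          _ = a' * b' * (((a'⁻¹ * b'⁻¹) * z) * z⁻¹) := by rw [← hz']
          _ = a' * b' * a'⁻¹ * b'⁻¹ := by group
      rw [e, commutatorElement_def]
      exact mul_mem (mul_mem (mul_mem ha' hb') (inv_mem ha')) (inv_mem hb')
    rw [← top_le_iff, ← (qs_perfect hX), _root_.commutator_def]
    exact hcom

/-- Subnormal subgroups of a quasisimple group. -/
theorem qs_subnormal_cases (hX : Cfsg.IsQuasisimple X) {H : Subgroup X}
    (hH : H.IsSubnormal) : H = ⊤ ∨ H ≤ center X := by
  rcases hH.lt_normal with h | ⟨K, hK, hHK, hlt⟩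
  · exact Or.inl h
  · haveI := hK
    exact Or.inr (hHK.trans (((qs_normal_cases hX) K).resolve_left hlt.ne))

theorem qs_of_surjective (hX : Cfsg.IsQuasisimple X) (f : X →* Y)
    (hf : Function.Surjective f) [Nontrivial Y] : Cfsg.IsQuasisimple Y := by
  haveI := hX.1
  haveI hY : Group.IsPerfect Y := Group.IsPerfect.ofSurjective hf
  refine ⟨hY, ?_⟩
  haveI : Nontrivial (Y ⧸ center Y) := by
    rw [QuotientGroup.nontrivial_iff]
    intro h
    exact Group.IsPerfect.not_isMulCommutative Y (center_eq_top_iff.mp h)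
  refine ⟨fun N hN => ?_⟩
  let g : X →* Y ⧸ center Y := (QuotientGroup.mk' _).comp f
  have hg : Function.Surjective g := (QuotientGroup.mk'_surjective _).comp hf
  rcases (qs_normal_cases hX) (N.comap g) with h | h
  · right
    rw [← map_comap_eq_self_of_surjective hg N, h, map_top_of_surjective g hg]
  · left
    rw [← map_comap_eq_self_of_surjective hg N, Subgroup.map_eq_bot_iff]
    intro x hx
    have hfx : f x ∈ center Y := by
      have hc := h hx
      rw [mem_center_iff] at hc ⊢
      intro y
      obtain ⟨x', rfl⟩ := hf y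
      rw [← map_mul, ← map_mul, hc x']
    rw [MonoidHom.mem_ker]
    simpa [g] using hfx

theorem qs_of_equiv (hX : Cfsg.IsQuasisimple X) (e : X ≃* Y) :
    Cfsg.IsQuasisimple Y :=
  haveI := (qs_nontrivial hX)
  haveI : Nontrivial Y := e.toEquiv.symm.nontrivial
  (qs_of_surjective hX) e.toMonoidHom e.surjective

theorem isQuasisimple_congr (e : X ≃* Y) : Cfsg.IsQuasisimple X ↔ Cfsg.IsQuasisimple Y :=
  ⟨fun h => qs_of_equiv h e, fun h => qs_of_equiv h e.symm⟩

/-- A perfect group all of whose normal subgroups are trivial modulo the centre or everything. -/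
theorem isQuasisimple_of_normal_cases [Nontrivial X] (hperf : commutator X = ⊤)
    (h : ∀ N : Subgroup X, N.Normal → N = ⊤ ∨ N ≤ center X) : Cfsg.IsQuasisimple X := by
  haveI hP : Group.IsPerfect X := ⟨hperf⟩
  refine ⟨hP, ?_⟩
  haveI : Nontrivial (X ⧸ center X) := by
    rw [QuotientGroup.nontrivial_iff]
    intro h'
    exact Group.IsPerfect.not_isMulCommutative X (center_eq_top_iff.mp h')
  refine ⟨fun N hN => ?_⟩
  have hs := QuotientGroup.mk'_surjective (center X)
  rcases h _ (hN.comap (QuotientGroup.mk' (center X))) with h' | h'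
  · right
    rw [← map_comap_eq_self_of_surjective hs N, h', map_top_of_surjective _ hs]
  · left
    rw [← map_comap_eq_self_of_surjective hs N, Subgroup.map_eq_bot_iff, QuotientGroup.ker_mk']
    exact h'

theorem isQuasisimple_of_isSimpleGroup [IsSimpleGroup X] (hna : ¬ IsMulCommutative X) :
    Cfsg.IsQuasisimple X := by
  refine isQuasisimple_of_normal_cases ?_ fun N hN => ?_
  · rcases (inferInstance : (commutator X).Normal).eq_bot_or_eq_top with h | h
    · exact absurd (((_root_.commutator_eq_bot_iff (G := X)).mp h)) hna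
    · exact h
  · rcases hN.eq_bot_or_eq_top with h | h
    · exact Or.inr (h ▸ bot_le)
    · exact Or.inl h

/-- Centre of a subgroup, as a subgroup of the ambient group. -/
theorem map_subtype_center (K : Subgroup G) :
    (center K).map K.subtype = K ⊓ centralizer (K : Set G) := by
  ext x
  simp only [mem_map, mem_center_iff, coe_subtype, Subtype.exists, exists_and_right, exists_eq_right,
    mem_inf, mem_centralizer_iff, SetLike.mem_coe, Subtype.forall, MulMemClass.mk_mul_mk,
    Subtype.mk.injEq]
  constructor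
  · rintro ⟨hx, h⟩; exact ⟨hx, h⟩
  · rintro ⟨hx, h⟩; exact ⟨hx, h⟩

theorem isQuasisimple_commutator_eq_self {K : Subgroup G} (hK : Cfsg.IsQuasisimple K) :
    ⁅K, K⁆ = K :=
  Subgroup.isPerfect_iff.mp hK.1

theorem isQuasisimple_ne_bot {K : Subgroup G} (hK : Cfsg.IsQuasisimple K) : K ≠ ⊥ := by
  intro h
  have := (qs_nontrivial hK)
  exact not_subsingleton K (h ▸ inferInstance)

theorem isQuasisimple_not_le_centralizer {K : Subgroup G} (hK : Cfsg.IsQuasisimple K) :
    ¬ K ≤ centralizer (K : Set G) := by
  intro h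
  have h2 := commutator_eq_bot_iff_le_centralizer.mpr h
  rw [isQuasisimple_commutator_eq_self hK] at h2
  exact isQuasisimple_ne_bot hK h2

/-- A subgroup of a quasisimple subgroup normalized by it. -/
theorem isQuasisimple_normalized_cases {K N : Subgroup G} (hK : Cfsg.IsQuasisimple K)
    (hN : K ≤ normalizer (N : Set G)) : K ≤ N ∨ N ⊓ K ≤ centralizer (K : Set G) := by
  haveI : (N.subgroupOf K).Normal := normal_subgroupOf_of_le_normalizer hN
  rcases (qs_normal_cases hK) (N.subgroupOf K) with h | h
  · exact Or.inl (subgroupOf_eq_top.mp h)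
  · right
    intro x hx
    have hx' : (⟨x, hx.2⟩ : K) ∈ center K := h hx.1
    have := mem_map_of_mem K.subtype hx'
    rw [map_subtype_center] at this
    exact this.2

theorem isQuasisimple_map_injective {K : Subgroup G} (f : G →* G') (hf : Function.Injective f) :
    Cfsg.IsQuasisimple (K.map f) ↔ Cfsg.IsQuasisimple K :=
  (isQuasisimple_congr (K.equivMapOfInjective f hf)).symm

theorem isQuasisimple_map {K : Subgroup G} (hK : Cfsg.IsQuasisimple K) (f : G →* G')
    (h : ¬ K ≤ f.ker) : Cfsg.IsQuasisimple (K.map f) := by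
  haveI : Nontrivial (K.map f) := by
    rw [nontrivial_iff_ne_bot]
    exact fun h' => h ((Subgroup.map_eq_bot_iff K).mp h')
  exact (qs_of_surjective hK) (f.subgroupMap K) (f.subgroupMap_surjective K)

theorem isQuasisimple_top : Cfsg.IsQuasisimple (⊤ : Subgroup G) ↔ Cfsg.IsQuasisimple G :=
  isQuasisimple_congr topEquiv

end Cfsg.Agent.Components
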