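import Cfsg.Agent.Lib.Fusion.PrimeIndexMain
import Cfsg.Agent.Lib.Fusion.NormalizerSaturated
import Cfsg.Agent.Lib.Fusion.ModelNormalSubsystem
import Cfsg.Agent.Lib.Fusion.NormalTwist
import Cfsg.Agent.Lib.Fusion.DirectFactor

/-!
`O^{p'}` of a weakly normal subsystem is normal: the maps of the residual extend over `C_S(T)`
trivially modulo `T`.
-/

set_option autoImplicit false
set_option linter.style.haveILetI false

namespace Cfsg.Agent.Components.ResidualExtension

open Cfsg.FusionSystem (centralizerIn normalizerIn)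
open Cfsg.Agent.Fusion

universe u

variable {Ω : Type u} [Group Ω] {S T P Q R X : Subgroup Ω} {F : FusionSystem S}
variable {E D : FusionSystem T} {f g : Ω → Ω} {p : ℕ}

/-- A centric subgroup of an invariant subsystem is centric in all its conjugates. -/
theorem ht_of_isCentric (hi : E.IsInvariantIn F) (hR : E.IsCentric R) : HT F T R := by
  refine ⟨hR.1, fun R' hR' => ?_⟩
  obtain ⟨f, hf, rfl⟩ := isConj_iff.mp hR'
  obtain ⟨α, hα, f₀, hf₀, hfx⟩ := IsInvariantIn.frattini hi hR.1 hf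
  intro z hz
  have hz' : autFun α⁻¹ z ∈ centralizerIn T (img f₀ R) := by
    refine mem_centralizerIn.mpr ⟨autFun_mem _ hz.1, fun y hy => ?_⟩
    obtain ⟨x, hx, rfl⟩ := (hf₀.mem_img_iff le_rfl).mp hy
    have hm : MapTo F T (autFun α⁻¹) :=
      mapTo_of_mem_autGroup hi.2.1.1 (Subgroup.inv_mem _ hα)
    have hfT : f x ∈ T := StronglyClosed.map_mem hi.2.1 hf hx (hR.1 hx)
    have h1 := congrArg (autFun α⁻¹) ((mem_centralizerIn.mp hz).2 (f x) (mem_img_of_mem hx))
    rw [hm.map_mul hz.1 hfT, hm.map_mul hfT hz.1, hfx x hx,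
      autFun_inv_autFun α (hf₀.mem hx)] at h1
    exact h1
  obtain ⟨x, hx, hxz⟩ := (hf₀.mem_img_iff le_rfl).mp (hR.2 _ hf₀.isConj hz')
  rw [← autFun_autFun_inv α hz.1, ← hxz, ← hfx x hx]
  exact mem_img_of_mem hx

theorem isCentric_of_isConj (hi : E.IsInvariantIn F) (hR : HT F T R) : E.IsCentric R :=
  ⟨hR.1, fun Q hQ => hR.2 Q (IsSubsystemOf.isConj hi.1 hQ)⟩

theorem mem_normalizer_of_forall_centralize (hP : P ≤ T) {c : Ω}
    (hc : c ∈ centralizerIn S T) : c ∈ Subgroup.normalizer (P : Set Ω) := by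
  refine Subgroup.mem_normalizer_iff.mpr fun y => ⟨fun hy => ?_, fun hy => ?_⟩
  · rw [← (mem_centralizerIn.mp hc).2 y (hP hy), mul_inv_cancel_right]; exact hy
  · have h := (mem_centralizerIn.mp hc).2 _ (hP hy)
    rw [inv_mul_cancel_right] at h
    exact (mul_left_cancel h : y = c * y * c⁻¹) ▸ hy

/-- `f` on `P` extends over `C_S(T)` trivially modulo `T`. -/
def Lift (F : FusionSystem S) (T P : Subgroup Ω) (f : Ω → Ω) : Prop :=
  ∃ g, MapTo F (P ⊔ centralizerIn S T) g ∧ (∀ x ∈ P, g x = f x) ∧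
    ∀ c ∈ centralizerIn S T, c⁻¹ * g c ∈ T

theorem Lift.mapTo (h : Lift F T P f) : MapTo F P f :=
  let ⟨_, hg, hgf, _⟩ := h
  (hg.restrict le_sup_left).congr' fun x hx => (hgf x hx).symm

theorem Lift.congr (h : Lift F T P f) (hfg : ∀ x ∈ P, g x = f x) : Lift F T P g :=
  let ⟨k, hk, hkf, hkc⟩ := h
  ⟨k, hk, fun x hx => (hkf x hx).trans (hfg x hx).symm, hkc⟩

theorem Lift.restrict (h : Lift F T P f) (hR : R ≤ P) : Lift F T R f :=
  let ⟨k, hk, hkf, hkc⟩ := h
  ⟨k, hk.restrict (sup_le_sup_right hR _), fun x hx => hkf x (hR hx), hkc⟩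

theorem lift_id (hPS : P ≤ S) : Lift F T P fun x => x :=
  ⟨fun x => x, mapTo_id F (sup_le hPS centralizerIn_le), fun _ _ => rfl, fun c _ => by
    simp⟩

theorem lift_cj (hTS : T ≤ S) (hP : P ≤ T) {s : Ω} (hs : s ∈ T) : Lift F T P (cj s) :=
  ⟨cj s, mapTo_cj (sup_le (hP.trans hTS) centralizerIn_le) (hTS hs), fun _ _ => rfl, fun c hc => by
    rw [cj_apply, (mem_centralizerIn.mp hc).2 s hs]
    simp⟩

/-- The image of `c ∈ C_S(T)` lies in `c · f(P)`. -/
theorem mem_img_of_lift (hsc : F.StronglyClosed T) (hP : HT F T P)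
    (hg : MapTo F (P ⊔ centralizerIn S T) g) (hgT : ∀ c ∈ centralizerIn S T, c⁻¹ * g c ∈ T)
    {c : Ω} (hc : c ∈ centralizerIn S T) : c⁻¹ * g c ∈ img g P := by
  have hgP := hg.restrict (le_sup_left : P ≤ P ⊔ centralizerIn S T)
  refine hP.2 _ hgP.isConj (mem_centralizerIn.mpr ⟨hgT c hc, fun y hy => ?_⟩)
  obtain ⟨x, hx, rfl⟩ := (hgP.mem_img_iff le_rfl).mp hy
  have hxT := StronglyClosed.map_mem hsc hgP hx (hP.1 hx)
  have hxl : x ∈ P ⊔ centralizerIn S T := Subgroup.mem_sup_left hx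
  have hcl : c ∈ P ⊔ centralizerIn S T := Subgroup.mem_sup_right hc
  have hc1 : g c * g x = g x * g c := by
    rw [← hg.map_mul hcl hxl, ← hg.map_mul hxl hcl, (mem_centralizerIn.mp hc).2 x (hP.1 hx)]
  have hcg : g x * c⁻¹ = c⁻¹ * g x :=
    (show Commute (g x) c from (mem_centralizerIn.mp hc).2 _ hxT).inv_right.eq
  rw [← mul_assoc, hcg, mul_assoc, ← hc1, ← mul_assoc]

theorem Lift.comp (hsc : F.StronglyClosed T) (hP : HT F T P) (hf : Lift F T P f)
    (hg : Lift F T (img f P) g) : Lift F T P (fun x => g (f x)) := by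
  obtain ⟨a, ha, haf, hac⟩ := hf
  obtain ⟨b, hb, hbg, hbc⟩ := hg
  have hmem : ∀ c ∈ centralizerIn S T, c⁻¹ * a c ∈ img f P := fun c hc => by
    have h := mem_img_of_lift hsc hP ha hac hc
    rwa [img_congr haf] at h
  have hle : ∀ x ∈ P ⊔ centralizerIn S T, a x ∈ img f P ⊔ centralizerIn S T := by
    intro x hx
    have h1 : img a (P ⊔ centralizerIn S T) ≤ img f P ⊔ centralizerIn S T := by
      rw [ha.img_sup le_sup_left le_sup_right]
      refine sup_le ((img_congr haf).le.trans le_sup_left) (img_le_of_forall fun c hc => ?_)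
      rw [← mul_inv_cancel_left c (a c)]
      exact Subgroup.mul_mem _ (Subgroup.mem_sup_right hc) (Subgroup.mem_sup_left (hmem c hc))
    exact h1 (mem_img_of_mem hx)
  refine ⟨fun x => b (a x), ha.comp hb hle, fun x hx => ?_, fun c hc => ?_⟩
  · show b (a x) = g (f x)
    rw [haf x hx, hbg _ (mem_img_of_mem hx)]
  · show c⁻¹ * b (a c) ∈ T
    rw [← mul_inv_cancel_left c (a c), hb.map_mul (Subgroup.mem_sup_right hc)
      (Subgroup.mem_sup_left (hmem c hc)), ← mul_assoc]
    refine T.mul_mem (hbc c hc) ?_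
    obtain ⟨x, hx, hxc⟩ := ((ha.restrict le_sup_left).congr' fun x hx => (haf x hx).symm
      ).mem_img_iff le_rfl |>.mp (hmem c hc)
    rw [← hxc, hbg _ (mem_img_of_mem hx)]
    refine StronglyClosed.map_mem hsc (MapTo.congr' (hb.restrict le_sup_left) fun y hy =>
      (hbg y hy).symm) (mem_img_of_mem hx) ?_
    exact hxc ▸ hac c hc

theorem Lift.inverse (hsc : F.StronglyClosed T) (hP : HT F T P) (hf : Lift F T P f)
    {k : Ω → Ω} (hk : ∀ x ∈ P, k (f x) = x) : Lift F T (img f P) k := by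
  obtain ⟨a, ha, haf, hac⟩ := hf
  obtain ⟨b, hb, hba, -, -⟩ := ha.exists_iso_inverse
  have hmem : ∀ c ∈ centralizerIn S T, c⁻¹ * a c ∈ img f P := fun c hc => by
    have h := mem_img_of_lift hsc hP ha hac hc
    rwa [img_congr haf] at h
  have himgP : img f P ≤ img a (P ⊔ centralizerIn S T) :=
    (img_congr haf).ge.trans (img_mono le_sup_left)
  have hC : ∀ c ∈ centralizerIn S T, c ∈ img a (P ⊔ centralizerIn S T) := fun c hc => by
    have h := Subgroup.mul_mem _ (mem_img_of_mem (f := a) (Subgroup.mem_sup_right (S := P) hc))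
      (Subgroup.inv_mem _ (himgP (hmem c hc)))
    rwa [mul_inv_rev, inv_inv, ← mul_assoc, mul_inv_cancel, one_mul] at h
  have hbk : ∀ y ∈ img f P, b y = k y := fun y hy => by
    obtain ⟨x, hx, rfl⟩ := ((ha.restrict le_sup_left).congr' fun x hx => (haf x hx).symm
      ).mem_img_iff le_rfl |>.mp hy
    rw [hk x hx, ← haf x hx, hba x (Subgroup.mem_sup_left hx)]
  refine ⟨b, hb.restrict (sup_le himgP hC), hbk, fun c hc => ?_⟩
  have ht := hmem c hc
  have h1 : c = b c * b (c⁻¹ * a c) := by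
    conv_lhs => rw [← hba c (Subgroup.mem_sup_right hc), ← mul_inv_cancel_left c (a c)]
    exact hb.map_mul (hC c hc) (himgP ht)
  have h2 : b (c⁻¹ * a c) ∈ T := by
    obtain ⟨x, hx, hxc⟩ := ((ha.restrict le_sup_left).congr' fun x hx => (haf x hx).symm
      ).mem_img_iff le_rfl |>.mp ht
    rw [hbk _ ht, ← hxc, hk x hx]
    exact hP.1 hx
  have h3 : c⁻¹ * b c = (b (c⁻¹ * a c))⁻¹ := by
    rw [show b c = c * (b (c⁻¹ * a c))⁻¹ by rw [eq_mul_inv_iff_mul_eq]; exact h1.symm]
    group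
  rw [h3]
  exact T.inv_mem h2

variable [Finite S] [Fact p.Prime]

/-- Extension of `a ∈ Aut_F(T)` to `T C_S(T)`. -/
theorem exists_ext_top (hS : IsPGroup p S) (hF : F.IsSaturated p) (hsc : F.StronglyClosed T)
    {a : MulAut T} (ha : a ∈ F.autGroup T) : ∃ β, MapTo F (T ⊔ centralizerIn S T) β ∧
      (∀ t ∈ T, β t = autFun a t) ∧ ∀ c ∈ centralizerIn S T, β c ∈ centralizerIn S T := by
  have hm := mapTo_of_mem_autGroup hsc.1 ha
  obtain ⟨β, hβ, hβt⟩ := (isReceptive_iff.mp (isReceptive_of_isFullyNormalized hS hF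
    (StronglyClosed.isFullyNormalized hsc))).2 T _ hm (img_autFun a)
  have hle : T ⊔ centralizerIn S T ≤ extSub S hm :=
    sup_le (le_extSub hm) (centralizerIn_le_extSub hm)
  refine ⟨β, hβ.restrict hle, hβt, fun c hc => ?_⟩
  have hc' := (hβ.restrict hle).map_mem_centralizerIn (le_sup_left : T ≤ _)
    (Subgroup.mem_sup_right hc) hc
  rwa [img_congr hβt, img_autFun] at hc'

theorem Lift.transport (hS : IsPGroup p S) (hF : F.IsSaturated p) (hsc : F.StronglyClosed T)
    (hP : P ≤ T) (hf : Lift F T P f) {a : MulAut T} (ha : a ∈ F.autGroup T) :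
    Lift F T (img (autFun a) P) (fun y => autFun a (f (autFun a⁻¹ y))) := by
  obtain ⟨g, hg, hgf, hgc⟩ := hf
  obtain ⟨β, hβ, hβt, hβC⟩ := exists_ext_top hS hF hsc ha
  obtain ⟨β', hβ', hβ't, hβ'C⟩ := exists_ext_top hS hF hsc (Subgroup.inv_mem _ ha)
  haveI := finite_of_le hsc.1
  haveI := finite_of_le (centralizerIn_le (S := S) (P := T))
  set U := T ⊔ centralizerIn S T with hU
  have hC : img β (centralizerIn S T) = centralizerIn S T :=
    img_eq_self_of_forall (hβ.restrict le_sup_right) hβC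
  obtain ⟨b, hb, hbβ, -, -⟩ := hβ.exists_iso_inverse
  have hUimg : img β U = U := by
    rw [hU, hβ.img_sup le_sup_left le_sup_right, hC, img_congr hβt, img_autFun]
  rw [hUimg] at hb
  have hbC : ∀ c ∈ centralizerIn S T, b c ∈ centralizerIn S T := fun c hc => by
    obtain ⟨d, hd, rfl⟩ := (hβ.mem_img_iff le_sup_right).mp (hC.symm ▸ hc)
    rw [hbβ d (Subgroup.mem_sup_right hd)]
    exact hd
  have hbt : ∀ t ∈ T, b t = autFun a⁻¹ t := fun t ht => by
    conv_lhs => rw [← autFun_autFun_inv a ht, ← hβt _ (autFun_mem _ ht)]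
    exact hbβ _ (Subgroup.mem_sup_left (autFun_mem _ ht))
  have hm := mapTo_of_mem_autGroup hsc.1 ha
  have haP : img (autFun a) P ≤ T := img_le_of_forall fun x hx => autFun_mem a (hP hx)
  have hgU : ∀ x ∈ P ⊔ centralizerIn S T, g x ∈ U := by
    intro x hx
    have h1 : img g (P ⊔ centralizerIn S T) ≤ U := by
      rw [hg.img_sup le_sup_left le_sup_right]
      refine sup_le (img_le_of_forall fun y hy => Subgroup.mem_sup_left
        (StronglyClosed.map_mem hsc hg (Subgroup.mem_sup_left hy) (hP hy))) ?_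
      refine img_le_of_forall fun c hc => ?_
      rw [← mul_inv_cancel_left c (g c)]
      exact Subgroup.mul_mem _ (Subgroup.mem_sup_right hc) (Subgroup.mem_sup_left (hgc c hc))
    exact h1 (mem_img_of_mem hx)
  have hdom : img (autFun a) P ⊔ centralizerIn S T ≤ U := sup_le_sup_right haP _
  have hbmem : ∀ y ∈ img (autFun a) P ⊔ centralizerIn S T, b y ∈ P ⊔ centralizerIn S T := by
    intro y hy
    have h1 : img b (img (autFun a) P ⊔ centralizerIn S T) ≤ P ⊔ centralizerIn S T := by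
      rw [hb.img_sup (le_sup_left.trans hdom) (le_sup_right.trans hdom)]
      refine sup_le (le_trans (img_le_of_forall fun z hz => ?_) le_sup_left)
        (le_trans (img_le_of_forall hbC) le_sup_right)
      obtain ⟨x, hx, rfl⟩ := (hm.mem_img_iff hP).mp hz
      rw [hbt _ (autFun_mem a (hP hx)), autFun_inv_autFun a (hP hx)]
      exact hx
    exact h1 (mem_img_of_mem hy)
  refine ⟨fun y => β (g (b y)), ((hb.restrict hdom).comp hg hbmem).comp hβ
    fun y hy => hgU _ (hbmem y hy), fun y hy => ?_, fun c hc => ?_⟩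
  · obtain ⟨x, hx, rfl⟩ := (hm.mem_img_iff hP).mp hy
    show β (g (b (autFun a x))) = autFun a (f (autFun a⁻¹ (autFun a x)))
    rw [hbt _ (autFun_mem a (hP hx)), autFun_inv_autFun a (hP hx), hgf x hx,
      hβt _ (hgf x hx ▸ StronglyClosed.map_mem hsc hg (Subgroup.mem_sup_left hx) (hP hx))]
  · show c⁻¹ * β (g (b c)) ∈ T
    rw [← mul_inv_cancel_left (b c) (g (b c)), hβ.map_mul (Subgroup.mem_sup_right (hbC c hc))
      (Subgroup.mem_sup_left (hgc _ (hbC c hc)))]
    obtain ⟨d, hd, rfl⟩ := (hβ.mem_img_iff le_sup_right).mp (hC.symm ▸ hc)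
    rw [hbβ d (Subgroup.mem_sup_right hd), inv_mul_cancel_left, hβt _ (hgc d hd)]
    exact autFun_mem _ (hgc d hd)

/-- An automorphism fixing a fully normalised subgroup, and trivial modulo it on a normalised
overgroup, is conjugation by an element of its centraliser. -/
theorem exists_conj_of_stab (hS : IsPGroup p S) (hF : F.IsSaturated p)
    (hQ : F.IsFullyNormalized Q) (hQX : Q ≤ X) (hX : X ≤ normalizerIn S Q)
    (hn : normalizerIn S Q ≤ Subgroup.normalizer (X : Set Ω)) {w : Ω → Ω} (hw : MapTo F X w)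
    (hfix : ∀ x ∈ Q, w x = x) (hmod : ∀ x ∈ X, x⁻¹ * w x ∈ Q) :
    ∃ y ∈ centralizerIn S Q, ∀ x ∈ X, w x = y * x * y⁻¹ := by
  have hQS := hQ.1
  obtain ⟨NS, hNS⟩ : ∃ NS : FusionSystem (normalizerIn S Q), F.IsNormalizerSystem Q NS :=
    ⟨_, isNormalizerSystem_nSys F hQS⟩
  have hNSsat := isSaturated_normalizerSystem hS hF hQ hNS
  haveI := finite_of_le (normalizerIn_le (S := S) (P := Q))
  haveI := finite_of_le hX
  haveI := finite_mulAut X
  haveI := finite_of_le hQS
  have hNp : IsPGroup p (normalizerIn S Q) := hS.to_le normalizerIn_le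
  haveI := finite_of_le (S := normalizerIn S Q)
    (normalizerIn_le (S := normalizerIn S Q) (P := X))
  have hfn : NS.IsFullyNormalized X :=
    ⟨hX, fun Z _ => Subgroup.card_le_of_le fun y hy => ⟨hy.1, hn hy.1⟩⟩
  have hfa := isFullyAutomized_of_isFullyNormalized hNp hNSsat hfn
  have hwX : ∀ x ∈ X, w x ∈ X := fun x hx => by
    have := X.mul_mem hx (hQX (hmod x hx))
    rwa [mul_inv_cancel_left] at this
  have hwNS : MapTo NS X w := (mapTo_nSys_iff hNS).mpr ⟨hX, fun x hx => hX (hwX x hx), w,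
    by rwa [sup_eq_left.mpr hQX], fun _ _ => rfl, by rw [img_congr hfix, img_id]⟩
  have himg : img w X = X := img_eq_self_of_forall hwNS hwX
  set ω := autOf hwNS himg with hω
  have hωx : ∀ x ∈ X, autFun ω x = w x := fun x hx => autFun_autOf hwNS himg hx
  let St : Subgroup (MulAut X) :=
    { carrier := {δ | (∀ x ∈ Q, autFun δ x = x) ∧ ∀ x ∈ X, x⁻¹ * autFun δ x ∈ Q}
      one_mem' := ⟨fun x hx => autFun_one (hQX hx), fun x hx => by
        rw [autFun_one hx, inv_mul_cancel]; exact Q.one_mem⟩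
      mul_mem' := fun {a b} ha hb => ⟨fun x hx => by
          rw [autFun_mul a b (hQX hx), hb.1 x hx, ha.1 x hx], fun x hx => by
          rw [autFun_mul a b hx]
          have := Q.mul_mem (hb.2 x hx) (ha.2 _ (autFun_mem b hx))
          rwa [mul_assoc, mul_inv_cancel_left] at this⟩
      inv_mem' := fun {a} ha => ⟨fun x hx => by
          conv_lhs => rw [← ha.1 x hx]
          exact autFun_inv_autFun a (hQX hx), fun x hx => by
          have h := ha.2 _ (autFun_mem a⁻¹ hx)
          rw [autFun_autFun_inv a hx] at h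
          simpa using Q.inv_mem h⟩ }
  obtain ⟨e, he⟩ := IsPGroup.iff_card.mp (hS.to_le hQS)
  have hStp : IsPGroup p ↥(St ⊓ NS.autGroup X) := by
    rintro ⟨δ, hδ⟩
    refine ⟨e, Subtype.ext ?_⟩
    show δ ^ p ^ e = 1
    rw [← he]
    exact pow_card_eq_one_of_fix hQX hδ.1.1 hδ.1.2
  obtain ⟨β, hβ, hβc⟩ := exists_conj_le_autInducedBy hfa inf_le_right hStp
  have hkeep : ∀ γ ∈ NS.autGroup X, ∀ x ∈ Q, autFun γ x ∈ Q := fun γ hγ x hx => by
    obtain ⟨g, hg, hgx, hgQ⟩ := ((mapTo_nSys_iff hNS).mp (mapTo_of_mem_autGroup hX hγ)).2.2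
    rw [← hgx x (hQX hx), ← hgQ]
    exact mem_img_of_mem hx
  have hωA : ω ∈ NS.autGroup X := autOf_mem hwNS himg
  have hmem : β⁻¹ * ω * β ∈ St ⊓ NS.autGroup X := by
    refine ⟨⟨fun x hx => ?_, fun x hx => ?_⟩,
      Subgroup.mul_mem _ (Subgroup.mul_mem _ (Subgroup.inv_mem _ hβ) hωA) hβ⟩
    · rw [autFun_mul _ _ (hQX hx), autFun_mul _ _ (autFun_mem β (hQX hx)),
        hωx _ (autFun_mem β (hQX hx)), hfix _ (hkeep β hβ x hx), autFun_inv_autFun β (hQX hx)]
    · have hb := autFun_mem β hx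
      have hz := hmod _ hb
      have hβm := mapTo_of_mem_autGroup hX (Subgroup.inv_mem _ hβ)
      rw [autFun_mul _ _ hx, autFun_mul _ _ hb, hωx _ hb,
        ← mul_inv_cancel_left (autFun β x) (w (autFun β x)), hβm.map_mul hb (hQX hz),
        autFun_inv_autFun β hx, inv_mul_cancel_left]
      exact hkeep _ (Subgroup.inv_mem _ hβ) _ hz
  have h1 := hβc _ hmem
  rw [show β * (β⁻¹ * ω * β) * β⁻¹ = ω by group] at h1
  obtain ⟨y, hy, hyw⟩ := mem_autInducedBy_iff_cj.mp h1
  refine ⟨y, mem_centralizerIn.mpr ⟨hy.1, fun x hx => ?_⟩, fun x hx => by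
    rw [← hωx x hx, hyw x hx, cj_apply]⟩
  have h2 := (hyw x (hQX hx)).symm.trans ((hωx x (hQX hx)).trans (hfix x hx))
  rw [cj_apply] at h2
  calc x * y = y * x * y⁻¹ * y := by rw [h2]
    _ = y * x := by group

/-- A fully normalised subgroup of `T` is fully normalised in a weakly normal subsystem. -/
theorem isFullyNormalized_sub (hS : IsPGroup p S) (hF : F.IsSaturated p)
    (hi : E.IsInvariantIn F) (hQT : Q ≤ T) (hQ : F.IsFullyNormalized Q) :
    E.IsFullyNormalized Q := by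
  refine ⟨hQT, fun R hR => ?_⟩
  have hRF := IsSubsystemOf.isConj hi.1 (isConj_symm hR)
  obtain ⟨g, hg, hgQ⟩ := exists_map_normalizerIn hS (isFullyAutomized_of_isFullyNormalized hS hF hQ)
    (isReceptive_of_isFullyNormalized hS hF hQ) hRF
  have hRT : R ≤ T := isConj_le_right hR
  have hTS := hi.2.1.1
  haveI := finite_of_le ((normalizerIn_le (S := T) (P := Q)).trans hTS)
  have hle : normalizerIn T R ≤ normalizerIn S R := fun x hx => ⟨hTS hx.1, hx.2⟩
  rw [← hg.card_img hle]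
  refine Subgroup.card_le_of_le (img_le_of_forall fun z hz => ?_)
  have h1 := hg.map_mem_normalizerIn (le_normalizerIn (hRT.trans hTS)) (hle hz) (hle hz)
  rw [hgQ] at h1
  exact ⟨StronglyClosed.map_mem hi.2.1 hg (hle hz) hz.1, h1.2⟩

/-- A `p`-element of the automizer of a centric subgroup in `E` lifts. -/
theorem lift_of_pow_eq_one (hS : IsPGroup p S) (hE : E.IsWeaklyNormalIn F p) (hQ : E.IsCentric Q)
    (hHT : HT F T Q) {α : MulAut Q} (hα : α ∈ E.autGroup Q) {k : ℕ} (hk : α ^ p ^ k = 1) :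
    Lift F T Q (autFun α) := by
  obtain ⟨hEs, hF, hi⟩ := hE
  have hsc := hi.2.1
  have hTS := hsc.1
  have hQS := hQ.1.trans hTS
  obtain ⟨Q', hc, hfn⟩ := exists_isFullyNormalized (F := F) hQS
  obtain ⟨ψ, hψ, hψQ⟩ := exists_map_normalizerIn hS (isFullyAutomized_of_isFullyNormalized hS hF hfn)
    (isReceptive_of_isFullyNormalized hS hF hfn) hc
  have hψq := hψ.restrict (le_normalizerIn hQS)
  have hQ'T : Q' ≤ T := hψQ ▸ img_le_of_forall fun x hx =>
    StronglyClosed.map_mem hsc hψq hx (hQ.1 hx)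
  have hQ'S := hQ'T.trans hTS
  haveI := finite_of_le hTS
  haveI := finite_of_le hQ'S
  haveI := finite_mulAut Q'
  have hTp := hS.to_le hTS
  have hHT' : HT F T Q' := hψQ ▸ hHT.img hsc hψq
  -- transported automorphism
  obtain ⟨g', hg', hg'x⟩ := IsInvariantIn.conj hi le_rfl hQ.1 (mapTo_of_mem_autGroup hQ.1 hα)
    (fun x hx => autFun_mem α hx) hψq
  rw [hψQ] at hg'
  set α' := MulAut.congr (isoEquiv hψq hψQ) α with hα'
  have hα'E : α' ∈ E.autGroup Q' := by
    refine (mem_autGroup_iff hQ'T).mpr (hg'.congr' fun y hy => ?_)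
    obtain ⟨x, hx, rfl⟩ := (hψq.mem_img_iff le_rfl).mp (hψQ.symm ▸ hy)
    rw [autFun_congr hψq hψQ α hx, hg'x x hx]
  set R' := Q' ⊔ centralizerIn S Q' with hR'
  let M : Submonoid (MulAut Q') :=
    { carrier := {a | a ∈ E.autGroup Q' ∧ ∃ θ, MapTo F R' θ ∧ (∀ x ∈ Q', θ x = autFun a x) ∧
        ∀ c ∈ centralizerIn S Q', c⁻¹ * θ c ∈ Q'}
      one_mem' := ⟨Subgroup.one_mem _, fun x => x, mapTo_id F (sup_le hQ'S centralizerIn_le),
        fun x hx => (autFun_one hx).symm, fun c _ => by simp⟩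
      mul_mem' := by
        rintro a b ⟨ha, θ, hθ, hθa, hθc⟩ ⟨hb, η, hη, hηb, hηc⟩
        have hηR : ∀ x ∈ R', η x ∈ R' := by
          intro x hx
          have h1 : img η R' ≤ R' := by
            rw [hR', hη.img_sup le_sup_left le_sup_right]
            refine sup_le (le_trans (img_le_of_forall fun y hy => ?_) le_sup_left)
              (img_le_of_forall fun c hc => ?_)
            · rw [hηb y hy]; exact autFun_mem b hy
            · rw [← mul_inv_cancel_left c (η c)]
              exact Subgroup.mul_mem _ (Subgroup.mem_sup_right hc)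
                (Subgroup.mem_sup_left (hηc c hc))
          exact h1 (mem_img_of_mem hx)
        refine ⟨Subgroup.mul_mem _ ha hb, fun x => θ (η x), hη.comp hθ hηR, fun x hx => ?_,
          fun c hc => ?_⟩
        · show θ (η x) = _
          rw [hηb x hx, hθa _ (autFun_mem b hx), autFun_mul a b hx]
        · show c⁻¹ * θ (η c) ∈ Q'
          rw [← mul_inv_cancel_left c (η c), hθ.map_mul (Subgroup.mem_sup_right hc)
            (Subgroup.mem_sup_left (hηc c hc)), ← mul_assoc]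
          refine Q'.mul_mem (hθc c hc) ?_
          rw [hθa _ (hηc c hc)]
          exact autFun_mem a (hηc c hc) }
  let J : Subgroup (MulAut Q') :=
    { toSubmonoid := M
      inv_mem' := fun {a} ha => by
        have hn : a ^ (orderOf a - 1) = a⁻¹ := eq_inv_of_mul_eq_one_left (by
          rw [← pow_succ, Nat.sub_add_cancel (orderOf_pos a), pow_orderOf_eq_one])
        exact hn ▸ M.pow_mem ha _ }
  have hJle : J ≤ E.autGroup Q' := fun a ha => ha.1
  have hrec := isReceptive_of_isFullyNormalized hS hF hfn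
  have hext : ∀ b ∈ E.autGroup Q', ∃ β, MapTo F R' β ∧ (∀ x ∈ Q', β x = autFun b x) ∧
      ∀ c ∈ centralizerIn S Q', β c ∈ centralizerIn S Q' := by
    intro b hb
    have hm := mapTo_of_mem_autGroup (F := F) hQ'S (IsSubsystemOf.autGroup_le hi.1 _ hb)
    obtain ⟨β, hβ, hβx⟩ := (isReceptive_iff.mp hrec).2 Q' _ hm (img_autFun b)
    have hle : R' ≤ extSub S hm := sup_le (le_extSub hm) (centralizerIn_le_extSub hm)
    refine ⟨β, hβ.restrict hle, hβx, fun c hc => ?_⟩
    have h1 := (hβ.restrict hle).map_mem_centralizerIn (le_sup_left : Q' ≤ _)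
      (Subgroup.mem_sup_right hc) hc
    rwa [img_congr hβx, img_autFun] at h1
  have hJn : (J.subgroupOf (E.autGroup Q')).Normal := by
    refine ⟨fun a ha b => ?_⟩
    obtain ⟨haE, θ, hθ, hθa, hθc⟩ := ha
    obtain ⟨β, hβ, hβb, hβC⟩ := hext _ b.2
    haveI := finite_of_le (centralizerIn_le (S := S) (P := Q'))
    have hC : img β (centralizerIn S Q') = centralizerIn S Q' :=
      img_eq_self_of_forall (hβ.restrict le_sup_right) hβC
    have hRimg : img β R' = R' := by
      rw [hR', hβ.img_sup le_sup_left le_sup_right, hC, img_congr hβb, img_autFun]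
    obtain ⟨γ, hγ, hγβ, -, -⟩ := hβ.exists_iso_inverse
    rw [hRimg] at hγ
    have hγR : ∀ x ∈ R', γ x ∈ R' := fun x hx => by
      obtain ⟨y, hy, rfl⟩ := (hβ.mem_img_iff le_rfl).mp (hRimg.symm ▸ hx)
      rw [hγβ y hy]; exact hy
    have hθR : ∀ x ∈ R', θ x ∈ R' := by
      intro x hx
      have h1 : img θ R' ≤ R' := by
        rw [hR', hθ.img_sup le_sup_left le_sup_right]
        refine sup_le (le_trans (img_le_of_forall fun y hy => ?_) le_sup_left)
          (img_le_of_forall fun c hc => ?_)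
        · rw [hθa y hy]; exact autFun_mem _ hy
        · rw [← mul_inv_cancel_left c (θ c)]
          exact Subgroup.mul_mem _ (Subgroup.mem_sup_right hc) (Subgroup.mem_sup_left (hθc c hc))
      exact h1 (mem_img_of_mem hx)
    refine ⟨Subgroup.mul_mem _ (Subgroup.mul_mem _ b.2 haE) (Subgroup.inv_mem _ b.2),
      fun x => β (θ (γ x)), (hγ.comp hθ hγR).comp hβ fun x hx => hθR _ (hγR x hx),
      fun x hx => ?_, fun c hc => ?_⟩
    · have hxb : γ x = autFun (b : MulAut Q')⁻¹ x := by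
        conv_lhs => rw [← autFun_autFun_inv (b : MulAut Q') hx, ← hβb _ (autFun_mem _ hx)]
        exact hγβ _ (Subgroup.mem_sup_left (autFun_mem _ hx))
      show β (θ (γ x)) = autFun ((b : MulAut Q') * (a : MulAut Q') * (b : MulAut Q')⁻¹) x
      rw [hxb, hθa _ (autFun_mem _ hx), hβb _ (autFun_mem _ (autFun_mem _ hx)),
        autFun_mul _ _ hx, autFun_mul _ _ (autFun_mem _ hx)]
      rfl
    · obtain ⟨d, hd, rfl⟩ := (hβ.mem_img_iff le_sup_right).mp (hC.symm ▸ hc)
      show (β d)⁻¹ * β (θ (γ (β d))) ∈ Q'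
      rw [hγβ d (Subgroup.mem_sup_right hd), ← mul_inv_cancel_left d (θ d),
        hβ.map_mul (Subgroup.mem_sup_right hd) (Subgroup.mem_sup_left (hθc d hd)),
        inv_mul_cancel_left, hβb _ (hθc d hd)]
      exact autFun_mem _ (hθc d hd)
  have hTJ : autInducedBy T Q' ≤ J := by
    intro a ha
    obtain ⟨t, ht, hta⟩ := mem_autInducedBy_iff_cj.mp ha
    have htn : t ∈ Subgroup.normalizer (Q' : Set Ω) := mem_normalizer_of_forall fun x hx => by
      rw [← cj_apply, ← hta x hx]; exact autFun_mem a hx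
    refine ⟨autInducedBy_le_autGroup hQ'T ha, cj t, mapTo_cj (sup_le hQ'S centralizerIn_le)
      (hTS ht), fun x hx => (hta x hx).symm, fun c hc => ?_⟩
    have hcS := (mem_centralizerIn.mp hc).1
    have hC' : t * c * t⁻¹ ∈ centralizerIn S Q' := by
      refine mem_centralizerIn.mpr ⟨S.mul_mem (S.mul_mem (hTS ht) hcS) (S.inv_mem (hTS ht)),
        fun x hx => ?_⟩
      have hx' := (Subgroup.mem_normalizer_iff''.mp htn x).mp hx
      calc x * (t * c * t⁻¹) = t * ((t⁻¹ * x * t) * c) * t⁻¹ := by group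
        _ = t * (c * (t⁻¹ * x * t)) * t⁻¹ := by rw [(mem_centralizerIn.mp hc).2 _ hx']
        _ = t * c * t⁻¹ * x := by group
    refine centralizerIn_le_of_isCentric (F := E) (isCentric_of_isConj hi hHT') ?_
    refine mem_centralizerIn.mpr ⟨?_, (mem_centralizerIn.mp
      ((centralizerIn S Q').mul_mem ((centralizerIn S Q').inv_mem hc) hC')).2⟩
    show c⁻¹ * (t * c * t⁻¹) ∈ T
    have h1 := StronglyClosed.conj_mem hsc (S.inv_mem hcS) ht
    rw [inv_inv] at h1
    have h2 := T.mul_mem h1 (T.inv_mem ht)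
    rwa [show c⁻¹ * t * c * t⁻¹ = c⁻¹ * (t * c * t⁻¹) by group] at h2
  have hα'k : α' ^ p ^ k = 1 := by rw [hα', ← map_pow, hk, map_one]
  obtain ⟨-, θ, hθ, hθα, hθc⟩ := mem_of_pow_eq_one_of_normal hTp
    (isFullyAutomized_of_isFullyNormalized hTp hEs (isFullyNormalized_sub hS hF hi hQ'T hfn))
    hJn hTJ hα'E hα'k
  -- pull back
  have hCN : Q ⊔ centralizerIn S T ≤ normalizerIn S Q :=
    sup_le (le_normalizerIn hQS) fun c hc => ⟨hc.1, mem_normalizer_of_forall_centralize hQ.1 hc⟩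
  have hψC : ∀ c ∈ centralizerIn S T, ψ c ∈ centralizerIn S Q' := fun c hc => by
    have hcQ : c ∈ centralizerIn S Q :=
      mem_centralizerIn.mpr ⟨hc.1, fun x hx => (mem_centralizerIn.mp hc).2 x (hQ.1 hx)⟩
    have h1 := hψ.map_mem_centralizerIn (le_normalizerIn hQS) (hCN (Subgroup.mem_sup_right hc)) hcQ
    rwa [hψQ] at h1
  set W := img ψ (Q ⊔ centralizerIn S T) with hW
  have hWR : W ≤ R' := by
    rw [hW, hψ.img_sup (le_normalizerIn hQS) (le_sup_right.trans hCN), hψQ]
    exact sup_le le_sup_left (le_trans (img_le_of_forall hψC) le_sup_right)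
  have hθW : ∀ x ∈ W, θ x ∈ W := by
    intro x hx
    have hQW : Q' ≤ W := hψQ ▸ img_mono le_sup_left
    have h1 : img θ W ≤ W := by
      conv_lhs => rw [hW, hψ.img_sup (le_normalizerIn hQS) (le_sup_right.trans hCN), hψQ]
      rw [hθ.img_sup le_sup_left (le_trans (img_le_of_forall hψC) le_sup_right)]
      refine sup_le ((img_le_of_forall fun y hy => by rw [hθα y hy]; exact autFun_mem _ hy).trans
        hQW) (img_le_of_forall fun y hy => ?_)
      obtain ⟨c, hc, rfl⟩ := (hψ.mem_img_iff (le_sup_right.trans hCN)).mp hy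
      rw [← mul_inv_cancel_left (ψ c) (θ (ψ c))]
      exact W.mul_mem (mem_img_of_mem (Subgroup.mem_sup_right hc)) (hQW (hθc _ (hψC c hc)))
    exact h1 (mem_img_of_mem hx)
  obtain ⟨φ, hφ, hφψ, -, -⟩ := (hψ.restrict hCN).exists_iso_inverse
  refine ⟨fun x => φ (θ (ψ x)), ((hψ.restrict hCN).comp (hθ.restrict hWR)
    fun x hx => mem_img_of_mem hx).comp hφ fun x hx => hθW _ (mem_img_of_mem hx),
    fun x hx => ?_, fun c hc => ?_⟩
  · show φ (θ (ψ x)) = _
    rw [hθα _ (hψQ ▸ mem_img_of_mem hx), hα', autFun_congr hψq hψQ α hx,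
      hφψ _ (Subgroup.mem_sup_left (autFun_mem α hx))]
  · show c⁻¹ * φ (θ (ψ c)) ∈ T
    have hz := hθc _ (hψC c hc)
    obtain ⟨x, hx, hxz⟩ := (hψq.mem_img_iff le_rfl).mp (hψQ.symm ▸ hz)
    rw [← mul_inv_cancel_left (ψ c) (θ (ψ c)), ← hxz, ← hψ.map_mul
      (hCN (Subgroup.mem_sup_right hc)) (hCN (Subgroup.mem_sup_left hx)),
      hφψ _ (Subgroup.mul_mem _ (Subgroup.mem_sup_right hc) (Subgroup.mem_sup_left hx)),
      inv_mul_cancel_left]
    exact hQ.1 hx

end Cfsg.Agent.Components.ResidualExtension
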