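import Cfsg.Agent.Lib.Fusion.IndexP.Main
import Cfsg.Agent.Lib.Fusion.PPowerIndex
import Cfsg.Prelude.Def_FusionReduction

/-!
A normal subsystem of `p`-power index has the same hyperfocal subgroup and residual limit.
-/

set_option autoImplicit false
set_option linter.style.haveILetI false

namespace Cfsg.Agent.Components.ResLimit

open Cfsg Cfsg.Agent.Fusion

universe u

variable {Ω : Type u} [Group Ω] {p : ℕ}

/-- Two systems, over possibly differently named subgroups, with the same maps. -/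
def SameSys {S S' : Subgroup Ω} (F : FusionSystem S) (F' : FusionSystem S') : Prop :=
  S = S' ∧ ∀ P : Subgroup Ω, F.Hom P = F'.Hom P

theorem eq_of_hom {S : Subgroup Ω} {F F' : FusionSystem S} (h : ∀ P : Subgroup Ω, F.Hom P = F'.Hom P) :
    F = F' := by
  refine fusionSystem_ext fun P f => ⟨?_, ?_⟩
  · rintro ⟨φ, hφ, he⟩; exact ⟨φ, h P ▸ hφ, he⟩
  · rintro ⟨φ, hφ, he⟩; exact ⟨φ, (h P).symm ▸ hφ, he⟩

theorem SameSys.symm {S S' : Subgroup Ω} {F : FusionSystem S} {F' : FusionSystem S'} (h : SameSys F F') :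
    SameSys F' F :=
  ⟨h.1.symm, fun P => (h.2 P).symm⟩

theorem SameSys.trans {S S' S'' : Subgroup Ω} {F : FusionSystem S} {F' : FusionSystem S'}
    {F'' : FusionSystem S''} (h : SameSys F F') (h' : SameSys F' F'') : SameSys F F'' :=
  ⟨h.1.trans h'.1, fun P => (h.2 P).trans (h'.2 P)⟩

variable [Fact p.Prime]

theorem self_index {S : Subgroup Ω} (F : FusionSystem S) : F.HasPPowerIndexIn F p :=
  ⟨fun _ _ h => h, hyperfocal_le, fun _ _ => oP_le⟩

/-- The `p`-residuals of systems with the same maps have the same maps. -/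
theorem pResidual_same {S S' : Subgroup Ω} [Finite S] (hS : IsPGroup p S) {F : FusionSystem S}
    {F' : FusionSystem S'} (h : SameSys F F') {T T' : Subgroup Ω} {D : FusionSystem T} {D' : FusionSystem T'}
    (hTS : T ≤ S) (hT : T = T') (hD : D.IsSaturated p ∧ D.HasPPowerIndexIn F p)
    (hD' : D'.IsSaturated p ∧ D'.HasPPowerIndexIn F' p) : SameSys D D' := by
  obtain ⟨rfl, h2⟩ := h
  obtain rfl := eq_of_hom h2
  subst hT
  exact ⟨rfl, pPowerIndex_unique hS hTS D' hD.1 hD'.1 hD.2 hD'.2⟩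

theorem pPrime_same {S S' : Subgroup Ω} {F : FusionSystem S} {F' : FusionSystem S'} (h : SameSys F F')
    {E : FusionSystem S} {E' : FusionSystem S'} (hE : F.IsPPrimeResidual p E)
    (hE' : F'.IsPPrimeResidual p E') : SameSys E E' := by
  obtain ⟨rfl, h2⟩ := h
  obtain rfl := eq_of_hom h2
  exact ⟨rfl, fun P => Set.Subset.antisymm (fun _ hφ => hE.2.2 E' hE'.1 hE'.2.1 P hφ)
    fun _ hφ => hE'.2.2 E hE.1 hE.2.1 P hφ⟩

theorem hyp_same {S S' : Subgroup Ω} {F : FusionSystem S} {F' : FusionSystem S'} (h : SameSys F F') :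
    F.hyperfocalSubgroup p = F'.hyperfocalSubgroup p := by
  obtain ⟨rfl, h2⟩ := h
  obtain rfl := eq_of_hom h2
  rfl

omit [Fact p.Prime] in
/-- The limit of a stable system is the system. -/
theorem limit_stable {U : Subgroup Ω} {E : FusionSystem U} {S' : Subgroup Ω} {F' : FusionSystem S'}
    (hlim : E.IsResidualLimitOf F' p) :
    ∀ [Fact p.Prime] {S : Subgroup Ω} [Finite S] (F : FusionSystem S), IsPGroup p S → F.hyperfocalSubgroup p = S →
      F.IsPPrimeResidual p F → SameSys F F' → SameSys F E := by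
  induction hlim with
  | stable G p h1 h2 => intro _ S hfin F _ _ _ h; exact h
  | step G p D D' hD hD' hlim ih =>
    intro hpf S hfin F hS hyp hres h
    have h1 : SameSys F D := pResidual_same hS h le_rfl (hyp.symm.trans (hyp_same h))
      ⟨hres.1, self_index F⟩ hD
    exact ih F hS hyp hres (pPrime_same h1 hres hD')

omit [Fact p.Prime] in
theorem limit_unique {U : Subgroup Ω} {E : FusionSystem U} {S : Subgroup Ω} {F : FusionSystem S}
    (hlim : E.IsResidualLimitOf F p) :
    ∀ [Fact p.Prime] {V : Subgroup Ω} {E' : FusionSystem V} {S' : Subgroup Ω} (F' : FusionSystem S'),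
      Finite S → IsPGroup p S → E'.IsResidualLimitOf F' p → SameSys F F' → SameSys E E' := by
  induction hlim with
  | stable G p h1 h2 =>
    intro hpf V E' S' F' hfin hS hlim' h
    haveI := hfin
    exact limit_stable hlim' G hS h1 h2 h
  | step G p D D' hD hD' hlim ih =>
    intro hpf V E' S' F' hfin hS hlim' h
    haveI := hfin
    cases hlim' with
    | stable _ _ h1 h2 =>
      obtain rfl := h.1
      exact (limit_stable (.step G p D D' hD hD' hlim) _ hS h1 h2 h.symm).symm
    | step _ _ D₂ D₂' hD₂ hD₂' hlim₂ =>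
      have hle := hyperfocal_le (F := G) (p := p)
      have h1 : SameSys D D₂ := pResidual_same hS h hle (hyp_same h) hD hD₂
      exact ih D₂' (finite_of_le hle) (hS.to_le hle) hlim₂ (pPrime_same h1 hD' hD₂')

variable {S : Subgroup Ω} [Finite S] {F : FusionSystem S}

/-- A normal subsystem of `p`-power index has the same hyperfocal subgroup. -/
theorem hyperfocal_eq (hS : IsPGroup p S) {T : Subgroup Ω} {E : FusionSystem T} (hsc : F.StronglyClosed T)
    (hi : E.HasPPowerIndexIn F p) : E.hyperfocalSubgroup p = F.hyperfocalSubgroup p := by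
  have hTS : T ≤ S := hsc.1
  haveI := finite_of_le hTS
  set H := E.hyperfocalSubgroup p with hH
  refine le_antisymm (hyperfocal_le_iff.mpr fun P hP α hα x hx =>
    mem_hyperfocal (hP.trans hTS) (oP_mono hi.1 P hα) hx) (hyperfocal_le_iff.mpr fun P hP α hα => ?_)
  haveI := finite_of_le hP
  have hHT : H ≤ T := hyperfocal_le
  refine oP_induction (C := fun a => ∀ x ∈ P, x⁻¹ * autFun a x ∈ H)
    (fun x hx => by rw [autFun_one hx, inv_mul_cancel]; exact H.one_mem)
    (fun a b _ _ ha hb x hx => ?_) (fun a _ ha x hx => ?_) ?_ α hα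
  · have e : x⁻¹ * autFun (a * b) x = (x⁻¹ * autFun b x) * ((autFun b x)⁻¹ * autFun a (autFun b x)) := by
      rw [autFun_mul a b hx, mul_assoc, mul_inv_cancel_left]
    rw [e]
    exact H.mul_mem (hb x hx) (ha _ (autFun_mem b hx))
  · have hy := autFun_mem a⁻¹ hx
    have h := ha _ hy
    rw [← autFun_mul a a⁻¹ hx, mul_inv_cancel, autFun_one hx] at h
    have h' := H.inv_mem h
    rwa [mul_inv_rev, inv_inv] at h'
  intro a ha hcop x hx
  have hRinv : ∀ γ ∈ F.autGroup P, ∀ u ∈ P ⊓ T, autFun γ u ∈ P ⊓ T := fun γ hγ u hu =>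
    ⟨autFun_mem γ hu.1, StronglyClosed.map_mem hsc (mapTo_of_mem_autGroup hP hγ) hu.1 hu.2⟩
  obtain ⟨γ, hγ, hγa⟩ := exists_oP_restrict hP inf_le_left hRinv (mem_oP_of_coprime ha hcop)
  have hγE := IndexP.oP_le_of_pPowerIndex hi (inf_le_right : P ⊓ T ≤ T) hγ
  have hR : ∀ u ∈ P ⊓ T, u⁻¹ * autFun a u ∈ H := fun u hu => by
    rw [← hγa u hu]
    exact mem_hyperfocal inf_le_right hγE hu
  set u := x⁻¹ * autFun a x with hu
  have huP : u ∈ P := P.mul_mem (P.inv_mem hx) (autFun_mem a hx)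
  have huT : u ∈ T := hi.2.1 (mem_hyperfocal hP (mem_oP_of_coprime ha hcop) hx)
  have huR : ∀ i : ℕ, u ^ i ∈ P ⊓ T := fun i => ⟨P.pow_mem huP i, T.pow_mem huT i⟩
  have hm := mapTo_of_mem_autGroup hP ha
  have hiter : ∀ i : ℕ, (x * u ^ i)⁻¹ * autFun (a ^ i) x ∈ H := by
    intro i
    induction i with
    | zero => simp [autFun_one hx]
    | succ i ih =>
      set h := (x * u ^ i)⁻¹ * autFun (a ^ i) x with hh
      have hxi : x * u ^ i ∈ P := P.mul_mem hx (huR i).1
      have hhP : h ∈ P := P.mul_mem (P.inv_mem hxi) (autFun_mem _ hx)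
      have he : autFun (a ^ i) x = x * u ^ i * h := by rw [hh, mul_inv_cancel_left]
      have e2 : (x * u ^ (i + 1))⁻¹ * autFun (a ^ (i + 1)) x =
          ((u ^ i)⁻¹ * autFun a (u ^ i)) * (h * (h⁻¹ * autFun a h)) := by
        rw [pow_succ' a, autFun_mul a _ hx, he, hm.map_mul hxi hhP, hm.map_mul hx (huR i).1,
          mul_inv_cancel_left, pow_succ' u]
        rw [show autFun a x = x * u by rw [hu, mul_inv_cancel_left]]
        group
      rw [e2]
      exact H.mul_mem (hR _ (huR i)) (H.mul_mem ih (hR h ⟨hhP, hHT ih⟩))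
  have hn := hiter (orderOf a)
  rw [pow_orderOf_eq_one, autFun_one hx, mul_inv_rev, mul_assoc, inv_mul_cancel, mul_one,
    H.inv_mem_iff] at hn
  obtain ⟨k, hk⟩ := hS ⟨u, hP huP⟩
  have hk' : u ^ p ^ k = 1 := congrArg Subtype.val hk
  obtain ⟨s, t, hst⟩ : IsCoprime ((orderOf a : ℕ) : ℤ) ((p ^ k : ℕ) : ℤ) :=
    Nat.isCoprime_iff_coprime.mpr (hcop.pow_right k)
  have : u = (u ^ orderOf a) ^ s := by
    conv_lhs => rw [← zpow_one u, ← hst, zpow_add, mul_comm t, zpow_mul u ((p ^ k : ℕ) : ℤ), zpow_natCast,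
      hk', one_zpow, mul_one, mul_comm s, zpow_mul, zpow_natCast]
  rw [this]
  exact H.zpow_mem hn s

/-- The residual limits agree. -/
theorem main (hS : IsPGroup p S) {T U V : Subgroup Ω} {E : FusionSystem T}
    (hEs : E.IsSaturated p) (hsc : F.StronglyClosed T) (hi : E.HasPPowerIndexIn F p)
    {Finf : FusionSystem U} (hFinf : Finf.IsResidualLimitOf F p)
    {Einf : FusionSystem V} (hEinf : Einf.IsResidualLimitOf E p) : SameSys Finf Einf := by
  have hTS : T ≤ S := hsc.1
  haveI := finite_of_le hTS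
  have hT := hS.to_le hTS
  have hhyp := hyperfocal_eq hS hsc hi
  -- the `p`-residual of `E` is one of `F`
  have hlift : ∀ {W : Subgroup Ω} (D : FusionSystem W), W = E.hyperfocalSubgroup p →
      D.HasPPowerIndexIn E p → D.HasPPowerIndexIn F p := fun {W} D hW hD =>
    ⟨fun R φ hφ => hi.1 R (hD.1 R hφ), le_of_eq (hhyp.symm.trans hW.symm), fun P hP => le_trans
      (IndexP.oP_le_of_pPowerIndex hi (hP.trans (hW ▸ hyperfocal_le))) (hD.2.2 P hP)⟩
  cases hFinf with
  | stable _ _ h1 h2 =>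
    have h : T = S := le_antisymm hTS (h1.ge.trans hi.2.1)
    have hs : SameSys F E := pResidual_same hS ⟨rfl, fun _ => rfl⟩ le_rfl h.symm ⟨h2.1, self_index F⟩ ⟨hEs, hi⟩
    exact limit_stable hEinf F hS h1 h2 hs
  | step _ _ D D' hD hD' hlim =>
    have hle : F.hyperfocalSubgroup p ≤ S := hyperfocal_le
    haveI := finite_of_le hle
    cases hEinf with
    | stable _ _ h1 h2 =>
      have hs : SameSys E D := by
        refine SameSys.symm (pResidual_same hS ⟨rfl, fun _ => rfl⟩ hle (hhyp.symm.trans h1) hD ⟨hEs, hi⟩)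
      exact (limit_stable hlim E hT h1 h2 (pPrime_same hs h2 hD')).symm
    | step _ _ D₂ D₂' hD₂ hD₂' hlim₂ =>
      have hs : SameSys D D₂ := pResidual_same hS ⟨rfl, fun _ => rfl⟩ hle hhyp.symm hD
        ⟨hD₂.1, hlift D₂ rfl hD₂.2⟩
      exact limit_unique hlim D₂' (finite_of_le hle) (hS.to_le hle) hlim₂ (pPrime_same hs hD' hD₂')

end Cfsg.Agent.Components.ResLimit
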