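import Cfsg.Agent.Lib.Components.LBalanceTwo
import Cfsg.Agent.Lib.Components.CompAction
import Cfsg.Agent.Lib.Components.CompAction2
import Cfsg.Agent.Lib.Basics.Tools
import Cfsg.Agent.Lib.InvChar.Basics
import Cfsg.Agent.Lib.ConjFunctor.Basic
import Cfsg.Agent.Lib.OddLocal.UniqueF

/-!
Two-components with a single involution (the classical involution configuration):
abstract facts inside a group in which such a two-component maps to a component.
-/

set_option autoImplicit false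

namespace Cfsg.Agent.SL2Pair

open Subgroup
open scoped commutatorElement

/-- Conjugate subgroup. -/
abbrev cjg {G : Type*} [Group G] (g : G) (H : Subgroup G) : Subgroup G :=
  H.map (MulAut.conj g).toMonoidHom

theorem mem_cjg {G : Type*} [Group G] {g x : G} {H : Subgroup G} (hx : x ∈ H) :
    g * x * g⁻¹ ∈ cjg g H := ⟨x, hx, rfl⟩

theorem mem_cjg_iff {G : Type*} [Group G] {g x : G} {H : Subgroup G} :
    x ∈ cjg g H ↔ g⁻¹ * x * g ∈ H := by
  constructor
  · rintro ⟨y, hy, rfl⟩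
    simpa [mul_assoc] using hy
  · intro h
    exact ⟨_, h, by simp [mul_assoc]⟩

theorem eq_one_of_pow_two_pow_odd {G : Type*} [Group G] {x : G} {k n : ℕ} (h2 : x ^ 2 ^ k = 1)
    (hn : n.Coprime 2) (h : x ^ n = 1) : x = 1 :=
  Components.eq_one_of_pow_prime_pow_of_coprime hn h2 h

theorem isPGroup_zpowers {G : Type*} [Group G] [Finite G] {x : G} {k : ℕ} (h : x ^ 2 ^ k = 1) :
    IsPGroup 2 ↥(zpowers x) :=
  Components.isPGroup_zpowers_of_pow_eq_one h

theorem exists_pow_two_pow {G : Type*} [Group G] {R : Subgroup G} (hR : IsPGroup 2 ↥R) {x : G}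
    (hx : x ∈ R) : ∃ k : ℕ, x ^ 2 ^ k = 1 := by
  obtain ⟨k, hk⟩ := hR ⟨x, hx⟩
  exact ⟨k, by simpa using congrArg Subtype.val hk⟩

/-- An element of a 2-group moved only by a factor in a subgroup of order 2. -/
theorem exists_near_central {G : Type*} [Group G] [Finite G] {R : Subgroup G} (hR : IsPGroup 2 ↥R)
    (Z S : Subgroup G) (hSR : S ≤ R) (hZn : R ≤ normalizer (Z : Set G))
    (hSn : R ≤ normalizer (S : Set G)) (hne : ¬ S ≤ Z) :
    ∃ w ∈ S, w ∉ Z ∧ ∀ u ∈ R, ⁅u, w⁆ ∈ Z := by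
  haveI : Fact (Nat.Prime 2) := ⟨Nat.prime_two⟩
  haveI := normal_subgroupOf_of_le_normalizer hZn
  haveI hSn' := normal_subgroupOf_of_le_normalizer hSn
  haveI := hSn'.map _ (QuotientGroup.mk'_surjective (Z.subgroupOf R))
  obtain ⟨_, ⟨w, hw, rfl⟩, hc, hne'⟩ := InvChar.exists_mem_center_of_normal
    (hR.to_quotient (Z.subgroupOf R)) ((S.subgroupOf R).map (QuotientGroup.mk' (Z.subgroupOf R)))
    (by
      rw [Ne, Subgroup.map_eq_bot_iff, QuotientGroup.ker_mk']
      exact fun h => hne fun x hx => h (show (⟨x, hSR hx⟩ : ↥R) ∈ S.subgroupOf R from hx))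
  refine ⟨w, hw, fun hZ => hne' ((QuotientGroup.eq_one_iff w).mpr hZ), fun u hu => ?_⟩
  have h : ⁅(⟨u, hu⟩ : ↥R), w⁆ ∈ Z.subgroupOf R := by
    rw [← QuotientGroup.eq_one_iff, ← QuotientGroup.mk'_apply, map_commutatorElement,
      commutatorElement_eq_one_iff_mul_comm]
    exact mem_center_iff.mp hc _
  exact h

/-! ### A component with one involution -/

section Abstract

variable {Γ : Type*} [Group Γ] [Finite Γ]

/-- `M` is a component, `τ` its only involution, its centre has order at most two, and elements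
of order 4 behave as in a special linear group of degree two. -/
structure CM (M : Subgroup Γ) (τ : Γ) : Prop where
  comp : Cfsg.IsComponent M
  tmem : τ ∈ M
  tne : τ ≠ 1
  tsq : τ * τ = 1
  tcen : ∀ g : Γ, τ * g = g * τ
  uniq : ∀ x ∈ M, x * x = 1 → x = 1 ∨ x = τ
  cent : ∀ x ∈ M, x ∈ centralizer (M : Set Γ) → x = 1 ∨ x = τ
  conj4 : ∀ a ∈ M, ∀ b ∈ M, a * a = τ → b * b = τ → ∃ g ∈ M, g * a * g⁻¹ = b ∨ g * a * g⁻¹ = b⁻¹
  anti : ∃ a ∈ M, ∃ b ∈ M, a * a = τ ∧ b * b = τ ∧ b * a * b⁻¹ = a⁻¹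

variable {M : Subgroup Γ} {τ : Γ}

theorem CM.map_conj (h : CM M τ) (g : Γ) : CM (cjg g M) τ where
  comp := Components.isComponent_conj g h.comp
  tmem := mem_cjg_iff.mpr (by rw [mul_assoc, h.tcen, inv_mul_cancel_left]; exact h.tmem)
  tne := h.tne
  tsq := h.tsq
  tcen := h.tcen
  uniq x hx hxx := by
    have hy := mem_cjg_iff.mp hx
    rcases h.uniq _ hy (by rw [show g⁻¹ * x * g * (g⁻¹ * x * g) = g⁻¹ * (x * x) * g by group, hxx]; group)
      with e | e
    · left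
      calc x = g * (g⁻¹ * x * g) * g⁻¹ := by group
        _ = 1 := by rw [e]; group
    · right
      calc x = g * (g⁻¹ * x * g) * g⁻¹ := by group
        _ = τ := by rw [e, ← h.tcen, mul_inv_cancel_right]
  cent x hx hxc := by
    have hy := mem_cjg_iff.mp hx
    rcases h.cent _ hy (mem_centralizer_iff.mpr fun m hm => by
      have e := mem_centralizer_iff.mp hxc _ (mem_cjg (g := g) hm)
      calc m * (g⁻¹ * x * g) = g⁻¹ * (g * m * g⁻¹ * x) * g := by group
        _ = g⁻¹ * (x * (g * m * g⁻¹)) * g := by rw [e]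
        _ = g⁻¹ * x * g * m := by group) with e | e
    · left
      calc x = g * (g⁻¹ * x * g) * g⁻¹ := by group
        _ = 1 := by rw [e]; group
    · right
      calc x = g * (g⁻¹ * x * g) * g⁻¹ := by group
        _ = τ := by rw [e, ← h.tcen, mul_inv_cancel_right]
  conj4 := by
    rintro _ ⟨a, ha, rfl⟩ _ ⟨b, hb, rfl⟩ haa hbb
    simp only [MulEquiv.coe_toMonoidHom, MulAut.conj_apply] at haa hbb ⊢
    have cv : ∀ u, g * u * g⁻¹ * (g * u * g⁻¹) = τ → u * u = τ := fun u hu => by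
      calc u * u = g⁻¹ * (g * u * g⁻¹ * (g * u * g⁻¹)) * g := by group
        _ = τ := by rw [hu, mul_assoc, h.tcen, inv_mul_cancel_left]
    obtain ⟨c, hc, e⟩ := h.conj4 a ha b hb (cv a haa) (cv b hbb)
    refine ⟨g * c * g⁻¹, mem_cjg hc, ?_⟩
    rcases e with e | e
    · left; rw [← e]; group
    · right
      calc g * c * g⁻¹ * (g * a * g⁻¹) * (g * c * g⁻¹)⁻¹ = g * (c * a * c⁻¹) * g⁻¹ := by group
        _ = (g * b * g⁻¹)⁻¹ := by rw [e]; group
  anti := by
    obtain ⟨a, ha, b, hb, haa, hbb, e⟩ := h.anti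
    have cv : ∀ u, u * u = τ → g * u * g⁻¹ * (g * u * g⁻¹) = τ := fun u hu => by
      rw [show g * u * g⁻¹ * (g * u * g⁻¹) = g * (u * u) * g⁻¹ by group, hu, ← h.tcen,
        mul_inv_cancel_right]
    refine ⟨_, mem_cjg ha, _, mem_cjg hb, cv a haa, cv b hbb, ?_⟩
    calc g * b * g⁻¹ * (g * a * g⁻¹) * (g * b * g⁻¹)⁻¹ = g * (b * a * b⁻¹) * g⁻¹ := by group
      _ = (g * a * g⁻¹)⁻¹ := by rw [e]; group

theorem CM.inv_eq (h : CM M τ) {a : Γ} (ha : a * a = τ) : a⁻¹ = a * τ := by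
  refine inv_eq_of_mul_eq_one_right ?_
  rw [← mul_assoc, ha, h.tsq]

theorem CM.inv_sq (h : CM M τ) {a : Γ} (ha : a * a = τ) : a⁻¹ * a⁻¹ = τ := by
  rw [← mul_inv_rev, ha]
  exact inv_eq_of_mul_eq_one_right h.tsq

theorem CM.ne_tau (h : CM M τ) {a : Γ} (ha : a * a = τ) : a ≠ 1 ∧ a ≠ τ := by
  refine ⟨fun e => h.tne ?_, fun e => h.tne ?_⟩
  · rw [← ha, e, one_mul]
  · rw [← ha, e, h.tsq]

theorem CM.not_central (h : CM M τ) {a : Γ} (ha : a ∈ M) (haa : a * a = τ) :
    a ∉ centralizer (M : Set Γ) := fun hc =>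
  (h.cent a ha hc).elim (h.ne_tau haa).1 (h.ne_tau haa).2

theorem CM.comm_eq (h : CM M τ) {a b : Γ} (ha : a ∈ M) (hb : b ∈ M) (haa : a * a = τ)
    (hbb : b * b = τ) (hab : a * b = b * a) : b = a ∨ b = a⁻¹ := by
  have hc : Commute a b := hab
  have hsq : a⁻¹ * b * (a⁻¹ * b) = 1 := by
    calc a⁻¹ * b * (a⁻¹ * b) = a⁻¹ * (b * a⁻¹) * b := by group
      _ = a⁻¹ * (a⁻¹ * b) * b := by rw [(hc.inv_left).eq]
      _ = a⁻¹ * a⁻¹ * (b * b) := by group
      _ = 1 := by rw [h.inv_sq haa, hbb, h.tsq]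
  rcases h.uniq _ (mul_mem (inv_mem ha) hb) hsq with e | e
  · exact Or.inl (inv_mul_eq_one.mp e).symm
  · right
    rw [h.inv_eq haa, ← e, mul_inv_cancel_left]

theorem CM.anti_symm (h : CM M τ) {a c : Γ} (ha : a * a = τ) (hc : c * c = τ)
    (e : c * a * c⁻¹ = a⁻¹) : a * c * a⁻¹ = c⁻¹ := by
  rw [h.inv_eq ha] at e
  have e' : c * a = a * τ * c := mul_inv_eq_iff_eq_mul.mp e
  rw [h.inv_eq hc]
  calc a * c * a⁻¹ = a * τ * c * τ * a⁻¹ := by
        rw [mul_assoc a τ c, h.tcen c, ← mul_assoc, mul_assoc (a * c), h.tsq, mul_one]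
    _ = c * a * τ * a⁻¹ := by rw [e']
    _ = c * τ := by rw [mul_assoc c a τ, ← h.tcen a, ← mul_assoc, mul_inv_cancel_right]

theorem CM.commute_other (h : CM M τ) {N : Subgroup Γ} (hN : Cfsg.IsComponent N) (hne : M ≠ N)
    {x y : Γ} (hx : x ∈ M) (hy : y ∈ N) : Commute x y :=
  (mem_centralizer_iff.mp (commutator_eq_bot_iff_le_centralizer.mp
    ((Components.component_eq_or_commute h.comp hN).resolve_left hne) hx) y hy).symm

theorem CM.inf_other (h : CM M τ) {N : Subgroup Γ} (hN : Cfsg.IsComponent N) (hne : M ≠ N)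
    {x : Γ} (hx : x ∈ M) (hx' : x ∈ N) : x = 1 ∨ x = τ :=
  h.cent x hx (mem_centralizer_iff.mpr fun _ hm => (h.commute_other hN hne hm hx').eq)

theorem CM.conj_mem (h : CM M τ) {g x : Γ} (hg : g ∈ normalizer (M : Set Γ)) (hx : x ∈ M) :
    g * x * g⁻¹ ∈ M := (mem_normalizer_iff.mp hg x).mp hx

theorem cjg_eq_of_mem {g : Γ} (hg : g ∈ normalizer (M : Set Γ)) : cjg g M = M :=
  Components.map_conj_eq_of_mem_normalizer hg

theorem mem_normalizer_of_cjg {g : Γ} (hg : cjg g M = M) : g ∈ normalizer (M : Set Γ) :=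
  Components.mem_normalizer_of_conj_le hg.le

/-- A Sylow subgroup normalized by a 2-group. -/
theorem exists_invariant_sylow {R : Subgroup Γ} (hR : IsPGroup 2 ↥R)
    (hn : R ≤ normalizer (M : Set Γ)) :
    ∃ S, S ≤ M ∧ IsPGroup 2 ↥S ∧ R ≤ normalizer (S : Set Γ) ∧ R ⊓ M ≤ S ∧
      (∀ U ≤ M, IsPGroup 2 ↥U → ∃ g ∈ M, cjg g U ≤ S) := by
  haveI : Fact (Nat.Prime 2) := ⟨Nat.prime_two⟩
  obtain ⟨T, hT, hRT⟩ := ConjFunctor.exists_isSylIn_ge (p := 2) (le_sup_right : R ≤ M ⊔ R) hR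
  have hMT : T ≤ normalizer (M : Set Γ) := hT.1.trans (sup_le le_normalizer hn)
  refine ⟨T ⊓ M, inf_le_right, hT.2.1.to_le inf_le_left, ?_, inf_le_inf_right _ hRT, ?_⟩
  · intro r hr
    refine Components.mem_normalizer_of_conj_le ?_
    rintro _ ⟨x, hx, rfl⟩
    exact ⟨T.mul_mem (T.mul_mem (hRT hr) hx.1) (T.inv_mem (hRT hr)),
      (mem_normalizer_iff.mp (hn hr) x).mp hx.2⟩
  · have hsyl : ConjFunctor.IsSylIn 2 (T ⊓ M) M := by
      refine ⟨inf_le_right, hT.2.1.to_le inf_le_left, fun hd => hT.2.2 (hd.trans (dvd_of_eq ?_))⟩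
      have hsup : M ⊔ T = M ⊔ R := le_antisymm (sup_le le_sup_left hT.1) (sup_le_sup_left hRT M)
      have h1 := Basics.card_mul_card_eq_card_sup_mul_card_inf (N := M) (H := T) hMT
      rw [hsup, inf_comm] at h1
      have h2 : (T ⊓ M).relIndex M * Nat.card ↥(T ⊓ M) = Nat.card ↥M := by
        rw [relIndex, ← Nat.card_congr (subgroupOfEquivOfLe (inf_le_right : T ⊓ M ≤ M)).toEquiv]
        exact Subgroup.index_mul_card _
      have h3 : T.relIndex (M ⊔ R) * Nat.card ↥T = Nat.card ↥(M ⊔ R) := by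
        rw [relIndex, ← Nat.card_congr (subgroupOfEquivOfLe hT.1).toEquiv]
        exact Subgroup.index_mul_card _
      rw [← h2, ← h3, mul_right_comm] at h1
      exact Nat.eq_of_mul_eq_mul_right Nat.card_pos (Nat.eq_of_mul_eq_mul_right Nat.card_pos h1)
    intro U hU hUp
    obtain ⟨g, hg, hle⟩ := ConjFunctor.exists_conj_le_of_isSylIn hsyl hU hUp
    exact ⟨g, hg, hle⟩

theorem CM.sq_of_order (h : CM M τ) {x : Γ} (hx : x ∈ M) {k : ℕ} (hk : x ^ 2 ^ k = 1)
    (hx1 : x ∉ ({1, τ} : Set Γ)) : ∃ e, (x ^ 2 ^ e) * (x ^ 2 ^ e) = τ := by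
  induction k generalizing x with
  | zero => exact absurd (by simpa using hk) (fun e => hx1 (Or.inl e))
  | succ k ih =>
    have hk' : (x * x) ^ 2 ^ k = 1 := by rw [← pow_two, ← pow_mul, ← pow_succ']; exact hk
    by_cases h2 : x * x ∈ ({1, τ} : Set Γ)
    · rcases h2 with e | e
      · exact absurd (h.uniq x hx e) hx1
      · exact ⟨0, by simpa using (Set.mem_singleton_iff.mp e)⟩
    · obtain ⟨e, he⟩ := ih (mul_mem hx hx) hk' h2
      refine ⟨e + 1, ?_⟩
      rwa [pow_succ', pow_mul, pow_two]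

/-- An element of order 4 fixed or inverted by a given 2-element. -/
theorem CM.exists_pm (h : CM M τ) {u : Γ} {k : ℕ} (hu : u ^ 2 ^ k = 1)
    (hn : u ∈ normalizer (M : Set Γ)) :
    ∃ j ∈ M, j * j = τ ∧ (u * j * u⁻¹ = j ∨ u * j * u⁻¹ = j⁻¹) := by
  have hZ : ∀ g : Γ, g ∈ normalizer (zpowers τ : Set Γ) := fun g =>
    Components.mem_normalizer_of_conj_le (by
      rw [MonoidHom.map_zpowers, zpowers_le]
      change g * τ * g⁻¹ ∈ _
      rw [← h.tcen, mul_inv_cancel_right]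
      exact mem_zpowers τ)
  obtain ⟨S, hSM, hS, hnS, -, hconj⟩ := exists_invariant_sylow (M := M) (isPGroup_zpowers hu)
    (zpowers_le.mpr hn)
  have hP : IsPGroup 2 ↥(S ⊔ zpowers u) :=
    IsPGroup.to_sup_of_normal_left' hS (isPGroup_zpowers hu) hnS
  obtain ⟨w, hwS, hwZ, hw⟩ := exists_near_central hP (zpowers τ) S le_sup_left
    (fun g _ => hZ g) (sup_le le_normalizer hnS) (by
      intro hle
      obtain ⟨a, ha, b, hb, haa, hbb, hba⟩ := h.anti
      have ha8 : a ^ 2 ^ 2 = 1 := by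
        rw [show (2 : ℕ) ^ 2 = 2 + 2 from rfl, pow_add, pow_two, haa, h.tsq]
      obtain ⟨g, hg, hle'⟩ := hconj (zpowers a) (zpowers_le.mpr ha) (isPGroup_zpowers ha8)
      obtain ⟨j, hj⟩ := mem_zpowers_iff.mp (hle (hle' (mem_cjg (mem_zpowers a))))
      have h2 : g * a * g⁻¹ * (g * a * g⁻¹) = 1 := by
        rw [← hj, ← (Commute.refl τ).mul_zpow, h.tsq, one_zpow]
      rw [show g * a * g⁻¹ * (g * a * g⁻¹) = g * (a * a) * g⁻¹ by group, haa, ← h.tcen,
        mul_inv_cancel_right] at h2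
      exact h.tne h2)
  have hwM := hSM hwS
  obtain ⟨k', hk'⟩ := exists_pow_two_pow hS hwS
  have hw1 : w ∉ ({1, τ} : Set Γ) := by
    rintro (e | e)
    · exact hwZ (e ▸ one_mem _)
    · exact hwZ ((Set.mem_singleton_iff.mp e) ▸ mem_zpowers τ)
  obtain ⟨e, he⟩ := h.sq_of_order hwM hk' hw1
  refine ⟨w ^ 2 ^ e, pow_mem hwM _, he, ?_⟩
  have hc := hw u (mem_sup_right (mem_zpowers u))
  have hcase : ⁅u, w⁆ = 1 ∨ ⁅u, w⁆ = τ := by
    obtain ⟨i, hi⟩ := mem_zpowers_iff.mp hc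
    refine h.uniq _ (hi ▸ zpow_mem h.tmem i) ?_
    rw [← hi, ← (Commute.refl τ).mul_zpow, h.tsq, one_zpow]
  have e1 : u * w ^ 2 ^ e * u⁻¹ = (⁅u, w⁆ * w) ^ 2 ^ e := by
    rw [← conj_pow]; congr 1; simp only [commutatorElement_def]; group
  rw [e1]
  rcases hcase with hc1 | hc1
  · left; rw [hc1, one_mul]
  · rw [hc1]
    rcases Nat.eq_zero_or_pos e with rfl | hpos
    · right
      simp only [pow_zero, pow_one] at he ⊢
      rw [h.inv_eq he, h.tcen]
    · left
      rw [(show Commute τ w from h.tcen w).mul_pow]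
      obtain ⟨e', rfl⟩ : ∃ e', e = e' + 1 := ⟨e - 1, by omega⟩
      rw [pow_succ' 2 e', pow_mul τ, pow_two τ, h.tsq, one_pow, one_mul]

/-- Elements inverting an element of order 4, in any maximal 2-subgroup. -/
theorem CM.exists_inverter (h : CM M τ) {S : Subgroup Γ} (hSM : S ≤ M) (hS : IsPGroup 2 ↥S)
    (hmax : ∀ U ≤ M, IsPGroup 2 ↥U → ∃ g ∈ M, cjg g U ≤ S) {j : Γ} (hj : j ∈ S) (hjj : j * j = τ) :
    ∃ c ∈ S, c * c = τ ∧ c * j * c⁻¹ = j⁻¹ ∧ j * c * j⁻¹ = c⁻¹ := by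
  haveI : Fact (Nat.Prime 2) := ⟨Nat.prime_two⟩
  suffices hex : ∃ c ∈ S, c * j * c⁻¹ = j⁻¹ by
    obtain ⟨c, hc, e⟩ := hex
    have hcc : c * c = τ := by
      obtain ⟨k, hk⟩ := exists_pow_two_pow hS hc
      have hnc : ¬ Commute c j := fun hcm => by
        have e2 : c * j * c⁻¹ = j := by rw [hcm.eq, mul_inv_cancel_right]
        rw [e2, h.inv_eq hjj] at e
        exact h.tne (mul_eq_left.mp e.symm)
      have hc1 : c ∉ ({1, τ} : Set Γ) := by
        rintro (e2 | e2)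
        · exact hnc (e2 ▸ Commute.one_left j)
        · exact hnc ((Set.mem_singleton_iff.mp e2) ▸ h.tcen j)
      obtain ⟨i, hi⟩ := h.sq_of_order (hSM hc) hk hc1
      rcases Nat.eq_zero_or_pos i with rfl | hpos
      · simpa using hi
      · exfalso
        set d := c ^ 2 ^ i with hd
        have hc2 : Commute (c * c) j := by
          change c * c * j = j * (c * c)
          calc c * c * j = c * (c * j * c⁻¹) * c := by group
            _ = c * j⁻¹ * c := by rw [e]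
            _ = (c * j * c⁻¹)⁻¹ * (c * c) := by group
            _ = j * (c * c) := by rw [e, inv_inv]
        have hdj : Commute d j := by
          obtain ⟨i', rfl⟩ : ∃ i', i = i' + 1 := ⟨i - 1, by omega⟩
          rw [hd, pow_succ', pow_mul, pow_two]
          exact hc2.pow_left _
        have hcd : Commute c d := Commute.self_pow c _
        rcases h.comm_eq (pow_mem (hSM hc) _) (hSM hj) hi hjj hdj.eq with ej | ej
        · exact hnc (ej ▸ hcd)
        · exact hnc (ej ▸ hcd.inv_right)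
    exact ⟨c, hc, hcc, e, h.anti_symm hjj hcc e⟩
  by_contra hcon
  push Not at hcon
  have hfix : ∀ n ∈ S, ∀ x : Γ, x ∈ S → Commute x j → x * x = τ → Commute (n * x * n⁻¹) j →
      Commute n x := by
    intro n hn x hx hxj hxx hnx
    have hsq : n * x * n⁻¹ * (n * x * n⁻¹) = τ := by
      rw [show n * x * n⁻¹ * (n * x * n⁻¹) = n * (x * x) * n⁻¹ by group, hxx, ← h.tcen,
        mul_inv_cancel_right]
    have hxM := hSM hx
    have hnxM : n * x * n⁻¹ ∈ M := M.mul_mem (M.mul_mem (hSM hn) hxM) (M.inv_mem (hSM hn))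
    have hx' := h.comm_eq (hSM hj) hxM hjj hxx hxj.eq.symm
    have hn' := h.comm_eq (hSM hj) hnxM hjj hsq hnx.eq.symm
    have hne := hcon n hn
    rcases hx' with rfl | rfl
    · rcases hn' with e | e
      · exact mul_inv_eq_iff_eq_mul.mp e
      · exact absurd e hne
    · rcases hn' with e | e
      · exfalso
        refine hne ?_
        calc n * j * n⁻¹ = (n * j⁻¹ * n⁻¹)⁻¹ := by group
          _ = j⁻¹ := by rw [e]
      · exact mul_inv_eq_iff_eq_mul.mp e
  set W := (S ⊓ centralizer ({j} : Set Γ)).subgroupOf S with hW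
  haveI : Group.IsNilpotent ↥S := hS.isNilpotent
  have hWtop : W = ⊤ := by
    by_contra hne
    obtain ⟨n, hnN, hnW⟩ := SetLike.exists_of_lt
      (Group.normalizerCondition_of_isNilpotent W (lt_top_iff_ne_top.mpr hne))
    refine hnW ⟨n.2, mem_centralizer_singleton_iff.mpr ?_⟩
    have hjW : (⟨j, hj⟩ : ↥S) ∈ W := ⟨hj, mem_centralizer_singleton_iff.mpr rfl⟩
    have h2 := (mem_normalizer_iff.mp hnN _).mp hjW
    exact (hfix n n.2 j hj (Commute.refl j) hjj (mem_centralizer_singleton_iff.mp h2.2)).eq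
  have hall : ∀ x ∈ S, Commute x j := fun x hx => by
    have hm : (⟨x, hx⟩ : ↥S) ∈ W := by rw [hWtop]; trivial
    exact mem_centralizer_singleton_iff.mp hm.2
  obtain ⟨a, ha, b, hb, haa, hbb, hba⟩ := h.anti
  have hb4 : b ^ 2 ^ 2 = 1 := by
    rw [show (2 : ℕ) ^ 2 = 2 + 2 from rfl, pow_add, pow_two, hbb, h.tsq]
  have ha4 : a ^ 2 ^ 2 = 1 := by
    rw [show (2 : ℕ) ^ 2 = 2 + 2 from rfl, pow_add, pow_two, haa, h.tsq]
  have hn : zpowers b ≤ normalizer (zpowers a : Set Γ) := zpowers_le.mpr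
    (Components.mem_normalizer_of_conj_le (by
      rw [MonoidHom.map_zpowers, zpowers_le]
      change b * a * b⁻¹ ∈ _
      rw [hba]; exact inv_mem (mem_zpowers a)))
  obtain ⟨g, hg, hle⟩ := hmax (zpowers a ⊔ zpowers b)
    (sup_le (zpowers_le.mpr ha) (zpowers_le.mpr hb))
    (IsPGroup.to_sup_of_normal_left' (isPGroup_zpowers ha4) (isPGroup_zpowers hb4) hn)
  have hga := hle (mem_cjg (mem_sup_left (mem_zpowers a)))
  have hgb := hle (mem_cjg (mem_sup_right (mem_zpowers b)))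
  have cv : ∀ u, u * u = τ → g * u * g⁻¹ * (g * u * g⁻¹) = τ := fun u hu => by
    rw [show g * u * g⁻¹ * (g * u * g⁻¹) = g * (u * u) * g⁻¹ by group, hu, ← h.tcen,
      mul_inv_cancel_right]
  have hcomm : Commute (g * a * g⁻¹) (g * b * g⁻¹) := by
    rcases h.comm_eq (hSM hj) (hSM hga) hjj (cv a haa) (hall _ hga).eq.symm with e | e <;>
      rw [e]
    · exact (hall _ hgb).symm
    · exact (hall _ hgb).symm.inv_left
  have hab : b * a * b⁻¹ = a := by
    have h2 : g * b * g⁻¹ * (g * a * g⁻¹) = g * a * g⁻¹ * (g * b * g⁻¹) := hcomm.eq.symm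
    calc b * a * b⁻¹ = g⁻¹ * (g * b * g⁻¹ * (g * a * g⁻¹)) * g * b⁻¹ := by group
      _ = g⁻¹ * (g * a * g⁻¹ * (g * b * g⁻¹)) * g * b⁻¹ := by rw [h2]
      _ = a := by group
  rw [hab, h.inv_eq haa] at hba
  exact h.tne (mul_eq_left.mp hba.symm)

/-- Conjugating by `g` swaps the pair `M`, `cjg a M` or fixes each. -/
theorem CM.diag (h : CM M τ) {a : Γ} (ha : a * a = 1) (hne : cjg a M ≠ M) :
    ∃ δ : ↥M →* Γ, (∀ x, δ x = (x : Γ) * (a * x * a⁻¹)) ∧ δ.range ≤ centralizer ({a} : Set Γ) ∧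
      Cfsg.IsComponent (δ.range.subgroupOf (centralizer ({a} : Set Γ))) ∧
      δ.range ≤ Cfsg.layer Γ ∧ δ.range ≤ M ⊔ cjg a M ∧
      ∀ x : ↥M, δ x ∈ centralizer (δ.range : Set Γ) → (x : Γ) = 1 ∨ (x : Γ) = τ := by
  set N := cjg a M with hN
  have hM' := h.map_conj a
  have hcom : ∀ x ∈ M, ∀ y ∈ N, Commute x y := fun x hx y hy =>
    h.commute_other hM'.comp (Ne.symm hne) hx hy
  let δ : ↥M →* Γ :=
    { toFun := fun d => (d : Γ) * (a * d * a⁻¹)
      map_one' := by simp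
      map_mul' := fun x y => by
        have hc : Commute (y : Γ) (a * x * a⁻¹) := hcom _ y.2 _ (mem_cjg x.2)
        push_cast
        calc (x : Γ) * y * (a * (x * y) * a⁻¹) = x * ((y : Γ) * (a * x * a⁻¹)) * (a * y * a⁻¹) := by group
          _ = x * ((a * x * a⁻¹) * y) * (a * y * a⁻¹) := by rw [hc.eq]
          _ = x * (a * x * a⁻¹) * (y * (a * y * a⁻¹)) := by group }
  have hai : a⁻¹ = a := inv_eq_of_mul_eq_one_right ha
  have haa : ∀ u, a * (a * u * a⁻¹) * a⁻¹ = u := fun u => by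
    rw [hai]
    calc a * (a * u * a) * a = (a * a) * u * (a * a) := by group
      _ = u := by rw [ha, one_mul, mul_one]
  have hfix : δ.range ≤ centralizer ({a} : Set Γ) := by
    rintro _ ⟨x, rfl⟩
    rw [mem_centralizer_singleton_iff]
    change (x : Γ) * (a * x * a⁻¹) * a = a * ((x : Γ) * (a * x * a⁻¹))
    rw [hai]
    have hc : Commute (x : Γ) (a * x * a) := hcom _ x.2 _ (by
      have := mem_cjg (g := a) x.2
      rwa [hai] at this)
    calc (x : Γ) * (a * x * a) * a = a * x * a * x * a := by rw [hc.eq]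
      _ = a * ((x : Γ) * (a * x * a)) := by group
  set W := M ⊔ N with hW
  have hrW : δ.range ≤ W := by
    rintro _ ⟨x, rfl⟩
    exact mul_mem (mem_sup_left x.2) (mem_sup_right (mem_cjg x.2))
  have hWE : W ≤ Cfsg.layer Γ :=
    sup_le (Components.component_le_layer h.comp) (Components.component_le_layer hM'.comp)
  have hMN : N ≤ normalizer (M : Set Γ) :=
    (Components.component_le_layer hM'.comp).trans (Components.layer_le_normalizer h.comp)
  -- the range is normal in the fixed points of `W`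
  have hsplit : ∀ v ∈ W, v ∈ centralizer ({a} : Set Γ) →
      ∃ m : ↥M, ∃ ζ ∈ ({1, τ} : Set Γ), v = δ m * ζ := by
    intro v hv hva
    have hv' : v ∈ ((M ⊔ N : Subgroup Γ) : Set Γ) := hv
    rw [coe_mul_of_right_le_normalizer_left _ _ hMN] at hv'
    obtain ⟨m, hm, _, ⟨m', hm', rfl⟩, rfl⟩ := hv'
    have hfix' : a * (m * (a * m' * a⁻¹)) * a⁻¹ = m * (a * m' * a⁻¹) := by
      have e := mem_centralizer_singleton_iff.mp hva
      simp only [MulEquiv.coe_toMonoidHom, MulAut.conj_apply] at e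
      rw [← e, mul_inv_cancel_right]
    have e : m' * (a * m * a⁻¹) = m * (a * m' * a⁻¹) := by
      rw [(hcom _ hm' _ (mem_cjg hm)).eq, ← hfix']
      calc a * m * a⁻¹ * m' = a * m * a⁻¹ * (a * (a * m' * a⁻¹) * a⁻¹) := by rw [haa]
        _ = _ := by group
    have e2 : m⁻¹ * m' = (a * m' * a⁻¹) * (a * m * a⁻¹)⁻¹ := by
      calc m⁻¹ * m' = m⁻¹ * (m' * (a * m * a⁻¹)) * (a * m * a⁻¹)⁻¹ := by group
        _ = m⁻¹ * (m * (a * m' * a⁻¹)) * (a * m * a⁻¹)⁻¹ := by rw [e]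
        _ = _ := by group
    have hin : m⁻¹ * m' ∈ N := e2 ▸ N.mul_mem (mem_cjg hm') (N.inv_mem (mem_cjg hm))
    have hz := h.inf_other hM'.comp (Ne.symm hne) (M.mul_mem (M.inv_mem hm) hm') hin
    refine ⟨⟨m, hm⟩, m⁻¹ * m', by simpa using hz, ?_⟩
    change m * (a * m' * a⁻¹) = m * (a * m * a⁻¹) * (m⁻¹ * m')
    have hmz : a * m' * a⁻¹ = a * m * a⁻¹ * (a * (m⁻¹ * m') * a⁻¹) := by group
    have hz' : a * (m⁻¹ * m') * a⁻¹ = m⁻¹ * m' := by
      rcases hz with e | e <;> rw [e]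
      · simp
      · rw [← h.tcen, mul_inv_cancel_right]
    rw [hmz, hz']; group
  have hnorm : W ⊓ centralizer ({a} : Set Γ) ≤ normalizer (δ.range : Set Γ) := by
    intro v hv
    obtain ⟨m, ζ, hζ, rfl⟩ := hsplit v hv.1 hv.2
    refine mul_mem (le_normalizer ⟨m, rfl⟩) ?_
    rcases hζ with e | e
    · rw [e]; exact one_mem _
    · rw [Set.mem_singleton_iff.mp e]
      exact Components.mem_normalizer_of_conj_le (by
        rintro _ ⟨x, hx, rfl⟩
        change τ * x * τ⁻¹ ∈ _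
        rw [h.tcen, mul_inv_cancel_right]; exact hx)
  have hτ2 : δ ⟨τ, h.tmem⟩ = 1 := by
    change τ * (a * τ * a⁻¹) = 1
    rw [← h.tcen a, mul_inv_cancel_right, h.tsq]
  have hcentδ : ∀ x : ↥M, δ x ∈ centralizer (δ.range : Set Γ) → (x : Γ) = 1 ∨ (x : Γ) = τ := by
    intro x hx
    let χ : ∀ y : ↥M, ⁅(x : Γ), (y : Γ)⁆ = 1 ∨ ⁅(x : Γ), (y : Γ)⁆ = τ := fun y => by
      have h1 : δ ⁅x, y⁆ = 1 := by
        rw [map_commutatorElement, commutatorElement_eq_one_iff_mul_comm]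
        exact (mem_centralizer_iff.mp hx _ ⟨y, rfl⟩).symm
      have h2 : ((⁅x, y⁆ : ↥M) : Γ) = (a * (⁅x, y⁆ : ↥M) * a⁻¹)⁻¹ := eq_inv_of_mul_eq_one_left h1
      exact h.inf_other hM'.comp (Ne.symm hne) (⁅x, y⁆ : ↥M).2
        (show ((⁅x, y⁆ : ↥M) : Γ) ∈ N from h2 ▸ N.inv_mem (mem_cjg (SetLike.coe_mem _)))
    refine h.cent x x.2 ?_
    have hc : ⁅⁅zpowers (x : Γ), M⁆, M⁆ = ⊥ := by
      rw [commutator_eq_bot_iff_le_centralizer]
      refine commutator_le.mpr fun u hu v hv => mem_centralizer_iff.mpr fun w hw => ?_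
      have hu' : ∀ v : ↥M, ⁅u, (v : Γ)⁆ = 1 ∨ ⁅u, (v : Γ)⁆ = τ := by
        obtain ⟨i, rfl⟩ := mem_zpowers_iff.mp hu
        intro v
        have hxi : ((x ^ i : ↥M) : Γ) = (x : Γ) ^ i := by push_cast; rfl
        have h1 : δ ⁅x ^ i, v⁆ = 1 := by
          rw [map_commutatorElement, commutatorElement_eq_one_iff_mul_comm, map_zpow]
          exact ((show Commute (δ x) (δ v) from
            (mem_centralizer_iff.mp hx _ ⟨v, rfl⟩).symm).zpow_left i).eq
        have h2 : ((⁅x ^ i, v⁆ : ↥M) : Γ) = (a * (⁅x ^ i, v⁆ : ↥M) * a⁻¹)⁻¹ :=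
          eq_inv_of_mul_eq_one_left h1
        rw [← hxi]
        exact h.inf_other hM'.comp (Ne.symm hne) (⁅x ^ i, v⁆ : ↥M).2
          (show ((⁅x ^ i, v⁆ : ↥M) : Γ) ∈ N from h2 ▸ N.inv_mem (mem_cjg (SetLike.coe_mem _)))
      rcases hu' ⟨v, hv⟩ with e | e <;> rw [e]
      · simp
      · exact (h.tcen w).symm
    have := Components.commutator_eq_bot_of_perfect (Components.isComponent_commutator_eq_self h.comp) hc
    exact commutator_eq_bot_iff_le_centralizer.mp (Components.commutator_eq_bot_symm this) (mem_zpowers _)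
  refine ⟨δ, fun _ => rfl, hfix, ⟨?_, ?_⟩, hrW.trans hWE, hrW, hcentδ⟩
  · -- subnormal
    set Ca := centralizer ({a} : Set Γ) with hCa
    haveI : ((Cfsg.layer Γ ⊓ Ca).subgroupOf Ca).Normal := by
      rw [inf_subgroupOf_right]; exact Subgroup.normal_subgroupOf
    have hEn : Cfsg.layer Γ ≤ normalizer (W : Set Γ) := fun g hg => by
      refine Components.mem_normalizer_of_conj_le ?_
      rw [hW, Subgroup.map_sup,
        Components.map_conj_eq_of_mem_normalizer (Components.layer_le_normalizer h.comp hg),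
        Components.map_conj_eq_of_mem_normalizer (Components.layer_le_normalizer hM'.comp hg)]
    have h1 : ((W ⊓ Ca).subgroupOf Ca).IsSubnormal := by
      refine Components.isSubnormal_of_normal_in
        (show (W ⊓ Ca).subgroupOf Ca ≤ (Cfsg.layer Γ ⊓ Ca).subgroupOf Ca from
          comap_mono (inf_le_inf_right _ hWE)) (Components.isSubnormal_of_normal _) ?_
      intro g hg
      rw [inf_subgroupOf_right] at hg ⊢
      rw [mem_normalizer_iff]
      intro x
      exact mem_normalizer_iff.mp (hEn hg) (x : Γ)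
    refine Components.isSubnormal_of_normal_in (comap_mono (le_inf hrW hfix)) h1 ?_
    intro g hg
    rw [mem_normalizer_iff]
    intro x
    exact mem_normalizer_iff.mp (hnorm hg) (x : Γ)
  · haveI : Nontrivial ↥δ.range := by
      rw [nontrivial_iff_ne_bot]
      intro hbot
      obtain ⟨u, hu, b, hb, huu, -, -⟩ := h.anti
      rcases hcentδ ⟨u, hu⟩ (by
        rw [hbot, show δ ⟨u, hu⟩ = 1 from mem_bot.mp (hbot ▸ ⟨_, rfl⟩)]; exact one_mem _) with e | e
      · exact (h.ne_tau huu).1 e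
      · exact (h.ne_tau huu).2 e
    exact Components.qs_of_equiv
      (Components.qs_of_surjective h.comp.2 δ.rangeRestrict δ.rangeRestrict_surjective)
      (subgroupOfEquivOfLe hfix).symm

end Abstract

/-! ### Two maps out of the centralizer of two commuting involutions -/

section TwoMaps

variable {Γ : Type*} [Group Γ] [Finite Γ] {W : Type*} [Group W] [Finite W]
variable {M : Subgroup Γ} {τ : Γ}

/-- The dichotomy for a two-component of the fixed points of an involution acting on `M`. -/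
theorem CM.dichotomy (h : CM M τ) (g : W →* Γ) {σ : Γ} (hg : g.range = centralizer ({σ} : Set Γ))
    (hσ : σ ∈ normalizer (M : Set Γ)) {H : Subgroup W} (hH : Cfsg.IsPComponent 2 H)
    (hHl : H.map g ≤ Cfsg.layer Γ) :
    H.map g ≤ M ∨ ((∀ x ∈ H, g x * g x = 1 → g x ∈ centralizer (M : Set Γ)) ∧
      ∀ y, g y ∈ M → ∀ x ∈ H, ⁅y, x⁆ ∈ Cfsg.pPrimeCore 2 W) := by
  haveI : Fact (Nat.Prime 2) := ⟨Nat.prime_two⟩
  set O := Cfsg.pPrimeCore 2 W with hO
  set π := QuotientGroup.mk' O with hπ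
  set N := M.comap g with hN
  have hNs : N.IsSubnormal := h.comp.1.comap g
  rcases Components.component_le_or_commute hH.2.1
    (hNs.map (QuotientGroup.mk'_surjective O)) with hle | hco
  · left
    refine map_le_iff_le_comap.mpr ?_
    rw [Components.pComponent_eq hH]
    refine le_trans (Components.pGen_mono (comap_mono hle))
      (Components.pGen_le_of_coprime_relIndex hNs.subgroupOf ?_)
    rw [comap_map_eq, QuotientGroup.ker_mk']
    exact Components.pPrimeCore_coprime.coprime_dvd_left (Components.relIndex_self_sup_dvd N O)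
  right
  have hcom : ∀ y, g y ∈ M → ∀ x ∈ H, ⁅y, x⁆ ∈ O := fun y hy x hx => by
    rw [← QuotientGroup.eq_one_iff, ← QuotientGroup.mk'_apply, map_commutatorElement,
      commutatorElement_eq_one_iff_mul_comm]
    exact mem_centralizer_iff.mp (commutator_eq_bot_iff_le_centralizer.mp hco
      (mem_map_of_mem π hx)) _ (mem_map_of_mem π (show y ∈ N from hy))
  refine ⟨?_, hcom⟩
  set L := H.map g with hL
  have hLperf : ⁅L, L⁆ = L := by
    rw [hL, ← map_commutator, Components.pComponent_commutator_eq_self hH]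
  have hLσ : ∀ l ∈ L, σ * l * σ⁻¹ = l := by
    intro l hl
    have : l ∈ g.range := map_le_range g H hl
    rw [hg, mem_centralizer_singleton_iff] at this
    rw [← this, mul_inv_cancel_right]
  have hσC : σ ∈ normalizer (centralizer (M : Set Γ) : Set Γ) := by
    refine Components.mem_normalizer_of_conj_le ?_
    rintro _ ⟨c, hc, rfl⟩
    refine mem_centralizer_iff.mpr fun m hm => ?_
    have hm' : σ⁻¹ * m * σ ∈ M := by
      have := (mem_normalizer_iff.mp (inv_mem hσ) m).mp hm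
      rwa [inv_inv] at this
    have e := mem_centralizer_iff.mp hc _ hm'
    change m * (σ * c * σ⁻¹) = σ * c * σ⁻¹ * m
    calc m * (σ * c * σ⁻¹) = σ * ((σ⁻¹ * m * σ) * c) * σ⁻¹ := by group
      _ = σ * (c * (σ⁻¹ * m * σ)) * σ⁻¹ := by rw [e]
      _ = σ * c * σ⁻¹ * m := by group
  have hdec : ∀ l ∈ Cfsg.layer Γ, ∃ m ∈ M, ∃ c ∈ centralizer (M : Set Γ), l = m * c := by
    intro l hl
    have hle : Cfsg.layer Γ ≤ M ⊔ centralizer (M : Set Γ) := Components.layer_le_iff.mpr fun N hN => by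
      rcases Components.component_eq_or_commute hN h.comp with e | e
      · exact e ▸ le_sup_left
      · exact le_sup_of_le_right (commutator_eq_bot_iff_le_centralizer.mp e)
    have h2 : l ∈ ((M ⊔ centralizer (M : Set Γ) : Subgroup Γ) : Set Γ) := hle hl
    rw [coe_mul_of_right_le_normalizer_left _ _ (centralizer_le_normalizer _)] at h2
    obtain ⟨m, hm, c, hc, rfl⟩ := h2
    exact ⟨m, hm, c, hc, rfl⟩
  have hbr : ∀ m ∈ M, ∀ m' ∈ M, ∀ c ∈ centralizer (M : Set Γ), ∀ c' ∈ centralizer (M : Set Γ),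
      ⁅m * c, m' * c'⁆ = ⁅m, m'⁆ * ⁅c, c'⁆ := by
    intro m hm m' hm' c hc c' hc'
    have e1 : Commute c m' := (mem_centralizer_iff.mp hc m' hm').symm
    have e2 : Commute c' m := (mem_centralizer_iff.mp hc' m hm).symm
    have e3 : Commute c m := (mem_centralizer_iff.mp hc m hm).symm
    have e4 : Commute c' m' := (mem_centralizer_iff.mp hc' m' hm').symm
    have c2 : Commute (c' * c⁻¹) m⁻¹ := (e2.mul_left e3.inv_left).inv_right
    have c3 : Commute (c * c' * c⁻¹ * c'⁻¹) m'⁻¹ :=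
      (((e1.mul_left e4).mul_left e1.inv_left).mul_left e4.inv_left).inv_right
    simp only [commutatorElement_def]
    calc m * c * (m' * c') * (m * c)⁻¹ * (m' * c')⁻¹
        = m * (c * m') * (c' * c⁻¹ * m⁻¹) * (c'⁻¹ * m'⁻¹) := by group
      _ = m * (m' * c) * (m⁻¹ * (c' * c⁻¹)) * (c'⁻¹ * m'⁻¹) := by rw [e1.eq, c2.eq]
      _ = m * m' * (c * m⁻¹) * (c' * c⁻¹ * c'⁻¹) * m'⁻¹ := by group
      _ = m * m' * (m⁻¹ * c) * (c' * c⁻¹ * c'⁻¹) * m'⁻¹ := by rw [(e3.inv_right).eq]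
      _ = m * m' * m⁻¹ * ((c * c' * c⁻¹ * c'⁻¹) * m'⁻¹) := by group
      _ = m * m' * m⁻¹ * (m'⁻¹ * (c * c' * c⁻¹ * c'⁻¹)) := by rw [c3.eq]
      _ = m * m' * m⁻¹ * m'⁻¹ * (c * c' * c⁻¹ * c'⁻¹) := by group
  set C := centralizer (M : Set Γ) with hC
  -- first step
  set X := M ⊓ centralizer ({σ} : Set Γ) with hX
  have hXC : X ≤ normalizer (C : Set Γ) := inf_le_left.trans
    (le_normalizer.trans (Cfsg.Agent.OddLocal.normalizer_le_normalizer_centralizer M))
  have step1 : L ≤ X ⊔ C := by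
    rw [← hLperf, commutator_le]
    intro l hl l' hl'
    obtain ⟨m, hm, c, hc, rfl⟩ := hdec l (hHl hl)
    obtain ⟨m', hm', c', hc', rfl⟩ := hdec l' (hHl hl')
    rw [hbr m hm m' hm' c hc c' hc']
    refine mul_mem (mem_sup_left ⟨M.mul_mem (M.mul_mem (M.mul_mem hm hm') (M.inv_mem hm)) (M.inv_mem hm'), ?_⟩)
      (mem_sup_right (C.mul_mem (C.mul_mem (C.mul_mem hc hc') (C.inv_mem hc)) (C.inv_mem hc')))
    have hmv : ∀ m ∈ M, ∀ c ∈ C, m * c ∈ L → ∃ ζ, (∀ u, ζ * u = u * ζ) ∧ σ * m * σ⁻¹ = m * ζ := by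
      intro m hm c hc hmc
      refine ⟨m⁻¹ * (σ * m * σ⁻¹), ?_, by group⟩
      have e := hLσ _ hmc
      have hin : m⁻¹ * (σ * m * σ⁻¹) ∈ C := by
        have h5 : m⁻¹ * (σ * m * σ⁻¹) = c * (σ * c * σ⁻¹)⁻¹ := by
          calc m⁻¹ * (σ * m * σ⁻¹) = m⁻¹ * (σ * (m * c) * σ⁻¹) * (σ * c * σ⁻¹)⁻¹ := by group
            _ = _ := by rw [e]; group
        rw [h5]
        exact C.mul_mem hc (C.inv_mem ((mem_normalizer_iff.mp hσC c).mp hc))
      rcases h.cent _ (M.mul_mem (M.inv_mem hm) (h.conj_mem hσ hm)) hin with e | e <;> rw [e]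
      · exact fun u => by simp
      · exact h.tcen
    obtain ⟨ζ, hζ, eζ⟩ := hmv m hm c hc hl
    obtain ⟨ζ', hζ', eζ'⟩ := hmv m' hm' c' hc' hl'
    refine mem_centralizer_singleton_iff.mpr ?_
    refine (mul_inv_eq_iff_eq_mul.mp ?_).symm
    change σ * ⁅m, m'⁆ * σ⁻¹ = ⁅m, m'⁆
    rw [← MulAut.conj_apply, map_commutatorElement, MulAut.conj_apply, MulAut.conj_apply, eζ, eζ']
    simp only [commutatorElement_def, mul_inv_rev]
    have c1 : Commute ζ m' := hζ m'
    have c2 : Commute ζ' m := hζ' m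
    have c3 : Commute ζ ζ' := hζ ζ'
    calc m * ζ * (m' * ζ') * (ζ⁻¹ * m⁻¹) * (ζ'⁻¹ * m'⁻¹)
        = m * (ζ * m') * (ζ' * ζ⁻¹) * m⁻¹ * (ζ'⁻¹ * m'⁻¹) := by group
      _ = m * (m' * ζ) * (ζ⁻¹ * ζ') * m⁻¹ * (ζ'⁻¹ * m'⁻¹) := by rw [c1.eq, (c3.inv_left.symm).eq]
      _ = m * m' * (ζ' * m⁻¹) * ζ'⁻¹ * m'⁻¹ := by group
      _ = m * m' * (m⁻¹ * ζ') * ζ'⁻¹ * m'⁻¹ := by rw [(c2.inv_right).eq]
      _ = m * m' * m⁻¹ * m'⁻¹ := by group
  have hsplit : ∀ l ∈ L, ∃ m ∈ X, ∃ c ∈ C, l = m * c := by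
    intro l hl
    have h2 : l ∈ ((X ⊔ C : Subgroup Γ) : Set Γ) := step1 hl
    rw [coe_mul_of_left_le_normalizer_right _ _ hXC] at h2
    obtain ⟨m, hm, c, hc, rfl⟩ := h2
    exact ⟨m, hm, c, hc, rfl⟩
  -- second step
  set Q := M ⊓ O.map g with hQ
  have hQC : Q ≤ normalizer (C : Set Γ) := inf_le_left.trans
    (le_normalizer.trans (Cfsg.Agent.OddLocal.normalizer_le_normalizer_centralizer M))
  have step2 : L ≤ Q ⊔ C := by
    rw [← hLperf, commutator_le]
    intro l hl l' hl'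
    obtain ⟨m, hm, c, hc, rfl⟩ := hsplit l hl
    obtain ⟨m', hm', c', hc', rfl⟩ := hsplit l' hl'
    rw [hbr m hm.1 m' hm'.1 c hc c' hc']
    refine mul_mem (mem_sup_left ⟨M.mul_mem (M.mul_mem (M.mul_mem hm.1 hm'.1) (M.inv_mem hm.1))
        (M.inv_mem hm'.1), ?_⟩)
      (mem_sup_right (C.mul_mem (C.mul_mem (C.mul_mem hc hc') (C.inv_mem hc)) (C.inv_mem hc')))
    obtain ⟨x, hx, hxe⟩ := hl
    have hmr : m' ∈ g.range := by rw [hg]; exact hm'.2
    obtain ⟨y, rfl⟩ := hmr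
    refine ⟨⁅x, y⁆, ?_, ?_⟩
    · rw [← commutatorElement_inv y x]
      exact inv_mem (hcom y hm'.1 x hx)
    · rw [map_commutatorElement, hxe]
      have e1 : Commute c (g y) := (mem_centralizer_iff.mp hc _ hm'.1).symm
      simp only [commutatorElement_def, mul_inv_rev]
      calc m * c * g y * (c⁻¹ * m⁻¹) * (g y)⁻¹ = m * (c * g y) * c⁻¹ * m⁻¹ * (g y)⁻¹ := by group
        _ = m * (g y * c) * c⁻¹ * m⁻¹ * (g y)⁻¹ := by rw [e1.eq]
        _ = m * g y * m⁻¹ * (g y)⁻¹ := by group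
  intro x hx hxx
  have h2 : g x ∈ ((Q ⊔ C : Subgroup Γ) : Set Γ) := step2 (mem_map_of_mem g hx)
  rw [coe_mul_of_left_le_normalizer_right _ _ hQC] at h2
  obtain ⟨q, hq, c, hc, hqc⟩ := h2
  change q * c = g x at hqc
  rw [← hqc] at hxx ⊢
  have hqc' : Commute q c := mem_centralizer_iff.mp hc q hq.1
  have h4 : q * q = (c * c)⁻¹ := by
    refine eq_inv_of_mul_eq_one_left ?_
    calc q * q * (c * c) = q * (q * c) * c := by group
      _ = q * (c * q) * c := by rw [hqc'.eq]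
      _ = q * c * (q * c) := by group
      _ = 1 := hxx
  have hQodd : (Nat.card ↥(O.map g)).Coprime 2 :=
    Components.pPrimeCore_coprime.coprime_dvd_left (card_map_dvd _ _)
  have hqn : q ^ Nat.card ↥(O.map g) = 1 := by
    simpa using congrArg Subtype.val (pow_card_eq_one' (x := (⟨q, hq.2⟩ : ↥(O.map g))))
  have hq4 : q ^ 2 ^ 2 = 1 := by
    have h5 := h.cent (q * q) (M.mul_mem hq.1 hq.1) (h4 ▸ C.inv_mem (C.mul_mem hc hc))
    rw [show (2 : ℕ) ^ 2 = 2 + 2 from rfl, pow_add, pow_two]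
    rcases h5 with e | e <;> rw [e]
    · rw [one_mul]
    · exact h.tsq
  rw [eq_one_of_pow_two_pow_odd hq4 hQodd hqn, one_mul]
  exact hc

/-- Lifting a component of the range through a map with odd kernel. -/
theorem lift_component (f : W →* Γ) (hker : f.ker ≤ Cfsg.pPrimeCore 2 W) {B : Subgroup Γ}
    (hB : B ≤ f.range) (hBc : Cfsg.IsComponent (B.subgroupOf f.range)) (hB2 : 2 ∣ Nat.card ↥B) :
    ∃ H : Subgroup W, Cfsg.IsPComponent 2 H ∧ H.map f = B ∧
      ∀ x k, f x ∈ B → x ^ 2 ^ k = 1 → x ∈ H := by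
  haveI : Fact (Nat.Prime 2) := ⟨Nat.prime_two⟩
  set O := Cfsg.pPrimeCore 2 W with hO
  set π := QuotientGroup.mk' O with hπ
  set D := B.comap f with hD
  have hDs : D.IsSubnormal := by
    have : D = (B.subgroupOf f.range).comap f.rangeRestrict := rfl
    rw [this]; exact hBc.1.comap _
  have hBq : Cfsg.IsQuasisimple ↥B := Components.qs_of_equiv hBc.2 (subgroupOfEquivOfLe hB)
  set B' := D.map π with hB'
  have hρs : Function.Surjective (f.subgroupComap B) := by
    rintro ⟨b, hb⟩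
    obtain ⟨x, hx⟩ := hB hb
    exact ⟨⟨x, show f x ∈ B from hx ▸ hb⟩, Subtype.ext hx⟩
  have hBne : B' ≠ ⊥ := by
    rw [hB', Ne, Subgroup.map_eq_bot_iff, QuotientGroup.ker_mk']
    intro hle
    have h1 : Nat.card ↥B ∣ Nat.card ↥O :=
      (Subgroup.card_dvd_of_surjective _ hρs).trans (card_dvd_of_le hle)
    exact Nat.Prime.not_coprime_iff_dvd.mpr ⟨2, Nat.prime_two, hB2.trans h1, dvd_rfl⟩
      Components.pPrimeCore_coprime
  have hcomp : Cfsg.IsComponent B' := by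
    refine ⟨hDs.map (QuotientGroup.mk'_surjective O), ?_⟩
    haveI : Nontrivial ↥B' := (nontrivial_iff_ne_bot _).mpr hBne
    have hk : (f.subgroupComap B).ker ≤ (π.subgroupMap D).ker := by
      intro x hx
      have h1 : f (x : W) = 1 := congrArg Subtype.val hx
      exact Subtype.ext ((QuotientGroup.eq_one_iff (x : W)).mpr (hker h1))
    refine Components.qs_of_surjective hBq ((f.subgroupComap B).liftOfSurjective hρs ⟨_, hk⟩) ?_
    intro y
    obtain ⟨x, rfl⟩ := π.subgroupMap_surjective D y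
    exact ⟨f.subgroupComap B x, MonoidHom.liftOfRightInverse_comp_apply _ _ _ _ x⟩
  have heq : Components.pGen 2 (B'.comap π) = Components.pGen 2 D := by
    refine le_antisymm ?_ (Components.pGen_mono (le_comap_map π D))
    refine (closure_le _).mpr ?_
    rintro x ⟨hx, k, hk⟩
    refine Components.mem_pGen (Components.pGen_le_of_coprime_relIndex (p := 2) (S := D) hDs.subgroupOf ?_
      (Components.mem_pGen hx hk)) hk
    rw [hB', comap_map_eq, QuotientGroup.ker_mk']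
    exact Components.pPrimeCore_coprime.coprime_dvd_left (Components.relIndex_self_sup_dvd D O)
  refine ⟨Components.pGen 2 D, ?_, ?_, fun x k hx hk => Components.mem_pGen hx hk⟩
  · rw [← heq]; exact Components.isPComponent_pGen_comap hcomp
  · rw [Components.map_pGen, hD, map_comap_eq, inf_eq_right.mpr hB,
      Components.pGen_eq_self_of_isQuasisimple hBq hB2]

/-- An element centralizing a two-component modulo the odd core centralizes its image. -/
theorem centralizes_image (f : W →* Γ) {B : Subgroup Γ} (hB : B ≤ f.range)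
    (hBc : Cfsg.IsComponent (B.subgroupOf f.range)) (hB2 : 2 ∣ Nat.card ↥B) {H : Subgroup W}
    (hH : H.map f = B) {y : W} (hy : ∀ x ∈ H, ⁅y, x⁆ ∈ Cfsg.pPrimeCore 2 W) :
    f y ∈ centralizer (B : Set Γ) := by
  set O := Cfsg.pPrimeCore 2 W with hO
  set Q := O.map f with hQ
  haveI hQn : (Q.subgroupOf f.range).Normal := by
    have : Q.subgroupOf f.range = O.map f.rangeRestrict := by
      ext ⟨x, hx⟩
      exact ⟨fun ⟨w, hw, e⟩ => ⟨w, hw, Subtype.ext e⟩, fun ⟨w, hw, e⟩ => ⟨w, hw, congrArg Subtype.val e⟩⟩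
    rw [this]
    exact (inferInstance : O.Normal).map _ f.rangeRestrict_surjective
  have hQ1 : Q ≤ f.range := map_le_range f O
  have hBQ : ⁅B, Q⁆ = ⊥ := by
    rcases Components.component_le_or_commute hBc (Components.isSubnormal_of_normal (Q.subgroupOf f.range))
      with e | e
    · exfalso
      have h1 : B ≤ Q := fun b hb => e (show (⟨b, hB hb⟩ : ↥f.range) ∈ B.subgroupOf f.range from hb)
      exact Nat.Prime.not_coprime_iff_dvd.mpr ⟨2, Nat.prime_two,
        hB2.trans ((card_dvd_of_le h1).trans (card_map_dvd _ _)), dvd_rfl⟩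
        (Components.pPrimeCore_coprime (G := W) (p := 2))
    · exact (Components.commutator_subgroupOf_eq_bot_iff hB hQ1).mp e
  have h1 : ⁅zpowers (f y), B⁆ ≤ Q := by
    refine commutator_le.mpr fun u hu b hb => ?_
    obtain ⟨i, rfl⟩ := mem_zpowers_iff.mp hu
    obtain ⟨x, hx, rfl⟩ := hH.symm ▸ hb
    refine ⟨⁅y ^ i, x⁆, ?_, by rw [map_commutatorElement, map_zpow]⟩
    rw [SetLike.mem_coe, ← QuotientGroup.eq_one_iff, ← QuotientGroup.mk'_apply, map_commutatorElement,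
      map_zpow, commutatorElement_eq_one_iff_mul_comm]
    have h2 : Commute (QuotientGroup.mk' O y) (QuotientGroup.mk' O x) := by
      rw [← commutatorElement_eq_one_iff_commute, ← map_commutatorElement]
      exact (QuotientGroup.eq_one_iff _).mpr (hy x hx)
    exact (h2.zpow_left i).eq
  have h3 : ⁅⁅zpowers (f y), B⁆, B⁆ = ⊥ :=
    eq_bot_mono (commutator_mono h1 le_rfl) (Components.commutator_eq_bot_symm hBQ)
  have hBp : ⁅B, B⁆ = B := Components.isQuasisimple_commutator_eq_self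
    (Components.qs_of_equiv hBc.2 (subgroupOfEquivOfLe hB))
  exact commutator_eq_bot_iff_le_centralizer.mp
    (Components.commutator_eq_bot_symm (Components.commutator_eq_bot_of_perfect hBp h3)) (mem_zpowers _)

end TwoMaps

/-! ### Two-components in centralizers of involutions -/

section Centralizers

variable {G : Type*} [Group G] [Finite G]

/-- The centralizer of an element. -/
abbrev Cn (t : G) : Subgroup G := centralizer ({t} : Set G)

/-- The centralizer of an element modulo its odd core. -/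
abbrev Gam (t : G) := ↥(Cn t) ⧸ Cfsg.pPrimeCore 2 ↥(Cn t)

/-- The image of `x` in `Gam t`, or `1` outside the centralizer. -/
noncomputable def el (t x : G) : Gam t :=
  letI := Classical.propDecidable (x ∈ Cn t)
  if h : x ∈ Cn t then QuotientGroup.mk' _ ⟨x, h⟩ else 1

/-- The image of a subgroup of the centralizer. -/
def bar (t : G) (J : Subgroup G) : Subgroup (Gam t) :=
  (J.subgroupOf (Cn t)).map (QuotientGroup.mk' _)

theorem el_mk {t x : G} (h : x ∈ Cn t) : el t x = QuotientGroup.mk' _ (⟨x, h⟩ : ↥(Cn t)) := by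
  rw [el, dif_pos h]

theorem el_one (t : G) : el t 1 = 1 := by
  rw [el_mk (one_mem _)]; rfl

theorem el_mul {t x y : G} (hx : x ∈ Cn t) (hy : y ∈ Cn t) : el t (x * y) = el t x * el t y := by
  rw [el_mk hx, el_mk hy, el_mk (mul_mem hx hy)]; rfl

theorem el_inv {t x : G} (hx : x ∈ Cn t) : el t x⁻¹ = (el t x)⁻¹ := by
  rw [el_mk hx, el_mk (inv_mem hx)]; rfl

theorem el_pow {t x : G} (hx : x ∈ Cn t) (n : ℕ) : el t (x ^ n) = el t x ^ n := by
  induction n with
  | zero => simp [el_one]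
  | succ n ih => rw [pow_succ, el_mul (pow_mem hx n) hx, ih, pow_succ]

theorem el_conj {t x y : G} (hx : x ∈ Cn t) (hy : y ∈ Cn t) :
    el t (x * y * x⁻¹) = el t x * el t y * (el t x)⁻¹ := by
  rw [el_mul (mul_mem hx hy) (inv_mem hx), el_mul hx hy, el_inv hx]

theorem mem_Cn {t x : G} : x ∈ Cn t ↔ x * t = t * x := mem_centralizer_singleton_iff

theorem self_mem_Cn (t : G) : t ∈ Cn t := mem_Cn.mpr rfl

theorem el_self_comm (t : G) (q : Gam t) : el t t * q = q * el t t := by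
  obtain ⟨x, rfl⟩ := QuotientGroup.mk'_surjective _ q
  rw [el_mk (self_mem_Cn t), ← map_mul, ← map_mul]
  congr 1
  exact Subtype.ext (mem_Cn.mp x.2).symm

theorem el_eq_one {t x : G} (hx : x ∈ Cn t) {k : ℕ} (hk : x ^ 2 ^ k = 1) (h : el t x = 1) : x = 1 := by
  rw [el_mk hx] at h
  have hO : (⟨x, hx⟩ : ↥(Cn t)) ∈ Cfsg.pPrimeCore 2 ↥(Cn t) := (QuotientGroup.eq_one_iff _).mp h
  have h2 := congrArg Subtype.val
    (congrArg Subtype.val (pow_card_eq_one' (x := (⟨_, hO⟩ : ↥(Cfsg.pPrimeCore 2 ↥(Cn t))))))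
  push_cast at h2
  exact eq_one_of_pow_two_pow_odd hk Components.pPrimeCore_coprime h2

theorem eq_of_el {t x y : G} (hx : x ∈ Cn t) (hy : y ∈ Cn t) {k l : ℕ} (hk : x ^ 2 ^ k = 1)
    (hl : y ^ 2 ^ l = 1) (hc : x * y = y * x) (h : el t x = el t y) : x = y := by
  refine mul_inv_eq_one.mp (el_eq_one (k := k + l) (mul_mem hx (inv_mem hy)) ?_ ?_)
  · rw [(show Commute x y from hc).inv_right.mul_pow, pow_add, pow_mul, hk, one_pow, one_mul,
      inv_pow, mul_comm, pow_mul, hl, one_pow, inv_one]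
  · rw [el_mul hx (inv_mem hy), el_inv hy, h, mul_inv_cancel]

theorem conj_adjust {t x y : G} (hx : x ∈ Cn t) (hy : y ∈ Cn t) (hxx : x * x = 1) (hyy : y * y = 1)
    (h : el t x = el t y) : ∃ m ∈ Cn t, el t m = 1 ∧ m * x * m⁻¹ = y ∧ m ∈ zpowers (x * y) := by
  set u := x * y with hu
  have huC : u ∈ Cn t := mul_mem hx hy
  have hu1 : el t u = 1 := by
    rw [hu, el_mul hx hy, ← h, ← el_mul hx hx, hxx, el_one]
  have hodd : ¬ 2 ∣ orderOf u := by
    intro hd
    rw [el_mk huC] at hu1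
    have hm := (QuotientGroup.eq_one_iff _).mp hu1
    have h1 : orderOf u ∣ Nat.card ↥(Cfsg.pPrimeCore 2 ↥(Cn t)) := by
      rw [← orderOf_mk u huC, ← orderOf_mk (⟨u, huC⟩ : ↥(Cn t)) hm]
      exact orderOf_dvd_natCard _
    exact Nat.Prime.not_coprime_iff_dvd.mpr ⟨2, Nat.prime_two, hd.trans h1, dvd_rfl⟩
      Components.pPrimeCore_coprime
  obtain ⟨i, hi⟩ : ∃ i, orderOf u = 2 * i + 1 := ⟨orderOf u / 2, by omega⟩
  refine ⟨u ^ i, pow_mem huC i, by rw [el_pow huC, hu1, one_pow], ?_, pow_mem (mem_zpowers u) i⟩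
  have hinv : x * u * x⁻¹ = u⁻¹ := by
    rw [inv_eq_of_mul_eq_one_right hxx, hu, mul_inv_rev, inv_eq_of_mul_eq_one_right hxx,
      inv_eq_of_mul_eq_one_right hyy, ← mul_assoc x x y, hxx, one_mul]
  have h3 : x * (u ^ i)⁻¹ * x⁻¹ = u ^ i := by
    rw [← inv_pow, ← conj_pow]
    congr 1
    calc x * u⁻¹ * x⁻¹ = (x * u * x⁻¹)⁻¹ := by group
      _ = u := by rw [hinv, inv_inv]
  have e : u ^ i * u ^ i = u⁻¹ := by
    rw [← pow_add]
    refine eq_inv_of_mul_eq_one_left ?_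
    rw [← pow_succ, show i + i + 1 = orderOf u by omega, pow_orderOf_eq_one]
  calc u ^ i * x * (u ^ i)⁻¹ = u ^ i * (x * (u ^ i)⁻¹ * x⁻¹) * x := by group
    _ = u⁻¹ * x := by rw [h3, e]
    _ = y := by rw [hu, mul_inv_rev, inv_eq_of_mul_eq_one_right hxx,
      inv_eq_of_mul_eq_one_right hyy, mul_assoc, hxx, mul_one]

theorem exists_lift2 {t : G} {q : Gam t} {k : ℕ} (hq : q ^ 2 ^ k = 1) :
    ∃ x ∈ Cn t, (∃ j : ℕ, x ^ 2 ^ j = 1) ∧ el t x = q := by
  haveI : Fact (Nat.Prime 2) := ⟨Nat.prime_two⟩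
  obtain ⟨x, rfl⟩ := QuotientGroup.mk'_surjective _ q
  obtain ⟨n, j, h1, h2⟩ := Components.exists_p_element_lift (QuotientGroup.mk' _) (x := x) hq
  refine ⟨(x ^ n : ↥(Cn t)), (x ^ n).2, ⟨j, by exact_mod_cast congrArg Subtype.val h1⟩, ?_⟩
  rw [el_mk (x ^ n).2]
  exact h2

/-- A 2-group over a given 2-group of the quotient. -/
theorem lift_group {t : G} {P : Subgroup (Gam t)} (hP : IsPGroup 2 ↥P) {y : G} (hy : y ∈ Cn t)
    {k : ℕ} (hk : y ^ 2 ^ k = 1) (hyP : el t y ∈ P) :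
    ∃ T : Subgroup G, T ≤ Cn t ∧ IsPGroup 2 ↥T ∧ y ∈ T ∧ (∀ q ∈ P, ∃ x ∈ T, el t x = q) ∧
      (∀ x ∈ T, el t x ∈ P) ∧ ∀ x ∈ T, el t x = 1 → x = 1 := by
  haveI : Fact (Nat.Prime 2) := ⟨Nat.prime_two⟩
  set π := QuotientGroup.mk' (Cfsg.pPrimeCore 2 ↥(Cn t)) with hπ
  set D := P.comap π with hD
  obtain ⟨T0, hT0, hyT⟩ := ConjFunctor.exists_isSylIn_ge (p := 2)
    (show zpowers (⟨y, hy⟩ : ↥(Cn t)) ≤ D from zpowers_le.mpr (by
      change π _ ∈ P; rwa [← el_mk hy]))
    (isPGroup_zpowers (k := k) (Subtype.ext (by simpa using hk)))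
  have hmap : T0.map π = P := by
    refine le_antisymm (map_le_iff_le_comap.mpr hT0.1) ?_
    have h1 : (D.map π) = P := map_comap_eq_self_of_surjective (QuotientGroup.mk'_surjective _) P
    obtain ⟨n, hn⟩ := hP.exists_card_eq
    have hle : T0.map π ≤ P := map_le_iff_le_comap.mpr hT0.1
    have h2 : (T0.map π).relIndex P ∣ T0.relIndex D := by
      rw [← h1, relIndex_map_map]
      exact relIndex_dvd_of_le_left _ le_sup_left |>.trans (dvd_of_eq (by
        rw [show D ⊔ π.ker = D from sup_eq_left.mpr (MonoidHom.ker_le_comap _ _)]))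
    have h3 : (T0.map π).relIndex P = 1 := by
      have hd : (T0.map π).relIndex P ∣ 2 ^ n := by
        rw [← hn, relIndex]; exact index_dvd_card _
      obtain ⟨i, -, hi⟩ := (Nat.dvd_prime_pow Nat.prime_two).mp hd
      rcases Nat.eq_zero_or_pos i with rfl | hpos
      · simpa using hi
      · exact absurd ((hi ▸ dvd_pow_self 2 hpos.ne').trans h2) hT0.2.2
    exact relIndex_eq_one.mp h3
  refine ⟨T0.map (Cn t).subtype, map_subtype_le _, hT0.2.1.map _, ⟨⟨y, hy⟩, hyT (mem_zpowers _), rfl⟩,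
    ?_, ?_, ?_⟩
  · intro q hq
    obtain ⟨x, hx, rfl⟩ := hmap.symm ▸ hq
    exact ⟨x, ⟨x, hx, rfl⟩, el_mk x.2⟩
  · rintro _ ⟨x, hx, rfl⟩
    rw [coe_subtype, el_mk x.2]
    exact hT0.1 hx
  · rintro _ ⟨x, hx, rfl⟩ h
    obtain ⟨j, hj⟩ := exists_pow_two_pow hT0.2.1 hx
    exact el_eq_one x.2 (k := j) (by rw [← map_pow, hj, map_one]) h

/-- The restriction of the quotient map. -/
noncomputable def res (t : G) {W : Subgroup G} (h : W ≤ Cn t) : ↥W →* Gam t :=
  (QuotientGroup.mk' _).comp (inclusion h)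

theorem res_apply (t : G) {W : Subgroup G} (h : W ≤ Cn t) (x : ↥W) : res t h x = el t x := by
  rw [el_mk (h x.2)]; rfl

theorem pComponent_equiv {X Y : Type*} [Group X] [Finite X] [Group Y] [Finite Y] (e : X ≃* Y)
    {K : Subgroup X} (hK : Cfsg.IsPComponent 2 K) : Cfsg.IsPComponent 2 (K.map e.toMonoidHom) := by
  let O := Cfsg.pPrimeCore 2 X
  let O' := Cfsg.pPrimeCore 2 Y
  let ē : X ⧸ O ≃* Y ⧸ O' := QuotientGroup.congr O O' e (Components.map_pPrimeCore_equiv e)
  have hc : (QuotientGroup.mk' O').comp e.toMonoidHom = ē.toMonoidHom.comp (QuotientGroup.mk' O) := by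
    ext x; rfl
  have hm : ∀ H : Subgroup X, (H.map e.toMonoidHom).map (QuotientGroup.mk' O') =
      (H.map (QuotientGroup.mk' O)).map ē.toMonoidHom := by
    intro H; rw [map_map, map_map, hc]
  refine ⟨Components.isSubnormal_map_equiv e hK.1, ?_, fun H hH hle he => ?_⟩
  · rw [hm]; exact Components.isComponent_map_equiv ē hK.2.1
  · have h2 : (H.map e.symm.toMonoidHom).map e.toMonoidHom = H := by
      rw [map_map]; ext x; simp
    have h1 : H.map e.symm.toMonoidHom = K := by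
      refine hK.2.2 _ (Components.isSubnormal_map_equiv e.symm hH) ?_ ?_
      · rw [map_le_iff_le_comap]
        exact hle.trans (le_of_eq (map_equiv_eq_comap_symm' e K))
      · apply map_injective (f := ē.toMonoidHom) ē.injective
        rw [← hm, ← hm, h2, he]
    rw [← h1, h2]

theorem pLayer_equiv {X Y : Type*} [Group X] [Finite X] [Group Y] [Finite Y] (e : X ≃* Y) :
    (Cfsg.pLayer 2 X).map e.toMonoidHom ≤ Cfsg.pLayer 2 Y := by
  rw [map_le_iff_le_comap, Cfsg.pLayer, sSup_le_iff]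
  exact fun K hK => map_le_iff_le_comap.mp (Components.pComponent_le_pLayer (pComponent_equiv e hK))

/-- The two-map lemma. -/
theorem res_spec {s z : G} (hz : z * z = 1) (hsz : z * s = s * z) {W : Subgroup G} (hWs : W ≤ Cn s)
    (hW : W = Cn s ⊓ Cn z) :
    (res s hWs).range = centralizer ({el s z} : Set (Gam s)) ∧
      (res s hWs).ker ≤ Cfsg.pPrimeCore 2 ↥W ∧
      (∀ H : Subgroup ↥W, Cfsg.IsPComponent 2 H → H.map (res s hWs) ≤ Cfsg.layer (Gam s)) := by
  haveI : Fact (Nat.Prime 2) := ⟨Nat.prime_two⟩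
  have hzs : z ∈ Cn s := mem_Cn.mpr hsz
  set z' : ↥(Cn s) := ⟨z, hzs⟩ with hz'
  have hT : IsPGroup 2 ↥(zpowers z') :=
    isPGroup_zpowers (k := 1) (Subtype.ext (by simpa [pow_two] using hz))
  set ι := inclusion hWs with hι
  have hrange : ι.range = centralizer (zpowers z' : Set ↥(Cn s)) := by
    rw [Components.centralizer_zpowers_eq]
    ext x
    constructor
    · rintro ⟨w, rfl⟩
      refine mem_centralizer_singleton_iff.mpr (Subtype.ext ?_)
      have h2 : (w : G) ∈ Cn s ⊓ Cn z := hW ▸ w.2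
      exact mem_Cn.mp h2.2
    · intro hx
      refine ⟨⟨x, ?_⟩, Subtype.ext rfl⟩
      rw [hW]
      exact ⟨x.2, mem_Cn.mpr (congrArg Subtype.val (mem_centralizer_singleton_iff.mp hx))⟩
  refine ⟨?_, ?_, ?_⟩
  · rw [res, MonoidHom.range_comp, hrange,
      Components.map_centralizer_of_coprime Components.pPrimeCore_coprime hT, MonoidHom.map_zpowers,
      Components.centralizer_zpowers_eq, el_mk hzs]
  · refine Components.le_pPrimeCore inferInstance ?_
    have h1 : Nat.card ↥((res s hWs).ker) = Nat.card ↥((res s hWs).ker.map ι) :=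
      (card_map_of_injective (inclusion_injective hWs)).symm
    rw [h1]
    refine Components.pPrimeCore_coprime.coprime_dvd_left (card_dvd_of_le ?_)
    rintro _ ⟨x, hx, rfl⟩
    exact (QuotientGroup.eq_one_iff _).mp hx
  · intro H hH
    let e : ↥W ≃* ↥(centralizer (zpowers z' : Set ↥(Cn s))) :=
      (MonoidHom.ofInjective (inclusion_injective hWs)).trans (MulEquiv.subgroupCongr hrange)
    have h1 : H.map ι ≤ (Cfsg.pLayer 2 ↥(centralizer (zpowers z' : Set ↥(Cn s)))).map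
        (centralizer (zpowers z' : Set ↥(Cn s))).subtype := by
      rintro _ ⟨x, hx, rfl⟩
      exact ⟨e x, pLayer_equiv e ⟨x, Components.pComponent_le_pLayer hH hx, rfl⟩, rfl⟩
    rw [res, ← map_map, ← Components.map_pLayer (p := 2)]
    exact map_mono (h1.trans (Components.lBalanceTwo hT))

/-- The properties of a group that make it behave like a special linear group of degree two
over a field of odd order, as far as involutions and elements of order 4 go. -/
def Ty (Q : Type*) [Group Q] : Prop :=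
  Nat.card (center Q) ≤ 2 ∧
    (∀ a b : Q, orderOf a = 4 → orderOf b = 4 → ∃ g, g * a * g⁻¹ = b ∨ g * a * g⁻¹ = b⁻¹) ∧
    ∃ a b : Q, orderOf a = 4 ∧ orderOf b = 4 ∧ b * a * b⁻¹ = a⁻¹

theorem Ty.equiv {Q R : Type*} [Group Q] [Group R] (h : Ty Q) (e : Q ≃* R) : Ty R := by
  refine ⟨?_, fun a b ha hb => ?_, ?_⟩
  · rw [← Nat.card_congr (Subgroup.centerCongr e).toEquiv]; exact h.1
  · obtain ⟨g, hg⟩ := h.2.1 (e.symm a) (e.symm b) (by rw [MulEquiv.orderOf_eq, ha])
      (by rw [MulEquiv.orderOf_eq, hb])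
    refine ⟨e g, ?_⟩
    rcases hg with hg | hg
    · exact Or.inl (by simpa using congrArg e hg)
    · exact Or.inr (by simpa using congrArg e hg)
  · obtain ⟨a, b, ha, hb, hab⟩ := h.2.2
    exact ⟨e a, e b, by rw [MulEquiv.orderOf_eq, ha], by rw [MulEquiv.orderOf_eq, hb],
      by simpa using congrArg e hab⟩

/-- A two-component of the centralizer of its only involution. -/
structure Cl (J : Subgroup G) (t : G) : Prop where
  le : J ≤ Cn t
  pc : Cfsg.IsPComponent 2 (J.subgroupOf (Cn t))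
  tmem : t ∈ J
  tord : orderOf t = 2
  uniq : ∀ x ∈ J, orderOf x = 2 → x = t
  ty : Ty (↥J ⧸ Cfsg.pPrimeCore 2 ↥J)

theorem Cl.sq {J : Subgroup G} {t : G} (h : Cl J t) : t * t = 1 := by
  rw [← pow_two, ← h.tord, pow_orderOf_eq_one]

theorem mem_bar {J : Subgroup G} {t x : G} (hle : J ≤ Cn t) (hx : x ∈ J) : el t x ∈ bar t J := by
  rw [el_mk (hle hx)]
  exact mem_map_of_mem _ (show (⟨x, hle hx⟩ : ↥(Cn t)) ∈ J.subgroupOf (Cn t) from hx)

theorem exists_of_mem_bar {J : Subgroup G} {t : G} {q : Gam t} (hq : q ∈ bar t J) :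
    ∃ x ∈ J, x ∈ Cn t ∧ el t x = q := by
  obtain ⟨x, hx, rfl⟩ := hq
  exact ⟨x, hx, x.2, el_mk x.2⟩

theorem Cl.cm {J : Subgroup G} {t : G} (h : Cl J t) : CM (bar t J) (el t t) := by
  haveI : Fact (Nat.Prime 2) := ⟨Nat.prime_two⟩
  set O := Cfsg.pPrimeCore 2 ↥(Cn t) with hO
  set J' := J.subgroupOf (Cn t) with hJ'
  set M := bar t J with hM
  have htsq : el t t * el t t = 1 := by rw [← el_mul (self_mem_Cn t) (self_mem_Cn t), h.sq, el_one]
  have htne : el t t ≠ 1 := fun e => by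
    have := el_eq_one (self_mem_Cn t) (k := 1) (by rw [pow_one, pow_two]; exact h.sq) e
    have h2 := h.tord
    rw [this, orderOf_one] at h2
    exact absurd h2 (by norm_num)
  have huniq : ∀ x ∈ M, x * x = 1 → x = 1 ∨ x = el t t := by
    rintro _ ⟨x, hx, rfl⟩ hxx
    obtain ⟨n, j, h1, h2⟩ := Components.exists_p_element_lift (QuotientGroup.mk' O) (x := x) (k := 1)
      (by rw [pow_one, pow_two]; exact hxx)
    set y : G := ((x ^ n : ↥(Cn t)) : G) with hy
    have hyC : y ∈ Cn t := (x ^ n).2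
    have hyJ : y ∈ J := pow_mem hx n
    have hyk : y ^ 2 ^ j = 1 := by
      rw [hy, ← SubmonoidClass.coe_pow, h1]; rfl
    have hel : el t y = QuotientGroup.mk' O x := by rw [el_mk hyC]; exact h2
    have hyy : y * y = 1 := by
      refine el_eq_one (mul_mem hyC hyC) (k := j) ?_ ?_
      · rw [(Commute.refl y).mul_pow, hyk, one_mul]
      · rw [el_mul hyC hyC, hel, hxx]
    by_cases hy1 : y = 1
    · left; rw [← hel, hy1, el_one]
    · right
      rw [← hel, h.uniq y hyJ (orderOf_eq_prime (by rw [pow_two, hyy]) hy1)]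
  have hker : ((QuotientGroup.mk' O).comp J'.subtype).ker = Cfsg.pPrimeCore 2 ↥J' := by
    rw [← MonoidHom.comap_ker, QuotientGroup.ker_mk']
    apply map_injective (f := J'.subtype) J'.subtype_injective
    change (O.subgroupOf J').map J'.subtype = _
    rw [subgroupOf_map_subtype, Components.map_subtype_core_pComponent h.pc]
  have hr : ((QuotientGroup.mk' O).comp J'.subtype).range = M := by
    rw [MonoidHom.range_comp, range_subtype]; rfl
  let e1 : ↥J' ⧸ Cfsg.pPrimeCore 2 ↥J' ≃* ↥M :=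
    ((QuotientGroup.quotientMulEquivOfEq hker.symm).trans (QuotientGroup.quotientKerEquivRange _)).trans
      (MulEquiv.subgroupCongr hr)
  let e0 : ↥J ≃* ↥J' := (subgroupOfEquivOfLe h.le).symm
  have hty : Ty ↥M := h.ty.equiv
    ((QuotientGroup.congr _ _ e0 (Components.map_pPrimeCore_equiv e0)).trans e1)
  have hord : ∀ a : ↥M, (a : Gam t) * a = el t t → orderOf a = 4 := by
    intro a ha
    rw [← orderOf_coe, show (4 : ℕ) = 2 ^ (1 + 1) from rfl]
    refine orderOf_eq_prime_pow ?_ ?_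
    · rw [pow_one, pow_two, ha]; exact htne
    · rw [show (2 : ℕ) ^ (1 + 1) = 2 + 2 from rfl, pow_add, pow_two, ha, htsq]
  refine
    { comp := h.pc.2.1
      tmem := mem_bar h.le h.tmem
      tne := htne
      tsq := htsq
      tcen := fun g => el_self_comm t g
      uniq := huniq
      cent := ?_
      conj4 := ?_
      anti := ?_ }
  · intro x hx hxc
    by_contra hcon
    push Not at hcon
    have hτc : (⟨el t t, mem_bar h.le h.tmem⟩ : ↥M) ∈ center ↥M :=
      mem_center_iff.mpr fun g => Subtype.ext (el_self_comm t (g : Gam t)).symm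
    have hxc' : (⟨x, hx⟩ : ↥M) ∈ center ↥M :=
      mem_center_iff.mpr fun g => Subtype.ext (mem_centralizer_iff.mp hxc g g.2)
    let f : Fin 3 → ↥(center ↥M) := ![1, ⟨_, hτc⟩, ⟨_, hxc'⟩]
    have hf : Function.Injective f := by
      intro i j hij
      have hv := congrArg (fun u : ↥(center ↥M) => ((u : ↥M) : Gam t)) hij
      fin_cases i <;> fin_cases j <;> simp [f] at hv ⊢ <;>
        first
        | exact htne hv
        | exact htne hv.symm
        | exact hcon.1 hv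
        | exact hcon.1 hv.symm
        | exact hcon.2 hv
        | exact hcon.2 hv.symm
    have h3 := Nat.card_le_card_of_injective f hf
    rw [Nat.card_fin] at h3
    have := hty.1
    omega
  · intro a ha b hb haa hbb
    obtain ⟨g, hg⟩ := hty.2.1 ⟨a, ha⟩ ⟨b, hb⟩ (hord _ haa) (hord _ hbb)
    refine ⟨g, g.2, ?_⟩
    rcases hg with hg | hg
    · exact Or.inl (congrArg Subtype.val hg)
    · exact Or.inr (congrArg Subtype.val hg)
  · obtain ⟨a, b, ha, hb, hab⟩ := hty.2.2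
    have key : ∀ a : ↥M, orderOf a = 4 → (a : Gam t) * a = el t t := by
      intro a ha
      rw [← orderOf_coe] at ha
      rcases huniq _ (mul_mem a.2 a.2) (by
        calc (a : Gam t) * a * ((a : Gam t) * a) = (a : Gam t) ^ 4 := by simp [pow_succ, mul_assoc]
          _ = 1 := by rw [← ha, pow_orderOf_eq_one]) with e | e
      · exfalso
        have := orderOf_le_of_pow_eq_one (x := (a : Gam t)) two_pos (by rw [pow_two]; exact e)
        omega
      · exact e
    exact ⟨a, a.2, b, b.2, key a ha, key b hb, congrArg Subtype.val hab⟩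

theorem bar_inj {J J' : Subgroup G} {t : G} (h : Cl J t) (h' : J' ≤ Cn t)
    (h'c : Cfsg.IsPComponent 2 (J'.subgroupOf (Cn t))) (e : bar t J = bar t J') : J = J' := by
  haveI : Fact (Nat.Prime 2) := ⟨Nat.prime_two⟩
  have := congrArg (Subgroup.map (Cn t).subtype) (Components.pComponent_inj h.pc h'c e)
  rwa [map_subgroupOf_eq_of_le h.le, map_subgroupOf_eq_of_le h'] at this

theorem cjg_le {t g : G} {J : Subgroup G} (hle : J ≤ Cn t) : cjg g J ≤ Cn (g * t * g⁻¹) := by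
  rintro _ ⟨x, hx, rfl⟩
  refine mem_Cn.mpr ?_
  change g * x * g⁻¹ * (g * t * g⁻¹) = g * t * g⁻¹ * (g * x * g⁻¹)
  calc g * x * g⁻¹ * (g * t * g⁻¹) = g * (x * t) * g⁻¹ := by group
    _ = g * (t * x) * g⁻¹ := by rw [mem_Cn.mp (hle hx)]
    _ = _ := by group

/-- Conjugation between centralizers. -/
def conjC (g t : G) : ↥(Cn t) ≃* ↥(Cn (g * t * g⁻¹)) where
  toFun x := ⟨g * x * g⁻¹, cjg_le le_rfl (mem_cjg x.2)⟩
  invFun x := ⟨g⁻¹ * x * g, mem_Cn.mpr (by
    calc g⁻¹ * x * g * t = g⁻¹ * ((x : G) * (g * t * g⁻¹)) * g := by group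
      _ = g⁻¹ * (g * t * g⁻¹ * x) * g := by rw [mem_Cn.mp x.2]
      _ = t * (g⁻¹ * x * g) := by group)⟩
  left_inv x := Subtype.ext (by simp [mul_assoc])
  right_inv x := Subtype.ext (by simp [mul_assoc])
  map_mul' x y := Subtype.ext (by simp [mul_assoc])

theorem map_conjC {t : G} (g : G) {J : Subgroup G} (hle : J ≤ Cn t) :
    (J.subgroupOf (Cn t)).map (conjC g t).toMonoidHom = (cjg g J).subgroupOf (Cn (g * t * g⁻¹)) := by
  ext x
  constructor
  · rintro ⟨y, hy, rfl⟩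
    exact mem_cjg hy
  · intro hx
    exact ⟨(conjC g t).symm x, mem_cjg_iff.mp hx, MulEquiv.apply_symm_apply _ _⟩

theorem Cl.conj {J : Subgroup G} {t : G} (h : Cl J t) (g : G) : Cl (cjg g J) (g * t * g⁻¹) where
  le := cjg_le h.le
  pc := map_conjC g h.le ▸ pComponent_equiv (conjC g t) h.pc
  tmem := mem_cjg h.tmem
  tord := by rw [← MulAut.conj_apply, MulEquiv.orderOf_eq, h.tord]
  uniq := by
    rintro _ ⟨x, hx, rfl⟩ ho
    rw [MulEquiv.coe_toMonoidHom, MulEquiv.orderOf_eq] at ho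
    rw [h.uniq x hx ho]; rfl
  ty := h.ty.equiv (QuotientGroup.congr _ _ (J.equivMapOfInjective _ (MulAut.conj g).injective)
    (Components.map_pPrimeCore_equiv _))

theorem el_conjC {t x : G} (g : G) (hx : x ∈ Cn t) :
    el (g * t * g⁻¹) (g * x * g⁻¹) = QuotientGroup.congr _ _ (conjC g t)
      (Components.map_pPrimeCore_equiv (conjC g t)) (el t x) := by
  rw [el_mk hx, el_mk (cjg_le le_rfl (mem_cjg hx))]; rfl

theorem centr_conj {J : Subgroup G} {t x : G} (g : G) (hle : J ≤ Cn t) (hx : x ∈ Cn t)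
    (h : el t x ∈ centralizer (bar t J : Set (Gam t))) :
    el (g * t * g⁻¹) (g * x * g⁻¹) ∈
      centralizer (bar (g * t * g⁻¹) (cjg g J) : Set (Gam (g * t * g⁻¹))) := by
  refine mem_centralizer_iff.mpr fun q hq => ?_
  obtain ⟨u, hu, -, rfl⟩ := exists_of_mem_bar hq
  obtain ⟨v, hv, rfl⟩ := hu
  change el _ (g * v * g⁻¹) * el _ (g * x * g⁻¹) = el _ (g * x * g⁻¹) * el _ (g * v * g⁻¹)
  rw [el_conjC g hx, el_conjC g (hle hv), ← map_mul, ← map_mul,
    mem_centralizer_iff.mp h _ (mem_bar hle hv)]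

theorem el_mem_normalizer_iff {J : Subgroup G} {t x : G} (h : Cl J t) (hx : x ∈ Cn t) :
    el t x ∈ normalizer (bar t J : Set (Gam t)) ↔ x ∈ normalizer (J : Set G) := by
  have e : cjg (el t x) (bar t J) = bar t (cjg x J) := by
    ext q
    constructor
    · rintro ⟨u, hu, rfl⟩
      obtain ⟨v, hv, hvC, rfl⟩ := exists_of_mem_bar hu
      change el t x * el t v * (el t x)⁻¹ ∈ _
      rw [← el_conj hx hvC]
      refine mem_bar ?_ (mem_cjg hv)
      rintro _ ⟨w, hw, rfl⟩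
      exact mul_mem (mul_mem hx (h.le hw)) (inv_mem hx)
    · intro hq
      obtain ⟨u, hu, huC, rfl⟩ := exists_of_mem_bar hq
      obtain ⟨v, hv, rfl⟩ := hu
      exact ⟨el t v, mem_bar h.le hv, (el_conj hx (h.le hv)).symm⟩
  constructor
  · intro hn
    refine mem_normalizer_of_cjg ?_
    have hle : cjg x J ≤ Cn t := by
      rintro _ ⟨w, hw, rfl⟩
      exact mul_mem (mul_mem hx (h.le hw)) (inv_mem hx)
    have htx : x * t * x⁻¹ = t := by rw [mem_Cn.mp hx, mul_inv_cancel_right]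
    have hpc : Cfsg.IsPComponent 2 ((cjg x J).subgroupOf (Cn t)) := by
      have := (h.conj x).pc
      rwa [htx] at this
    exact (bar_inj h hle hpc (by rw [← e, cjg_eq_of_mem hn])).symm
  · intro hn
    refine mem_normalizer_of_cjg ?_
    rw [e, cjg_eq_of_mem hn]

/-- If `s` centralizes the component of `z`, then `z` centralizes that of `s`. -/
theorem key {J K : Subgroup G} {s z : G} (hK : Cl K z) (hJ : Cl J s) (hsz : s * z = z * s)
    (hc : el z s ∈ centralizer (bar z K : Set (Gam z))) :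
    el s z ∈ centralizer (bar s J : Set (Gam s)) := by
  haveI : Fact (Nat.Prime 2) := ⟨Nat.prime_two⟩
  set W := Cn s ⊓ Cn z with hW
  obtain ⟨hgr, hgk, -⟩ := res_spec (s := z) hJ.sq hsz (inf_le_right : W ≤ Cn z) (inf_comm _ _)
  obtain ⟨hfr, -, hfl⟩ := res_spec (s := s) hK.sq hsz.symm (inf_le_left : W ≤ Cn s) rfl
  set f := res s (inf_le_left : W ≤ Cn s) with hf
  set g := res z (inf_le_right : W ≤ Cn z) with hg
  have hcm := hK.cm
  have hB : bar z K ≤ g.range := fun q hq => by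
    rw [hgr, mem_centralizer_singleton_iff]
    exact mem_centralizer_iff.mp hc q hq
  obtain ⟨H, hH, hHmap, hHmem⟩ := lift_component g hgk hB
    (Components.isComponent_subgroupOf hcm.comp hB)
    (by
      have ho : orderOf (⟨el z z, hcm.tmem⟩ : ↥(bar z K)) = 2 := by
        rw [orderOf_mk, orderOf_eq_prime (p := 2) (by rw [pow_two]; exact hcm.tsq) hcm.tne]
      have := orderOf_dvd_natCard (⟨el z z, hcm.tmem⟩ : ↥(bar z K))
      rwa [ho] at this)
  have hzW : z ∈ W := ⟨mem_Cn.mpr hsz.symm, self_mem_Cn z⟩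
  have hzH : (⟨z, hzW⟩ : ↥W) ∈ H := by
    refine hHmem _ 1 ?_ (Subtype.ext (by simpa [pow_two] using hK.sq))
    rw [hg, res_apply]; exact hcm.tmem
  have hzl : el s z ∈ Cfsg.layer (Gam s) := by
    have := hfl H hH (mem_map_of_mem f hzH)
    rwa [hf, res_apply] at this
  have hM := hJ.cm
  have hzn := Components.layer_le_normalizer hM.comp hzl
  have hzz : el s z * el s z = 1 := by
    rw [← el_mul hzW.1 hzW.1, hK.sq, el_one]
  rcases hM.dichotomy f hfr hzn hH (hfl H hH) with hle | ⟨hco, -⟩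
  · have hzM : el s z ∈ bar s J := by
      have := hle (mem_map_of_mem f hzH)
      rwa [hf, res_apply] at this
    rcases hM.uniq _ hzM hzz with e | e <;> rw [e]
    · exact one_mem _
    · exact mem_centralizer_iff.mpr fun q _ => (hM.tcen q).symm
  · have := hco _ hzH (by rw [hf, res_apply]; exact hzz)
    rwa [hf, res_apply] at this

end Centralizers

/-! ### The two conclusions -/

section Main

variable {G : Type*} [Group G] [Finite G]

theorem mem_bar_conj {J : Subgroup G} {t x : G} (g : G) (hle : J ≤ Cn t) (hx : x ∈ Cn t)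
    (h : el t x ∈ bar t J) : el (g * t * g⁻¹) (g * x * g⁻¹) ∈ bar (g * t * g⁻¹) (cjg g J) := by
  obtain ⟨u, hu, huC, he⟩ := exists_of_mem_bar h
  rw [el_conjC g hx, ← he, ← el_conjC g huC]
  exact mem_bar (cjg_le hle) (mem_cjg hu)

theorem mem_normalizer_cjg_iff {J : Subgroup G} {g x : G} :
    g * x * g⁻¹ ∈ normalizer (cjg g J : Set G) ↔ x ∈ normalizer (J : Set G) := by
  constructor
  · intro h
    refine mem_normalizer_iff.mpr fun u => ?_
    have h2 := mem_normalizer_iff.mp h (g * u * g⁻¹)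
    rw [mem_cjg_iff, mem_cjg_iff] at h2
    simpa [mul_assoc] using h2
  · intro h
    refine mem_normalizer_iff.mpr fun u => ?_
    rw [mem_cjg_iff, mem_cjg_iff]
    have h2 := mem_normalizer_iff.mp h (g⁻¹ * u * g)
    simpa [mul_assoc] using h2

theorem s_not_mem {J K : Subgroup G} {s z : G} (hJ : Cl J s) (hK : Cl K z) (hne : s ≠ z)
    (hsz : s * z = z * s) : el z s ∉ bar z K := by
  intro h
  have hs : s ∈ Cn z := mem_Cn.mpr hsz
  have hz : z ^ 2 ^ 1 = 1 := by rw [pow_one, pow_two, hK.sq]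
  have hss : s ^ 2 ^ 1 = 1 := by rw [pow_one, pow_two, hJ.sq]
  rcases hK.cm.uniq _ h (by rw [← el_mul hs hs, hJ.sq, el_one]) with e | e
  · have := el_eq_one hs hss e
    have h2 := hJ.tord
    rw [this, orderOf_one] at h2
    exact absurd h2 (by norm_num)
  · exact hne (eq_of_el hs (self_mem_Cn z) hss hz hsz e)

/-- If `s` normalizes `K`, then `z` normalizes `J`. -/
theorem normalizes {J K : Subgroup G} {s z : G} (hJ : Cl J s) (hK : Cl K z)
    (hsK : s ∈ normalizer (K : Set G)) : z ∈ normalizer (J : Set G) := by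
  haveI : Fact (Nat.Prime 2) := ⟨Nat.prime_two⟩
  by_cases hne : s = z
  · exact hne ▸ le_normalizer hJ.tmem
  have hsz : s * z = z * s := by
    have := hK.uniq _ ((mem_normalizer_iff.mp hsK z).mp hK.tmem)
      (by rw [← MulAut.conj_apply, MulEquiv.orderOf_eq, hK.tord])
    exact mul_inv_eq_iff_eq_mul.mp this
  by_contra hcon
  set W := Cn s ⊓ Cn z with hW
  obtain ⟨hfr, hfk, hfl⟩ := res_spec (s := s) hK.sq hsz.symm (inf_le_left : W ≤ Cn s) rfl
  obtain ⟨hgr, hgk, hgl⟩ := res_spec (s := z) hJ.sq hsz (inf_le_right : W ≤ Cn z) (inf_comm _ _)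
  set f := res s (inf_le_left : W ≤ Cn s) with hf
  set g := res z (inf_le_right : W ≤ Cn z) with hg
  have hzs : z ∈ Cn s := mem_Cn.mpr hsz.symm
  have hsz' : s ∈ Cn z := mem_Cn.mpr hsz
  have hM := hJ.cm
  have hM2 := hK.cm
  set M := bar s J with hMdef
  set M2 := bar z K with hM2def
  set τ := el s s with hτ
  set τ2 := el z z with hτ2
  set zb := el s z with hzb
  set σ := el z s with hσ
  have hzb2 : zb * zb = 1 := by rw [hzb, ← el_mul hzs hzs, hK.sq, el_one]
  have hσ2 : σ * σ = 1 := by rw [hσ, ← el_mul hsz' hsz', hJ.sq, el_one]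
  have hmove : cjg zb M ≠ M := fun e =>
    hcon ((el_mem_normalizer_iff hJ hzs).mp (mem_normalizer_of_cjg e))
  obtain ⟨δ, hδ, hδc, hδcomp, hδl, hδW, hδcent⟩ := hM.diag hzb2 hmove
  have hB : δ.range ≤ f.range := hfr ▸ hδc
  obtain ⟨j, hj, c, hc, hjj, hcc, hcj⟩ := hM.anti
  have hδj2 : δ ⟨j, hj⟩ * δ ⟨j, hj⟩ = 1 := by
    rw [← map_mul]
    change δ ⟨j * j, _⟩ = 1
    simp only [hjj, hδ]
    rw [← hM.tcen zb, mul_inv_cancel_right, hM.tsq]
  have hδj1 : δ ⟨j, hj⟩ ≠ 1 := fun e => by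
    rcases hδcent ⟨j, hj⟩ (by rw [e]; exact one_mem _) with e2 | e2
    · exact (hM.ne_tau hjj).1 e2
    · exact (hM.ne_tau hjj).2 e2
  have hB2 : 2 ∣ Nat.card ↥δ.range := by
    have ho : orderOf (⟨δ ⟨j, hj⟩, ⟨_, rfl⟩⟩ : ↥δ.range) = 2 := by
      rw [← orderOf_coe]
      exact orderOf_eq_prime (by rw [pow_two, hδj2]) hδj1
    have := orderOf_dvd_natCard (⟨δ ⟨j, hj⟩, ⟨_, rfl⟩⟩ : ↥δ.range)
    rwa [ho] at this
  have hBcomp : Cfsg.IsComponent (δ.range.subgroupOf f.range) := by rw [hfr]; exact hδcomp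
  obtain ⟨H, hH, hHmap, hHmem⟩ := lift_component f hfk hB hBcomp hB2
  -- an involution of `W` over `δ j`
  obtain ⟨w, hw⟩ := hB ⟨⟨j, hj⟩, rfl⟩
  obtain ⟨nn, jj, hd2, hfd⟩ := Components.exists_p_element_lift f (x := w) (k := 1)
    (by rw [pow_one, pow_two, hw, hδj2])
  set d : G := ((w ^ nn : ↥W) : G) with hd
  have hdW : d ∈ W := (w ^ nn).2
  have hdk : d ^ 2 ^ jj = 1 := by rw [hd, ← SubmonoidClass.coe_pow, hd2]; rfl
  have hfd' : el s d = δ ⟨j, hj⟩ := by rw [hd, ← res_apply s inf_le_left, ← hf, hfd, hw]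
  have hdd : d * d = 1 := by
    refine el_eq_one (mul_mem hdW.1 hdW.1) (k := jj) ?_ ?_
    · rw [(Commute.refl d).mul_pow, hdk, one_mul]
    · rw [el_mul hdW.1 hdW.1, hfd', hδj2]
  have hdH : (⟨d, hdW⟩ : ↥W) ∈ H :=
    hHmem _ jj (by rw [hf, res_apply, hfd']; exact ⟨_, rfl⟩) (Subtype.ext (by simpa using hdk))
  have hds : d * s = s * d := mem_Cn.mp hdW.1
  have hdz : d * z = z * d := mem_Cn.mp hdW.2
  have hσn : σ ∈ normalizer (M2 : Set (Gam z)) := (el_mem_normalizer_iff hK hsz').mpr hsK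
  rcases hM2.dichotomy g hgr hσn hH (hgl H hH) with hle | ⟨hco, hcom⟩
  · have hgd : el z d ∈ M2 := by
      have := hle (mem_map_of_mem g hdH)
      rwa [hg, res_apply] at this
    rcases hM2.uniq _ hgd (by rw [← el_mul hdW.2 hdW.2, hdd, el_one]) with e | e
    · have h1 := el_eq_one hdW.2 hdk e
      exact hδj1 (by rw [← hfd', h1, el_one])
    · have h1 := eq_of_el hdW.2 (self_mem_Cn z) hdk (l := 1) (by rw [pow_one, pow_two, hK.sq]) hdz e
      have h2 : zb ∈ normalizer (M : Set (Gam s)) :=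
        Components.layer_le_normalizer hM.comp (hδl (by rw [hzb, ← h1, hfd']; exact ⟨_, rfl⟩))
      exact hcon ((el_mem_normalizer_iff hJ hzs).mp h2)
  have hgd : el z d ∈ centralizer (M2 : Set (Gam z)) := by
    have := hco _ hdH (by rw [hg, res_apply, ← el_mul hdW.2 hdW.2, hdd, el_one])
    rwa [hg, res_apply] at this
  obtain ⟨k, hk, hkk, hcase⟩ := hM2.exists_pm (k := 1) (u := σ) (by rw [pow_one, pow_two, hσ2]) hσn
  rcases hcase with hfix | hinv
  · -- a fixed element of order 4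
    have hkr : k ∈ g.range := by
      rw [hgr, mem_centralizer_singleton_iff]
      exact (mul_inv_eq_iff_eq_mul.mp hfix).symm
    obtain ⟨w', hw'⟩ := hkr
    obtain ⟨n', j', hy2, hgy⟩ := Components.exists_p_element_lift g (x := w') (k := 2)
      (by rw [hw', show (2 : ℕ) ^ 2 = 2 + 2 from rfl, pow_add, pow_two, hkk, hM2.tsq])
    set y : G := ((w' ^ n' : ↥W) : G) with hy
    have hyW : y ∈ W := (w' ^ n').2
    have hyk : y ^ 2 ^ j' = 1 := by rw [hy, ← SubmonoidClass.coe_pow, hy2]; rfl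
    have hgy' : el z y = k := by rw [hy, ← res_apply z inf_le_right, ← hg, hgy, hw']
    have hyy : y * y = z := by
      refine eq_of_el (mul_mem hyW.2 hyW.2) (self_mem_Cn z) (k := j') (l := 1)
        (by rw [(Commute.refl y).mul_pow, hyk, one_mul]) (by rw [pow_one, pow_two, hK.sq]) ?_ ?_
      · exact mem_Cn.mp (mul_mem hyW.2 hyW.2)
      · rw [el_mul hyW.2 hyW.2, hgy', hkk]
    have hcentB : el s y ∈ centralizer (δ.range : Set (Gam s)) := by
      have := centralizes_image f hB hBcomp hB2 hHmap (y := ⟨y, hyW⟩)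
        (fun x hx => hcom _ (by rw [hg, res_apply, hgy']; exact hk) x hx)
      rwa [hf, res_apply] at this
    set yb := el s y with hyb
    have hyzb : yb * yb = zb := by rw [hyb, ← el_mul hyW.1 hyW.1, hyy]
    set N := cjg yb M with hN
    by_cases hN1 : N = M
    · refine hmove ?_
      rw [← hyzb, cjg, ← Components.conj_map_comp]
      change cjg yb (cjg yb M) = M
      rw [← hN, hN1, ← hN, hN1]
    by_cases hN2 : N = cjg zb M
    · refine hmove ?_
      have comm : cjg yb (cjg zb M) = cjg zb (cjg yb M) := by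
        simp only [cjg, Components.conj_map_comp]
        congr 3
        rw [← hyzb]; group
      calc cjg zb M = cjg yb (cjg yb M) := by rw [cjg, cjg, cjg, Components.conj_map_comp, hyzb]
        _ = cjg yb (cjg zb M) := by rw [← hN, hN2]
        _ = cjg zb (cjg zb M) := by rw [comm, ← hN, hN2]
        _ = M := by rw [cjg, cjg, Components.conj_map_comp, hzb2, Components.conj_map_one]
    · have hM' := hM.map_conj zb
      have hNc := hM.map_conj yb
      set N' := cjg yb (cjg zb M) with hN'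
      have hN'eq : N' = cjg zb N := by
        simp only [hN', hN, cjg, Components.conj_map_comp]
        congr 2
        rw [← hyzb]; group
      have hN'1 : N' ≠ M := fun e => hN2 (by
        rw [hN'eq] at e
        have := congrArg (cjg zb) e
        rwa [cjg, cjg, Components.conj_map_comp, hzb2, Components.conj_map_one] at this)
      have hN'2 : N' ≠ cjg zb M := fun e => hN1 (by
        rw [hN'eq] at e
        exact map_injective (MulAut.conj zb).injective e)
      have hcomm : ∀ a ∈ M ⊔ cjg zb M, ∀ b ∈ N ⊔ N', Commute a b := by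
        intro a ha b hb
        have h1 : M ⊔ cjg zb M ≤ centralizer (((N ⊔ N' : Subgroup (Gam s))) : Set (Gam s)) := by
          refine sup_le (le_centralizer_iff.mp (sup_le ?_ ?_)) (le_centralizer_iff.mp (sup_le ?_ ?_)) <;>
            intro u hu <;> refine mem_centralizer_iff.mpr fun v hv => ?_
          · exact (hM.commute_other hNc.comp (Ne.symm hN1) hv hu).eq
          · exact (hM.commute_other (hM'.map_conj yb).comp (Ne.symm hN'1) hv hu).eq
          · exact (hM'.commute_other hNc.comp (Ne.symm hN2) hv hu).eq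
          · exact (hM'.commute_other (hM'.map_conj yb).comp (Ne.symm hN'2) hv hu).eq
        exact (mem_centralizer_iff.mp (h1 ha) b hb).symm
      have hle : δ.range ≤ N ⊔ N' := by
        intro b hb
        have h1 : yb * b * yb⁻¹ = b := by
          rw [← mem_centralizer_iff.mp hcentB b hb, mul_inv_cancel_right]
        have h2 : yb * b * yb⁻¹ ∈ cjg yb (M ⊔ cjg zb M) := mem_cjg (hδW hb)
        rw [h1] at h2
        simpa [cjg, hN, hN', Subgroup.map_sup] using h2
      rcases hδcent ⟨j, hj⟩ (mem_centralizer_iff.mpr fun q hq =>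
        (hcomm _ (hδW ⟨_, rfl⟩) q (hle hq)).eq.symm) with e2 | e2
      · exact (hM.ne_tau hjj).1 e2
      · exact (hM.ne_tau hjj).2 e2
  · -- an inverted element of order 4
    obtain ⟨k1, hk1C, -, hk1⟩ := exists_lift2 (q := k) (k := 2)
      (by rw [show (2 : ℕ) ^ 2 = 2 + 2 from rfl, pow_add, pow_two, hkk, hM2.tsq])
    have hsq' : k * σ * k⁻¹ = τ2 * σ := by
      have e : σ * k⁻¹ * σ⁻¹ = k := by
        calc σ * k⁻¹ * σ⁻¹ = (σ * k * σ⁻¹)⁻¹ := by group
          _ = k := by rw [hinv, inv_inv]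
      calc k * σ * k⁻¹ = k * (σ * k⁻¹ * σ⁻¹) * σ := by group
        _ = τ2 * σ := by rw [e, hkk]
    obtain ⟨m, hmC, hm1, hme, -⟩ := conj_adjust (t := z) (x := k1 * s * k1⁻¹) (y := s * z)
      (mul_mem (mul_mem hk1C hsz') (inv_mem hk1C)) (mul_mem hsz' (self_mem_Cn z))
      (by rw [show k1 * s * k1⁻¹ * (k1 * s * k1⁻¹) = k1 * (s * s) * k1⁻¹ by group, hJ.sq]; group)
      (by rw [show s * z * (s * z) = s * (z * s) * z by group, ← hsz,
            show s * (s * z) * z = s * s * (z * z) by group, hJ.sq, hK.sq, one_mul])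
      (by rw [el_conj hk1C hsz', hk1, ← hσ, hsq', el_mul hsz' (self_mem_Cn z), hM2.tcen])
    set k0 := m * k1 with hk0
    have hk0C : k0 ∈ Cn z := mul_mem hmC hk1C
    have hk0el : el z k0 = k := by rw [hk0, el_mul hmC hk1C, hm1, one_mul, hk1]
    have hk0s : k0 * s * k0⁻¹ = s * z := by rw [← hme, hk0]; group
    have hk0z : k0 * z = z * k0 := mem_Cn.mp hk0C
    have hk0s' : k0⁻¹ * s * k0 = s * z := by
      calc k0⁻¹ * s * k0 = k0⁻¹ * (s * (z * z)) * k0 := by rw [hK.sq, mul_one]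
        _ = k0⁻¹ * (k0 * s * k0⁻¹) * (z * k0) := by rw [hk0s]; group
        _ = s * z := by rw [← hk0z]; group
    -- adjusting a lift of `j`
    obtain ⟨j1, hj1C, -, hj1⟩ := exists_lift2 (q := j) (k := 2)
      (by rw [show (2 : ℕ) ^ 2 = 2 + 2 from rfl, pow_add, pow_two, hjj, hM.tsq])
    set t0 := s * d * z with ht0
    have ht0C : t0 ∈ Cn s := mul_mem (mul_mem (self_mem_Cn s) hdW.1) hzs
    have ht0sq : t0 * t0 = 1 := by
      have c1 : Commute s d := hds.symm
      have c2 : Commute (s * d) z := (show Commute s z from hsz).mul_left hdz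
      rw [ht0, ← pow_two, c2.mul_pow, c1.mul_pow, pow_two, pow_two, pow_two, hJ.sq, hdd, hK.sq,
        one_mul, one_mul]
    have helt0 : el s t0 = τ * (j * zb * j) := by
      rw [ht0, el_mul (mul_mem (self_mem_Cn s) hdW.1) hzs, el_mul (self_mem_Cn s) hdW.1, hfd', hδ,
        ← hτ, ← hzb]
      group
    have hji : j⁻¹ = j * τ := hM.inv_eq hjj
    have e1 : j * zb * j⁻¹ = τ * (j * zb * j) := by
      rw [hji, hM.tcen (j * zb * j)]; group
    have e2 : j⁻¹ * zb * j = τ * (j * zb * j) := by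
      rw [hji, ← hM.tcen j]; group
    obtain ⟨m', hm'C, hm'1, hm'e, -⟩ := conj_adjust (t := s) (x := j1 * z * j1⁻¹) (y := t0)
      (mul_mem (mul_mem hj1C hzs) (inv_mem hj1C)) ht0C
      (by rw [show j1 * z * j1⁻¹ * (j1 * z * j1⁻¹) = j1 * (z * z) * j1⁻¹ by group, hK.sq]; group)
      ht0sq
      (by rw [el_conj hj1C hzs, hj1, ← hzb, e1, helt0])
    set j0 := m' * j1 with hj0
    have hj0C : j0 ∈ Cn s := mul_mem hm'C hj1C
    have hj0el : el s j0 = j := by rw [hj0, el_mul hm'C hj1C, hm'1, one_mul, hj1]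
    have hj0z : j0 * z * j0⁻¹ = t0 := by rw [← hm'e, hj0]; group
    set e := j0⁻¹ * z * j0 with he
    have heC : e ∈ Cn s := mul_mem (mul_mem (inv_mem hj0C) hzs) hj0C
    have hez : e * z = z * e := by
      have htz : t0 * z = z * t0 := by
        rw [ht0]
        calc s * d * z * z = s * (d * z) * z := by group
          _ = s * (z * d) * z := by rw [hdz]
          _ = (s * z) * d * z := by group
          _ = z * (s * d * z) := by rw [hsz]; group
      calc e * z = j0⁻¹ * (z * (j0 * z * j0⁻¹)) * j0 := by rw [he]; group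
        _ = j0⁻¹ * (j0 * z * j0⁻¹ * z) * j0 := by rw [hj0z, htz]
        _ = z * e := by rw [he]; group
    have heZ : e ∈ Cn z := mem_Cn.mpr hez
    have hee : e * e = 1 := by
      rw [he, show j0⁻¹ * z * j0 * (j0⁻¹ * z * j0) = j0⁻¹ * (z * z) * j0 by group, hK.sq]; group
    set d2 := s * e * z with hd2def
    have hd2W : d2 ∈ W := ⟨mul_mem (mul_mem (self_mem_Cn s) heC) hzs,
      mul_mem (mul_mem hsz' heZ) (self_mem_Cn z)⟩
    have hd2el : el s d2 = δ ⟨j, hj⟩ := by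
      rw [hd2def, el_mul (mul_mem (self_mem_Cn s) heC) hzs, el_mul (self_mem_Cn s) heC, he,
        el_mul (mul_mem (inv_mem hj0C) hzs) hj0C, el_mul (inv_mem hj0C) hzs, el_inv hj0C, hj0el,
        ← hτ, ← hzb, e2, hδ]
      calc τ * (τ * (j * zb * j)) * zb = (τ * τ) * (j * zb * j) * zb := by group
        _ = j * (zb * j * zb⁻¹) := by
          rw [hM.tsq, inv_eq_of_mul_eq_one_right hzb2]; group
    have hd2sq : d2 * d2 = 1 := by
      have c1 : Commute s e := (mem_Cn.mp heC).symm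
      have c2 : Commute (s * e) z := (show Commute s z from hsz).mul_left hez
      rw [hd2def, ← pow_two, c2.mul_pow, c1.mul_pow, pow_two, pow_two, pow_two, hJ.sq, hee, hK.sq,
        one_mul, one_mul]
    have hd2H : (⟨d2, hd2W⟩ : ↥W) ∈ H :=
      hHmem _ 1 (by rw [hf, res_apply, hd2el]; exact ⟨_, rfl⟩)
        (Subtype.ext (by simpa [pow_two] using hd2sq))
    have hgd2 : el z d2 ∈ centralizer (M2 : Set (Gam z)) := by
      have := hco _ hd2H (by rw [hg, res_apply, ← el_mul hd2W.2 hd2W.2, hd2sq, el_one])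
      rwa [hg, res_apply] at this
    set gg := k0 * j0 with hgg
    have hs' : gg⁻¹ * s * gg = d2 * z := by
      calc gg⁻¹ * s * gg = j0⁻¹ * (k0⁻¹ * s * k0) * j0 := by rw [hgg]; group
        _ = j0⁻¹ * s * j0 * e := by rw [hk0s', he]; group
        _ = s * e := by
          rw [mul_assoc j0⁻¹ s j0, ← mem_Cn.mp hj0C, inv_mul_cancel_left]
        _ = d2 * z := by rw [hd2def, mul_assoc (s * e), hK.sq, mul_one]
    have hJc : Cl (cjg gg⁻¹ J) (d2 * z) := by
      have := hJ.conj gg⁻¹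
      rwa [inv_inv, hs'] at this
    have hcz : d2 * z * z = z * (d2 * z) := by rw [← mul_assoc z, ← mem_Cn.mp hd2W.2]
    have hc' : el z (d2 * z) ∈ centralizer (M2 : Set (Gam z)) := by
      rw [el_mul hd2W.2 (self_mem_Cn z)]
      exact mul_mem hgd2 (mem_centralizer_iff.mpr fun q _ => (hM2.tcen q).symm)
    have h5 := centr_conj gg hJc.le (mem_Cn.mpr hcz.symm) (key hK hJc hcz hc')
    have e3 : gg * (d2 * z) * gg⁻¹ = s := by rw [← hs']; group
    have e4 : cjg gg (cjg gg⁻¹ J) = J := by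
      rw [cjg, cjg, Components.conj_map_comp, mul_inv_cancel, Components.conj_map_one]
    rw [e3, e4] at h5
    set d1 := k0 * d * k0⁻¹ with hd1
    have hd1C : d1 ∈ Cn z := mul_mem (mul_mem hk0C hdW.2) (inv_mem hk0C)
    have hd1sz : d1 * (s * z) = s * z * d1 := by
      rw [← hk0s, hd1]
      calc k0 * d * k0⁻¹ * (k0 * s * k0⁻¹) = k0 * (d * s) * k0⁻¹ := by group
        _ = k0 * (s * d) * k0⁻¹ := by rw [hds]
        _ = _ := by group
    have hd1s : d1 * s = s * d1 := by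
      calc d1 * s = d1 * (s * z) * z := by rw [mul_assoc d1, mul_assoc s, hK.sq, mul_one]
        _ = s * (z * (d1 * z)) := by rw [hd1sz]; group
        _ = s * d1 := by rw [mem_Cn.mp hd1C, ← mul_assoc z z, hK.sq, one_mul]
    have hd1W : d1 ∈ W := ⟨mem_Cn.mpr hd1s, hd1C⟩
    have hv : gg * z * gg⁻¹ = s * d1 := by
      calc gg * z * gg⁻¹ = k0 * (j0 * z * j0⁻¹) * k0⁻¹ := by rw [hgg]; group
        _ = k0 * s * k0⁻¹ * d1 * (k0 * z * k0⁻¹) := by rw [hj0z, ht0, hd1]; group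
        _ = s * z * d1 * z := by rw [hk0s, hk0z, mul_inv_cancel_right]
        _ = s * (z * (d1 * z)) := by group
        _ = s * d1 := by rw [mem_Cn.mp hd1C, ← mul_assoc z z, hK.sq, one_mul]
    rw [hv, el_mul (self_mem_Cn s) hd1W.1] at h5
    have hd1sq : d1 * d1 = 1 := by
      rw [hd1, show k0 * d * k0⁻¹ * (k0 * d * k0⁻¹) = k0 * (d * d) * k0⁻¹ by group, hdd]; group
    obtain ⟨m2, -, hm21, hm2e, hm2u⟩ := conj_adjust hdW.2 hd1C hdd hd1sq (by
      rw [hd1, el_conj hk0C hdW.2, hk0el, mem_centralizer_iff.mp hgd k hk, mul_inv_cancel_right])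
    have hm2W : m2 ∈ W := (zpowers_le.mpr (mul_mem hdW hd1W)) hm2u
    have hm2O : (⟨m2, hm2W⟩ : ↥W) ∈ Cfsg.pPrimeCore 2 ↥W := by
      refine hgk ?_
      rw [MonoidHom.mem_ker, hg, res_apply]; exact hm21
    have hm2B : el s m2 ∈ centralizer (δ.range : Set (Gam s)) := by
      have := centralizes_image f hB hBcomp hB2 hHmap (y := ⟨m2, hm2W⟩)
        (fun x hx => by
          rw [commutatorElement_def, mul_assoc, mul_assoc, ← mul_assoc x]
          exact mul_mem hm2O ((inferInstance : (Cfsg.pPrimeCore 2 ↥W).Normal).conj_mem _ (inv_mem hm2O) x))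
      rwa [hf, res_apply] at this
    have hfd1 : el s d1 = δ ⟨j, hj⟩ := by
      rw [← hm2e, el_conj hm2W.1 hdW.1, hfd', ← mem_centralizer_iff.mp hm2B _ ⟨_, rfl⟩,
        mul_inv_cancel_right]
    have hδM : δ ⟨j, hj⟩ ∈ centralizer (M : Set (Gam s)) := by
      rw [← hfd1]
      have h6 : τ ∈ centralizer (M : Set (Gam s)) :=
        mem_centralizer_iff.mpr fun q _ => (hM.tcen q).symm
      have := mul_mem (inv_mem h6) h5
      rwa [inv_mul_cancel_left] at this
    rcases hδcent ⟨j, hj⟩ (mem_centralizer_iff.mpr fun q hq => by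
      obtain ⟨u, rfl⟩ := hq
      have hdz' : Commute (δ ⟨j, hj⟩) zb :=
        mem_centralizer_singleton_iff.mp (hδc ⟨_, rfl⟩)
      have hu : Commute (δ ⟨j, hj⟩) u := (mem_centralizer_iff.mp hδM _ u.2).symm
      rw [hδ u]
      exact (hu.mul_right ((hdz'.mul_right hu).mul_right hdz'.inv_right)).eq.symm) with e5 | e5
    · exact (hM.ne_tau hjj).1 e5
    · exact (hM.ne_tau hjj).2 e5

end Main

/-! ### Swapping elements -/

section Swap

variable {G : Type*} [Group G] [Finite G]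

/-- Two commuting involutions with components, each moving neither component. -/
structure Hyp (J K : Subgroup G) (s z : G) : Prop where
  cJ : Cl J s
  cK : Cl K z
  ne : s ≠ z
  comm : s * z = z * s
  sK : s ∈ normalizer (K : Set G)
  zJ : z ∈ normalizer (J : Set G)
  ncJ : el s z ∉ centralizer (bar s J : Set (Gam s))
  ncK : el z s ∉ centralizer (bar z K : Set (Gam z))

theorem Hyp.symm {J K : Subgroup G} {s z : G} (h : Hyp J K s z) : Hyp K J z s :=
  ⟨h.cK, h.cJ, h.ne.symm, h.comm.symm, h.zJ, h.sK, h.ncK, h.ncJ⟩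

/-- An element of `K` moving `J`. -/
structure Mover (J K : Subgroup G) (s z y : G) (k : ℕ) : Prop where
  ys : y ∈ Cn s
  yz : y ∈ Cn z
  ybar : el z y ∈ bar z K
  pw : y ^ 2 ^ (k + 1) = z
  nJ : y ∉ normalizer (J : Set G)
  sqJ : y * y ∈ normalizer (J : Set G)

variable {J K : Subgroup G} {s z y : G} {k : ℕ}

theorem Mover.two_pow (h : Mover J K s z y k) (hK : Cl K z) : y ^ 2 ^ (k + 1 + 1) = 1 := by
  rw [pow_succ 2 (k + 1), pow_mul, h.pw, pow_two, hK.sq]

theorem cjg_cjg (a b : G) (H : Subgroup G) : cjg a (cjg b H) = cjg (a * b) H :=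
  Components.conj_map_comp H a b

/-- A 2-subgroup containing `y` over a given one. -/
theorem Mover.exists_group (h : Mover J K s z y k) (hJ : Cl J s) (hK : Cl K z) {S : Subgroup (Gam s)}
    (hSM : S ≤ bar s J) (hS : IsPGroup 2 ↥S) (hτ : el s s ∈ S)
    (hn : el s y * el s y ∈ normalizer (S : Set (Gam s))) :
    ∃ T : Subgroup G, T ≤ Cn s ∧ IsPGroup 2 ↥T ∧ y ∈ T ∧ s ∈ T ∧ z ∈ T ∧
      (∀ q ∈ S, ∃ x ∈ T, el s x = q) ∧ ∀ a ∈ T, ∀ b ∈ T, el s a = el s b → a = b := by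
  haveI : Fact (Nat.Prime 2) := ⟨Nat.prime_two⟩
  set yb := el s y with hyb
  have hM := hJ.cm
  have hne : bar s J ≠ cjg yb (bar s J) := fun e =>
    h.nJ ((el_mem_normalizer_iff hJ h.ys).mp (mem_normalizer_of_cjg e.symm))
  have hcom : S ≤ centralizer ((cjg yb S : Subgroup (Gam s)) : Set (Gam s)) := fun a ha =>
    mem_centralizer_iff.mpr fun b hb =>
      (hM.commute_other (hM.map_conj yb).comp hne (hSM ha)
        (Subgroup.map_mono hSM hb)).eq.symm
  have hSS : IsPGroup 2 ↥(S ⊔ cjg yb S) :=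
    IsPGroup.to_sup_of_normal_left' hS (hS.map _)
      ((le_centralizer_iff.mp hcom).trans (centralizer_le_normalizer _))
  have hyp : yb ^ 2 ^ (k + 1 + 1) = 1 := by
    rw [hyb, ← el_pow h.ys, h.two_pow hK, el_one]
  have hyn : zpowers yb ≤ normalizer ((S ⊔ cjg yb S : Subgroup (Gam s)) : Set (Gam s)) := by
    refine zpowers_le.mpr (Components.mem_normalizer_of_conj_le ?_)
    rw [Subgroup.map_sup]
    refine sup_le le_sup_right ?_
    change cjg yb (cjg yb S) ≤ _
    rw [cjg, cjg, Components.conj_map_comp, Components.map_conj_eq_of_mem_normalizer hn]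
    exact le_sup_left
  obtain ⟨T, hTC, hT, hyT, hsurj, -, hinj⟩ := lift_group (P := S ⊔ cjg yb S ⊔ zpowers yb)
    (IsPGroup.to_sup_of_normal_left' hSS (isPGroup_zpowers hyp) hyn) h.ys (h.two_pow hK)
    (mem_sup_right (mem_zpowers yb))
  refine ⟨T, hTC, hT, hyT, ?_, h.pw ▸ pow_mem hyT _,
    fun q hq => hsurj q (mem_sup_left (mem_sup_left hq)), fun a ha b hb e => ?_⟩
  · obtain ⟨t, ht, hte⟩ := hsurj (el s s) (mem_sup_left (mem_sup_left hτ))
    obtain ⟨i, hi⟩ := exists_pow_two_pow hT ht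
    have := eq_of_el (hTC ht) (self_mem_Cn s) hi (l := 1) (by rw [pow_one, pow_two, hJ.sq])
      (mem_Cn.mp (hTC ht)) hte
    exact this ▸ ht
  · refine mul_inv_eq_one.mp (hinj _ (T.mul_mem ha (T.inv_mem hb)) ?_)
    rw [el_mul (hTC ha) (inv_mem (hTC hb)), el_inv (hTC hb), e, mul_inv_cancel]

theorem exists_pow_involution {H : Type*} [Group H] {x : H} (hx : x ≠ 1) {k : ℕ} (hk : x ^ 2 ^ k = 1) :
    ∃ N : ℕ, x ^ N ≠ 1 ∧ x ^ N * x ^ N = 1 := by
  induction k with
  | zero => exact absurd (by simpa using hk) hx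
  | succ k ih =>
    by_cases h : x ^ 2 ^ k = 1
    · exact ih h
    · exact ⟨2 ^ k, h, by rw [← pow_add, ← two_mul, ← pow_succ']; exact hk⟩

/-- The commutator of a swapping element with `y` has order exactly `2 ^ (k + 1)`. -/
theorem Mover.commutator_order (h : Mover J K s z y k) (hK : Cl K z) {x : G} (hx : x ∈ Cn z)
    {p : Gam z} (hp : p = el z x * el z y * (el z x)⁻¹ * (el z y)⁻¹)
    (hmove : cjg (el z x) (bar z K) ≠ bar z K) :
    p ^ 2 ^ k ≠ 1 ∧ p ^ 2 ^ (k + 1) = 1 ∧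
      (el z x * el z y * (el z x)⁻¹) ^ 2 ^ k * (el z y ^ 2 ^ k)⁻¹ = p ^ 2 ^ k := by
  have hM := hK.cm
  set Y := el z x * el z y * (el z x)⁻¹ with hY
  have hYm : Y ∈ cjg (el z x) (bar z K) := mem_cjg h.ybar
  have hc : Commute Y (el z y)⁻¹ :=
    ((hM.commute_other (hM.map_conj _).comp (Ne.symm hmove) h.ybar hYm).symm).inv_right
  have hy2 : el z y ^ 2 ^ (k + 1) = el z z := by rw [← el_pow h.yz, h.pw]
  have hY2 : Y ^ 2 ^ (k + 1) = el z z := by
    rw [hY, conj_pow, hy2, ← hM.tcen, mul_inv_cancel_right]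
  have e : ∀ n : ℕ, p ^ n = Y ^ n * (el z y ^ n)⁻¹ := fun n => by
    rw [hp, hc.mul_pow, inv_pow]
  refine ⟨fun h1 => ?_, ?_, (e _).symm⟩
  · rw [e, mul_inv_eq_one] at h1
    have hsq : el z y ^ 2 ^ k * el z y ^ 2 ^ k = el z z := by
      rw [← pow_add, ← two_mul, ← pow_succ', hy2]
    rcases hM.inf_other (hM.map_conj _).comp (Ne.symm hmove) (pow_mem h.ybar _) (h1 ▸ pow_mem hYm _)
      with e2 | e2
    · exact (hM.ne_tau hsq).1 e2
    · exact (hM.ne_tau hsq).2 e2
  · rw [e, hY2, hy2, mul_inv_cancel]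

theorem el_mem_Cn_of_comm {s z n : G} (h : n * z = z * n) : n ∈ Cn z := mem_Cn.mpr h

/-- The final contradiction: `z` induces an inner element of order 4 on the pair. -/
theorem Mover.final (h : Mover J K s z y k) (hy : Hyp J K s z) {x : Gam s} (hx : x ∈ bar s J)
    (hxx : x * x = el s s) (hxy : Commute (el s y * el s y) x)
    (hz : el s z = x * (el s y * x * (el s y)⁻¹) ∨
      el s z = x * (el s y * x * (el s y)⁻¹) * el s s) : False := by
  haveI : Fact (Nat.Prime 2) := ⟨Nat.prime_two⟩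
  have hJ := hy.cJ
  have hK := hy.cK
  have hM := hJ.cm
  have hM2 := hK.cm
  set M := bar s J with hMdef
  set τ := el s s with hτ
  set yb := el s y with hyb
  set x' := yb * x * yb⁻¹ with hx'
  set zb := el s z with hzb
  have hzs : z ∈ Cn s := mem_Cn.mpr hy.comm.symm
  have hsz : s ∈ Cn z := mem_Cn.mpr hy.comm
  have hne : M ≠ cjg yb M := fun e =>
    h.nJ ((el_mem_normalizer_iff hJ h.ys).mp (mem_normalizer_of_cjg e.symm))
  have hy2n : yb * yb ∈ normalizer (M : Set (Gam s)) := by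
    rw [hyb, ← el_mul h.ys h.ys]
    exact (el_mem_normalizer_iff hJ (mul_mem h.ys h.ys)).mpr h.sqJ
  have hcom : ∀ a ∈ M, ∀ b ∈ M, Commute a (yb * b * yb⁻¹) := fun a ha b hb =>
    hM.commute_other (hM.map_conj yb).comp hne ha (mem_cjg hb)
  have hzy : zb * yb = yb * zb := by
    rw [hzb, hyb, ← el_mul hzs h.ys, ← el_mul h.ys hzs, mem_Cn.mp h.yz]
  -- the 2-groups
  have hx4 : x ^ 2 ^ 2 = 1 := by
    rw [show (2 : ℕ) ^ 2 = 2 + 2 from rfl, pow_add, pow_two, hxx, hM.tsq]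
  have hyy4 : (yb * yb) ^ 2 ^ (k + 1) = 1 := by
    rw [← pow_two, ← pow_mul, ← pow_succ', hyb, ← el_pow h.ys, h.two_pow hK, el_one]
  have hR : IsPGroup 2 ↥(zpowers x ⊔ zpowers (yb * yb)) :=
    IsPGroup.to_sup_of_normal_left' (isPGroup_zpowers hx4) (isPGroup_zpowers hyy4)
      (zpowers_le.mpr (centralizer_le_normalizer _ (mem_centralizer_iff.mpr fun u hu => by
        obtain ⟨i, rfl⟩ := mem_zpowers_iff.mp hu
        exact (hxy.zpow_right i).eq.symm)))
  obtain ⟨S, hSM, hS, hnS, hRS, hmax⟩ := exists_invariant_sylow hR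
    (sup_le (zpowers_le.mpr (le_normalizer hx)) (zpowers_le.mpr hy2n))
  have hxS : x ∈ S := hRS ⟨mem_sup_left (mem_zpowers x), hx⟩
  obtain ⟨c, hcS, hcc, hcx, hxc⟩ := hM.exists_inverter hSM hS hmax hxS hxx
  have hc := hSM hcS
  obtain ⟨T, hTC, hT, hyT, hsT, hzT, hsurj, hinj⟩ := h.exists_group hJ hK hSM hS
    (by rw [← hτ, ← hxx]; exact mul_mem hxS hxS) (hnS (mem_sup_right (mem_zpowers _)))
  obtain ⟨c0, hc0T, hc0⟩ := hsurj c hcS
  set c' := yb * c * yb⁻¹ with hc'
  have hc1' : el s (y * c0 * y⁻¹) = c' := by rw [el_conj h.ys (hTC hc0T), hc0]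
  obtain ⟨u, huT, huu, huc, hz'⟩ : ∃ u ∈ T, u * u = 1 ∧ (∀ v ∈ Cn s, u * v = v * u) ∧
      zb = x * x' * el s u := by
    rcases hz with e | e
    · exact ⟨1, one_mem T, one_mul 1, fun v _ => by simp, by rw [el_one, mul_one]; exact e⟩
    · exact ⟨s, hsT, hJ.sq, fun v hv => (mem_Cn.mp hv).symm, e⟩
  set ub := el s u with hub
  have hub2 : ub * ub = 1 := by rw [hub, ← el_mul (hTC huT) (hTC huT), huu, el_one]
  have hubc : ∀ v ∈ Cn s, Commute ub (el s v) := fun v hv => by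
    change _ * _ = _ * _
    rw [hub, ← el_mul (hTC huT) hv, ← el_mul hv (hTC huT), huc v hv]
  have hubc' : ∀ q : Gam s, Commute ub q := fun q => by
    obtain ⟨v, rfl⟩ := QuotientGroup.mk'_surjective _ q
    rw [← el_mk v.2]
    exact hubc v v.2
  set n := c0 * (y * c0 * y⁻¹) * u with hn
  have hnT : n ∈ T := T.mul_mem (T.mul_mem hc0T (T.mul_mem (T.mul_mem hyT hc0T) (T.inv_mem hyT))) huT
  have hnel : el s n = c * c' * ub := by
    rw [hn, el_mul (mul_mem (hTC hc0T) (mul_mem (mul_mem h.ys (hTC hc0T)) (inv_mem h.ys))) (hTC huT),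
      el_mul (hTC hc0T) (mul_mem (mul_mem h.ys (hTC hc0T)) (inv_mem h.ys)), hc0, hc1']
  have hcc' : c' * c' = τ := by
    rw [hc', show yb * c * yb⁻¹ * (yb * c * yb⁻¹) = yb * (c * c) * yb⁻¹ by group, hcc, ← hM.tcen,
      mul_inv_cancel_right]
  have hnb2 : c * c' * ub * (c * c' * ub) = 1 := by
    rw [← pow_two, ((hubc' (c * c')).symm).mul_pow, (hcom c hc c hc).mul_pow, pow_two, pow_two,
      pow_two, hcc, hcc', hub2, mul_one, hM.tsq]
  have hzc : zb * c * zb⁻¹ = c⁻¹ := by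
    have hcm : Commute c x' := hcom c hc x hx
    calc zb * c * zb⁻¹ = x * (x' * (ub * c * ub⁻¹) * x'⁻¹) * x⁻¹ := by rw [hz']; group
      _ = x * c * x⁻¹ := by
        rw [(hubc' c).eq, mul_inv_cancel_right, ← hcm.eq, mul_inv_cancel_right]
      _ = c⁻¹ := hxc
  have hzc' : zb * c' * zb⁻¹ = c'⁻¹ := by
    calc zb * c' * zb⁻¹ = (zb * yb) * c * (zb * yb)⁻¹ := by rw [hc']; group
      _ = yb * (zb * c * zb⁻¹) * yb⁻¹ := by rw [hzy]; group
      _ = c'⁻¹ := by rw [hzc, hc']; group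
  have hnz : n * z = z * n := by
    refine hinj _ (T.mul_mem hnT hzT) _ (T.mul_mem hzT hnT) ?_
    rw [el_mul (hTC hnT) hzs, el_mul hzs (hTC hnT), hnel, ← hzb]
    refine (mul_inv_eq_iff_eq_mul.mp ?_).symm
    calc zb * (c * c' * ub) * zb⁻¹ = (zb * c * zb⁻¹) * (zb * c' * zb⁻¹) * (zb * ub * zb⁻¹) := by group
      _ = c⁻¹ * c'⁻¹ * ub := by rw [hzc, hzc', ← (hubc' zb).eq, mul_inv_cancel_right]
      _ = c * τ * (c' * τ) * ub := by rw [hM.inv_eq hcc, hM.inv_eq hcc']
      _ = c * (τ * c') * τ * ub := by group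
      _ = c * c' * (τ * τ) * ub := by rw [hM.tcen c']; group
      _ = c * c' * ub := by rw [hM.tsq, mul_one]
  have hnn : n * n = 1 := by
    refine hinj _ (T.mul_mem hnT hnT) _ (one_mem T) ?_
    rw [el_mul (hTC hnT) (hTC hnT), hnel, hnb2, el_one]
  have hnC : n ∈ Cn z := mem_Cn.mpr hnz
  -- the commutator
  set fE := n * y * n⁻¹ * y⁻¹ with hfE
  have hfET : fE ∈ T := T.mul_mem (T.mul_mem (T.mul_mem hnT hyT) (T.inv_mem hnT)) (T.inv_mem hyT)
  have hfEz : fE ∈ Cn z := mul_mem (mul_mem (mul_mem hnC h.yz) (inv_mem hnC)) (inv_mem h.yz)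
  set c1 := yb * yb * c * (yb * yb)⁻¹ with hc1
  have hc1S : c1 ∈ S := (mem_normalizer_iff.mp (hnS (mem_sup_right (mem_zpowers _))) c).mp hcS
  have hfEel : el s fE = c * τ * c1 := by
    have hn' : n⁻¹ = n := inv_eq_of_mul_eq_one_right hnn
    rw [hfE, hn', el_mul (mul_mem (mul_mem (hTC hnT) h.ys) (hTC hnT)) (inv_mem h.ys),
      el_mul (mul_mem (hTC hnT) h.ys) (hTC hnT), el_mul (hTC hnT) h.ys, el_inv h.ys, hnel, ← hyb]
    calc c * c' * ub * yb * (c * c' * ub) * yb⁻¹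
        = c * c' * ub * ((yb * c * yb⁻¹) * (yb * c' * yb⁻¹) * (yb * ub * yb⁻¹)) := by group
      _ = c * c' * ub * (c' * c1 * ub) := by
        rw [← hc', show yb * c' * yb⁻¹ = c1 by rw [hc', hc1]; group, ← (hubc' yb).eq,
          mul_inv_cancel_right]
      _ = c * c' * (ub * (c' * c1)) * ub := by group
      _ = c * (c' * c') * c1 * (ub * ub) := by rw [(hubc' (c' * c1)).eq]; group
      _ = c * τ * c1 := by rw [hcc', hub2, mul_one]
  by_cases hfix : n ∈ normalizer (K : Set G)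
  · have hfK : el z fE ∈ bar z K := by
      rw [hfE, el_mul (mul_mem (mul_mem hnC h.yz) (inv_mem hnC)) (inv_mem h.yz), el_conj hnC h.yz,
        el_inv h.yz]
      exact mul_mem (hM2.conj_mem ((el_mem_normalizer_iff hK hnC).mpr hfix) h.ybar)
        (inv_mem h.ybar)
    by_cases hf1 : fE = 1
    · rw [hf1, el_one] at hfEel
      have e : c1 = c := by
        rw [← hM.inv_eq hcc] at hfEel
        exact (inv_mul_eq_one.mp hfEel.symm).symm
      have h2 : Commute (yb * yb) c := mul_inv_eq_iff_eq_mul.mp e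
      have h3 : Commute zb c := by
        rw [hzb, ← h.pw, el_pow h.ys, pow_succ', pow_mul, pow_two]
        exact h2.pow_left _
      rw [h3.eq, mul_inv_cancel_right, hM.inv_eq hcc] at hzc
      exact hM.tne (mul_eq_left.mp hzc.symm)
    · obtain ⟨i, hi⟩ := exists_pow_two_pow hT hfET
      obtain ⟨N, hN1, hN2⟩ := exists_pow_involution hf1 hi
      have hsp : fE ^ N = s := by
        refine hinj _ (T.pow_mem hfET N) _ hsT ?_
        rcases hM.uniq (el s (fE ^ N)) (by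
            rw [el_pow (hTC hfET), hfEel]
            exact pow_mem (M.mul_mem (M.mul_mem hc hM.tmem) (hSM hc1S)) N) (by
            rw [← el_mul (pow_mem (hTC hfET) N) (pow_mem (hTC hfET) N), hN2, el_one]) with e | e
        · exact absurd (hinj _ (T.pow_mem hfET N) 1 (one_mem T) (by rw [e, el_one])) hN1
        · exact e
      exact s_not_mem hJ hK hy.ne hy.comm (hsp ▸ (el_pow hfEz N).symm ▸ pow_mem hfK N)
  · set Y := el z n * el z y * (el z n)⁻¹ with hY
    have hmv : cjg (el z n) (bar z K) ≠ bar z K := fun e =>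
      hfix ((el_mem_normalizer_iff hK hnC).mp (mem_normalizer_of_cjg e))
    have hpe : el z fE = Y * (el z y)⁻¹ := by
      rw [hfE, el_mul (mul_mem (mul_mem hnC h.yz) (inv_mem hnC)) (inv_mem h.yz), el_conj hnC h.yz,
        el_inv h.yz]
    obtain ⟨o1, o2, o3⟩ := h.commutator_order hK hnC hpe hmv
    set r := 2 ^ k with hr
    have hp1 : fE ^ r ≠ 1 := fun e => o1 (by rw [← el_pow hfEz, e, el_one])
    have hp2 : fE ^ r * fE ^ r = 1 := by
      obtain ⟨i, hi⟩ := exists_pow_two_pow hT (T.mul_mem (T.pow_mem hfET r) (T.pow_mem hfET r))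
      refine el_eq_one (mul_mem (pow_mem hfEz r) (pow_mem hfEz r)) hi ?_
      rw [el_mul (pow_mem hfEz r) (pow_mem hfEz r), el_pow hfEz, ← pow_add, ← two_mul, hr,
        ← pow_succ']
      exact o2
    have hps : fE ^ r = s := by
      refine hinj _ (T.pow_mem hfET r) _ hsT ?_
      rcases hM.uniq (el s (fE ^ r)) (by
          rw [el_pow (hTC hfET), hfEel]
          exact pow_mem (M.mul_mem (M.mul_mem hc hM.tmem) (hSM hc1S)) r) (by
          rw [← el_mul (pow_mem (hTC hfET) r) (pow_mem (hTC hfET) r), hp2, el_one]) with e | e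
      · exact absurd (hinj _ (T.pow_mem hfET r) 1 (one_mem T) (by rw [e, el_one])) hp1
      · exact e
    -- `s z` in the diagonal component
    set w := el z y ^ r with hw
    have hww : w * w = el z z := by
      rw [hw, ← pow_add, ← two_mul, hr, ← pow_succ', ← el_pow h.yz, h.pw]
    have hσw : el z s = Y ^ r * w⁻¹ := by rw [hw, o3, ← el_pow hfEz, hps]
    obtain ⟨δ, hδ, hδc, hδcomp, hδl, -, hδcent⟩ := hM2.diag
      (show el z n * el z n = 1 by rw [← el_mul hnC hnC, hnn, el_one]) hmv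
    have hwδ : δ ⟨w, pow_mem h.ybar r⟩ = el z (s * z) := by
      have hYw : el z n * w * (el z n)⁻¹ = Y ^ r := by rw [hw, hY, conj_pow]
      have hcw : Commute w (Y ^ r) :=
        hM2.commute_other (hM2.map_conj _).comp (Ne.symm hmv) (pow_mem h.ybar r)
          (hYw ▸ mem_cjg (pow_mem h.ybar r))
      rw [hδ, el_mul hsz (self_mem_Cn z), hσw]
      change w * (el z n * w * (el z n)⁻¹) = _
      rw [hYw, hcw.eq, mul_assoc, ← hww, inv_mul_cancel_left]
    set W := Cn z ⊓ Cn n with hW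
    obtain ⟨hgr, hgk, -⟩ := res_spec (s := z) hnn hnz (inf_le_left : W ≤ Cn z) rfl
    obtain ⟨-, -, hfl⟩ := res_spec (s := n) hK.sq hnz.symm (inf_le_right : W ≤ Cn n) (inf_comm _ _)
    set g := res z (inf_le_left : W ≤ Cn z) with hg
    set f := res n (inf_le_right : W ≤ Cn n) with hf
    have hB : δ.range ≤ g.range := hgr ▸ hδc
    have hB2 : 2 ∣ Nat.card ↥δ.range := by
      obtain ⟨q, hq, _, _, hqq, -, -⟩ := hM2.anti
      have hq1 : δ ⟨q, hq⟩ ≠ 1 := fun e => by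
        rcases hδcent ⟨q, hq⟩ (by rw [e]; exact one_mem _) with e2 | e2
        · exact (hM2.ne_tau hqq).1 e2
        · exact (hM2.ne_tau hqq).2 e2
      have hq2 : δ ⟨q, hq⟩ * δ ⟨q, hq⟩ = 1 := by
        rw [← map_mul]
        change δ ⟨q * q, _⟩ = 1
        simp only [hqq, hδ]
        rw [← hM2.tcen (el z n), mul_inv_cancel_right, hM2.tsq]
      have ho : orderOf (⟨δ ⟨q, hq⟩, ⟨_, rfl⟩⟩ : ↥δ.range) = 2 := by
        rw [← orderOf_coe]
        exact orderOf_eq_prime (by rw [pow_two, hq2]) hq1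
      have := orderOf_dvd_natCard (⟨δ ⟨q, hq⟩, ⟨_, rfl⟩⟩ : ↥δ.range)
      rwa [ho] at this
    obtain ⟨H, hH, -, hHmem⟩ := lift_component g hgk hB (by rw [hgr]; exact hδcomp) hB2
    have hsn : s * n = n * s := (mem_Cn.mp (hTC hnT)).symm
    have haW : s * z ∈ W := ⟨mul_mem hsz (self_mem_Cn z),
      mul_mem (mem_Cn.mpr hsn) (mem_Cn.mpr hnz.symm)⟩
    have ha2 : s * z * (s * z) = 1 := by
      rw [← pow_two, (show Commute s z from hy.comm).mul_pow, pow_two, pow_two, hJ.sq, hK.sq, one_mul]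
    have haH : (⟨s * z, haW⟩ : ↥W) ∈ H :=
      hHmem _ 1 (by rw [hg, res_apply]; exact ⟨_, hwδ⟩) (Subtype.ext (by simpa [pow_two] using ha2))
    have hal : el n (s * z) ∈ Cfsg.layer (Gam n) := by
      have := hfl H hH (mem_map_of_mem f haH)
      rwa [hf, res_apply] at this
    -- `n` is conjugate to `z`
    obtain ⟨g0, hg0, hgx⟩ := hM.conj4 x hx c hc hxx hcc
    set g0' := yb * g0 * yb⁻¹ with hg0'
    have hconj : (g0 * g0') * zb * (g0 * g0')⁻¹ = c * c' * ub := by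
      have c1 : Commute g0' x := (hcom x hx g0 hg0).symm
      have c2 : Commute g0 (g0' * x' * g0'⁻¹) := by
        rw [show g0' * x' * g0'⁻¹ = yb * (g0 * x * g0⁻¹) * yb⁻¹ by rw [hg0', hx']; group]
        exact hcom g0 hg0 _ (M.mul_mem (M.mul_mem hg0 hx) (M.inv_mem hg0))
      have hq : (g0 * g0') * zb * (g0 * g0')⁻¹ =
          (g0 * x * g0⁻¹) * (yb * (g0 * x * g0⁻¹) * yb⁻¹) * ub := by
        calc (g0 * g0') * zb * (g0 * g0')⁻¹
            = g0 * (g0' * x) * x' * (ub * g0'⁻¹ * g0⁻¹) := by rw [hz']; group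
          _ = g0 * (x * g0') * x' * (g0'⁻¹ * g0⁻¹ * ub) := by
              rw [c1.eq, show ub * g0'⁻¹ * g0⁻¹ = g0'⁻¹ * g0⁻¹ * ub by
                rw [mul_assoc, (hubc' (g0'⁻¹ * g0⁻¹)).eq]]
          _ = g0 * x * ((g0' * x' * g0'⁻¹) * g0⁻¹) * ub := by group
          _ = g0 * x * (g0⁻¹ * (g0' * x' * g0'⁻¹)) * ub := by rw [(c2.inv_left).eq]
          _ = _ := by rw [hg0', hx']; group
      rw [hq]
      rcases hgx with e | e <;> rw [e]
      have h6 : yb * c⁻¹ * yb⁻¹ = c'⁻¹ := by rw [hc']; group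
      rw [h6, hM.inv_eq hcc, hM.inv_eq hcc', ← mul_assoc, mul_assoc c τ c', hM.tcen c', ← mul_assoc,
        mul_assoc (c * c') τ τ, hM.tsq, mul_one]
    obtain ⟨h1, hh1C, hh1⟩ : ∃ h1 ∈ Cn s, el s h1 = g0 * g0' := by
      obtain ⟨v, hv⟩ := QuotientGroup.mk'_surjective _ (g0 * g0')
      exact ⟨v, v.2, by rw [el_mk v.2]; exact hv⟩
    obtain ⟨m, hmC, -, hme, -⟩ := conj_adjust (t := s) (x := h1 * z * h1⁻¹) (y := n)
      (mul_mem (mul_mem hh1C hzs) (inv_mem hh1C)) (hTC hnT)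
      (by rw [show h1 * z * h1⁻¹ * (h1 * z * h1⁻¹) = h1 * (z * z) * h1⁻¹ by group, hK.sq]; group)
      hnn (by rw [el_conj hh1C hzs, hh1, ← hzb, hconj, hnel])
    set hh := m * h1 with hhh
    have hhs : hh * s * hh⁻¹ = s := by
      rw [mem_Cn.mp (mul_mem hmC hh1C), mul_inv_cancel_right]
    have hhz : hh * z * hh⁻¹ = n := by rw [← hme, hhh]; group
    have hKh : Cl (cjg hh K) n := hhz ▸ hK.conj hh
    have hsKh : s ∈ normalizer (cjg hh K : Set G) := by
      rw [← hhs]; exact mem_normalizer_cjg_iff.mpr hy.sK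
    have haKh : s * z ∈ normalizer (cjg hh K : Set G) :=
      (el_mem_normalizer_iff hKh haW.2).mp (Components.layer_le_normalizer hKh.cm.comp hal)
    have hzKh : z ∈ normalizer (cjg hh K : Set G) := by
      have := mul_mem (inv_mem hsKh) haKh
      rwa [inv_mul_cancel_left] at this
    exact hfix (normalizes hK hKh hzKh)

/-- The case of an inverted element of order 4. -/
theorem Mover.inverted (h : Mover J K s z y k) (hy : Hyp J K s z) {j : Gam s} (hj : j ∈ bar s J)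
    (hjj : j * j = el s s)
    (hinv : el s y * el s y * j * (el s y * el s y)⁻¹ = j⁻¹) : False := by
  haveI : Fact (Nat.Prime 2) := ⟨Nat.prime_two⟩
  have hJ := hy.cJ
  have hK := hy.cK
  have hM := hJ.cm
  have hM2 := hK.cm
  set M := bar s J with hMdef
  set M2 := bar z K with hM2def
  set τ := el s s with hτ
  set yb := el s y with hyb
  set yz := el z y with hyz
  set σ := el z s with hσ
  have hzs : z ∈ Cn s := mem_Cn.mpr hy.comm.symm
  have hsz : s ∈ Cn z := mem_Cn.mpr hy.comm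
  have hj4 : j ^ 2 ^ 2 = 1 := by
    rw [show (2 : ℕ) ^ 2 = 2 + 2 from rfl, pow_add, pow_two, hjj, hM.tsq]
  have hne : M ≠ cjg yb M := fun e =>
    h.nJ ((el_mem_normalizer_iff hJ h.ys).mp (mem_normalizer_of_cjg e.symm))
  obtain ⟨T, hTC, hT, hyT, hsT, hzT, hsurj, hinj⟩ := h.exists_group hJ hK (zpowers_le.mpr hj)
    (isPGroup_zpowers hj4) (by rw [← hτ, ← hjj]; exact mul_mem (mem_zpowers j) (mem_zpowers j))
    (Components.mem_normalizer_of_conj_le (by
      rw [MonoidHom.map_zpowers, zpowers_le]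
      change yb * yb * j * (yb * yb)⁻¹ ∈ _
      rw [hinv]; exact inv_mem (mem_zpowers j)))
  obtain ⟨j0, hj0T, hj0⟩ := hsurj j (mem_zpowers j)
  set j' := yb * j * yb⁻¹ with hj'
  have hjj' : Commute j j' := hM.commute_other (hM.map_conj yb).comp hne hj (mem_cjg hj)
  have hj'2 : j' * j' = τ := by
    rw [hj', show yb * j * yb⁻¹ * (yb * j * yb⁻¹) = yb * (j * j) * yb⁻¹ by group, hjj, ← hM.tcen,
      mul_inv_cancel_right]
  set zb := el s z with hzb
  have hzy : zb * yb = yb * zb := by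
    rw [hzb, hyb, ← el_mul hzs h.ys, ← el_mul h.ys hzs, mem_Cn.mp h.yz]
  have hyj' : yb * j' * yb⁻¹ = j⁻¹ := by rw [hj', ← hinv]; group
  have hzj : zb * j * zb⁻¹ = j ∨ zb * j * zb⁻¹ = j⁻¹ := by
    have key : ∀ (u : Gam s), (u * j * u⁻¹ = j ∨ u * j * u⁻¹ = j⁻¹) → ∀ n : ℕ,
        (u ^ n * j * (u ^ n)⁻¹ = j ∨ u ^ n * j * (u ^ n)⁻¹ = j⁻¹) := by
      intro u hu n
      induction n with
      | zero => exact Or.inl (by simp)
      | succ n ih =>
        have e : u ^ (n + 1) * j * (u ^ (n + 1))⁻¹ = u * (u ^ n * j * (u ^ n)⁻¹) * u⁻¹ := by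
          rw [pow_succ']; group
        have e2 : u * j⁻¹ * u⁻¹ = (u * j * u⁻¹)⁻¹ := by group
        rcases ih with i | i <;> rcases hu with a | a
        · exact Or.inl (by rw [e, i, a])
        · exact Or.inr (by rw [e, i, a])
        · exact Or.inr (by rw [e, i, e2, a])
        · exact Or.inl (by rw [e, i, e2, a, inv_inv])
    have e : zb = (yb * yb) ^ 2 ^ k := by
      rw [hzb, ← h.pw, el_pow h.ys, pow_succ', pow_mul, pow_two]
    rw [e]; exact key _ (Or.inr hinv) _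
  set e0 := j0 * (y * j0 * y⁻¹)⁻¹ with he0
  have hj1C : y * j0 * y⁻¹ ∈ Cn s := mul_mem (mul_mem h.ys (hTC hj0T)) (inv_mem h.ys)
  have he0T : e0 ∈ T :=
    T.mul_mem hj0T (T.inv_mem (T.mul_mem (T.mul_mem hyT hj0T) (T.inv_mem hyT)))
  have he0el : el s e0 = j * j'⁻¹ := by
    rw [he0, el_mul (hTC hj0T) (inv_mem hj1C), el_inv hj1C, el_conj h.ys (hTC hj0T), hj0]
  have heb : j * j'⁻¹ * (j * j'⁻¹) = 1 := by
    rw [← pow_two, hjj'.inv_right.mul_pow, pow_two, pow_two, hjj, hM.inv_sq hj'2, hM.tsq]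
  have he0C : e0 ∈ Cn z := by
    refine mem_Cn.mpr (hinj _ (T.mul_mem he0T hzT) _ (T.mul_mem hzT he0T) ?_)
    rw [el_mul (hTC he0T) hzs, el_mul hzs (hTC he0T), he0el, ← hzb]
    refine (mul_inv_eq_iff_eq_mul.mp ?_).symm
    have e1 : zb * (j * j'⁻¹) * zb⁻¹ = (zb * j * zb⁻¹) * (yb * (zb * j * zb⁻¹) * yb⁻¹)⁻¹ := by
      have : zb * j' * zb⁻¹ = yb * (zb * j * zb⁻¹) * yb⁻¹ := by
        calc zb * j' * zb⁻¹ = (zb * yb) * j * (zb * yb)⁻¹ := by rw [hj']; group
          _ = _ := by rw [hzy]; group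
      rw [← this]; group
    rw [e1]
    rcases hzj with i | i <;> rw [i]
    calc j⁻¹ * (yb * j⁻¹ * yb⁻¹)⁻¹ = j⁻¹ * j' := by rw [hj']; group
      _ = (j'⁻¹ * j)⁻¹ := by group
      _ = (j * j'⁻¹)⁻¹ := by rw [hjj'.inv_right.eq]
      _ = j * j'⁻¹ := inv_eq_of_mul_eq_one_right heb
  have hcs : e0 * y * e0⁻¹ * y⁻¹ = s := by
    refine hinj _ (T.mul_mem (T.mul_mem (T.mul_mem he0T hyT) (T.inv_mem he0T)) (T.inv_mem hyT)) _ hsT ?_
    rw [el_mul (mul_mem (mul_mem (hTC he0T) h.ys) (inv_mem (hTC he0T))) (inv_mem h.ys),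
      el_conj (hTC he0T) h.ys, el_inv h.ys, he0el, ← hyb]
    calc j * j'⁻¹ * yb * (j * j'⁻¹)⁻¹ * yb⁻¹
        = j * j'⁻¹ * ((yb * j' * yb⁻¹) * (yb * j * yb⁻¹)⁻¹) := by group
      _ = j * (j'⁻¹ * j⁻¹) * j'⁻¹ := by rw [hyj', ← hj']; group
      _ = j * (j⁻¹ * j'⁻¹) * j'⁻¹ := by rw [hjj'.inv_inv.eq]
      _ = j'⁻¹ * j'⁻¹ := by group
      _ = τ := hM.inv_sq hj'2
  set e1 := el z e0 with he1
  set Y := e1 * yz * e1⁻¹ with hY
  have hσY : σ = Y * yz⁻¹ := by
    rw [hY, he1, hyz, ← el_conj he0C h.yz, ← el_inv h.yz,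
      ← el_mul (mul_mem (mul_mem he0C h.yz) (inv_mem he0C)) (inv_mem h.yz), hcs]
  have hmv : cjg e1 M2 ≠ M2 := fun e => s_not_mem hJ hK hy.ne hy.comm (by
    rw [← hσ, hσY]
    exact mul_mem (hM2.conj_mem (mem_normalizer_of_cjg e) h.ybar) (inv_mem h.ybar))
  have hk0 : k = 0 := by
    by_contra hk
    refine (h.commutator_order hK he0C hσY hmv).1 ?_
    obtain ⟨k', rfl⟩ : ∃ k', k = k' + 1 := ⟨k - 1, by omega⟩
    rw [pow_succ', pow_mul, pow_two, hσ, ← el_mul hsz hsz, hJ.sq, el_one, one_pow]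
  subst hk0
  have hyy : y * y = z := by rw [← pow_two]; simpa using h.pw
  have hybz : yb * yb = zb := by rw [hyb, ← el_mul h.ys h.ys, hyy]
  have hyz2 : yz * yz = el z z := by rw [hyz, ← el_mul h.yz h.yz, hyy]
  rw [hybz] at hinv
  have hjz : j0 * z * j0⁻¹ = s * z := by
    refine hinj _ (T.mul_mem (T.mul_mem hj0T hzT) (T.inv_mem hj0T)) _ (T.mul_mem hsT hzT) ?_
    rw [el_conj (hTC hj0T) hzs, hj0, el_mul (self_mem_Cn s) hzs, ← hzb, ← hτ]
    calc j * zb * j⁻¹ = j * (zb * j * zb⁻¹)⁻¹ * zb := by group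
      _ = τ * zb := by rw [hinv, inv_inv, hjj]
  set M2' := cjg e1 M2 with hM2'
  have hcY : Commute yz Y := hM2.commute_other (hM2.map_conj e1).comp (Ne.symm hmv) h.ybar (mem_cjg h.ybar)
  have hpair : ∀ g : G, g * s * g⁻¹ = z → bar z (cjg g J) = M2 ∨ bar z (cjg g J) = M2' := by
    intro g hg
    have hcl : Cl (cjg g J) z := hg ▸ hJ.conj g
    by_contra hcon
    push Not at hcon
    refine hy.ncJ (key hcl hJ hy.comm (mem_centralizer_iff.mpr fun q hq => ?_))
    have c1 : Commute q Y := hcl.cm.commute_other (hM2.map_conj e1).comp hcon.2 hq (mem_cjg h.ybar)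
    have c2 : Commute q yz := hcl.cm.commute_other hM2.comp hcon.1 hq h.ybar
    rw [← hσ, hσY]
    exact (c1.mul_right c2.inv_right).eq
  -- an element inverting `y`
  have hyzp : yz ^ 2 ^ 2 = 1 := by
    rw [show (2 : ℕ) ^ 2 = 2 + 2 from rfl, pow_add, pow_two, hyz2, hM2.tsq]
  obtain ⟨S2, hS2M, hS2, -, hyS2, hmax2⟩ := exists_invariant_sylow (M := M2) (isPGroup_zpowers hyzp)
    (zpowers_le.mpr (le_normalizer h.ybar))
  obtain ⟨kk, hkkS, hkkk, hky, hyk⟩ := hM2.exists_inverter hS2M hS2 hmax2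
    (hyS2 ⟨mem_zpowers yz, h.ybar⟩) hyz2
  have hkσ : kk * σ * kk⁻¹ = σ * el z z := by
    have c1 : Commute kk Y :=
      hM2.commute_other (hM2.map_conj e1).comp (Ne.symm hmv) (hS2M hkkS) (mem_cjg h.ybar)
    calc kk * σ * kk⁻¹ = (kk * Y * kk⁻¹) * (kk * yz * kk⁻¹)⁻¹ := by rw [hσY]; group
      _ = Y * yz⁻¹ * (yz * yz) := by rw [c1.eq, mul_inv_cancel_right, hky, inv_inv]; group
      _ = σ * el z z := by rw [← hσY, hyz2]
  obtain ⟨k1, hk1C, -, hk1⟩ := exists_lift2 (q := kk) (k := 2)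
    (by rw [show (2 : ℕ) ^ 2 = 2 + 2 from rfl, pow_add, pow_two, hkkk, hM2.tsq])
  obtain ⟨m, hmC, hm1, hme, -⟩ := conj_adjust (t := z) (x := k1 * s * k1⁻¹) (y := s * z)
    (mul_mem (mul_mem hk1C hsz) (inv_mem hk1C)) (mul_mem hsz (self_mem_Cn z))
    (by rw [show k1 * s * k1⁻¹ * (k1 * s * k1⁻¹) = k1 * (s * s) * k1⁻¹ by group, hJ.sq]; group)
    (by rw [← pow_two, (show Commute s z from hy.comm).mul_pow, pow_two, pow_two, hJ.sq, hK.sq, one_mul])
    (by rw [el_conj hk1C hsz, hk1, ← hσ, hkσ, el_mul hsz (self_mem_Cn z)])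
  set k0 := m * k1 with hk0'
  have hk0C : k0 ∈ Cn z := mul_mem hmC hk1C
  have hk0s : k0 * s * k0⁻¹ = s * z := by rw [← hme, hk0']; group
  have hk0z : k0 * z = z * k0 := mem_Cn.mp hk0C
  have hk0s' : k0⁻¹ * s * k0 = s * z := by
    calc k0⁻¹ * s * k0 = k0⁻¹ * (s * (z * z)) * k0 := by rw [hK.sq, mul_one]
      _ = k0⁻¹ * (k0 * s * k0⁻¹) * (z * k0) := by rw [hk0s]; group
      _ = s * z := by rw [← hk0z]; group
  have hj0s : j0 * s = s * j0 := mem_Cn.mp (hTC hj0T)
  have hjsz : j0 * (s * z) * j0⁻¹ = z := by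
    calc j0 * (s * z) * j0⁻¹ = (j0 * s) * z * j0⁻¹ := by group
      _ = s * (j0 * z * j0⁻¹) := by rw [hj0s]; group
      _ = z := by rw [hjz, ← mul_assoc, hJ.sq, one_mul]
  have hjsz' : j0⁻¹ * (s * z) * j0 = z := by
    calc j0⁻¹ * (s * z) * j0 = j0⁻¹ * (j0 * z * j0⁻¹) * j0 := by rw [hjz]
      _ = z := by group
  set φ := j0 * k0 with hφ
  have hφs : φ * s * φ⁻¹ = z := by
    calc φ * s * φ⁻¹ = j0 * (k0 * s * k0⁻¹) * j0⁻¹ := by rw [hφ]; group
      _ = z := by rw [hk0s, hjsz]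
  set g2 := j0⁻¹ * k0⁻¹ with hg2
  have hg2s : g2 * s * g2⁻¹ = z := by
    calc g2 * s * g2⁻¹ = j0⁻¹ * (k0⁻¹ * s * k0) * j0 := by rw [hg2]; group
      _ = z := by rw [hk0s', hjsz']
  have hys : y * s * y⁻¹ = s := by rw [mem_Cn.mp h.ys, mul_inv_cancel_right]
  have hφy : φ * y * s * (φ * y)⁻¹ = z := by
    calc φ * y * s * (φ * y)⁻¹ = φ * (y * s * y⁻¹) * φ⁻¹ := by group
      _ = z := by rw [hys, hφs]
  have hyJ : cjg y J ≠ J := fun e => h.nJ (mem_normalizer_of_cjg e)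
  -- the component sent to `K`
  obtain ⟨u, huy, hu⟩ : ∃ u, (u = 1 ∨ u = y) ∧ cjg (φ * u) J = K := by
    have hcl : ∀ u, φ * u * s * (φ * u)⁻¹ = z → Cl (cjg (φ * u) J) z := fun u e => e ▸ hJ.conj _
    rcases hpair φ hφs with a | a
    · refine ⟨1, Or.inl rfl, ?_⟩
      rw [mul_one]
      exact bar_inj (hφs ▸ hJ.conj φ : Cl (cjg φ J) z) hK.le hK.pc a
    · rcases hpair (φ * y) hφy with b | b
      · exact ⟨y, Or.inr rfl, bar_inj (hcl y hφy) hK.le hK.pc b⟩
      · exfalso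
        have e := bar_inj (hφs ▸ hJ.conj φ : Cl (cjg φ J) z) (hcl y hφy).le (hcl y hφy).pc
          (a.trans b.symm)
        rw [← cjg_cjg φ y] at e
        exact hyJ (map_injective (MulAut.conj φ).injective e).symm
  set J1 := cjg u J with hJ1
  have huC : u ∈ Cn s := by rcases huy with e | e <;> rw [e]; exacts [one_mem _, h.ys]
  have hus : u * s * u⁻¹ = s := by rw [mem_Cn.mp huC, mul_inv_cancel_right]
  have hcl1 : Cl J1 s := hus ▸ hJ.conj u
  have huz : u ∈ Cn z := by rcases huy with e | e <;> rw [e]; exacts [one_mem _, h.yz]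
  have hnJ1 : y ∉ normalizer (J1 : Set G) := by
    intro hh
    refine h.nJ ?_
    rw [← mem_normalizer_cjg_iff (g := u), show u * y * u⁻¹ = y by
      rcases huy with e | e <;> rw [e] <;> group]
    exact hh
  have hy1 : Hyp J1 K s z := by
    refine ⟨hcl1, hK, hy.ne, hy.comm, hy.sK, ?_, fun hh => hy.ncK (key hcl1 hK hy.comm.symm hh), hy.ncK⟩
    have e : u * z * u⁻¹ = z := by rw [mem_Cn.mp huz, mul_inv_cancel_right]
    rw [← e]
    exact mem_normalizer_cjg_iff.mpr hy.zJ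
  have hm1 : Mover J1 K s z y 0 :=
    ⟨h.ys, h.yz, h.ybar, h.pw, hnJ1, by rw [hyy]; exact hy1.zJ⟩
  have hjn1 : j0 ∈ normalizer (J1 : Set G) := by
    refine (el_mem_normalizer_iff hcl1 (hTC hj0T)).mp
      (Components.layer_le_normalizer hcl1.cm.comp ?_)
    rw [hj0]
    exact Components.component_le_layer hM.comp hj
  have hφJ1 : cjg φ J1 = K := by rw [hJ1, cjg_cjg, hu]
  have hKφ : cjg φ⁻¹ K = J1 := by
    rw [← hφJ1, cjg_cjg, inv_mul_cancel, cjg, Components.conj_map_one]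
  have hφz : φ⁻¹ * z * φ = s := by rw [← hφs]; group
  set y0 := φ⁻¹ * y * φ with hy0
  have hy0C : y0 ∈ Cn s := by
    refine mem_Cn.mpr ?_
    rw [← hφz, hy0]
    calc φ⁻¹ * y * φ * (φ⁻¹ * z * φ) = φ⁻¹ * (y * z) * φ := by group
      _ = φ⁻¹ * (z * y) * φ := by rw [mem_Cn.mp h.yz]
      _ = _ := by group
  have hy0bar : el s y0 ∈ bar s J1 := by
    have e := mem_bar_conj φ⁻¹ hK.le h.yz h.ybar
    rw [inv_inv, hφz, hKφ] at e
    exact e
  set x0 := j0⁻¹ * y0 * j0 with hx0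
  have hx0C : x0 ∈ Cn s := mul_mem (mul_mem (inv_mem (hTC hj0T)) hy0C) (hTC hj0T)
  set xs := el s x0 with hxs
  have hxbar : xs ∈ bar s J1 := by
    have hn1 := inv_mem ((el_mem_normalizer_iff hcl1 (hTC hj0T)).mpr hjn1)
    have := hcl1.cm.conj_mem hn1 hy0bar
    rwa [← el_inv (hTC hj0T), ← el_conj (inv_mem (hTC hj0T)) hy0C, inv_inv] at this
  have hsz' : φ⁻¹ * s * φ = s * z := by
    calc φ⁻¹ * s * φ = k0⁻¹ * (j0⁻¹ * (s * j0)) * k0 := by rw [hφ]; group
      _ = s * z := by rw [← hj0s, inv_mul_cancel_left, hk0s']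
  have hy0sz : y0 * (s * z) = s * z * y0 := by
    rw [← hsz', hy0]
    calc φ⁻¹ * y * φ * (φ⁻¹ * s * φ) = φ⁻¹ * (y * s) * φ := by group
      _ = φ⁻¹ * (s * y) * φ := by rw [mem_Cn.mp h.ys]
      _ = _ := by group
  have hx0z : x0 ∈ Cn z := by
    refine mem_Cn.mpr ?_
    rw [← hjsz', hx0]
    calc j0⁻¹ * y0 * j0 * (j0⁻¹ * (s * z) * j0) = j0⁻¹ * (y0 * (s * z)) * j0 := by group
      _ = j0⁻¹ * (s * z * y0) * j0 := by rw [hy0sz]
      _ = _ := by group
  have hx0sq : x0 * x0 = s := by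
    calc x0 * x0 = j0⁻¹ * (φ⁻¹ * (y * y) * φ) * j0 := by rw [hx0, hy0]; group
      _ = j0⁻¹ * (s * j0) := by rw [hyy, hφz]; group
      _ = s := by rw [← hj0s, inv_mul_cancel_left]
  -- `x0` moves `K`
  have hg2J : cjg (j0⁻¹ * φ⁻¹) J1 = cjg g2 J1 := by
    rw [show j0⁻¹ * φ⁻¹ = g2 * j0⁻¹ by rw [hφ, hg2]; group, ← cjg_cjg, cjg_eq_of_mem (inv_mem hjn1)]
  have hmove2 : x0 ∉ normalizer (cjg g2 J1 : Set G) := by
    rw [← hg2J]
    have e : j0⁻¹ * φ⁻¹ * y * (j0⁻¹ * φ⁻¹)⁻¹ = x0 := by rw [hx0, hy0]; group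
    rw [← e]
    exact fun hh => hnJ1 (mem_normalizer_cjg_iff.mp hh)
  have hpair1 : ∀ g : G, g * s * g⁻¹ = z → bar z (cjg g J1) = M2 ∨ bar z (cjg g J1) = M2' := by
    intro g hg
    rw [hJ1, cjg_cjg]
    refine hpair (g * u) ?_
    calc g * u * s * (g * u)⁻¹ = g * (u * s * u⁻¹) * g⁻¹ := by group
      _ = z := by rw [hus, hg]
  set xz := el z x0 with hxz
  have hcl2 : Cl (cjg g2 J1) z := hg2s ▸ hcl1.conj g2
  have hx0conj : ∀ g : G, g * s * g⁻¹ = z → x0 * g * s * (x0 * g)⁻¹ = z := fun g hg => by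
    calc x0 * g * s * (x0 * g)⁻¹ = x0 * (g * s * g⁻¹) * x0⁻¹ := by group
      _ = z := by rw [hg, mem_Cn.mp hx0z, mul_inv_cancel_right]
  have hbarconj : ∀ H : Subgroup G, H ≤ Cn z → bar z (cjg x0 H) = cjg xz (bar z H) := by
    intro H hH
    ext q
    constructor
    · intro hq
      obtain ⟨v, hv, hvC, rfl⟩ := exists_of_mem_bar hq
      obtain ⟨w, hw, rfl⟩ := hv
      exact ⟨el z w, mem_bar hH hw, (el_conj hx0z (hH hw)).symm⟩
    · rintro ⟨w, hw, rfl⟩
      obtain ⟨v, hv, hvC, rfl⟩ := exists_of_mem_bar hw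
      change xz * el z v * xz⁻¹ ∈ _
      rw [hxz, ← el_conj hx0z hvC]
      refine mem_bar ?_ (mem_cjg hv)
      rintro _ ⟨w, hw, rfl⟩
      exact mul_mem (mul_mem hx0z (hH hw)) (inv_mem hx0z)
  have hxzn : cjg xz M2 ≠ M2 := by
    intro e
    have hL : cjg xz (bar z (cjg g2 J1)) ≠ bar z (cjg g2 J1) := fun e2 =>
      hmove2 ((el_mem_normalizer_iff hcl2 hx0z).mp (mem_normalizer_of_cjg e2))
    rcases hpair1 g2 hg2s with a | a
    · exact hL (by rw [a, e])
    · have := hpair1 (x0 * g2) (hx0conj g2 hg2s)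
      rw [← cjg_cjg, hbarconj _ hcl2.le, a] at this
      rcases this with b | b
      · exact hmv (map_injective (MulAut.conj xz).injective (b.trans e.symm))
      · exact hL (by rw [a, b])
  have hxz2 : cjg xz M2 = M2' := by
    have := hpair1 (x0 * φ) (hx0conj φ hφs)
    rw [← cjg_cjg, hφJ1, hbarconj _ hK.le] at this
    exact this.resolve_left hxzn
  set X := xz * yz * xz⁻¹ with hX
  have hXm : X ∈ M2' := hxz2 ▸ mem_cjg h.ybar
  have hM2'c := hM2.map_conj e1
  have hsq : ∀ a : Gam z, a * yz * a⁻¹ * (a * yz * a⁻¹) = el z z := fun a => by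
    rw [show a * yz * a⁻¹ * (a * yz * a⁻¹) = a * (yz * yz) * a⁻¹ by group, hyz2, ← hM2.tcen,
      mul_inv_cancel_right]
  have hσx : Commute σ xz := by
    change _ * _ = _ * _
    rw [hσ, hxz, ← el_mul hsz hx0z, ← el_mul hx0z hsz, mem_Cn.mp hx0C]
  have hσy : Commute σ yz := by
    change _ * _ = _ * _
    rw [hσ, hyz, ← el_mul hsz h.yz, ← el_mul h.yz hsz, mem_Cn.mp h.ys]
  have hXY : Commute X Y := by
    have c1 : Commute σ X := (hσx.mul_right hσy).mul_right hσx.inv_right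
    have c2 : Commute yz X := hM2.commute_other hM2'c.comp (Ne.symm hmv) h.ybar hXm
    have : Y = σ * yz := by rw [hσY, inv_mul_cancel_right]
    rw [this]
    exact c1.symm.mul_right c2.symm
  set q0 := x0 * y * x0⁻¹ * y⁻¹ with hq0
  have hq0z : q0 ∈ Cn z := mul_mem (mul_mem (mul_mem hx0z h.yz) (inv_mem hx0z)) (inv_mem h.yz)
  have hq0s : q0 ∈ Cn s := mul_mem (mul_mem (mul_mem hx0C h.ys) (inv_mem hx0C)) (inv_mem h.ys)
  have hgq : el z q0 = X * yz⁻¹ := by
    rw [hq0, el_mul (mul_mem (mul_mem hx0z h.yz) (inv_mem hx0z)) (inv_mem h.yz), el_conj hx0z h.yz,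
      el_inv h.yz]
  obtain ⟨q, hqs, hqz, hq2, hqcase, hgqq⟩ : ∃ q, q ∈ Cn s ∧ q ∈ Cn z ∧ q * q = 1 ∧
      (q = s ∨ q = s * z) ∧ el z q0 = el z q := by
    rcases hM2'c.comm_eq (mem_cjg h.ybar) hXm (hsq e1) (hsq xz) hXY.symm.eq with a | a
    · exact ⟨s, self_mem_Cn s, hsz, hJ.sq, Or.inl rfl, by rw [hgq, a, ← hσY]⟩
    · refine ⟨s * z, mul_mem (self_mem_Cn s) hzs, mul_mem hsz (self_mem_Cn z), ?_, Or.inr rfl, ?_⟩
      · rw [← pow_two, (show Commute s z from hy.comm).mul_pow, pow_two, pow_two, hJ.sq, hK.sq,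
          one_mul]
      · rw [hgq, a, el_mul hsz (self_mem_Cn z), ← hσ, hσY, hM2'c.inv_eq (hsq e1),
          mul_assoc, hM2.tcen, ← mul_assoc]
  -- compare the two images
  set x' := yb * xs * yb⁻¹ with hx'
  have hM1 := hcl1.cm
  have hne1 : bar s J1 ≠ cjg yb (bar s J1) := fun e =>
    hnJ1 ((el_mem_normalizer_iff hcl1 h.ys).mp (mem_normalizer_of_cjg e.symm))
  have hxx' : Commute xs x' := hM1.commute_other (hM1.map_conj yb).comp hne1 hxbar (mem_cjg hxbar)
  have hxs2 : xs * xs = τ := by rw [hxs, ← el_mul hx0C hx0C, hx0sq]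
  have hx'2 : x' * x' = τ := by
    rw [hx', show yb * xs * yb⁻¹ * (yb * xs * yb⁻¹) = yb * (xs * xs) * yb⁻¹ by group, hxs2,
      ← hM.tcen, mul_inv_cancel_right]
  have hfq : el s q0 = xs * x'⁻¹ := by
    rw [hq0, el_mul (mul_mem (mul_mem hx0C h.ys) (inv_mem hx0C)) (inv_mem h.ys), el_conj hx0C h.ys,
      el_inv h.ys, ← hxs, ← hyb, hx']
    group
  have hzx : Commute zb xs := by
    change _ * _ = _ * _
    rw [hzb, hxs, ← el_mul hzs hx0C, ← el_mul hx0C hzs, mem_Cn.mp hx0z]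
  have hzq : el s q * el s q = 1 := by rw [← el_mul hqs hqs, hq2, el_one]
  have hcq : Commute (xs * x'⁻¹) (el s q) := by
    rcases hqcase with rfl | rfl
    · exact (hM.tcen _).symm
    · rw [el_mul (self_mem_Cn s) hzs]
      refine ((show Commute τ _ from hM.tcen _).symm).mul_right ?_
      have hz' : Commute zb x' := ((show Commute zb yb from hzy).mul_right hzx).mul_right
        (show Commute zb yb from hzy).inv_right
      exact ((hzx.mul_right hz'.inv_right)).symm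
  have heq : xs * x'⁻¹ = el s q := by
    set W := Cn s ⊓ Cn z with hW
    obtain ⟨-, hgk, -⟩ := res_spec (s := z) hJ.sq hy.comm (inf_le_right : W ≤ Cn z) (inf_comm _ _)
    have hmW : q0 * q⁻¹ ∈ W :=
      ⟨(Cn s).mul_mem hq0s ((Cn s).inv_mem hqs), (Cn z).mul_mem hq0z ((Cn z).inv_mem hqz)⟩
    have hmO : (⟨_, hmW⟩ : ↥W) ∈ Cfsg.pPrimeCore 2 ↥W := hgk (by
      rw [MonoidHom.mem_ker, res_apply, el_mul hq0z (inv_mem hqz), el_inv hqz, hgqq, mul_inv_cancel])
    have hpow := congrArg Subtype.val (congrArg Subtype.val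
      (pow_card_eq_one' (x := (⟨_, hmO⟩ : ↥(Cfsg.pPrimeCore 2 ↥W)))))
    push_cast at hpow
    have h1 : (xs * x'⁻¹ * (el s q)⁻¹) ^ 2 ^ 1 = 1 := by
      rw [pow_one, hcq.inv_right.mul_pow, hxx'.inv_right.mul_pow, pow_two, pow_two, pow_two, hxs2,
        hM.inv_sq hx'2, hM.tsq, one_mul, inv_eq_of_mul_eq_one_right hzq, hzq]
    refine mul_inv_eq_one.mp (eq_one_of_pow_two_pow_odd h1 (Components.pPrimeCore_coprime (G := ↥W)) ?_)
    rw [← hfq, ← el_inv hqs, ← el_mul hq0s (inv_mem hqs),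
      ← el_pow (mul_mem hq0s (inv_mem hqs)), hpow, el_one]
  rcases hqcase with hq' | hq' <;> rw [hq'] at heq
  · have e : xs = τ * x' := by rw [hτ, ← heq, inv_mul_cancel_right]
    have hin : xs ∈ cjg yb (bar s J1) :=
      e ▸ mul_mem (hM1.map_conj yb).tmem (mem_cjg hxbar)
    rcases hM1.inf_other (hM1.map_conj yb).comp hne1 hxbar hin with a | a
    · exact (hM1.ne_tau hxs2).1 a
    · exact (hM1.ne_tau hxs2).2 a
  · refine hm1.final hy1 hxbar hxs2 (by rw [hybz]; exact hzx) (Or.inl ?_)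
    rw [el_mul (self_mem_Cn s) hzs] at heq
    calc zb = τ * (τ * zb) := by rw [← mul_assoc, hM.tsq, one_mul]
      _ = τ * (xs * (x' * τ)) := by rw [← heq, hM.inv_eq hx'2]
      _ = (τ * τ) * (xs * x') := by
        rw [← mul_assoc xs, ← hM.tcen (xs * x'), ← mul_assoc τ τ]
      _ = xs * x' := by rw [hM.tsq, one_mul]

/-- A 2-element of order at least 4 of `K` centralizing `s` normalizes `J`. -/
theorem normalizes_elt (hJ : Cl J s) (hK : Cl K z) (hys : y ∈ Cn s) (hyz : y ∈ Cn z)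
    (hyK : el z y ∈ bar z K) (hpw : y ^ 2 ^ (k + 1) = z) : y ∈ normalizer (J : Set G) := by
  haveI : Fact (Nat.Prime 2) := ⟨Nat.prime_two⟩
  have hM := hJ.cm
  have hM2 := hK.cm
  by_cases hne : s = z
  · subst hne
    exact (el_mem_normalizer_iff hJ hys).mp
      (Components.layer_le_normalizer hM.comp (Components.component_le_layer hM2.comp hyK))
  have hcomm : s * z = z * s := by
    rw [← hpw]; exact ((show Commute y s from mem_Cn.mp hys).pow_left _).eq.symm
  have hsz : s ∈ Cn z := mem_Cn.mpr hcomm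
  have hzs : z ∈ Cn s := mem_Cn.mpr hcomm.symm
  set M := bar s J with hMdef
  set M2 := bar z K with hM2def
  set σ := el z s with hσ
  set τ := el s s with hτ
  have hsK : s ∈ normalizer (K : Set G) := by
    by_contra hcon
    have hmv : M2 ≠ cjg σ M2 := fun e =>
      hcon ((el_mem_normalizer_iff hK hsz).mp (mem_normalizer_of_cjg e.symm))
    have hin : el z y ∈ cjg σ M2 := by
      have h1 : σ * el z y * σ⁻¹ = el z y := by
        rw [hσ, ← el_conj hsz hyz, ← mem_Cn.mp hys, mul_inv_cancel_right]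
      rw [← h1]; exact mem_cjg hyK
    have hsq : el z y ^ 2 ^ (k + 1) = el z z := by rw [← el_pow hyz, hpw]
    have hev : ∀ a : Gam z, a * a = 1 → a ^ 2 ^ (k + 1) = 1 := fun a ha => by
      rw [pow_succ', pow_mul, pow_two, ha, one_pow]
    rcases hM2.inf_other (hM2.map_conj σ).comp hmv hyK hin with a | a <;> rw [a, hev] at hsq
    · exact hM2.tne hsq.symm
    · exact one_mul 1
    · exact hM2.tne hsq.symm
    · exact hM2.tsq
  have hzJ := normalizes hJ hK hsK
  suffices hsuff : ∀ (k : ℕ) (y : G), y ∈ Cn s → y ∈ Cn z → el z y ∈ M2 → y ^ 2 ^ (k + 1) = z →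
      y * y ∈ normalizer (J : Set G) → y ∈ normalizer (J : Set G) by
    have hall : ∀ (k : ℕ) (y : G), y ∈ Cn s → y ∈ Cn z → el z y ∈ M2 → y ^ 2 ^ (k + 1) = z →
        y ∈ normalizer (J : Set G) := by
      intro k
      induction k with
      | zero =>
        intro y a b c d
        exact hsuff 0 y a b c d (by rw [← pow_two]; simpa using d.symm ▸ hzJ)
      | succ n ih =>
        intro y a b c d
        refine hsuff (n + 1) y a b c d (ih (y * y) (mul_mem a a) (mul_mem b b) ?_ ?_)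
        · rw [el_mul b b]; exact mul_mem c c
        · rw [← pow_two, ← pow_mul, ← pow_succ']; exact d
    exact hall k y hys hyz hyK hpw
  intro k y hys hyz hyK hpw hsqJ
  by_contra hnJ
  have hmov : Mover J K s z y k := ⟨hys, hyz, hyK, hpw, hnJ, hsqJ⟩
  -- `z` does not centralize the component of `s`
  have hnc : ¬ (el z s ∈ centralizer (M2 : Set (Gam z)) ∧
      el s z ∈ centralizer (M : Set (Gam s))) := by
    rintro ⟨hcK, hcJ⟩
    set W := Cn s ⊓ Cn z with hW
    obtain ⟨hfr, hfk, -⟩ := res_spec (s := s) hK.sq hcomm.symm (inf_le_left : W ≤ Cn s) rfl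
    obtain ⟨hgr, -, hgl⟩ := res_spec (s := z) hJ.sq hcomm (inf_le_right : W ≤ Cn z) (inf_comm _ _)
    set f := res s (inf_le_left : W ≤ Cn s) with hf
    set g := res z (inf_le_right : W ≤ Cn z) with hg
    have hB : M ≤ f.range := fun q hq => by
      rw [hfr, mem_centralizer_singleton_iff]
      exact mem_centralizer_iff.mp hcJ q hq
    have hB2 : 2 ∣ Nat.card ↥M := by
      have ho : orderOf (⟨τ, hM.tmem⟩ : ↥M) = 2 := by
        rw [← orderOf_coe]
        exact orderOf_eq_prime (by rw [pow_two]; exact hM.tsq) hM.tne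
      have := orderOf_dvd_natCard (⟨τ, hM.tmem⟩ : ↥M)
      rwa [ho] at this
    have hBc : Cfsg.IsComponent (M.subgroupOf f.range) := Components.isComponent_subgroupOf hM.comp hB
    obtain ⟨H, hH, hHmap, hHmem⟩ := lift_component f hfk hB hBc hB2
    have hsW : s ∈ W := ⟨self_mem_Cn s, hsz⟩
    have hsH : (⟨s, hsW⟩ : ↥W) ∈ H := hHmem _ 1 (by rw [hf, res_apply]; exact hM.tmem)
      (Subtype.ext (by simpa [pow_two] using hJ.sq))
    have hσn : σ ∈ normalizer (M2 : Set (Gam z)) := centralizer_le_normalizer _ hcK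
    rcases hM2.dichotomy g hgr hσn hH (hgl H hH) with hle | ⟨-, hcom⟩
    · have := hle (mem_map_of_mem g hsH)
      rw [hg, res_apply] at this
      exact s_not_mem hJ hK hne hcomm this
    · have hyc := centralizes_image f hB hBc hB2 hHmap (y := ⟨y, hys, hyz⟩)
        (fun x hx => hcom _ (by rw [hg, res_apply]; exact hyK) x hx)
      rw [hf, res_apply] at hyc
      exact hnJ ((el_mem_normalizer_iff hJ hys).mp (centralizer_le_normalizer _ hyc))
  have hyp : Hyp J K s z :=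
    ⟨hJ, hK, hne, hcomm, hsK, hzJ, fun hh => hnc ⟨key hJ hK hcomm.symm hh, hh⟩,
      fun hh => hnc ⟨hh, key hK hJ hcomm hh⟩⟩
  set yb := el s y with hyb
  set zb := el s z with hzb
  have hy2n : yb * yb ∈ normalizer (M : Set (Gam s)) := by
    rw [hyb, ← el_mul hys hys]
    exact (el_mem_normalizer_iff hJ (mul_mem hys hys)).mpr hsqJ
  have hne' : M ≠ cjg yb M := fun e =>
    hnJ ((el_mem_normalizer_iff hJ hys).mp (mem_normalizer_of_cjg e.symm))
  have hyy4 : (yb * yb) ^ 2 ^ (k + 1) = 1 := by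
    rw [← pow_two, ← pow_mul, ← pow_succ', hyb, ← el_pow hys, hmov.two_pow hK, el_one]
  obtain ⟨j, hj, hjj, hcase⟩ := hM.exists_pm hyy4 hy2n
  rcases hcase with hfix | hinv
  swap
  · exact hmov.inverted hyp hj hjj hinv
  have hjy : Commute (yb * yb) j := mul_inv_eq_iff_eq_mul.mp hfix
  have hj4 : j ^ 2 ^ 2 = 1 := by
    rw [show (2 : ℕ) ^ 2 = 2 + 2 from rfl, pow_add, pow_two, hjj, hM.tsq]
  have hR : IsPGroup 2 ↥(zpowers j ⊔ zpowers (yb * yb)) :=
    IsPGroup.to_sup_of_normal_left' (isPGroup_zpowers hj4) (isPGroup_zpowers hyy4)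
      (zpowers_le.mpr (centralizer_le_normalizer _ (mem_centralizer_iff.mpr fun u hu => by
        obtain ⟨i, rfl⟩ := mem_zpowers_iff.mp hu
        exact (hjy.zpow_right i).eq.symm)))
  obtain ⟨S, hSM, hS, hnS, hRS, hmax⟩ := exists_invariant_sylow hR
    (sup_le (zpowers_le.mpr (le_normalizer hj)) (zpowers_le.mpr hy2n))
  have hjS : j ∈ S := hRS ⟨mem_sup_left (mem_zpowers j), hj⟩
  obtain ⟨T, hTC, hT, hyT, hsT, hzT, hsurj, hinj⟩ := hmov.exists_group hJ hK hSM hS
    (by rw [← hτ, ← hjj]; exact mul_mem hjS hjS) (hnS (mem_sup_right (mem_zpowers _)))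
  have hzpow : zb = (yb * yb) ^ 2 ^ k := by
    rw [hzb, ← hpw, el_pow hys, pow_succ', pow_mul, pow_two]
  -- a fixed element of order 4
  have hw : ∀ w ∈ S, w * w = τ → Commute (yb * yb) w →
      ∃ w0 ∈ T, el s w0 = w ∧ w0 ∈ Cn z ∧ cjg (el z w0) M2 ≠ M2 ∧ k = 0 ∧
        el z (w0 * y * w0⁻¹ * y⁻¹) = el z w0 * el z y * (el z w0)⁻¹ * (el z y)⁻¹ := by
    intro w hwS hww hwy
    obtain ⟨w0, hw0T, hw0⟩ := hsurj w hwS
    have hzw : w0 ∈ Cn z := by
      refine mem_Cn.mpr (hinj _ (T.mul_mem hw0T hzT) _ (T.mul_mem hzT hw0T) ?_)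
      rw [el_mul (hTC hw0T) hzs, el_mul hzs (hTC hw0T), hw0, ← hzb, hzpow]
      exact (hwy.pow_left _).eq.symm
    set w' := yb * w * yb⁻¹ with hw'
    have hww' : Commute w w' :=
      hM.commute_other (hM.map_conj yb).comp hne' (hSM hwS) (mem_cjg (hSM hwS))
    have hw'2 : w' * w' = τ := by
      rw [hw', show yb * w * yb⁻¹ * (yb * w * yb⁻¹) = yb * (w * w) * yb⁻¹ by group, hww, ← hM.tcen,
        mul_inv_cancel_right]
    set e := w0 * y * w0⁻¹ * y⁻¹ with he
    have heT : e ∈ T := T.mul_mem (T.mul_mem (T.mul_mem hw0T hyT) (T.inv_mem hw0T)) (T.inv_mem hyT)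
    have heel : el s e = w * w'⁻¹ := by
      rw [he, el_mul (mul_mem (mul_mem (hTC hw0T) hys) (inv_mem (hTC hw0T))) (inv_mem hys),
        el_conj (hTC hw0T) hys, el_inv hys, hw0, ← hyb, hw']
      group
    have hee : e * e = 1 := by
      refine hinj _ (T.mul_mem heT heT) _ (one_mem T) ?_
      rw [el_mul (hTC heT) (hTC heT), heel, el_one, ← pow_two, hww'.inv_right.mul_pow, pow_two,
        pow_two, hww, hM.inv_sq hw'2, hM.tsq]
    have hez : e ∈ Cn z := mul_mem (mul_mem (mul_mem hzw hyz) (inv_mem hzw)) (inv_mem hyz)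
    have hge : el z e = el z w0 * el z y * (el z w0)⁻¹ * (el z y)⁻¹ := by
      rw [he, el_mul (mul_mem (mul_mem hzw hyz) (inv_mem hzw)) (inv_mem hyz), el_conj hzw hyz,
        el_inv hyz]
    refine ⟨w0, hw0T, hw0, hzw, ?_⟩
    by_cases hmv : cjg (el z w0) M2 = M2
    · exfalso
      have hm : el z e ∈ M2 := hge ▸ mul_mem (hM2.conj_mem (mem_normalizer_of_cjg hmv) hyK) (inv_mem hyK)
      rcases hM2.uniq _ hm (by rw [← el_mul hez hez, hee, el_one]) with a | a
      · have h1 := el_eq_one hez (k := 1) (by rw [pow_one, pow_two, hee]) a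
        have h2 : w * w'⁻¹ = 1 := by rw [← heel, h1, el_one]
        rcases hM.inf_other (hM.map_conj yb).comp hne' (hSM hwS)
          (mul_inv_eq_one.mp h2 ▸ mem_cjg (hSM hwS)) with b | b
        · exact (hM.ne_tau hww).1 b
        · exact (hM.ne_tau hww).2 b
      · have h1 : e = z := eq_of_el hez (self_mem_Cn z) (k := 1) (l := 1)
          (by rw [pow_one, pow_two, hee]) (by rw [pow_one, pow_two, hK.sq]) (mem_Cn.mp hez) a
        refine hmov.final hyp (hSM hwS) hww hwy (Or.inr ?_)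
        rw [show el s z = el s e by rw [h1], heel, hM.inv_eq hw'2, ← mul_assoc]
    · refine ⟨hmv, ?_, hge⟩
      by_contra hk
      refine (hmov.commutator_order hK hzw hge hmv).1 ?_
      obtain ⟨k', rfl⟩ : ∃ k', k = k' + 1 := ⟨k - 1, by omega⟩
      rw [pow_succ', pow_mul, pow_two, ← el_mul hez hez, hee, el_one, one_pow]
  obtain ⟨j0, hj0T, hj0, hj0z, hjmv, hk0, -⟩ := hw j hjS hjj hjy
  subst hk0
  have hyy : y * y = z := by rw [← pow_two]; simpa using hpw
  have hybz : yb * yb = zb := by rw [hyb, ← el_mul hys hys, hyy]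
  obtain ⟨c, hcS, hcc, hcj, hjc⟩ := hM.exists_inverter hSM hS hmax hjS hjj
  set c'' := zb * c * zb⁻¹ with hc''
  have hzS : zb ∈ normalizer (S : Set (Gam s)) := hybz ▸ hnS (mem_sup_right (mem_zpowers _))
  have hc''S : c'' ∈ S := (mem_normalizer_iff.mp hzS c).mp hcS
  have hzj : Commute zb j := hybz ▸ hjy
  have hz1 : zb * zb = 1 := by rw [hzb, ← el_mul hzs hzs, hK.sq, el_one]
  have hc'2 : c'' * c'' = τ := by
    rw [hc'', show zb * c * zb⁻¹ * (zb * c * zb⁻¹) = zb * (c * c) * zb⁻¹ by group, hcc, ← hM.tcen,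
      mul_inv_cancel_right]
  set w := c⁻¹ * c'' with hw'
  have hwS : w ∈ S := S.mul_mem (S.inv_mem hcS) hc''S
  have hwj : Commute w j := by
    have h1 : c'' * j * c''⁻¹ = j⁻¹ := by
      calc c'' * j * c''⁻¹ = zb * (c * (zb⁻¹ * j * zb) * c⁻¹) * zb⁻¹ := by rw [hc'']; group
        _ = zb * (c * j * c⁻¹) * zb⁻¹ := by
          rw [mul_assoc zb⁻¹, ← hzj.eq, inv_mul_cancel_left]
        _ = j⁻¹ := by rw [hcj, hzj.inv_right.eq, mul_inv_cancel_right]
    change w * j = j * w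
    calc w * j = c⁻¹ * (c'' * j * c''⁻¹) * c'' := by rw [hw']; group
      _ = c⁻¹ * (c * j * c⁻¹) * c'' := by rw [h1, hcj]
      _ = j * w := by rw [hw']; group
  have hzw : zb * w * zb⁻¹ = w⁻¹ := by
    have h1 : zb * c'' * zb⁻¹ = c := by
      calc zb * c'' * zb⁻¹ = (zb * zb) * c * (zb * zb)⁻¹ := by rw [hc'']; group
        _ = c := by rw [hz1]; group
    calc zb * w * zb⁻¹ = (zb * c * zb⁻¹)⁻¹ * (zb * c'' * zb⁻¹) := by rw [hw']; group
      _ = w⁻¹ := by rw [h1, ← hc'', hw']; group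
  have hcfix : Commute zb c := by
    by_cases hw1 : w ∈ ({1, τ} : Set (Gam s))
    · rcases hw1 with e | e
      · have : c'' = c := (inv_mul_eq_one.mp e).symm
        exact mul_inv_eq_iff_eq_mul.mp this
      · exfalso
        refine hmov.inverted hyp (hSM hcS) hcc ?_
        rw [← hyb, hybz, ← hc'', hM.inv_eq hcc]
        rw [Set.mem_singleton_iff.mp e |>.symm, hw', mul_inv_cancel_left]
    · exfalso
      obtain ⟨i, hi⟩ := exists_pow_two_pow hS hwS
      obtain ⟨e, he⟩ := hM.sq_of_order (hSM hwS) hi hw1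
      set d := w ^ 2 ^ e with hd
      have hzd : zb * d * zb⁻¹ = d⁻¹ := by rw [hd, ← conj_pow, hzw, inv_pow]
      rcases hM.comm_eq hj (pow_mem (hSM hwS) _) hjj he (hwj.pow_left _).eq.symm with a | a <;>
        rw [← hd] at a <;> rw [a] at hzd
      · rw [hzj.eq, mul_inv_cancel_right, hM.inv_eq hjj] at hzd
        exact hM.tne (mul_eq_left.mp hzd.symm)
      · rw [hzj.inv_right.eq, mul_inv_cancel_right, inv_inv, hM.inv_eq hjj] at hzd
        exact hM.tne (mul_eq_left.mp hzd)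
  obtain ⟨c0, hc0T, hc0, hc0z, hcmv, -, hce⟩ := hw c hcS hcc (hybz ▸ hcfix)
  have hjc' : j * c * (j * c) = τ := by
    calc j * c * (j * c) = j * (c * j * c⁻¹) * (c * c) := by group
      _ = τ := by rw [hcj, mul_inv_cancel, one_mul, hcc]
  obtain ⟨p0, hp0T, hp0, hp0z, hpmv, -, -⟩ := hw (j * c) (S.mul_mem hjS hcS) hjc'
    (hybz ▸ hzj.mul_right hcfix)
  have hp : p0 = j0 * c0 := hinj _ hp0T _ (T.mul_mem hj0T hc0T) (by
    rw [hp0, el_mul (hTC hj0T) (hTC hc0T), hj0, hc0])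
  subst hp
  set yz := el z y with hyz'
  set ec := c0 * y * c0⁻¹ * y⁻¹ with hec
  have hecT : ec ∈ T := T.mul_mem (T.mul_mem (T.mul_mem hc0T hyT) (T.inv_mem hc0T)) (T.inv_mem hyT)
  have hecC : ec ∈ Cn z := mul_mem (mul_mem (mul_mem hc0z hyz) (inv_mem hc0z)) (inv_mem hyz)
  -- `s` induces `y` on the component of `z`
  have hs_eq : s = ec⁻¹ * (j0 * ec * j0⁻¹) := by
    refine hinj _ hsT _ (T.mul_mem (T.inv_mem hecT) (T.mul_mem (T.mul_mem hj0T hecT) (T.inv_mem hj0T))) ?_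
    rw [el_mul (inv_mem (hTC hecT)) (mul_mem (mul_mem (hTC hj0T) (hTC hecT)) (inv_mem (hTC hj0T))),
      el_inv (hTC hecT), el_conj (hTC hj0T) (hTC hecT), hj0]
    have hel : el s ec = c * (yb * c * yb⁻¹)⁻¹ := by
      rw [hec, el_mul (mul_mem (mul_mem (hTC hc0T) hys) (inv_mem (hTC hc0T))) (inv_mem hys),
        el_conj (hTC hc0T) hys, el_inv hys, hc0, ← hyb]
      group
    rw [hel, ← hτ]
    set c' := yb * c * yb⁻¹ with hc'
    have c1 : Commute j c' := hM.commute_other (hM.map_conj yb).comp hne' hj (mem_cjg (hSM hcS))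
    symm
    calc (c * c'⁻¹)⁻¹ * (j * (c * c'⁻¹) * j⁻¹) = c' * c⁻¹ * ((j * c * j⁻¹) * (j * c'⁻¹ * j⁻¹)) := by group
      _ = c' * (c⁻¹ * c⁻¹) * c'⁻¹ := by
        rw [hjc, c1.inv_right.eq, mul_inv_cancel_right]; group
      _ = τ := by rw [hM.inv_sq hcc, ← hM.tcen, mul_inv_cancel_right]
  set a := el z j0 with ha
  set b := el z c0 with hb
  have hab : el z (j0 * c0) = a * b := el_mul hj0z hc0z
  rw [hab] at hpmv
  have hσeq : σ = yz * (b * yz * b⁻¹)⁻¹ * (a * b * yz * (a * b)⁻¹) * (a * yz * a⁻¹)⁻¹ := by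
    rw [hσ, hs_eq, el_mul (inv_mem hecC) (mul_mem (mul_mem hj0z hecC) (inv_mem hj0z)),
      el_inv hecC, el_conj hj0z hecC, hec, hce, ← ha]
    group
  have hyz2 : yz * yz = el z z := by rw [hyz', ← el_mul hyz hyz, hyy]
  have hyzp : yz ^ 2 ^ 2 = 1 := by
    rw [show (2 : ℕ) ^ 2 = 2 + 2 from rfl, pow_add, pow_two, hyz2, hM2.tsq]
  obtain ⟨S2, hS2M, hS2, -, hyS2, hmax2⟩ := exists_invariant_sylow (M := M2) (isPGroup_zpowers hyzp)
    (zpowers_le.mpr (le_normalizer hyK))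
  obtain ⟨kk, hkkS, hkkk, hky, hyk⟩ := hM2.exists_inverter hS2M hS2 hmax2
    (hyS2 ⟨mem_zpowers yz, hyK⟩) hyz2
  have hcomm' : ∀ g, cjg g M2 ≠ M2 → Commute kk (g * yz * g⁻¹) := fun g hg =>
    hM2.commute_other (hM2.map_conj g).comp (Ne.symm hg) (hS2M hkkS) (mem_cjg hyK)
  have hσk : σ * kk * σ⁻¹ = kk⁻¹ := by
    have c1 := hcomm' _ hjmv
    have c2 := hcomm' _ hcmv
    have c3 := hcomm' _ hpmv
    have c4 : Commute kk ((b * yz * b⁻¹)⁻¹ * (a * b * yz * (a * b)⁻¹) * (a * yz * a⁻¹)⁻¹) :=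
      (c2.inv_right.mul_right c3).mul_right c1.inv_right
    have e : σ = yz * ((b * yz * b⁻¹)⁻¹ * (a * b * yz * (a * b)⁻¹) * (a * yz * a⁻¹)⁻¹) := by
      rw [hσeq]; group
    rw [e]
    calc _ = yz * (((b * yz * b⁻¹)⁻¹ * (a * b * yz * (a * b)⁻¹) * (a * yz * a⁻¹)⁻¹) * kk *
          ((b * yz * b⁻¹)⁻¹ * (a * b * yz * (a * b)⁻¹) * (a * yz * a⁻¹)⁻¹)⁻¹) * yz⁻¹ := by group
      _ = yz * kk * yz⁻¹ := by rw [← c4.eq, mul_inv_cancel_right]
      _ = kk⁻¹ := hyk
  have hj0sq : j0 * j0 = s := hinj _ (T.mul_mem hj0T hj0T) _ hsT (by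
    rw [el_mul (hTC hj0T) (hTC hj0T), hj0, hjj])
  have hjm : Mover K J z s j0 0 := by
    refine ⟨hj0z, hTC hj0T, ?_, by simpa [pow_two] using hj0sq, ?_, by rw [hj0sq]; exact hsK⟩
    · rw [hj0]; exact hj
    · exact fun hh => hjmv (cjg_eq_of_mem ((el_mem_normalizer_iff hK hj0z).mpr hh))
  refine hjm.inverted hyp.symm (hS2M hkkS) hkkk ?_
  rw [← el_mul hj0z hj0z, hj0sq]
  exact hσk

end Swap

end Cfsg.Agent.SL2Pair
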