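import Cfsg.Agent.Lib.Root.SLTwo
import Mathlib.GroupTheory.PGroup
import Mathlib.LinearAlgebra.Matrix.ToLin

/-! An irreducible module for `SL₂(F)` on which the unitriangular group acts quadratically,
or fixes at least a square root of the module, is the natural module. -/

set_option autoImplicit false
set_option linter.unusedSectionVars false

namespace Cfsg.Agent.SL2Quad

open Cfsg Matrix
open Cfsg.Agent.RootLib
open scoped MatrixGroups

variable {F : Type*} [Field F]

/-- `diag(a, a⁻¹)`. -/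
def dEl (a : F) (ha : a ≠ 0) : SL(2, F) :=
  ⟨!![a, 0; 0, a⁻¹], by simp [Matrix.det_fin_two_of, ha]⟩

@[simp] theorem dEl_val (a : F) (ha : a ≠ 0) :
    ((dEl a ha : SL(2, F)) : Matrix (Fin 2) (Fin 2) F) = !![a, 0; 0, a⁻¹] := rfl

theorem dEl_one : dEl (1 : F) one_ne_zero = 1 := by
  ext i j
  fin_cases i <;> fin_cases j <;> simp

theorem dEl_mul {a b : F} (ha : a ≠ 0) (hb : b ≠ 0) :
    dEl a ha * dEl b hb = dEl (a * b) (mul_ne_zero ha hb) := by
  ext i j
  fin_cases i <;> fin_cases j <;> simp [Matrix.mul_apply, Fin.sum_univ_two, mul_comm]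

/-- `!![0, 1; -1, 0]`. -/
def wEl : SL(2, F) := ⟨!![0, 1; -1, 0], by simp [Matrix.det_fin_two_of]⟩

@[simp] theorem wEl_val : ((wEl : SL(2, F)) : Matrix (Fin 2) (Fin 2) F) = !![0, 1; -1, 0] := rfl

theorem d_u {a : F} (ha : a ≠ 0) (t : F) : uEl t * dEl a ha = dEl a ha * uEl (t / a ^ 2) := by
  ext i j
  fin_cases i <;> fin_cases j <;> simp [Matrix.mul_apply, Fin.sum_univ_two] <;> field_simp

theorem d_l {a : F} (ha : a ≠ 0) (t : F) : lEl t * dEl a ha = dEl a ha * lEl (t * a ^ 2) := by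
  ext i j
  fin_cases i <;> fin_cases j <;> simp [Matrix.mul_apply, Fin.sum_univ_two] <;> field_simp

theorem w_u (t : F) : lEl t * wEl = wEl * uEl (-t) := by
  ext i j
  fin_cases i <;> fin_cases j <;> simp [Matrix.mul_apply, Fin.sum_univ_two]

theorem w_l (t : F) : uEl t * wEl = wEl * lEl (-t) := by
  ext i j
  fin_cases i <;> fin_cases j <;> simp [Matrix.mul_apply, Fin.sum_univ_two]

theorem braid {t : F} (ht : t ≠ 0) :
    uEl t * lEl (-t⁻¹) * uEl t = wEl * dEl t⁻¹ (inv_ne_zero ht) := by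
  ext i j
  fin_cases i <;> fin_cases j <;> simp [Matrix.mul_apply, Fin.sum_univ_two, ht]

theorem braid' {t : F} (ht : t ≠ 0) :
    lEl (-t⁻¹) * uEl t * lEl (-t⁻¹) = wEl * dEl t⁻¹ (inv_ne_zero ht) := by
  ext i j
  fin_cases i <;> fin_cases j <;> simp [Matrix.mul_apply, Fin.sum_univ_two, ht]

theorem w_sq : wEl * wEl = dEl (-1 : F) (neg_ne_zero.2 one_ne_zero) := by
  ext i j
  fin_cases i <;> fin_cases j <;> simp [Matrix.mul_apply, Fin.sum_univ_two]

variable {V : Type*} [AddCommGroup V] [DistribMulAction SL(2, F) V]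

/-- Elements fixed by the upper unitriangular group. -/
def fixU : AddSubgroup V where
  carrier := {v | ∀ t : F, uEl t • v = v}
  zero_mem' := fun t => smul_zero _
  add_mem' := fun ha hb t => by rw [smul_add, ha t, hb t]
  neg_mem' := fun ha t => by rw [smul_neg, ha t]

/-- Elements fixed by the lower unitriangular group. -/
def fixL : AddSubgroup V where
  carrier := {v | ∀ t : F, lEl t • v = v}
  zero_mem' := fun t => smul_zero _
  add_mem' := fun ha hb t => by rw [smul_add, ha t, hb t]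
  neg_mem' := fun ha t => by rw [smul_neg, ha t]

theorem mem_fixU {v : V} : v ∈ fixU (F := F) ↔ ∀ t : F, uEl t • v = v := Iff.rfl

theorem mem_fixL {v : V} : v ∈ fixL (F := F) ↔ ∀ t : F, lEl t • v = v := Iff.rfl

variable (F V) in
/-- The module is irreducible and nontrivial. -/
structure IrrMod : Prop where
  irr : ∀ W : AddSubgroup V, (∀ g : SL(2, F), ∀ v ∈ W, g • v ∈ W) → W = ⊥ ∨ W = ⊤
  nt : ∃ (g : SL(2, F)) (v : V), g • v ≠ v

variable (F V) in
/-- Quadratic action of the upper unitriangular group. -/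
def IsQuad : Prop := ∀ (t : F) (v : V), uEl t • v - v ∈ fixU (F := F)

theorem invariant_of_gen {W : AddSubgroup V} (hu : ∀ (t : F), ∀ v ∈ W, uEl t • v ∈ W)
    (hl : ∀ (t : F), ∀ v ∈ W, lEl t • v ∈ W) (g : SL(2, F)) : ∀ v ∈ W, g • v ∈ W := by
  have hg : g ∈ lowerUnipotentSL2 F ⊔ upperUnipotentSL2 F := by rw [sl_two_sup]; trivial
  rw [Subgroup.sup_eq_closure] at hg
  suffices ∀ v ∈ W, g • v ∈ W ∧ g⁻¹ • v ∈ W from fun v hv => (this v hv).1
  induction hg using Subgroup.closure_induction with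
  | mem x hx =>
    intro v hv
    rcases hx with h | h
    · obtain ⟨t, rfl⟩ := mem_lower.1 h
      exact ⟨hl t v hv, by rw [lEl_inv]; exact hl _ v hv⟩
    · obtain ⟨t, rfl⟩ := mem_upper.1 h
      exact ⟨hu t v hv, by rw [uEl_inv]; exact hu _ v hv⟩
  | one => intro v hv; simpa using hv
  | mul x y _ _ hx hy =>
    intro v hv
    exact ⟨by rw [mul_smul]; exact (hx _ (hy v hv).1).1,
      by rw [_root_.mul_inv_rev, mul_smul]; exact (hy _ (hx v hv).2).2⟩
  | inv x _ hx =>
    intro v hv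
    exact ⟨(hx v hv).2, by rw [inv_inv]; exact (hx v hv).1⟩

theorem IrrMod.inf_eq_bot (h : IrrMod F V) : fixU (F := F) ⊓ fixL (F := F) = (⊥ : AddSubgroup V) := by
  rcases h.irr (fixU (F := F) ⊓ fixL (F := F)) (invariant_of_gen
    (fun t v hv => by rw [hv.1 t]; exact hv) (fun t v hv => by rw [hv.2 t]; exact hv)) with hb | ht
  · exact hb
  · exfalso
    obtain ⟨g, v, hne⟩ := h.nt
    refine hne ?_
    have hg : g ∈ lowerUnipotentSL2 F ⊔ upperUnipotentSL2 F := by rw [sl_two_sup]; trivial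
    rw [Subgroup.sup_eq_closure] at hg
    have hv : v ∈ fixU (F := F) ⊓ fixL (F := F) := ht.symm ▸ AddSubgroup.mem_top v
    clear hne
    induction hg using Subgroup.closure_induction with
    | mem x hx =>
      rcases hx with h | h
      · obtain ⟨t, rfl⟩ := mem_lower.1 h
        exact hv.2 t
      · obtain ⟨t, rfl⟩ := mem_upper.1 h
        exact hv.1 t
    | one => exact one_smul _ _
    | mul x y _ _ hx hy => rw [mul_smul, hy, hx]
    | inv x _ hx =>
      conv_lhs => rw [← hx]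
      rw [inv_smul_smul]

theorem IrrMod.eq_zero (h : IrrMod F V) {v : V} (h1 : v ∈ fixU (F := F)) (h2 : v ∈ fixL (F := F)) :
    v = 0 :=
  AddSubgroup.mem_bot.1 (h.inf_eq_bot ▸ (⟨h1, h2⟩ : v ∈ fixU (F := F) ⊓ fixL (F := F)))

theorem w_fixU {x : V} (hx : x ∈ fixU (F := F)) : (wEl : SL(2, F)) • x ∈ fixL (F := F) := fun t => by
  rw [← mul_smul, w_u, mul_smul, hx]

theorem w_fixL {x : V} (hx : x ∈ fixL (F := F)) : (wEl : SL(2, F)) • x ∈ fixU (F := F) := fun t => by
  rw [← mul_smul, w_l, mul_smul, hx]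

theorem d_fixU {a : F} (ha : a ≠ 0) {x : V} (hx : x ∈ fixU (F := F)) :
    dEl a ha • x ∈ fixU (F := F) := fun t => by
  rw [← mul_smul, d_u, mul_smul, hx]

theorem d_fixL {a : F} (ha : a ≠ 0) {x : V} (hx : x ∈ fixL (F := F)) :
    dEl a ha • x ∈ fixL (F := F) := fun t => by
  rw [← mul_smul, d_l, mul_smul, hx]

section quad

theorem IsQuad.lower (q : IsQuad F V) (t : F) (v : V) : lEl t • v - v ∈ fixL (F := F) := by
  have h := w_fixU (q (-t) ((wEl : SL(2, F))⁻¹ • v))
  rwa [smul_sub, ← mul_smul, ← w_u, mul_smul, smul_inv_smul] at h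

theorem IsQuad.sup_eq_top (q : IsQuad F V) (h : IrrMod F V) :
    fixU (F := F) ⊔ fixL (F := F) = (⊤ : AddSubgroup V) := by
  refine (h.irr (fixU (F := F) ⊔ fixL (F := F)) (invariant_of_gen ?_ ?_)).resolve_left ?_
  · intro t v hv
    rw [← sub_add_cancel (uEl t • v) v]
    exact add_mem (AddSubgroup.mem_sup_left (q t v)) hv
  · intro t v hv
    rw [← sub_add_cancel (lEl t • v) v]
    exact add_mem (AddSubgroup.mem_sup_right (q.lower t v)) hv
  · intro hb
    obtain ⟨g, v, hne⟩ := h.nt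
    have hu : ∀ (t : F) (v : V), uEl t • v = v := fun t v => sub_eq_zero.1
      (AddSubgroup.mem_bot.1 (hb ▸ AddSubgroup.mem_sup_left (q t v)))
    have : v ∈ (⊥ : AddSubgroup V) :=
      hb ▸ AddSubgroup.mem_sup_left (mem_fixU.2 fun t => hu t v)
    rw [AddSubgroup.mem_bot] at this
    exact hne (by rw [this, smul_zero])

/-- The key computation: `u(t)` on `w x`. -/
theorem IsQuad.u_w (q : IsQuad F V) (h : IrrMod F V) {t : F} (ht : t ≠ 0) {x : V}
    (hx : x ∈ fixU (F := F)) :
    uEl t • (wEl : SL(2, F)) • x - (wEl : SL(2, F)) • x = -(dEl t ht • x) := by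
  set y := dEl t ht • x with hy
  have hyX : y ∈ fixU (F := F) := d_fixU ht hx
  set b := lEl (-t⁻¹) • y - y with hb
  set a := uEl t • b - b with ha
  have hwy : (wEl : SL(2, F)) • x = b + (y + a) := by
    have : (wEl : SL(2, F)) • x = (wEl * dEl t⁻¹ (inv_ne_zero ht)) • y := by
      rw [mul_smul, hy, ← mul_smul (dEl t⁻¹ _), dEl_mul]
      simp only [inv_mul_cancel₀ ht, dEl_one, one_smul]
    rw [this, ← braid ht, mul_smul, mul_smul, hyX, ← sub_add_cancel (lEl (-t⁻¹) • y) y, ← hb,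
      smul_add, hyX, ha]
    abel
  have h0 : y + a = 0 := by
    refine h.eq_zero (add_mem hyX (q t b)) ?_
    have := sub_mem (w_fixU hx) (q.lower (-t⁻¹) y : b ∈ fixL (F := F))
    rwa [hwy, add_sub_cancel_left] at this
  rw [hwy, h0, add_zero]
  exact eq_neg_of_add_eq_zero_right h0

/-- The scalar action on the fixed points of `U`. -/
noncomputable def sc (a : F) (v : V) : V := by
  classical exact if ha : a = 0 then 0 else dEl a ha • v

theorem sc_zero (v : V) : sc (0 : F) v = 0 := dif_pos rfl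

theorem sc_ne {a : F} (ha : a ≠ 0) (v : V) : sc a v = dEl a ha • v := dif_neg ha

theorem sc_one (v : V) : sc (1 : F) v = v := by rw [sc_ne one_ne_zero, dEl_one, one_smul]

theorem sc_map_zero (a : F) : sc a (0 : V) = 0 := by
  rcases eq_or_ne a 0 with rfl | ha
  · exact sc_zero _
  · rw [sc_ne ha, smul_zero]

theorem sc_map_add (a : F) (v w : V) : sc a (v + w) = sc a v + sc a w := by
  rcases eq_or_ne a 0 with rfl | ha
  · simp [sc_zero]
  · simp [sc_ne ha]

theorem sc_mul (a b : F) (v : V) : sc (a * b) v = sc a (sc b v) := by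
  rcases eq_or_ne a 0 with rfl | ha
  · simp [sc_zero]
  rcases eq_or_ne b 0 with rfl | hb
  · simp [sc_zero, sc_map_zero]
  rw [sc_ne ha, sc_ne hb, sc_ne (mul_ne_zero ha hb), ← mul_smul, dEl_mul]

theorem sc_mem (a : F) {x : V} (hx : x ∈ fixU (F := F)) : sc a x ∈ fixU (F := F) := by
  rcases eq_or_ne a 0 with rfl | ha
  · rw [sc_zero]; exact zero_mem _
  · rw [sc_ne ha]; exact d_fixU ha hx

theorem IsQuad.u_w' (q : IsQuad F V) (h : IrrMod F V) (t : F) {x : V}
    (hx : x ∈ fixU (F := F)) :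
    uEl t • (wEl : SL(2, F)) • x = (wEl : SL(2, F)) • x - sc t x := by
  rcases eq_or_ne t 0 with rfl | ht
  · rw [uEl_zero, one_smul, sc_zero, sub_zero]
  · rw [sc_ne ht, sub_eq_add_neg, ← q.u_w h ht hx]
    abel

theorem IsQuad.sc_add (q : IsQuad F V) (h : IrrMod F V) (s t : F) {x : V}
    (hx : x ∈ fixU (F := F)) : sc (s + t) x = sc s x + sc t x := by
  have h1 := q.u_w' h (s + t) hx
  rw [← uEl_mul, mul_smul, q.u_w' h t hx, smul_sub, q.u_w' h s hx, sc_mem t hx] at h1
  refine (sub_right_injective (b := (wEl : SL(2, F)) • x) ?_).symm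
  show _ - _ = _ - _
  rw [← h1]
  abel

theorem IsQuad.w_w (q : IsQuad F V) (h : IrrMod F V) {x : V} (hx : x ∈ fixU (F := F)) :
    (wEl : SL(2, F)) • (wEl : SL(2, F)) • x = -x := by
  rw [← mul_smul, w_sq, ← sc_ne, eq_neg_iff_add_eq_zero]
  conv_lhs => enter [2]; rw [← sc_one (F := F) x]
  rw [← q.sc_add h _ _ hx, neg_add_cancel, sc_zero]

theorem IsQuad.l_fix (q : IsQuad F V) (h : IrrMod F V) (t : F) {x : V}
    (hx : x ∈ fixU (F := F)) :
    lEl t • x = x - (wEl : SL(2, F)) • sc t x := by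
  have h1 := congrArg ((wEl : SL(2, F)) • ·) (q.u_w' h (-t) hx)
  simp only [smul_sub, ← mul_smul] at h1
  rw [← mul_assoc, ← w_u, mul_smul, mul_smul, mul_smul, q.w_w h hx, smul_neg] at h1
  have h2 : sc (-t) x = -sc t x :=
    eq_neg_of_add_eq_zero_left (by rw [← q.sc_add h _ _ hx, neg_add_cancel, sc_zero])
  rw [h2, smul_neg] at h1
  rw [← neg_inj, h1]
  abel

/-- The equivariant map `F² → V` through a fixed point of `U`. -/
noncomputable def natMap (q : IsQuad F V) (h : IrrMod F V) {x : V} (hx : x ∈ fixU (F := F)) :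
    (Fin 2 → F) →+ V where
  toFun c := sc (c 0) x - (wEl : SL(2, F)) • sc (c 1) x
  map_zero' := by simp [sc_zero]
  map_add' c d := by
    simp only [Pi.add_apply]
    rw [q.sc_add h _ _ hx, q.sc_add h _ _ hx, smul_add]
    abel

theorem natMap_apply (q : IsQuad F V) (h : IrrMod F V) {x : V} (hx : x ∈ fixU (F := F))
    (c : Fin 2 → F) :
    natMap q h hx c = sc (c 0) x - (wEl : SL(2, F)) • sc (c 1) x := rfl

theorem natMap_u (q : IsQuad F V) (h : IrrMod F V) {x : V} (hx : x ∈ fixU (F := F)) (t : F)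
    (c : Fin 2 → F) :
    natMap q h hx ((uEl t : Matrix (Fin 2) (Fin 2) F).mulVec c) = uEl t • natMap q h hx c := by
  rw [natMap_apply, natMap_apply, smul_sub, q.u_w' h t (sc_mem _ hx), sc_mem (c 0) hx, ← sc_mul]
  simp only [uEl_val, Matrix.mulVec, dotProduct, Fin.sum_univ_two, Matrix.cons_val', Matrix.cons_val_zero,
    Matrix.cons_val_one, Matrix.of_apply, Matrix.cons_val_fin_one, one_mul, zero_mul, zero_add]
  rw [q.sc_add h _ _ hx]
  abel

theorem natMap_l (q : IsQuad F V) (h : IrrMod F V) {x : V} (hx : x ∈ fixU (F := F)) (t : F)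
    (c : Fin 2 → F) :
    natMap q h hx ((lEl t : Matrix (Fin 2) (Fin 2) F).mulVec c) = lEl t • natMap q h hx c := by
  rw [natMap_apply, natMap_apply, smul_sub, q.l_fix h t (sc_mem _ hx),
    (w_fixU (sc_mem (c 1) hx) : _ ∈ fixL (F := F)) t, ← sc_mul]
  simp only [lEl_val, Matrix.mulVec, dotProduct, Fin.sum_univ_two, Matrix.cons_val', Matrix.cons_val_zero,
    Matrix.cons_val_one, Matrix.of_apply, Matrix.cons_val_fin_one, one_mul, zero_mul, add_zero]
  rw [q.sc_add h _ _ hx, smul_add]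
  abel

theorem IsQuad.natural (q : IsQuad F V) (h : IrrMod F V) :
    ∃ ψ : V ≃+ (Fin 2 → F), ∀ (g : SL(2, F)) (v : V),
      ψ (g • v) = (g : Matrix (Fin 2) (Fin 2) F).mulVec (ψ v) := by
  obtain ⟨x, hx, hx0⟩ : ∃ x ∈ fixU (F := F), x ≠ (0 : V) := by
    by_contra hc
    push Not at hc
    obtain ⟨g, v, hne⟩ := h.nt
    obtain ⟨a, ha, b, hb, rfl⟩ := AddSubgroup.mem_sup.1
      (show v ∈ fixU (F := F) ⊔ fixL (F := F) by rw [q.sup_eq_top h]; trivial)
    have hb0 : b = 0 := by
      have := hc _ (w_fixL hb)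
      exact (smul_eq_zero_iff_eq (wEl : SL(2, F))).1 this
    exact hne (by rw [hc a ha, hb0, add_zero, smul_zero])
  set Φ := natMap q h hx
  have hsc0 : ∀ a : F, sc a x = 0 → a = 0 := by
    intro a ha
    by_contra hne
    rw [sc_ne hne, smul_eq_zero_iff_eq] at ha
    exact hx0 ha
  have hinj : Function.Injective Φ := by
    rw [injective_iff_map_eq_zero]
    intro c hc
    rw [natMap_apply, sub_eq_zero] at hc
    have h1 : sc (c 0) x = 0 :=
      h.eq_zero (sc_mem _ hx) (by rw [hc]; exact w_fixU (sc_mem _ hx))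
    rw [h1] at hc
    have h2 : sc (c 1) x = 0 := (smul_eq_zero_iff_eq (wEl : SL(2, F))).1 hc.symm
    funext i
    fin_cases i
    · exact hsc0 _ h1
    · exact hsc0 _ h2
  have hsurj : Function.Surjective Φ := by
    rw [← AddMonoidHom.range_eq_top]
    refine (h.irr Φ.range (invariant_of_gen ?_ ?_)).resolve_left ?_
    · rintro t _ ⟨c, rfl⟩
      exact ⟨_, natMap_u q h hx t c⟩
    · rintro t _ ⟨c, rfl⟩
      exact ⟨_, natMap_l q h hx t c⟩
    · intro hb
      have : Φ ![1, 0] = 0 := AddSubgroup.mem_bot.1 (hb ▸ ⟨_, rfl⟩)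
      have := congrFun (hinj (this.trans (map_zero Φ).symm)) 0
      simp at this
  let E : (Fin 2 → F) ≃+ V := AddEquiv.ofBijective Φ ⟨hinj, hsurj⟩
  refine ⟨E.symm, fun g v => ?_⟩
  rw [AddEquiv.symm_apply_eq]
  suffices ∀ c, Φ ((g : Matrix (Fin 2) (Fin 2) F).mulVec c) = g • Φ c by
    show g • v = Φ _
    rw [this]
    congr 1
    exact (E.apply_symm_apply v).symm
  have hg : g ∈ lowerUnipotentSL2 F ⊔ upperUnipotentSL2 F := by rw [sl_two_sup]; trivial
  rw [Subgroup.sup_eq_closure] at hg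
  induction hg using Subgroup.closure_induction with
  | mem y hy =>
    intro c
    rcases hy with h' | h'
    · obtain ⟨t, rfl⟩ := mem_lower.1 h'
      exact natMap_l q h hx t c
    · obtain ⟨t, rfl⟩ := mem_upper.1 h'
      exact natMap_u q h hx t c
  | one => intro c; simp
  | mul y z _ _ hy hz =>
    intro c
    rw [Matrix.SpecialLinearGroup.coe_mul, ← Matrix.mulVec_mulVec, hy, hz, mul_smul]
  | inv y _ hy =>
    intro c
    have := hy ((y⁻¹ : SL(2, F)).1.mulVec c)
    rw [Matrix.mulVec_mulVec, ← Matrix.SpecialLinearGroup.coe_mul, mul_inv_cancel,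
      Matrix.SpecialLinearGroup.coe_one, Matrix.one_mulVec] at this
    rw [this, inv_smul_smul]

end quad

section square

variable [Finite F] [Finite V] {p : ℕ} [Fact p.Prime] [CharP F p]

theorem u_fixed_quotient (hp : ∀ v : V, p • v = 0)
    (hne : (fixU (F := F) : AddSubgroup V) ≠ ⊤) :
    ∃ v : V, v ∉ fixU (F := F) ∧ ∀ t : F, uEl t • v - v ∈ fixU (F := F) := by
  let X : AddSubgroup V := fixU (F := F)
  have hmap : ∀ t : F, X ≤ X.comap (DistribSMul.toAddMonoidHom V (uEl t)) := fun t x hx => by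
    show uEl t • x ∈ X
    rw [hx t]; exact hx
  let act : MulAction (Multiplicative F) (V ⧸ X) :=
    { smul := fun t => QuotientAddGroup.map X X (DistribSMul.toAddMonoidHom V (uEl t.toAdd))
        (hmap _)
      one_smul := fun q => by
        induction q using QuotientAddGroup.induction_on with
        | H v =>
          show QuotientAddGroup.map X X _ _ (v : V ⧸ X) = _
          rw [QuotientAddGroup.map_mk]
          simp [uEl_zero]
      mul_smul := fun a b q => by
        induction q using QuotientAddGroup.induction_on with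
        | H v =>
          show QuotientAddGroup.map X X _ _ (v : V ⧸ X) =
            QuotientAddGroup.map X X _ _ (QuotientAddGroup.map X X _ _ (v : V ⧸ X))
          rw [QuotientAddGroup.map_mk, QuotientAddGroup.map_mk, QuotientAddGroup.map_mk]
          simp [← uEl_mul, mul_smul] }
  have hP : IsPGroup p (Multiplicative F) := fun a => ⟨1, by
    rw [pow_one]
    refine Multiplicative.toAdd.injective ?_
    rw [toAdd_pow, toAdd_one, nsmul_eq_mul, CharP.cast_eq_zero, zero_mul]⟩
  have hdvd : p ∣ Nat.card (V ⧸ X) := by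
    obtain ⟨q, hq⟩ : ∃ q : V ⧸ X, q ≠ 0 := by
      by_contra hc
      push Not at hc
      exact hne (eq_top_iff.2 fun v _ => (QuotientAddGroup.eq_zero_iff v).1 (hc v))
    induction q using QuotientAddGroup.induction_on with
    | H v =>
      have hord : addOrderOf (v : V ⧸ X) = p :=
        addOrderOf_eq_prime (by rw [← QuotientAddGroup.mk_nsmul, hp, QuotientAddGroup.mk_zero]) hq
      exact hord ▸ addOrderOf_dvd_natCard _
  have h0 : (0 : V ⧸ X) ∈ MulAction.fixedPoints (Multiplicative F) (V ⧸ X) := fun a => by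
    show QuotientAddGroup.map X X _ _ 0 = 0
    exact map_zero _
  obtain ⟨q, hq, hq0⟩ := hP.exists_fixed_point_of_prime_dvd_card_of_fixed_point (V ⧸ X) hdvd h0
  induction q using QuotientAddGroup.induction_on with
  | H v =>
    refine ⟨v, fun hv => hq0 ((QuotientAddGroup.eq_zero_iff v).2 hv).symm, fun t => ?_⟩
    have h1 : QuotientAddGroup.map X X _ (hmap _) (v : V ⧸ X) = v := hq (Multiplicative.ofAdd t)
    rw [QuotientAddGroup.map_mk] at h1
    show _ ∈ X
    rw [← QuotientAddGroup.eq_zero_iff, QuotientAddGroup.mk_sub, sub_eq_zero]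
    exact h1

theorem quad_of_card (h : IrrMod F V) (hp : ∀ v : V, p • v = 0)
    (hc : Nat.card V ≤ Nat.card (fixU (F := F) : AddSubgroup V) ^ 2) : IsQuad F V := by
  set X : AddSubgroup V := fixU (F := F) with hX
  set X' : AddSubgroup V := fixL (F := F) with hX'
  -- `V = X + X'`
  have hwX : Nat.card X ≤ Nat.card X' :=
    Nat.card_le_card_of_injective (fun x => (⟨(wEl : SL(2, F)) • x.1, w_fixU x.2⟩ : X'))
      fun a b hab => Subtype.ext ((MulAction.injective _) (congrArg Subtype.val hab))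
  have hadd : Function.Bijective (fun c : X × X' => c.1.1 + c.2.1) := by
    have hinj : Function.Injective (fun c : X × X' => c.1.1 + c.2.1) := by
      rintro ⟨a, b⟩ ⟨a', b'⟩ hab
      have e : a.1 - a'.1 = b'.1 - b.1 := sub_eq_sub_iff_add_eq_add.2 (by rw [add_comm b'.1]; exact hab)
      have e0 : a.1 - a'.1 = 0 :=
        h.eq_zero (sub_mem a.2 a'.2) (by rw [e]; exact sub_mem b'.2 b.2)
      refine Prod.ext (Subtype.ext (sub_eq_zero.1 e0)) (Subtype.ext (sub_eq_zero.1 ?_).symm)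
      rw [← e, e0]
    refine (Nat.bijective_iff_injective_and_card _).2 ⟨hinj, le_antisymm
      (Nat.card_le_card_of_injective _ hinj) ?_⟩
    rw [Nat.card_prod]
    calc Nat.card V ≤ Nat.card X ^ 2 := hc
      _ = Nat.card X * Nat.card X := sq _
      _ ≤ _ := Nat.mul_le_mul_left _ hwX
  let P' : AddSubgroup V :=
    { carrier := {b | b ∈ X' ∧ ∀ t : F, uEl t • b - b ∈ X}
      zero_mem' := ⟨zero_mem _, fun t => by simp⟩
      add_mem' := fun ha hb => ⟨add_mem ha.1 hb.1, fun t => by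
        rw [smul_add, add_sub_add_comm]; exact add_mem (ha.2 t) (hb.2 t)⟩
      neg_mem' := fun ha => ⟨neg_mem ha.1, fun t => by
        rw [smul_neg, ← neg_sub']; exact neg_mem (ha.2 t)⟩ }
  let P : AddSubgroup V :=
    { carrier := {a | a ∈ X ∧ ∀ t : F, lEl t • a - a ∈ X'}
      zero_mem' := ⟨zero_mem _, fun t => by simp⟩
      add_mem' := fun ha hb => ⟨add_mem ha.1 hb.1, fun t => by
        rw [smul_add, add_sub_add_comm]; exact add_mem (ha.2 t) (hb.2 t)⟩
      neg_mem' := fun ha => ⟨neg_mem ha.1, fun t => by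
        rw [smul_neg, ← neg_sub']; exact neg_mem (ha.2 t)⟩ }
  have hwP : ∀ a ∈ P, (wEl : SL(2, F)) • a ∈ P' := fun a ha => ⟨w_fixU ha.1, fun t => by
    rw [← mul_smul, w_l, mul_smul, ← smul_sub]; exact w_fixL (ha.2 _)⟩
  have hwP' : ∀ b ∈ P', (wEl : SL(2, F)) • b ∈ P := fun b hb => ⟨w_fixL hb.1, fun t => by
    rw [← mul_smul, w_u, mul_smul, ← smul_sub]; exact w_fixU (hb.2 _)⟩
  have hdP : ∀ {a : F} (ha : a ≠ 0), ∀ b ∈ P', dEl a ha • b ∈ P' := fun ha b hb =>
    ⟨d_fixL ha hb.1, fun t => by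
      rw [← mul_smul, d_u, mul_smul, ← smul_sub]; exact d_fixU ha (hb.2 _)⟩
  have hu' : ∀ (t : F), ∀ b ∈ P', uEl t • b - b ∈ P := by
    intro t b hb
    rcases eq_or_ne t 0 with rfl | ht
    · rw [uEl_zero, one_smul, sub_self]; exact zero_mem _
    set z := (wEl * dEl t⁻¹ (inv_ne_zero ht)) • b with hz
    have hzP : z ∈ P := by rw [hz, mul_smul]; exact hwP' _ (hdP _ b hb)
    have hub : uEl t • b = lEl t⁻¹ • z := by
      rw [hz, ← braid' ht, mul_smul, mul_smul, hb.1, ← lEl_inv, smul_inv_smul]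
    have e : uEl t • b - b = z := by
      refine sub_eq_zero.1 (h.eq_zero (sub_mem (hb.2 t) hzP.1) ?_)
      have : uEl t • b - b - z = (lEl t⁻¹ • z - z) - b := by rw [hub]; abel
      rw [this]
      exact sub_mem (hzP.2 _) hb.1
    rw [e]; exact hzP
  have hl' : ∀ (t : F), ∀ a ∈ P, lEl t • a - a ∈ P' := by
    intro t a ha
    -- transport along `w`
    have hb : (wEl : SL(2, F))⁻¹ • a ∈ P' := by
      have e : (wEl : SL(2, F))⁻¹ = dEl (-1) (neg_ne_zero.2 one_ne_zero) * wEl := by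
        rw [inv_eq_iff_mul_eq_one, ← mul_assoc]
        ext i j
        fin_cases i <;> fin_cases j <;> simp [Matrix.mul_apply, Fin.sum_univ_two]
      rw [e, mul_smul]
      exact hdP _ _ (hwP a ha)
    have h1 := hwP _ (hu' (-t) _ hb)
    rwa [smul_sub, ← mul_smul, ← w_u, mul_smul, smul_inv_smul] at h1
  have hMinv : ∀ g : SL(2, F), ∀ v ∈ P ⊔ P', g • v ∈ P ⊔ P' := by
    refine invariant_of_gen ?_ ?_
    · intro t v hv
      obtain ⟨a, ha, b, hb, rfl⟩ := AddSubgroup.mem_sup.1 hv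
      rw [smul_add, ha.1 t, ← sub_add_cancel (uEl t • b) b]
      exact add_mem (AddSubgroup.mem_sup_left ha)
        (add_mem (AddSubgroup.mem_sup_left (hu' t b hb)) (AddSubgroup.mem_sup_right hb))
    · intro t v hv
      obtain ⟨a, ha, b, hb, rfl⟩ := AddSubgroup.mem_sup.1 hv
      rw [smul_add, hb.1 t, ← sub_add_cancel (lEl t • a) a]
      exact add_mem (add_mem (AddSubgroup.mem_sup_right (hl' t a ha)) (AddSubgroup.mem_sup_left ha))
        (AddSubgroup.mem_sup_right hb)
  have hne : P ⊔ P' ≠ ⊥ := by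
    intro hb0
    have hXtop : X ≠ ⊤ := by
      intro ht
      have hX'bot : X' = ⊥ := by
        have := h.inf_eq_bot
        rw [← hX, ← hX', ht, top_inf_eq] at this
        exact this
      obtain ⟨g, v, hne⟩ := h.nt
      have hv0 : (wEl : SL(2, F)) • v ∈ X' := w_fixU (show v ∈ X from ht ▸ AddSubgroup.mem_top v)
      rw [hX'bot, AddSubgroup.mem_bot, smul_eq_zero_iff_eq] at hv0
      exact hne (by rw [hv0, smul_zero])
    obtain ⟨v, hvX, hv⟩ := u_fixed_quotient (F := F) hp hXtop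
    obtain ⟨⟨a, b⟩, hab⟩ := hadd.2 v
    have hbP : b.1 ∈ P' := ⟨b.2, fun t => by
      have := hv t
      rw [← hab] at this
      simpa [smul_add, a.2 t] using this⟩
    simp only at hab
    have : b.1 = 0 := AddSubgroup.mem_bot.1 (hb0 ▸ AddSubgroup.mem_sup_right hbP)
    exact hvX (by rw [← hab, this, add_zero]; exact a.2)
  intro t v
  obtain ⟨a, ha, b, hb, rfl⟩ := AddSubgroup.mem_sup.1
    (show v ∈ P ⊔ P' by rw [(h.irr _ hMinv).resolve_left hne]; trivial)
  rw [smul_add, ha.1 t, add_sub_add_left_eq_sub]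
  exact hb.2 t

end square

end Cfsg.Agent.SL2Quad
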