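import Cfsg.Agent.Lib.Components.SL2Quad
import Cfsg.Agent.Lib.Components.BaumannBlock

/-! S3009: an irreducible quadratic (or large fixed point) `SL₂(F)`-module inside a group. -/

set_option autoImplicit false
set_option linter.unusedSectionVars false
set_option linter.style.haveILetI false

namespace Cfsg.Agent.SL2Quad

open Cfsg Matrix
open Cfsg.Agent.RootLib
open scoped MatrixGroups IsMulCommutative Pointwise commutatorElement

theorem exists_sylow_eq_upper {F : Type*} [Field F] [Finite F] (p : ℕ) [Fact p.Prime] [CharP F p] :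
    ∃ T : Sylow p SL(2, F), (T : Subgroup SL(2, F)) = upperUnipotentSL2 F := by
  have hU : IsPGroup p ↥(upperUnipotentSL2 F) := by
    rintro ⟨x, hx⟩
    obtain ⟨t, rfl⟩ := mem_upper.1 hx
    have key : ∀ n : ℕ, uEl t ^ n = uEl ((n : F) * t) := by
      intro n
      induction n with
      | zero => simp [uEl_zero]
      | succ n ih =>
        rw [pow_succ, ih, uEl_mul]
        congr 1
        push_cast
        ring
    refine ⟨1, Subtype.ext ?_⟩
    show uEl t ^ p ^ 1 = 1
    rw [key, pow_one, CharP.cast_eq_zero, zero_mul, uEl_zero]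
  obtain ⟨T, hT⟩ := hU.exists_le_sylow
  refine ⟨T, le_antisymm ?_ hT⟩
  by_contra hne
  haveI := T.2.isNilpotent
  have hne' : (upperUnipotentSL2 F).subgroupOf (T : Subgroup SL(2, F)) ≠ ⊤ :=
    fun h => hne (Subgroup.subgroupOf_eq_top.1 h)
  obtain ⟨⟨x, hxT⟩, hxn, hxU⟩ := SetLike.exists_of_lt
    (Group.normalizerCondition_of_isNilpotent (G := ↥(T : Subgroup SL(2, F))) _
      (lt_top_iff_ne_top.2 hne'))
  refine hxU (show x ∈ upperUnipotentSL2 F from ?_)
  have hmem := (Subgroup.mem_normalizer_iff.1 hxn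
    ⟨uEl 1, hT (mem_upper.2 ⟨1, rfl⟩)⟩).1 (mem_upper.2 ⟨1, rfl⟩ : uEl (1 : F) ∈ upperUnipotentSL2 F)
  obtain ⟨s, hs⟩ := mem_upper.1 (show x * uEl 1 * x⁻¹ ∈ upperUnipotentSL2 F from hmem)
  have hs' : x * uEl 1 = uEl s * x := by rw [← hs, inv_mul_cancel_right]
  have h10 : (x : Matrix (Fin 2) (Fin 2) F) 1 0 = 0 := by
    have := congrArg (fun A : SL(2, F) => (A : Matrix (Fin 2) (Fin 2) F) 1 1) hs'
    simpa [Matrix.mul_apply, Fin.sum_univ_two] using this
  have hpow : ∀ n : ℕ, ((x ^ n : SL(2, F)) : Matrix (Fin 2) (Fin 2) F) 1 0 = 0 ∧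
      ((x ^ n : SL(2, F)) : Matrix (Fin 2) (Fin 2) F) 0 0 = (x : Matrix (Fin 2) (Fin 2) F) 0 0 ^ n := by
    intro n
    induction n with
    | zero => simp
    | succ n ih =>
      rw [pow_succ x, Matrix.SpecialLinearGroup.coe_mul]
      rw [Matrix.mul_apply, Matrix.mul_apply, Fin.sum_univ_two, Fin.sum_univ_two, ih.1, ih.2, h10,
        pow_succ]
      exact ⟨by ring, by ring⟩
  obtain ⟨k, hk⟩ := T.2 ⟨x, hxT⟩
  have hk' : x ^ p ^ k = 1 := congrArg Subtype.val hk
  have h00 : (x : Matrix (Fin 2) (Fin 2) F) 0 0 = 1 := by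
    have h2 := (hpow (p ^ k)).2
    rw [hk'] at h2
    simp only [Matrix.SpecialLinearGroup.coe_one, Matrix.one_apply_eq] at h2
    have h3 : ((x : Matrix (Fin 2) (Fin 2) F) 0 0 - 1) ^ p ^ k = 0 := by
      rw [sub_pow_char_pow, ← h2, one_pow, sub_self]
    exact sub_eq_zero.1 (eq_zero_of_pow_eq_zero h3)
  have hdet : (x : Matrix (Fin 2) (Fin 2) F).det = 1 := x.2
  rw [Matrix.det_fin_two, h10, h00, mul_zero, sub_zero, one_mul] at hdet
  exact Subgroup.subset_closure ⟨h10, h00, hdet⟩

theorem natural_module_group {X : Type*} [Group X] [Finite X] {p : ℕ} [Fact p.Prime]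
    (G V : Subgroup X) (hV : IsElementaryAbelian p V)
    (hGV : G ≤ Subgroup.normalizer (V : Set X)) (F : Type) [Field F] [Fintype F] [CharP F p]
    (e₀ : ↥G ≃* Matrix.SpecialLinearGroup (Fin 2) F)
    (hirr : ∀ U : Subgroup X, U ≤ V → G ≤ Subgroup.normalizer (U : Set X) → U = ⊥ ∨ U = V)
    (hnt : ⁅V, G⁆ ≠ ⊥) (S : Sylow p ↥G)
    (hyp : ⁅⁅V, (S : Subgroup ↥G).map G.subtype⁆, (S : Subgroup ↥G).map G.subtype⁆ = ⊥ ∨
      Nat.card ↥V ≤ Nat.card ↥(V ⊓ Subgroup.centralizer
        (((S : Subgroup ↥G).map G.subtype : Subgroup X) : Set X)) ^ 2) :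
    ActsAsSL2OnSection F ⊤ G V ⊥ := by
  haveI : IsMulCommutative ↥V := hV.1
  set S' := (S : Subgroup ↥G).map G.subtype with hS'
  obtain ⟨T₀, hT₀⟩ := exists_sylow_eq_upper (F := F) p
  let T₁ : Sylow p ↥G := T₀.mapSurjective (f := e₀.symm.toMonoidHom) e₀.symm.surjective
  obtain ⟨g₀, hg₀⟩ := MulAction.exists_smul_eq ↥G T₁ S
  let e : Matrix.SpecialLinearGroup (Fin 2) F ≃* ↥G := e₀.symm.trans (MulAut.conj g₀)
  have hS : S' = ((upperUnipotentSL2 F).map e.toMonoidHom).map G.subtype := by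
    rw [hS', ← hT₀]
    congr 1
    rw [← hg₀]
    show MulAut.conj g₀ • ((T₀ : Subgroup _).map e₀.symm.toMonoidHom) = _
    rw [Subgroup.pointwise_smul_def]
    exact Subgroup.map_map _ (MulAut.conj g₀ : ↥G ≃* ↥G).toMonoidHom e₀.symm.toMonoidHom
  letI : DistribMulAction (Matrix.SpecialLinearGroup (Fin 2) F) (Additive ↥V) :=
    { smul := fun g v => Additive.ofMul ⟨(e g : X) * (v.toMul : X) * (e g : X)⁻¹,
        BBlock.nconj (hGV (e g).2) v.toMul.2⟩
      one_smul := fun v => Additive.toMul.injective (Subtype.ext (by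
        show (e 1 : X) * _ * (e 1 : X)⁻¹ = _
        simp))
      mul_smul := fun a b v => Additive.toMul.injective (Subtype.ext (by
        show (e (a * b) : X) * _ * (e (a * b) : X)⁻¹ = (e a : X) * ((e b : X) * _ * (e b : X)⁻¹) * _
        rw [map_mul]
        simp [mul_assoc]))
      smul_zero := fun a => Additive.toMul.injective (Subtype.ext (by
        show (e a : X) * 1 * (e a : X)⁻¹ = 1
        simp))
      smul_add := fun a v w => Additive.toMul.injective (Subtype.ext (by
        show (e a : X) * ((v.toMul : X) * (w.toMul : X)) * (e a : X)⁻¹ =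
          ((e a : X) * (v.toMul : X) * (e a : X)⁻¹) * ((e a : X) * (w.toMul : X) * (e a : X)⁻¹)
        group)) }
  have hfix : ∀ v : Additive ↥V, v ∈ fixU (F := F) ↔
      (v.toMul : X) ∈ Subgroup.centralizer (S' : Set X) := by
    intro v
    constructor
    · intro h
      rw [Subgroup.mem_centralizer_iff, hS]
      rintro _ ⟨_, ⟨u, hu, rfl⟩, rfl⟩
      obtain ⟨t, rfl⟩ := mem_upper.1 hu
      exact mul_inv_eq_iff_eq_mul.1 (congrArg (fun a : Additive ↥V => (a.toMul : X)) (h t))
    · intro h t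
      refine Additive.toMul.injective (Subtype.ext ?_)
      show (e (uEl t) : X) * (v.toMul : X) * (e (uEl t) : X)⁻¹ = _
      rw [mul_inv_eq_iff_eq_mul]
      refine Subgroup.mem_centralizer_iff.1 h _ ?_
      rw [hS]
      exact ⟨_, ⟨_, mem_upper.2 ⟨t, rfl⟩, rfl⟩, rfl⟩
  have hirrM : IrrMod F (Additive ↥V) := by
    refine ⟨fun W hW => ?_, ?_⟩
    · set U := (AddSubgroup.toSubgroup' W).map V.subtype with hU
      have hn : G ≤ Subgroup.normalizer (U : Set X) := fun g hg =>
        BBlock.mem_normalizer_of_conj_mem (by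
          rintro _ ⟨v, hv, rfl⟩
          refine ⟨((e.symm ⟨g, hg⟩) • Additive.ofMul v).toMul, hW _ _ hv, ?_⟩
          show (e (e.symm ⟨g, hg⟩) : X) * (v : X) * (e (e.symm ⟨g, hg⟩) : X)⁻¹ = _
          rw [MulEquiv.apply_symm_apply]
          rfl)
      rcases hirr U (Subgroup.map_subtype_le _) hn with h | h
      · left
        rw [eq_bot_iff]
        intro v hv
        have : (v.toMul : X) ∈ U := ⟨v.toMul, hv, rfl⟩
        rw [h, Subgroup.mem_bot] at this
        exact AddSubgroup.mem_bot.2 (Additive.toMul.injective (Subtype.ext this))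
      · right
        rw [eq_top_iff]
        intro v _
        have h2 : (v.toMul : X) ∈ U := by rw [h]; exact v.toMul.2
        obtain ⟨w, hw, hwv⟩ := h2
        have : w = v.toMul := Subtype.ext hwv
        rw [this] at hw
        exact hw
    · by_contra hc
      push Not at hc
      refine hnt (Subgroup.commutator_eq_bot_iff_le_centralizer.2 fun v hv => ?_)
      rw [Subgroup.mem_centralizer_iff]
      intro g hg
      have h1 := congrArg (fun a : Additive ↥V => (a.toMul : X))
        (hc (e.symm ⟨g, hg⟩) (Additive.ofMul ⟨v, hv⟩))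
      change (e (e.symm ⟨g, hg⟩) : X) * v * (e (e.symm ⟨g, hg⟩) : X)⁻¹ = v at h1
      rw [MulEquiv.apply_symm_apply] at h1
      exact mul_inv_eq_iff_eq_mul.1 h1
  have hp : ∀ v : Additive ↥V, p • v = 0 := fun v =>
    Additive.toMul.injective (Subtype.ext (hV.2 _ v.toMul.2))
  have hq : IsQuad F (Additive ↥V) := by
    rcases hyp with hquad | hcard
    · intro t v
      rw [hfix]
      refine Subgroup.commutator_eq_bot_iff_le_centralizer.1 hquad ?_
      rw [Subgroup.commutator_comm]
      show ((uEl t • v - v).toMul : X) ∈ ⁅S', V⁆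
      have : ((uEl t • v - v).toMul : X) = ⁅(e (uEl t) : X), (v.toMul : X)⁆ := by
        rw [toMul_sub]
        show _ / _ = _
        rw [div_eq_mul_inv]
        rfl
      rw [this]
      exact Subgroup.commutator_mem_commutator
        (by rw [hS]; exact ⟨_, ⟨_, mem_upper.2 ⟨t, rfl⟩, rfl⟩, rfl⟩) v.toMul.2
    · refine quad_of_card hirrM hp ?_
      have e1 : Nat.card (fixU (F := F) : AddSubgroup (Additive ↥V)) =
          Nat.card ↥(V ⊓ Subgroup.centralizer (S' : Set X)) := by
        refine Nat.card_congr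
          { toFun := fun v => ⟨(v.1.toMul : X), v.1.toMul.2, (hfix v.1).1 v.2⟩
            invFun := fun x => ⟨Additive.ofMul ⟨x.1, x.2.1⟩, (hfix _).2 x.2.2⟩
            left_inv := fun _ => rfl
            right_inv := fun _ => rfl }
      rw [e1]
      exact (Nat.card_congr Additive.toMul).trans_le hcard
  obtain ⟨ψ, hψ⟩ := hq.natural hirrM
  refine ⟨hGV, bot_le, e.symm.toMonoidHom, AddMonoidHom.toMultiplicativeRight ψ.toAddMonoidHom,
    MonoidHom.range_eq_top.2 e.symm.surjective, fun c => ?_, fun u => ?_, fun g u => ?_⟩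
  · exact ⟨(ψ.symm c.toAdd).toMul, congrArg Multiplicative.ofAdd (ψ.apply_symm_apply c.toAdd)⟩
  · rw [Subgroup.mem_bot]
    constructor
    · intro h
      have h0 : ψ (Additive.ofMul u) = 0 := congrArg Multiplicative.toAdd h
      rw [← map_zero ψ] at h0
      exact congrArg Subtype.val (congrArg Additive.toMul (ψ.injective h0))
    · intro h
      have : u = 1 := Subtype.ext h
      rw [this, map_one]
  · refine ⟨((e.symm g) • Additive.ofMul u).toMul, ?_, ?_⟩
    · show (e (e.symm g) : X) * (u : X) * (e (e.symm g) : X)⁻¹ = _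
      rw [MulEquiv.apply_symm_apply]
    · exact hψ (e.symm g) (Additive.ofMul u)

end Cfsg.Agent.SL2Quad
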