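import Cfsg.Agent.Lib.Components.SigLemmas

/-!
# Factorizations detected on centralizers
-/

set_option autoImplicit false
set_option linter.unusedSectionVars false
set_option linter.style.haveILetI false

namespace Cfsg.Agent.Components

open scoped commutatorElement Pointwise
open Subgroup Cfsg

variable {G : Type*} [Group G] [Finite G] {p : ℕ} [hp : Fact p.Prime] {A : Subgroup G}

theorem isSylowIn_of_dvd {q : ℕ} [hq : Fact q.Prime] {H R : Subgroup G} (hle : R ≤ H)
    (hR : IsPGroup q ↥R) (hd : q ^ (Nat.card ↥H).factorization q ∣ Nat.card ↥R) :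
    Basics.IsSylowIn q H R := by
  refine ⟨hle, ?_⟩
  obtain ⟨k, hk⟩ := hR.exists_card_eq
  have h1 : k ≤ (Nat.card ↥H).factorization q :=
    (Nat.Prime.pow_dvd_iff_le_factorization hq.out Nat.card_pos.ne').mp
      (hk ▸ card_dvd_of_le hle)
  rw [hk, le_antisymm h1 ((Nat.pow_dvd_pow_iff_le_right hq.out.one_lt).mp (hk ▸ hd))]

theorem le_normalizer_inf {X Y : Subgroup G} (hX : A ≤ normalizer (X : Set G))
    (hY : A ≤ normalizer (Y : Set G)) : A ≤ normalizer ((X ⊓ Y : Subgroup G) : Set G) := by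
  intro a ha
  apply mem_normalizer_of_map_conj_eq
  rw [Subgroup.map_inf _ _ _ (MulAut.conj a).injective, map_conj_eq_of_mem_normalizer (hX ha),
    map_conj_eq_of_mem_normalizer (hY ha)]

theorem elementary_isSolvable (hA : Cfsg.IsElementaryAbelian p A) : Group.IsSolvable ↥A :=
  haveI := hA.1
  isSolvable_of_comm fun u v => IsMulCommutative.is_comm.comm u v

/-- An invariant Sylow subgroup meets a centralizer in a Sylow subgroup. -/
theorem inf_centralizer_isSylowIn (hA : Cfsg.IsElementaryAbelian p A) {q : ℕ} [hq : Fact q.Prime]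
    {K S : Subgroup G} (hK : ¬ p ∣ Nat.card ↥K) (hAK : A ≤ normalizer (K : Set G))
    (hS : Basics.IsSylowIn q K S) (hAS : A ≤ normalizer (S : Set G)) {a : G} (ha : a ∈ A) :
    Basics.IsSylowIn q (K ⊓ centralizer {a}) (S ⊓ centralizer {a}) := by
  have hcop := coprime_of_not_dvd (elementary_isPGroup hA) hK
  have hsolv : Group.IsSolvable ↥A ∨ Group.IsSolvable ↥K := Or.inl (elementary_isSolvable hA)
  have hAC : A ≤ normalizer ((centralizer ({a} : Set G)) : Set G) :=
    (zpowers_le_centralizer_self hA ha).trans le_normalizer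
  obtain ⟨T, hT, hTA⟩ := Basics.exists_invariant_isSylowIn A (K ⊓ centralizer {a})
    (le_normalizer_inf hAK hAC)
    (hcop.coprime_dvd_right (card_dvd_of_le inf_le_left))
    (Or.inl (elementary_isSolvable hA)) q
  obtain ⟨S', hS', hTS', hS'A⟩ := Basics.exists_invariant_isSylowIn_ge A K hAK hcop hsolv q T
    (hT.1.trans inf_le_left) hT.isPGroup hTA
  obtain ⟨c, hc, hcS⟩ := Basics.invariant_isSylowIn_conj A K hAK hcop hsolv q hS' hS hS'A hAS
  have hca : c ∈ centralizer ({a} : Set G) := by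
    rw [mem_centralizer_singleton_iff]
    exact (mem_centralizer_iff.mp hc.2 a ha).symm
  have h : T.map (MulAut.conj c).toMonoidHom ≤ S ⊓ centralizer {a} := by
    refine le_inf ?_ ?_
    · rw [← hcS]
      exact Subgroup.map_mono hTS'
    · rw [← map_conj_eq_of_mem_normalizer (le_normalizer hca)]
      exact Subgroup.map_mono (hT.1.trans inf_le_right)
  refine isSylowIn_of_dvd (inf_le_inf_right _ hS.1) (hS.isPGroup.to_le inf_le_left) ?_
  rw [← hT.2, ← card_map_of_injective (K := T) (f := (MulAut.conj c).toMonoidHom) (MulAut.conj c).injective]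
  exact card_dvd_of_le h

/-- A `q`-group factorizes as soon as the centralizers of elements of `A` factorize. -/
theorem pGroup_subset_setMul {q : ℕ} [hq : Fact q.Prime] (hA : Cfsg.IsElementaryAbelian p A)
    (hA2 : p ^ 2 ≤ Nat.card ↥A) {Q X Y : Subgroup G} (hQq : IsPGroup q ↥Q)
    (hQp : ¬ p ∣ Nat.card ↥Q) (hAQ : A ≤ normalizer (Q : Set G)) (hX : X ≤ Q) (hY : Y ≤ Q)
    (hfac : ∀ a ∈ A, a ≠ 1 →
      ((Q ⊓ centralizer {a} : Subgroup G) : Set G) ⊆ (X : Set G) * (Y : Set G)) :
    (Q : Set G) ⊆ (X : Set G) * (Y : Set G) := by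
  set S := (X : Set G) * (Y : Set G) with hS
  let Tm : Submonoid G :=
    { carrier := {g | ∀ w ∈ S, w * g ∈ S}
      one_mem' := fun w hw => by rwa [mul_one]
      mul_mem' := fun {a b} ha hb w hw => by rw [← mul_assoc]; exact hb _ (ha w hw) }
  let T : Subgroup G :=
    { Tm with
      inv_mem' := fun {g} hg => by
        rw [inv_eq_of_mul_eq_one_right (show g * g ^ (orderOf g - 1) = 1 by
          rw [← pow_succ', Nat.sub_add_cancel (orderOf_pos g), pow_orderOf_eq_one])]
        exact Tm.pow_mem hg _ }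
  suffices h : Q ≤ T by
    intro g hg
    have := h hg 1 ⟨1, one_mem X, 1, one_mem Y, mul_one 1⟩
    rwa [one_mul] at this
  haveI := hQq.isNilpotent
  obtain ⟨n, hn⟩ := (isNilpotent_iff_lowerCentralSeries Q).mp
    (show Group.IsNilpotent ↥Q from inferInstance)
  have hle : ∀ i, Q.lowerCentralSeries i ≤ Q := by
    intro i
    induction i with
    | zero => rw [Subgroup.lowerCentralSeries_zero]
    | succ i ih =>
      rw [Subgroup.lowerCentralSeries_succ]
      exact (commutator_mono ih le_rfl).trans (commutator_le_self Q)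
  have hinv : ∀ i, A ≤ normalizer (Q.lowerCentralSeries i : Set G) := by
    intro i a ha
    induction i with
    | zero => rw [Subgroup.lowerCentralSeries_zero]; exact hAQ ha
    | succ i ih =>
      apply mem_normalizer_of_map_conj_eq
      rw [Subgroup.lowerCentralSeries_succ, map_commutator, map_conj_eq_of_mem_normalizer ih,
        map_conj_eq_of_mem_normalizer (hAQ ha)]
  have key : ∀ j i, i + j = n → Q.lowerCentralSeries i ≤ T := by
    intro j
    induction j with
    | zero =>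
      intro i hi
      rw [show i = n by omega, hn]
      exact bot_le
    | succ j ih =>
      intro i hi
      have hnext := ih (i + 1) (by omega)
      refine (le_iSup_centralizer_index_eq hA hA2 (not_dvd_of_le (hle i) hQp) (hinv i)).trans
        (iSup_le fun B z hz => ?_)
      obtain ⟨a, haB, ha1⟩ : ∃ a ∈ (B : Subgroup G), a ≠ 1 := by
        refine elementary_exists_ne_one (p := p) ?_
        have h1 : Nat.card ↥A = Nat.card ↥(B : Subgroup G) * (B : Subgroup G).relIndex A := by
          rw [← relIndex_bot_left (B : Subgroup G), ← relIndex_bot_left A,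
            relIndex_mul_relIndex _ _ _ bot_le B.2.1]
        rw [B.2.2] at h1
        refine Nat.le_of_mul_le_mul_right ?_ hp.out.pos
        rw [← h1, ← sq]
        exact hA2
      have hzC : z ∈ Q ⊓ centralizer {a} :=
        ⟨hle i hz.1, centralizer_le (Set.singleton_subset_iff.mpr haB) hz.2⟩
      obtain ⟨x, hx, y, hy, hxy⟩ := hfac a (B.2.1 haB) ha1 hzC
      intro w hw
      obtain ⟨x', hx', y', hy', rfl⟩ := hw
      have hc : ⁅y'⁻¹, z⁻¹⁆ ∈ Q.lowerCentralSeries (i + 1) := by
        rw [Subgroup.lowerCentralSeries_succ, commutator_comm]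
        exact commutator_mem_commutator (inv_mem (hY hy')) (inv_mem hz.1)
      have e : x' * y' * z = (x' * x) * (y * y') * ⁅y'⁻¹, z⁻¹⁆ := by
        have hxy' : x * y = z := hxy
        rw [show x' * x * (y * y') = x' * (x * y) * y' by group, hxy', commutatorElement_def]
        group
      change x' * y' * z ∈ S
      rw [e]
      exact hnext hc _ ⟨x' * x, mul_mem hx' hx, y * y', mul_mem hy hy', rfl⟩
  have := key n 0 (by omega)
  rwa [Subgroup.lowerCentralSeries_zero] at this

theorem setMul_eq_of_centralizers (hA : Cfsg.IsElementaryAbelian p A)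
    (hA2 : p ^ 2 ≤ Nat.card ↥A) {K X Y : Subgroup G} (hK : ¬ p ∣ Nat.card ↥K)
    (hAK : A ≤ normalizer (K : Set G)) (hX : X ≤ K) (hY : Y ≤ K)
    (hAX : A ≤ normalizer (X : Set G)) (hAY : A ≤ normalizer (Y : Set G))
    (hCX : K ⊓ centralizer (A : Set G) ≤ normalizer (X : Set G))
    (hfac : ∀ a ∈ A, a ≠ 1 → ((K ⊓ centralizer {a} : Subgroup G) : Set G) =
      ((X ⊓ centralizer {a} : Subgroup G) : Set G) * ((Y ⊓ centralizer {a} : Subgroup G) : Set G)) :
    (K : Set G) = (X : Set G) * (Y : Set G) := by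
  have hsub : (X : Set G) * (Y : Set G) ⊆ (K : Set G) := by
    rintro _ ⟨x, hx, y, hy, rfl⟩
    exact K.mul_mem (hX hx) (hY hy)
  have hle : ∀ q : ℕ, (Nat.card ↥K * Nat.card ↥(X ⊓ Y)).factorization q ≤
      (Nat.card ↥X * Nat.card ↥Y).factorization q := by
    intro q
    by_cases hq : q.Prime
    swap
    · rw [Nat.factorization_eq_zero_of_not_prime _ hq]; exact Nat.zero_le _
    haveI : Fact q.Prime := ⟨hq⟩
    simp only [Nat.factorization_mul Nat.card_pos.ne' Nat.card_pos.ne', Finsupp.add_apply]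
    have hcop := coprime_of_not_dvd (elementary_isPGroup hA) hK
    have hs := elementary_isSolvable hA
    have hXY := le_normalizer_inf hAX hAY
    have hXp := not_dvd_of_le hX hK
    have hYp := not_dvd_of_le hY hK
    have hIp := not_dvd_of_le ((inf_le_left : X ⊓ Y ≤ X).trans hX) hK
    obtain ⟨T, hT, hTA⟩ := Basics.exists_invariant_isSylowIn A (X ⊓ Y) hXY
      (coprime_of_not_dvd (elementary_isPGroup hA) hIp) (Or.inl hs) q
    obtain ⟨SY, hSY, hTSY, hSYA⟩ := Basics.exists_invariant_isSylowIn_ge A Y hAY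
      (coprime_of_not_dvd (elementary_isPGroup hA) hYp) (Or.inl hs) q T
      (hT.1.trans inf_le_right) hT.isPGroup hTA
    obtain ⟨Q, hQ, hSYQ, hQA⟩ := Basics.exists_invariant_isSylowIn_ge A K hAK hcop (Or.inl hs) q SY
      (hSY.1.trans hY) hSY.isPGroup hSYA
    obtain ⟨SX, hSX, hSXA⟩ := Basics.exists_invariant_isSylowIn A X hAX
      (coprime_of_not_dvd (elementary_isPGroup hA) hXp) (Or.inl hs) q
    obtain ⟨Q', hQ', hSXQ, hQ'A⟩ := Basics.exists_invariant_isSylowIn_ge A K hAK hcop (Or.inl hs) q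
      SX (hSX.1.trans hX) hSX.isPGroup hSXA
    obtain ⟨c, hc, hcQ⟩ := Basics.invariant_isSylowIn_conj A K hAK hcop (Or.inl hs) q hQ' hQ hQ'A hQA
    have hQY : Basics.IsSylowIn q Y (Q ⊓ Y) :=
      isSylowIn_of_dvd inf_le_right (hQ.isPGroup.to_le inf_le_left)
        (hSY.2 ▸ card_dvd_of_le (le_inf hSYQ hSY.1))
    have hQX : Basics.IsSylowIn q X (Q ⊓ X) := by
      refine isSylowIn_of_dvd inf_le_right (hQ.isPGroup.to_le inf_le_left) ?_
      rw [← hSX.2, ← card_map_of_injective (K := SX) (f := (MulAut.conj c).toMonoidHom) (MulAut.conj c).injective]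
      refine card_dvd_of_le (le_inf ?_ ?_)
      · rw [← hcQ]; exact Subgroup.map_mono hSXQ
      · refine (Subgroup.map_mono hSX.1).trans ?_
        rw [map_conj_eq_of_mem_normalizer (hCX hc)]
    have hQI : Basics.IsSylowIn q (X ⊓ Y) (Q ⊓ (X ⊓ Y)) :=
      isSylowIn_of_dvd inf_le_right (hQ.isPGroup.to_le inf_le_left)
        (hT.2 ▸ card_dvd_of_le (le_inf (hTSY.trans hSYQ) hT.1))
    have hQfac : (Q : Set G) ⊆ ((Q ⊓ X : Subgroup G) : Set G) * ((Q ⊓ Y : Subgroup G) : Set G) := by
      refine pGroup_subset_setMul hA hA2 hQ.isPGroup (not_dvd_of_le hQ.1 hK) hQA inf_le_left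
        inf_le_left fun a ha ha1 => ?_
      set C := centralizer ({a} : Set G)
      have h1 := inf_centralizer_isSylowIn hA hK hAK hQ hQA ha
      have h2 := inf_centralizer_isSylowIn hA hXp hAX hQX (le_normalizer_inf hQA hAX) ha
      have h3 := inf_centralizer_isSylowIn hA hYp hAY hQY (le_normalizer_inf hQA hAY) ha
      set X₁ := Q ⊓ X ⊓ C
      set Y₁ := Q ⊓ Y ⊓ C
      have e1 := card_setMul_mul_card_inf (X ⊓ C) (Y ⊓ C)
      rw [← hfac a ha ha1] at e1
      have e2 := card_setMul_mul_card_inf X₁ Y₁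
      have hsub1 : (X₁ : Set G) * (Y₁ : Set G) ⊆ ((Q ⊓ C : Subgroup G) : Set G) := by
        rintro _ ⟨x, hx, y, hy, rfl⟩
        exact (Q ⊓ C).mul_mem ⟨hx.1.1, hx.2⟩ ⟨hy.1.1, hy.2⟩
      have e3 := congrArg (fun n => n.factorization q) e1
      simp only [SetLike.coe_sort_coe, Nat.factorization_mul Nat.card_pos.ne' Nat.card_pos.ne',
        Finsupp.add_apply] at e3
      obtain ⟨k, hk⟩ := ((hQ.isPGroup.to_le inf_le_left).to_le
        (inf_le_left : Q ⊓ X ⊓ C ≤ Q ⊓ X) |>.to_le (inf_le_left : X₁ ⊓ Y₁ ≤ X₁)).exists_card_eq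
      have hk' : k ≤ (Nat.card ↥(X ⊓ C ⊓ (Y ⊓ C))).factorization q :=
        (Nat.Prime.pow_dvd_iff_le_factorization hq Nat.card_pos.ne').mp
          (hk ▸ card_dvd_of_le (le_inf
            ((inf_le_left : X₁ ⊓ Y₁ ≤ X₁).trans (inf_le_inf_right _ inf_le_right))
            ((inf_le_right : X₁ ⊓ Y₁ ≤ Y₁).trans (inf_le_inf_right _ inf_le_right))))
      rw [h2.2, h3.2, hk, ← pow_add, ← e3] at e2
      have e4 : Nat.card ((X₁ : Set G) * (Y₁ : Set G) : Set G) ≥ Nat.card ↥(Q ⊓ C) := by
        rw [h1.2]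
        refine Nat.le_of_mul_le_mul_right ?_ (pow_pos hq.pos k)
        rw [e2, ← pow_add]
        exact Nat.pow_le_pow_right hq.pos (by omega)
      have := Set.eq_of_subset_of_ncard_le hsub1 (by
        rw [← Nat.card_coe_set_eq, ← Nat.card_coe_set_eq]; exact e4) (Set.toFinite _)
      rw [← this]
      exact Set.mul_subset_mul (SetLike.coe_subset_coe.mpr inf_le_left)
        (SetLike.coe_subset_coe.mpr inf_le_left)
    have e5 := card_setMul_mul_card_inf (Q ⊓ X) (Q ⊓ Y)
    have e6 : Q ⊓ X ⊓ (Q ⊓ Y) = Q ⊓ (X ⊓ Y) := (inf_inf_distrib_left Q X Y).symm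
    rw [e6, hQX.2, hQY.2, hQI.2, ← pow_add] at e5
    have e7 : Nat.card ↥Q ≤
        Nat.card (((Q ⊓ X : Subgroup G) : Set G) * ((Q ⊓ Y : Subgroup G) : Set G) : Set G) :=
      Nat.card_mono (Set.toFinite _) hQfac
    rw [hQ.2] at e7
    refine (Nat.pow_le_pow_iff_right hq.one_lt).mp ?_
    rw [pow_add, ← e5]
    exact Nat.mul_le_mul_right _ e7
  have hdvd : Nat.card ↥K * Nat.card ↥(X ⊓ Y) ≤ Nat.card ↥X * Nat.card ↥Y :=
    Nat.le_of_dvd (Nat.mul_pos Nat.card_pos Nat.card_pos)
      ((Nat.factorization_le_iff_dvd (Nat.mul_pos Nat.card_pos Nat.card_pos).ne'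
        (Nat.mul_pos Nat.card_pos Nat.card_pos).ne').mp hle)
  rw [← card_setMul_mul_card_inf X Y] at hdvd
  have h := Nat.le_of_mul_le_mul_right hdvd Nat.card_pos
  refine (Set.eq_of_subset_of_ncard_le hsub ?_ (Set.toFinite _)).symm
  rw [← Nat.card_coe_set_eq, ← Nat.card_coe_set_eq]
  exact h

end Cfsg.Agent.Components
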