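import Cfsg.Agent.Lib.Components.Signalizer
import Cfsg.Agent.Lib.Components.PConstrained

/-!
# Two coprime action lemmas used with signalizer functors
-/

set_option autoImplicit false
set_option linter.unusedSectionVars false
set_option linter.style.haveILetI false

namespace Cfsg.Agent.Components

open scoped commutatorElement Pointwise
open Subgroup Cfsg

variable {G : Type*} [Group G] [Finite G] {p : ℕ} [hp : Fact p.Prime]

theorem exists_le_relIndex_eq {A C : Subgroup G} (hA : Cfsg.IsElementaryAbelian p A)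
    (hA2 : p ^ 2 ≤ Nat.card ↥A) (hC : C ≤ A) (hi : C.relIndex A ≤ p) :
    ∃ D : Subgroup G, D ≤ C ∧ D.relIndex A = p := by
  have hp1 := hp.out.one_lt
  obtain ⟨k, hk⟩ := ((elementary_isPGroup hA).index (C.subgroupOf A))
  change C.relIndex A = _ at hk
  have hi' : p ^ k ≤ p ^ 1 := by rw [pow_one, ← hk]; exact hi
  have hk1 : k ≤ 1 := (Nat.pow_le_pow_iff_right hp1).mp hi'
  rcases Nat.lt_or_ge k 1 with h0 | h1
  · obtain rfl : k = 0 := by omega
    have hAC : A ≤ C := relIndex_eq_one.mp (by rw [hk, pow_zero])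
    obtain ⟨m, hm⟩ := (elementary_isPGroup hA).exists_card_eq
    have hm1 : 2 ≤ m := (Nat.pow_le_pow_iff_right hp1).mp (hm ▸ hA2)
    obtain ⟨K, hK⟩ := Sylow.exists_subgroup_card_pow_prime p
      (G := ↥A) (n := m - 1) (by rw [hm]; exact pow_dvd_pow p (by omega))
    refine ⟨K.map A.subtype, (map_subtype_le K).trans hAC, ?_⟩
    rw [relIndex, subgroupOf, comap_map_eq_self_of_injective A.subtype_injective]
    have h2 := K.card_mul_index
    rw [hK, hm] at h2
    have h3 : p ^ (m - 1) * p = p ^ m := by rw [← pow_succ]; congr 1; omega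
    exact Nat.eq_of_mul_eq_mul_left (pow_pos hp.out.pos _) (h2.trans h3.symm)
  · exact ⟨C, le_rfl, by rw [hk, show k = 1 by omega, pow_one]⟩

theorem le_iSup_centralizer_index_eq {A : Subgroup G} (hA : Cfsg.IsElementaryAbelian p A)
    (hA2 : p ^ 2 ≤ Nat.card ↥A) {X : Subgroup G} (hX : ¬ p ∣ Nat.card ↥X)
    (hAX : A ≤ normalizer (X : Set G)) :
    X ≤ ⨆ B : {B : Subgroup G // B ≤ A ∧ B.relIndex A = p},
      X ⊓ centralizer ((B : Subgroup G) : Set G) := by
  refine (le_iSup_centralizer_index_le hA hX hAX).trans (iSup_le fun C => ?_)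
  obtain ⟨D, hDC, hDi⟩ := exists_le_relIndex_eq hA hA2 C.2.1 C.2.2
  exact le_iSup_of_le ⟨D, hDC.trans C.2.1, hDi⟩ (inf_le_inf_left _ (centralizer_le hDC))

/-- If a coprime `q'`-subgroup `U` has `q'` commutators with all `C_K(B)`, it lies in `O_{q'}(K)`. -/
theorem le_core_of_hyperplane_commutators {q : ℕ} [hq : Fact q.Prime] {A K U : Subgroup G}
    (hA : Cfsg.IsElementaryAbelian p A) (hA2 : p ^ 2 ≤ Nat.card ↥A)
    (hK : ¬ p ∣ Nat.card ↥K) (hKs : Group.IsSolvable ↥K) (hAK : A ≤ normalizer (K : Set G))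
    (hU : U ≤ K) (hUq : ¬ q ∣ Nat.card ↥U)
    (hcomm : ∀ B : Subgroup G, B ≤ A → B.relIndex A = p →
      ¬ q ∣ Nat.card ↥⁅U, K ⊓ centralizer (B : Set G)⁆) :
    U ≤ (Cfsg.pPrimeCore q ↥K).map K.subtype := by
  haveI := hKs
  set O := Cfsg.pPrimeCore q ↥K with hO
  set π := QuotientGroup.mk' O
  set R := Cfsg.pPrimePCore q ↥K with hR
  set R' := R.map K.subtype with hR'
  have hRchar : A ≤ normalizer (R' : Set G) := by
    intro a ha
    apply mem_normalizer_of_map_conj_eq
    -- conjugation by `a` restricts to an automorphism of `K`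
    have hKa : K.map (MulAut.conj a).toMonoidHom = K := map_conj_eq_of_mem_normalizer (hAK ha)
    let e : ↥K ≃* ↥K := ((MulAut.conj a).subgroupMap K).trans (MulEquiv.subgroupCongr hKa)
    have he : R.map e.toMonoidHom = R := by
      let ē : ↥K ⧸ O ≃* ↥K ⧸ O := QuotientGroup.congr O O e (map_pPrimeCore_equiv e)
      have h1 := map_pCore_equiv (p := q) ē
      ext x
      constructor
      · rintro ⟨y, hy, rfl⟩
        change π (e y) ∈ Cfsg.pCore q (↥K ⧸ O)
        rw [← h1]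
        exact ⟨π y, hy, rfl⟩
      · intro hx
        refine ⟨e.symm x, ?_, by simp⟩
        change π (e.symm x) ∈ Cfsg.pCore q (↥K ⧸ O)
        have hx' : π x ∈ Cfsg.pCore q (↥K ⧸ O) := hx
        rw [← h1] at hx'
        obtain ⟨z, hz, hze⟩ := hx'
        have : ē (π (e.symm x)) = π x := by
          change π (e (e.symm x)) = π x
          rw [e.apply_symm_apply]
        rw [← ē.injective (hze.trans this.symm)]
        exact hz
    conv_rhs => rw [hR', ← he, map_map]
    rw [hR', map_map]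
    rfl
  have hcomm' : ∀ u : ↥K, (u : G) ∈ U → π u ∈ centralizer (R.map π : Set (↥K ⧸ O)) := by
    intro u hu
    rw [mem_centralizer_iff]
    rintro _ ⟨r, hr, rfl⟩
    have hle : R' ≤ ((centralizer ({π u} : Set (↥K ⧸ O))).comap π).map K.subtype := by
      refine (le_iSup_centralizer_index_eq hA hA2
        (not_dvd_of_le (map_subtype_le R) hK) hRchar).trans (iSup_le fun B => ?_)
      rintro _ ⟨⟨s, hs, rfl⟩, hsB⟩
      refine ⟨s, ?_, rfl⟩
      change π s ∈ centralizer ({π u} : Set _)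
      rw [mem_centralizer_singleton_iff]
      have h1 : ⁅u, s⁆ ∈ R := R.mul_mem (Normal.conj_mem (Normal.comap inferInstance _) s hs u)
        (R.inv_mem hs)
      obtain ⟨k, hk⟩ := (sSup_isPGroup_of_normal (p := q) (G := ↥K ⧸ O)) ⟨π ⁅u, s⁆, h1⟩
      have h2 : ((⁅u, s⁆ : ↥K) : G) ∈ ⁅U, K ⊓ centralizer ((B : Subgroup G) : Set G)⁆ :=
        commutator_mem_commutator hu ⟨s.2, hsB⟩
      set D := ⁅U, K ⊓ centralizer ((B : Subgroup G) : Set G)⁆
      have h3 : (⁅u, s⁆ : ↥K) ^ Nat.card ↥D = 1 :=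
        Subtype.ext (by
          have := congrArg Subtype.val (pow_card_eq_one' (x := (⟨_, h2⟩ : ↥D)))
          exact this)
      have h4 : π ⁅u, s⁆ = 1 := eq_one_of_pow_prime_pow_of_coprime
        ((hq.out.coprime_iff_not_dvd.mpr (hcomm B B.2.1 B.2.2)).symm) (k := k)
        (by simpa using congrArg Subtype.val hk) (by rw [← map_pow, h3, map_one])
      rw [map_commutatorElement, commutatorElement_eq_one_iff_mul_comm] at h4
      exact h4.symm
    obtain ⟨r', hr', he⟩ := hle (mem_map_of_mem K.subtype hr)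
    rw [show r' = r from Subtype.ext he] at hr'
    exact mem_centralizer_singleton_iff.mp hr'
  intro u hu
  refine ⟨⟨u, hU hu⟩, ?_, rfl⟩
  refine (QuotientGroup.eq_one_iff (N := O) (⟨u, hU hu⟩ : ↥K)).mp ?_
  have h1 : π ⟨u, hU hu⟩ ∈ Cfsg.pCore q (↥K ⧸ O) := by
    refine (isPConstrained_iff.mp (isPConstrained_of_isSolvable (p := q) (G := ↥K))) ?_
    have := hcomm' ⟨u, hU hu⟩ hu
    rwa [map_pPrimePCore] at this
  obtain ⟨k, hk⟩ := (sSup_isPGroup_of_normal (p := q) (G := ↥K ⧸ O)) ⟨_, h1⟩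
  refine eq_one_of_pow_prime_pow_of_coprime
    ((hq.out.coprime_iff_not_dvd.mpr hUq).symm) (k := k)
    (show π ⟨u, hU hu⟩ ^ q ^ k = 1 from congrArg Subtype.val hk) ?_
  change π ⟨u, hU hu⟩ ^ _ = 1
  have hpow : u ^ Nat.card ↥U = 1 := congrArg Subtype.val (pow_card_eq_one' (x := (⟨u, hu⟩ : ↥U)))
  rw [← map_pow, show (⟨u, hU hu⟩ : ↥K) ^ Nat.card ↥U = 1 from Subtype.ext hpow, map_one]

/-- `|XY| · |X ∩ Y| = |X| · |Y|`. -/
theorem card_setMul_mul_card_inf (X Y : Subgroup G) :
    Nat.card ((X : Set G) * (Y : Set G) : Set G) * Nat.card ↥(X ⊓ Y) =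
      Nat.card ↥X * Nat.card ↥Y := by
  rw [card_mul_eq_card_subgroup_mul_card_quotient Y (X : Set G)]
  let f : (↥X ⧸ Y.subgroupOf X) → G ⧸ Y := Quotient.map' (fun x : ↥X => (x : G)) (fun a b h => by
    rw [QuotientGroup.leftRel_apply] at h ⊢
    exact h)
  have hf : Function.Injective f := by
    rintro ⟨a⟩ ⟨b⟩ h
    have h' : (QuotientGroup.mk (a : G) : G ⧸ Y) = QuotientGroup.mk (b : G) := h
    exact QuotientGroup.eq.mpr (show ((a : G))⁻¹ * (b : G) ∈ Y from QuotientGroup.eq.mp h')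
  have himg : ((↑) '' (X : Set G) : Set (G ⧸ Y)) = Set.range f := by
    ext q
    constructor
    · rintro ⟨x, hx, rfl⟩
      exact ⟨QuotientGroup.mk ⟨x, hx⟩, rfl⟩
    · rintro ⟨⟨x⟩, rfl⟩
      exact ⟨x, x.2, rfl⟩
  rw [himg, Nat.card_range_of_injective hf]
  have h := (Y.subgroupOf X).card_eq_card_quotient_mul_card_subgroup
  have h2 : Nat.card ↥(Y.subgroupOf X) = Nat.card ↥(X ⊓ Y) := by
    rw [← card_map_of_injective (K := Y.subgroupOf X) X.subtype_injective, subgroupOf_map_subtype,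
      inf_comm]
  rw [h2] at h
  rw [h]
  ring

end Cfsg.Agent.Components
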