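import Cfsg.Agent.Lib.Components.Signalizer

/-!
# Transitivity on maximal q-members of a solvable signalizer functor
-/

set_option autoImplicit false
set_option linter.unusedSectionVars false
set_option linter.style.haveILetI false

namespace Cfsg.Agent.Components

open scoped commutatorElement Pointwise
open Subgroup Cfsg

variable {G : Type*} [Group G] [Finite G] {p q : ℕ} [hp : Fact p.Prime] [hq : Fact q.Prime]
  {A : Subgroup G} {θ : G → Subgroup G}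

/-- `Q` is maximal among the `q`-members. -/
def IsMaxQMember (p q : ℕ) (A : Subgroup G) (θ : G → Subgroup G) (Q : Subgroup G) : Prop :=
  Q ∈ Cfsg.signalizerFamily p A θ ∧ IsPGroup q ↥Q ∧
    ∀ R ∈ Cfsg.signalizerFamily p A θ, IsPGroup q ↥R → Q ≤ R → R = Q

theorem exists_maxQMember_ge {X : Subgroup G} (hX : X ∈ Cfsg.signalizerFamily p A θ)
    (hXq : IsPGroup q ↥X) : ∃ Q, IsMaxQMember p q A θ Q ∧ X ≤ Q := by
  obtain ⟨Q, hXQ, hQ⟩ := Finite.exists_le_maximal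
    (p := fun R : Subgroup G => R ∈ Cfsg.signalizerFamily p A θ ∧ IsPGroup q ↥R) ⟨hX, hXq⟩
  exact ⟨Q, ⟨hQ.prop.1, hQ.prop.2, fun R h1 h2 h3 => (hQ.eq_of_le ⟨h1, h2⟩ h3).symm⟩, hXQ⟩

theorem card_le_mul_of_index_le {B C E : Subgroup G} {k : ℕ}
    (h1 : B ≤ E) (h2 : B.relIndex E ≤ k) (h3 : C ≤ E) (h4 : C.relIndex E ≤ k) :
    Nat.card ↥E ≤ k * k * Nat.card ↥(B ⊓ C) := by
  have h5 : (B ⊓ C).relIndex E ≤ B.relIndex E * C.relIndex E := relIndex_inf_le
  have h6 : Nat.card ↥E = Nat.card ↥(B ⊓ C) * (B ⊓ C).relIndex E := by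
    rw [← relIndex_bot_left (B ⊓ C), ← relIndex_bot_left E,
      relIndex_mul_relIndex _ _ _ bot_le (inf_le_left.trans h1)]
  rw [h6, mul_comm (k * k)]
  exact Nat.mul_le_mul_left _ (h5.trans (Nat.mul_le_mul h2 h4))

/-- A common element of `A` fixing something outside each of two invariant subgroups. -/
theorem exists_common_fixed (hA : Cfsg.IsElementaryAbelian p A) (hA3 : p ^ 3 ≤ Nat.card ↥A)
    {P₁ P₂ D : Subgroup G} (h1 : ¬ p ∣ Nat.card ↥P₁) (h2 : ¬ p ∣ Nat.card ↥P₂)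
    (hn1 : A ≤ normalizer (P₁ : Set G)) (hn2 : A ≤ normalizer (P₂ : Set G))
    (hd1 : ¬ P₁ ≤ D) (hd2 : ¬ P₂ ≤ D) :
    ∃ a ∈ A, a ≠ 1 ∧ ¬ (P₁ ⊓ centralizer {a} ≤ D) ∧ ¬ (P₂ ⊓ centralizer {a} ≤ D) := by
  have key : ∀ P : Subgroup G, ¬ p ∣ Nat.card ↥P → A ≤ normalizer (P : Set G) → ¬ P ≤ D →
      ∃ B : Subgroup G, B ≤ A ∧ B.relIndex A ≤ p ∧ ¬ P ⊓ centralizer (B : Set G) ≤ D := by
    intro P hP hn hd
    by_contra h
    push Not at h
    exact hd ((le_iSup_centralizer_index_le hA hP hn).trans (iSup_le fun B => h B B.2.1 B.2.2))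
  obtain ⟨B₁, hB₁, hi₁, hB₁'⟩ := key P₁ h1 hn1 hd1
  obtain ⟨B₂, hB₂, hi₂, hB₂'⟩ := key P₂ h2 hn2 hd2
  have hcard := card_le_mul_of_index_le hB₁ hi₁ hB₂ hi₂
  obtain ⟨a, ha, ha1⟩ : ∃ a ∈ B₁ ⊓ B₂, a ≠ 1 := by
    refine elementary_exists_ne_one (p := p) ?_
    refine Nat.le_of_mul_le_mul_left ?_ (Nat.mul_pos hp.out.pos hp.out.pos)
    calc p * p * p = p ^ 3 := by ring
      _ ≤ _ := hA3.trans hcard
  exact ⟨a, hB₁ ha.1, ha1,
    fun h => hB₁' ((inf_le_inf_left _ (centralizer_le (Set.singleton_subset_iff.mpr ha.1))).trans h),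
    fun h => hB₂' ((inf_le_inf_left _ (centralizer_le (Set.singleton_subset_iff.mpr ha.2))).trans h)⟩

theorem normalizer_inf_mem_normalizer {Q D : Subgroup G} {x : G}
    (hQ : x ∈ normalizer (Q : Set G)) (hD : x ∈ normalizer (D : Set G)) :
    x ∈ normalizer ((normalizer (D : Set G) ⊓ Q : Subgroup G) : Set G) := by
  apply mem_normalizer_of_map_conj_eq
  rw [Subgroup.map_inf _ _ _ (MulAut.conj x).injective, map_conj_eq_of_mem_normalizer hQ,
    map_conj_eq_of_mem_normalizer (le_normalizer hD)]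

theorem normalizer_gt {Q D : Subgroup G} (hQ : IsPGroup q ↥Q) (hlt : D < Q) :
    ¬ normalizer (D : Set G) ⊓ Q ≤ D := by
  intro h
  haveI := hQ.isNilpotent
  have hlt' : D.subgroupOf Q < ⊤ := lt_top_iff_ne_top.mpr fun e => hlt.not_ge (subgroupOf_eq_top.mp e)
  obtain ⟨y, hy, hy'⟩ := SetLike.exists_of_lt
    (Group.normalizerCondition_of_isNilpotent (G := ↥Q) _ hlt')
  refine hy' (h ⟨?_, y.2⟩)
  rw [← subgroupOf_normalizer_eq hlt.le] at hy
  exact hy

theorem conj_family (hθ : Cfsg.IsSolvableSignalizerFunctor p A θ)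
    (hA : Cfsg.IsElementaryAbelian p A) (hA1 : A ≠ ⊥) {c : G} (hc : c ∈ Cfsg.signalizerInf A θ)
    {X : Subgroup G} (hX : X ∈ Cfsg.signalizerFamily p A θ) :
    X.map (MulAut.conj c).toMonoidHom ∈ Cfsg.signalizerFamily p A θ := by
  have hcc : c ∈ centralizer (A : Set G) := signalizerInf_le_centralizer hθ.1 le_rfl hA1 hc
  refine ⟨Basics.isSolvable_map _ hX.1, by rw [card_map_of_injective (MulAut.conj c).injective]; exact hX.2.1, ?_, ?_⟩
  · rintro b hb _ ⟨x, hx, rfl⟩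
    refine ⟨b * x * b⁻¹, hX.2.2.1 b hb x hx, ?_⟩
    have h1 := mem_centralizer_iff.mp hcc b hb
    have h2 := mem_centralizer_iff.mp hcc b⁻¹ (inv_mem hb)
    simp only [MulEquiv.coe_toMonoidHom, MulAut.conj_apply]
    calc c * (b * x * b⁻¹) * c⁻¹ = (c * b) * x * (b⁻¹ * c⁻¹) := by group
      _ = (b * c) * x * (c⁻¹ * b⁻¹) := by
          rw [h1]; congr 1
          calc b⁻¹ * c⁻¹ = c⁻¹ * (c * b⁻¹) * c⁻¹ := by group
            _ = c⁻¹ * (b⁻¹ * c) * c⁻¹ := by rw [h2]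
            _ = c⁻¹ * b⁻¹ := by group
      _ = b * (c * x * c⁻¹) * b⁻¹ := by group
  · rintro a ha ha1 _ ⟨⟨x, hx, rfl⟩, hxa⟩
    have hca : c ∈ θ a := signalizerInf_le ha ha1 hc
    refine mul_mem (mul_mem hca (hX.2.2.2 a ha ha1 ⟨hx, ?_⟩)) (inv_mem hca)
    change c * x * c⁻¹ ∈ centralizer ({a} : Set G) at hxa
    rw [mem_centralizer_singleton_iff] at hxa
    change x ∈ centralizer ({a} : Set G)
    rw [mem_centralizer_singleton_iff]
    have h1 : a * c = c * a := mem_centralizer_iff.mp hcc a ha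
    calc x * a = c⁻¹ * (c * x * c⁻¹ * (c * a)) := by group
      _ = c⁻¹ * (c * x * c⁻¹ * a) * c := by rw [← h1]; group
      _ = c⁻¹ * (a * (c * x * c⁻¹)) * c := by rw [hxa]
      _ = c⁻¹ * (a * c) * x := by group
      _ = a * x := by rw [h1]; group

theorem map_conj_map_conj' (X : Subgroup G) (c d : G) :
    (X.map (MulAut.conj d).toMonoidHom).map (MulAut.conj c).toMonoidHom =
      X.map (MulAut.conj (c * d)).toMonoidHom := by
  rw [map_map]; congr 1; ext x; simp [mul_assoc]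

theorem map_conj_one' (X : Subgroup G) : X.map (MulAut.conj (1 : G)).toMonoidHom = X := by
  ext x; simp

theorem conj_maxQMember (hθ : Cfsg.IsSolvableSignalizerFunctor p A θ)
    (hA : Cfsg.IsElementaryAbelian p A) (hA1 : A ≠ ⊥) {c : G} (hc : c ∈ Cfsg.signalizerInf A θ)
    {Q : Subgroup G} (hQ : IsMaxQMember p q A θ Q) :
    IsMaxQMember p q A θ (Q.map (MulAut.conj c).toMonoidHom) := by
  refine ⟨conj_family hθ hA hA1 hc hQ.1, hQ.2.1.map _, fun R hR hRq hle => ?_⟩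
  have h := hQ.2.2 _ (conj_family hθ hA hA1 (inv_mem hc) hR) (hRq.map _) ?_
  · rw [← h, map_conj_map_conj', mul_inv_cancel, map_conj_one']
  · have := Subgroup.map_mono (f := (MulAut.conj c⁻¹).toMonoidHom) hle
    rwa [map_conj_map_conj', inv_mul_cancel, map_conj_one'] at this

/-- The transitivity theorem. -/
theorem signalizer_transitivity (hA : Cfsg.IsElementaryAbelian p A) (hA3 : p ^ 3 ≤ Nat.card ↥A)
    (hθ : Cfsg.IsSolvableSignalizerFunctor p A θ) {Q₁ Q₂ : Subgroup G}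
    (h₁ : IsMaxQMember p q A θ Q₁) (h₂ : IsMaxQMember p q A θ Q₂) :
    ∃ c ∈ Cfsg.signalizerInf A θ, Q₁.map (MulAut.conj c).toMonoidHom = Q₂ := by
  have hA1 : A ≠ ⊥ := fun h => by
    rw [h, card_bot] at hA3
    exact absurd (Nat.one_lt_pow (n := 3) (by norm_num) hp.out.one_lt) (not_lt.mpr hA3)
  induction hn : Nat.card G - Nat.card ↥(Q₁ ⊓ Q₂) using Nat.strong_induction_on
    generalizing Q₁ Q₂ with
  | _ n ih =>
  subst hn
  set D := Q₁ ⊓ Q₂ with hD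
  by_cases he : Q₁ = Q₂
  · exact ⟨1, one_mem _, by rw [map_conj_one', he]⟩
  have hD1 : D < Q₁ := lt_of_le_of_ne inf_le_left fun e =>
    he (h₁.2.2 Q₂ h₂.1 h₂.2.1 (e ▸ inf_le_right)).symm
  have hD2 : D < Q₂ := lt_of_le_of_ne inf_le_right fun e =>
    he (h₂.2.2 Q₁ h₁.1 h₁.2.1 (e ▸ inf_le_left))
  have hrec : ∀ R₁ R₂, IsMaxQMember p q A θ R₁ → IsMaxQMember p q A θ R₂ →
      D < R₁ ⊓ R₂ → ∃ c ∈ Cfsg.signalizerInf A θ, R₁.map (MulAut.conj c).toMonoidHom = R₂ := by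
    intro R₁ R₂ hR₁ hR₂ hlt
    refine ih _ ?_ hR₁ hR₂ rfl
    have h1 : Nat.card ↥D < Nat.card ↥(R₁ ⊓ R₂) := Basics.card_lt_of_lt hlt
    have h2 := Subgroup.card_le_card_group (R₁ ⊓ R₂)
    omega
  have hAQ₁ := mem_family_invariant h₁.1
  have hAQ₂ := mem_family_invariant h₂.1
  have hAD : A ≤ normalizer (D : Set G) := by
    intro x hx
    apply mem_normalizer_of_map_conj_eq
    rw [hD, Subgroup.map_inf _ _ _ (MulAut.conj x).injective,
      map_conj_eq_of_mem_normalizer (hAQ₁ hx), map_conj_eq_of_mem_normalizer (hAQ₂ hx)]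
  obtain ⟨a, ha, ha1, hf1, hf2⟩ := exists_common_fixed hA hA3
    (not_dvd_of_le (inf_le_right (a := normalizer (D : Set G))) h₁.1.2.1)
    (not_dvd_of_le (inf_le_right (a := normalizer (D : Set G))) h₂.1.2.1)
    (fun x hx => normalizer_inf_mem_normalizer (hAQ₁ hx) (hAD hx))
    (fun x hx => normalizer_inf_mem_normalizer (hAQ₂ hx) (hAD hx))
    (normalizer_gt h₁.2.1 hD1) (normalizer_gt h₂.2.1 hD2)
  have hDmem : D ∈ Cfsg.signalizerFamily p A θ := mem_family_of_le h₁.1 inf_le_left hAD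
  set H := normalizer (D : Set G) ⊓ θ a with hH
  have hHmem : H ∈ Cfsg.signalizerFamily p A θ :=
    mem_family_of_le (theta_mem_family hA hθ ha ha1) inf_le_right
      (fun x hx => normalizer_inf_mem_normalizer (sf_le_centralizer hA hθ.1 ha ha1 hx) (hAD hx))
  set L := D ⊔ H with hL
  have hLmem : L ∈ Cfsg.signalizerFamily p A θ := sup_mem_family hA hDmem hHmem inf_le_left
  have hAL := mem_family_invariant hLmem
  have hcop : (Nat.card ↥A).Coprime (Nat.card ↥L) :=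
    coprime_of_not_dvd (elementary_isPGroup hA) hLmem.2.1
  have hsolv : Group.IsSolvable ↥A ∨ Group.IsSolvable ↥L := Or.inr hLmem.1
  have mk : ∀ Q : Subgroup G, IsMaxQMember p q A θ Q → D < Q →
      ¬ (normalizer (D : Set G) ⊓ Q ⊓ centralizer {a} ≤ D) →
      ∃ S R : Subgroup G, Basics.IsSylowIn q L S ∧ A ≤ normalizer (S : Set G) ∧
        S ≤ R ∧ IsMaxQMember p q A θ R ∧ D < R ⊓ Q ∧ D < S := by
    intro Q hQ hDQ hf
    set U := D ⊔ (normalizer (D : Set G) ⊓ Q ⊓ centralizer {a}) with hU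
    have hUQ : U ≤ Q := sup_le hDQ.le (inf_le_left.trans inf_le_right)
    have hUL : U ≤ L := by
      refine sup_le le_sup_left (fun x hx => ?_)
      exact le_sup_right (a := D) ⟨hx.1.1, hQ.1.2.2.2 a ha ha1 ⟨hx.1.2, hx.2⟩⟩
    have hUA : A ≤ normalizer (U : Set G) := by
      intro x hx
      apply mem_normalizer_of_map_conj_eq
      have hxC : x ∈ normalizer (centralizer ({a} : Set G) : Set G) :=
        le_normalizer (zpowers_le_centralizer_self hA ha hx)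
      rw [hU, Subgroup.map_sup, map_conj_eq_of_mem_normalizer (hAD hx),
        Subgroup.map_inf _ _ _ (MulAut.conj x).injective,
        map_conj_eq_of_mem_normalizer (normalizer_inf_mem_normalizer (mem_family_invariant hQ.1 hx) (hAD hx)),
        map_conj_eq_of_mem_normalizer hxC]
    obtain ⟨S, hS, hUS, hSA⟩ := Basics.exists_invariant_isSylowIn_ge A L hAL hcop hsolv q U hUL
      (hQ.2.1.to_le hUQ) hUA
    obtain ⟨R, hR, hSR⟩ := exists_maxQMember_ge (mem_family_of_le hLmem hS.1 hSA) hS.isPGroup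
    have hlt : D < U := lt_of_le_of_ne le_sup_left fun e => hf (le_sup_right.trans e.ge)
    exact ⟨S, R, hS, hSA, hSR, hR, lt_of_lt_of_le hlt (le_inf (hUS.trans hSR) hUQ),
      lt_of_lt_of_le hlt hUS⟩
  obtain ⟨S₁, R₁, hS₁, hS₁A, hSR₁, hR₁, hlt₁, -⟩ := mk Q₁ h₁ hD1 hf1
  obtain ⟨S₂, R₂, hS₂, hS₂A, hSR₂, hR₂, hlt₂, hDS₂⟩ := mk Q₂ h₂ hD2 hf2
  obtain ⟨c, hc, hcS⟩ := Basics.invariant_isSylowIn_conj A L hAL hcop hsolv q hS₁ hS₂ hS₁A hS₂A
  have hcθ : c ∈ Cfsg.signalizerInf A θ := mem_family_inf_centralizer_le hLmem le_rfl hc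
  obtain ⟨c₁, hc₁, e₁⟩ := hrec Q₁ R₁ h₁ hR₁ (by rwa [inf_comm])
  have hR₁c := conj_maxQMember hθ hA hA1 hcθ hR₁
  have hle : S₂ ≤ R₁.map (MulAut.conj c).toMonoidHom := by
    rw [← hcS]
    exact Subgroup.map_mono hSR₁
  obtain ⟨c₂, hc₂, e₂⟩ := hrec _ R₂ hR₁c hR₂ (lt_of_lt_of_le hDS₂ (le_inf hle hSR₂))
  obtain ⟨c₃, hc₃, e₃⟩ := hrec R₂ Q₂ hR₂ h₂ hlt₂
  refine ⟨c₃ * (c₂ * (c * c₁)), mul_mem hc₃ (mul_mem hc₂ (mul_mem hcθ hc₁)), ?_⟩
  rw [← e₃, ← e₂, ← e₁, map_conj_map_conj', map_conj_map_conj', map_conj_map_conj']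
  simp only [mul_assoc]

/-- Each member meets some maximal q-member in a Sylow q-subgroup. -/
theorem exists_maxQMember_inf_sylow (hA : Cfsg.IsElementaryAbelian p A) {H : Subgroup G}
    (hH : H ∈ Cfsg.signalizerFamily p A θ) :
    ∃ R, IsMaxQMember p q A θ R ∧ Basics.IsSylowIn q H (R ⊓ H) := by
  obtain ⟨S, hS, hSA⟩ := Basics.exists_invariant_isSylowIn A H (mem_family_invariant hH)
    (coprime_of_not_dvd (elementary_isPGroup hA) hH.2.1) (Or.inr hH.1) q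
  obtain ⟨R, hR, hSR⟩ := exists_maxQMember_ge (mem_family_of_le hH hS.1 hSA) hS.isPGroup
  refine ⟨R, hR, inf_le_right, ?_⟩
  obtain ⟨k, hk⟩ := (hR.2.1.to_le (inf_le_left (b := H))).exists_card_eq
  have h1 : k ≤ (Nat.card ↥H).factorization q :=
    (Nat.Prime.pow_dvd_iff_le_factorization hq.out Nat.card_pos.ne').mp
      (hk ▸ card_dvd_of_le inf_le_right)
  have h2 : q ^ (Nat.card ↥H).factorization q ∣ q ^ k := by
    rw [← hk, ← hS.2]
    exact card_dvd_of_le (le_inf hSR hS.1)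
  rw [hk, le_antisymm h1 ((Nat.pow_dvd_pow_iff_le_right hq.out.one_lt).mp h2)]

end Cfsg.Agent.Components
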