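import Cfsg.Agent.Lib.Components.FFThompson
import Cfsg.Agent.Lib.Components.FFAbelian
import Cfsg.Agent.Lib.Components.FFProductS3
import Cfsg.Agent.Lib.Transfer.MaxAbelian
import Cfsg.Agent.Lib.Basics.Cores

/-! The normal closure of the Thompson subgroup of a solvable group of characteristic two. -/

set_option autoImplicit false
set_option linter.style.haveILetI false

namespace Cfsg.Agent.Components.JClosure

open scoped commutatorElement
open Subgroup Cfsg Cfsg.Agent.Transfer

universe u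

variable {X : Type u} [Group X] [Finite X]

theorem exists_sylow_inf (T : Sylow 2 X) (N : Subgroup X) [N.Normal] :
    ∃ P : Sylow 2 N, (P : Subgroup N).map N.subtype = (T : Subgroup X) ⊓ N := by
  haveI : Fact (Nat.Prime 2) := ⟨Nat.prime_two⟩
  have hp : IsPGroup 2 ((T : Subgroup X).subgroupOf N) :=
    T.2.comap_of_injective N.subtype N.subtype_injective
  obtain ⟨P, hP⟩ := hp.exists_le_sylow
  refine ⟨P, (eq_of_le_of_card_ge ?_ ?_).symm⟩
  · intro x hx
    exact ⟨⟨x, hx.2⟩, hP (mem_subgroupOf.mpr hx.1), rfl⟩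
  · obtain ⟨T', hT'⟩ := (P.2.map N.subtype).exists_le_sylow
    obtain ⟨g, hg⟩ := MulAction.exists_smul_eq X T T'
    refine le_trans (card_le_of_le (show (P : Subgroup N).map N.subtype ≤
      ((T : Subgroup X) ⊓ N).map (MulAut.conj g).toMonoidHom from ?_))
      (card_map_of_injective (MulAut.conj g).injective).le
    intro y hy
    have h1 : y ∈ (T' : Subgroup X) := hT' hy
    rw [← hg] at h1
    obtain ⟨z, hz, hzy⟩ : y ∈ (T : Subgroup X).map (MulAut.conj g).toMonoidHom := h1
    refine ⟨z, ⟨hz, ?_⟩, hzy⟩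
    have hyN : y ∈ N := map_subtype_le _ hy
    have : g * z * g⁻¹ = y := hzy
    rw [← this] at hyN
    simpa [mul_assoc] using (inferInstance : N.Normal).conj_mem' _ hyN g

/-- A normal subgroup whose elements of odd order centralize `Z` centralizes `Z`. -/
theorem le_of_odd (T : Sylow 2 X) (N S : Subgroup X) [N.Normal] (hTS : (T : Subgroup X) ≤ S)
    (hodd : ∀ y ∈ N, Odd (orderOf y) → y ∈ S) : N ≤ S := by
  haveI : Fact (Nat.Prime 2) := ⟨Nat.prime_two⟩
  obtain ⟨P, hP⟩ := exists_sylow_inf T N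
  suffices h : Nat.card N ∣ Nat.card ↥(N ⊓ S : Subgroup X) by
    have := eq_of_le_of_card_ge (inf_le_left : N ⊓ S ≤ N) (Nat.le_of_dvd Nat.card_pos h)
    exact inf_eq_left.mp this
  rw [Nat.dvd_iff_prime_pow_dvd_dvd]
  intro q k hq hk
  haveI := Fact.mk hq
  by_cases hq2 : q = 2
  · subst hq2
    refine dvd_trans ?_ (card_dvd_of_le (show (T : Subgroup X) ⊓ N ≤ N ⊓ S from
      le_inf inf_le_right (inf_le_left.trans hTS)))
    rw [← hP, card_map_of_injective N.subtype_injective]
    exact P.pow_dvd_card_of_pow_dvd_card hk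
  · obtain ⟨R, hR⟩ := Sylow.exists_subgroup_card_pow_prime q hk
    rw [← hR, ← card_map_of_injective (K := R) N.subtype_injective]
    refine card_dvd_of_le ?_
    rintro _ ⟨y, hy, rfl⟩
    refine ⟨y.2, hodd _ y.2 ?_⟩
    refine Odd.of_dvd_nat ((hq.odd_of_ne_two hq2).pow (n := k)) ?_
    rw [Subgroup.coe_subtype, Subgroup.orderOf_coe, ← hR]
    exact Subgroup.orderOf_dvd_natCard R hy

omit [Finite X] in
/-- An element of odd order centralizing the involutions of an abelian 2-group centralizes it. -/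
theorem commute_of_omega {U : Subgroup X} (habel : ∀ a ∈ U, ∀ b ∈ U, a * b = b * a) {y : X}
    (hyU : ∀ u ∈ U, y * u * y⁻¹ ∈ U) (hy : Odd (orderOf y))
    (hy1 : ∀ u ∈ U, u ^ 2 = 1 → y * u = u * y) :
    ∀ (k : ℕ), ∀ v ∈ U, v ^ 2 ^ k = 1 → y * v = v * y := by
  intro k
  induction k with
  | zero => intro v _ hv; rw [pow_zero, pow_one] at hv; simp [hv]
  | succ k ih =>
    intro v hv hvk
    have hsq : y * v ^ 2 = v ^ 2 * y :=
      ih _ (U.pow_mem hv 2) (by rw [← pow_mul, ← pow_succ']; exact hvk)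
    obtain ⟨e, he⟩ : ∃ e, e = (y * v * y⁻¹) * v⁻¹ := ⟨_, rfl⟩
    have heU : e ∈ U := he ▸ U.mul_mem (hyU v hv) (U.inv_mem hv)
    have he2 : e ^ 2 = 1 := by
      have hc : Commute (y * v * y⁻¹) v⁻¹ := habel _ (hyU v hv) _ (U.inv_mem hv)
      rw [he, hc.mul_pow, conj_pow, hsq, inv_pow]; group
    have hce : y * e = e * y := hy1 e heU he2
    have hev : y * v * y⁻¹ = e * v := by rw [he, inv_mul_cancel_right]
    have hconj : ∀ i : ℕ, y ^ i * v * (y ^ i)⁻¹ = e ^ i * v := by
      intro i
      induction i with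
      | zero => simp
      | succ i hi =>
        calc y ^ (i + 1) * v * (y ^ (i + 1))⁻¹ = y * (y ^ i * v * (y ^ i)⁻¹) * y⁻¹ := by
              rw [pow_succ']; group
          _ = y * e ^ i * v * y⁻¹ := by rw [hi]; group
          _ = e ^ i * (y * v * y⁻¹) := by rw [((show Commute y e from hce).pow_right i).eq]; group
          _ = _ := by rw [hev, pow_succ, mul_assoc]
    have h1 := hconj (orderOf y)
    rw [pow_orderOf_eq_one, one_mul, inv_one, mul_one, right_eq_mul] at h1
    have he1 : e = 1 := by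
      obtain ⟨m, hm⟩ := hy
      rwa [hm, pow_succ, pow_mul, he2, one_pow, one_mul] at h1
    rw [he, mul_inv_eq_one, mul_inv_eq_iff_eq_mul] at he1
    exact he1

set_option maxHeartbeats 1000000 in
theorem main [Group.IsSolvable X] (hF : Cfsg.fittingSubgroup X = Cfsg.pCore 2 X) (T : Sylow 2 X)
    (C Y : Subgroup X) [C.Normal]
    (hC : C = (centralizer (((T : Subgroup X) ⊓ centralizer ((T : Subgroup X) : Set X) : Subgroup X) : Set X)).normalCore)
    (hY : Y = normalClosure (Cfsg.thompsonSubgroupAOf (T : Subgroup X) : Set X))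
    (hYC : ¬ Y ≤ C) :
    ∃ n : ℕ, 1 ≤ n ∧ Nonempty (↥Y ⧸ C.subgroupOf Y ≃* (Fin n → Equiv.Perm (Fin 3))) := by
  haveI : Fact (Nat.Prime 2) := ⟨Nat.prime_two⟩
  haveI hCn : C.Normal := by rw [hC]; exact normalCore_normal _
  haveI hYn : Y.Normal := by rw [hY]; exact normalClosure_normal
  set Z := (T : Subgroup X) ⊓ centralizer ((T : Subgroup X) : Set X) with hZdef
  set F := Cfsg.fittingSubgroup X with hFdef
  haveI hFn : F.Normal := Basics.fittingSubgroup_normal
  have hFp : IsPGroup 2 F := by rw [hF]; exact sSup_isPGroup_of_normal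
  have hFT : ∀ S : Sylow 2 X, F ≤ (S : Subgroup X) := fun S => hFp.le_sylow_of_normal S
  have hZF : Z ≤ F ⊓ centralizer (F : Set X) := by
    have h1 : Z ≤ centralizer (F : Set X) := inf_le_right.trans (centralizer_le (hFT T))
    exact le_inf (h1.trans Basics.centralizer_fittingSubgroup_le) h1
  set Vh := normalClosure (Z : Set X) with hVh
  have hVhF : Vh ≤ F ⊓ centralizer (F : Set X) := by
    haveI : (F ⊓ centralizer (F : Set X)).Normal := normal_inf_normal _ _
    exact normalClosure_le_normal hZF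
  have hab : ∀ a ∈ Vh, ∀ b ∈ Vh, a * b = b * a := fun a ha b hb =>
    (mem_centralizer_iff.mp (hVhF hb).2 a (hVhF ha).1)
  have hTZ : (T : Subgroup X) ≤ centralizer (Z : Set X) := le_centralizer_iff.mp inf_le_right
  have hCVh : C ≤ centralizer (Vh : Set X) := by
    rw [le_centralizer_iff]
    refine normalClosure_le_normal ?_
    exact le_centralizer_iff.mp (hC.le.trans (normalCore_le _))
  let V : Subgroup X :=
    { carrier := {v | v ∈ Vh ∧ v ^ 2 = 1}
      one_mem' := ⟨one_mem _, one_pow _⟩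
      mul_mem' := fun {a b} ha hb => ⟨mul_mem ha.1 hb.1, by
        rw [(show Commute a b from hab a ha.1 b hb.1).mul_pow, ha.2, hb.2, one_mul]⟩
      inv_mem' := fun {a} ha => ⟨inv_mem ha.1, by rw [inv_pow, ha.2, inv_one]⟩ }
  have hVVh : V ≤ Vh := fun v hv => hv.1
  have hVF : V ≤ F := hVVh.trans (hVhF.trans inf_le_left)
  haveI hVn : V.Normal := ⟨fun v hv g => ⟨normalClosure_normal.conj_mem v hv.1 g, by
    rw [conj_pow, hv.2, mul_one, mul_inv_cancel]⟩⟩
  have hVea : IsElementaryAbelian 2 V :=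
    ⟨⟨⟨fun a b => Subtype.ext (hab a a.2.1 b b.2.1)⟩⟩, fun v hv => hv.2⟩
  have hCV : centralizer (V : Set X) = C := by
    refine le_antisymm ?_ (hCVh.trans (centralizer_le hVVh))
    rw [hC]
    refine (normal_le_normalCore).mpr (le_of_odd T _ _ hTZ fun y hy hyo => ?_)
    refine mem_centralizer_iff.mpr fun z hz => ?_
    have hzV : z ∈ Vh := subset_normalClosure hz
    obtain ⟨k, hk⟩ := hFp ⟨z, (hVhF hzV).1⟩
    exact (commute_of_omega hab (fun u hu => normalClosure_normal.conj_mem u hu y) hyo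
      (fun u hu hu2 => (mem_centralizer_iff.mp hy u ⟨hu, hu2⟩).symm) k z hzV
      (congrArg Subtype.val hk)).symm
  have hO : Cfsg.pCore 2 (X ⧸ centralizer (V : Set X)) = ⊥ := by
    set P := Cfsg.pCore 2 (X ⧸ centralizer (V : Set X)) with hP
    set D := P.comap (QuotientGroup.mk' (centralizer (V : Set X))) with hD
    have hle : D ≤ centralizer (V : Set X) := by
      rw [hCV, hC]
      refine normal_le_normalCore.mpr (le_of_odd T _ _ hTZ fun y hy hyo => ?_)
      obtain ⟨k, hk⟩ := (sSup_isPGroup_of_normal (p := 2) (G := X ⧸ centralizer (V : Set X))) ⟨_, hy⟩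
      have h1 : y ^ 2 ^ k ∈ centralizer (V : Set X) :=
        (QuotientGroup.eq_one_iff _).mp (congrArg Subtype.val hk)
      have h2 : y ∈ centralizer (V : Set X) := by
        obtain ⟨m, hm⟩ := exists_pow_eq_self_of_coprime (x := y) (n := 2 ^ k)
          ((hyo.coprime_two_left).pow_left k)
        exact hm ▸ pow_mem h1 m
      rw [hCV, hC] at h2
      exact normalCore_le _ h2
    rw [eq_bot_iff]
    intro x hx
    obtain ⟨g, rfl⟩ := QuotientGroup.mk_surjective x
    exact mem_bot.mpr ((QuotientGroup.eq_one_iff g).mpr (hle hx))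
  -- the semidirect product
  have hsep : IsPSolvable 2 X := isPSolvable_of_isSolvable (Nat.card X) X le_rfl inferInstance
  set C' := centralizer (V : Set X) with hC'def
  haveI hC'n : C'.Normal := inferInstance
  let φ : (X ⧸ C') →* MulAut V :=
    QuotientGroup.lift C' (MulAut.conjNormal : X →* MulAut V) fun c hc => by
      refine MonoidHom.mem_ker.mpr (MulEquiv.ext fun w => Subtype.ext ?_)
      rw [MulAut.conjNormal_apply]
      show c * w * c⁻¹ = w
      rw [← hc w w.2, mul_inv_cancel_right]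
  let q := QuotientGroup.mk' C'
  have hq : Function.Surjective q := QuotientGroup.mk'_surjective C'
  let V0 : Subgroup (↥V ⋊[φ] (X ⧸ C')) := (SemidirectProduct.inl : ↥V →* _).range
  haveI : Finite (↥V ⋊[φ] (X ⧸ C')) := Finite.of_equiv _ SemidirectProduct.equivProd.symm
  have hinr : Function.Injective (SemidirectProduct.inr : (X ⧸ C') →* ↥V ⋊[φ] (X ⧸ C')) :=
    SemidirectProduct.inr_injective
  have hconj : ∀ (g : X) (w : V),
      (SemidirectProduct.inr (q g) : ↥V ⋊[φ] (X ⧸ C')) * SemidirectProduct.inl w *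
        (SemidirectProduct.inr (q g))⁻¹ = SemidirectProduct.inl (MulAut.conjNormal g w) := by
    intro g w
    rw [← map_inv, ← SemidirectProduct.inl_aut]
    rfl
  have hVn0 : ∀ x : ↥V ⋊[φ] (X ⧸ C'), x ∈ normalizer (V0 : Set (↥V ⋊[φ] (X ⧸ C'))) := by
    intro x
    have : V0.Normal := by
      show ((SemidirectProduct.inl : ↥V →* _).range).Normal
      rw [SemidirectProduct.range_inl_eq_ker_rightHom]
      exact MonoidHom.normal_ker _
    rw [normalizer_eq_top]; trivial
  have hV0ea : IsElementaryAbelian 2 V0 := by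
    have h1 := ea_map (p := 2) (f := (SemidirectProduct.inl : ↥V →* ↥V ⋊[φ] (X ⧸ C')))
      (A := ⊤) (ea_of_map V.subtype V.subtype_injective.injOn
        (by rwa [← MonoidHom.range_eq_map, range_subtype]))
    rwa [← MonoidHom.range_eq_map] at h1
  let m : X →* ↥V ⋊[φ] (X ⧸ C') := SemidirectProduct.inr.comp q
  have hfixmem : ∀ (B : Subgroup X) (w : V),
      (SemidirectProduct.inl w : ↥V ⋊[φ] (X ⧸ C')) ∈
        centralizer ((B.map m : Subgroup (↥V ⋊[φ] (X ⧸ C'))) : Set (↥V ⋊[φ] (X ⧸ C'))) ↔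
      (w : X) ∈ centralizer (B : Set X) := by
    intro B w
    constructor
    · intro h b hb
      have h1 := h _ (mem_map_of_mem m hb)
      have h2 := hconj b w
      change SemidirectProduct.inr (q b) * SemidirectProduct.inl w =
        SemidirectProduct.inl w * SemidirectProduct.inr (q b) at h1
      rw [h1, mul_inv_cancel_right] at h2
      have h3 := congrArg (Subtype.val) (SemidirectProduct.inl_injective h2)
      rw [MulAut.conjNormal_apply] at h3
      exact (eq_mul_inv_iff_mul_eq.mp h3).symm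
    · rintro h _ ⟨b, hb, rfl⟩
      have h2 := hconj b w
      have h3 : MulAut.conjNormal b w = w := Subtype.ext (by
        rw [MulAut.conjNormal_apply]
        exact mul_inv_eq_iff_eq_mul.mpr (h b hb))
      rw [h3] at h2
      exact mul_inv_eq_iff_eq_mul.mp h2
  have hkerm : m.ker = C' := by
    ext g
    rw [MonoidHom.mem_ker]
    exact (map_eq_one_iff _ hinr).trans (QuotientGroup.eq_one_iff g)
  have hmeas : ∀ B : Subgroup X,
      offMeasure V B = Nat.card ↥(C' ⊓ B : Subgroup X) * offMeasure V0 (B.map m) := by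
    intro B
    have e1 : Nat.card B = Nat.card ↥(C' ⊓ B : Subgroup X) * Nat.card ↥(B.map m) := by
      have h1 := card_mul_index (C'.subgroupOf B)
      have h2 : (C'.subgroupOf B).index = Nat.card ↥(B.map m) := by
        show C'.relIndex B = _
        exact (congrArg (fun S : Subgroup X => S.relIndex B) hkerm).symm.trans (relIndex_ker B m)
      rw [h2, ← inf_subgroupOf_right, Basics.card_subgroupOf inf_le_right] at h1
      exact h1.symm
    have e2 : Nat.card ↥(V ⊓ centralizer (B : Set X) : Subgroup X) =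
        Nat.card ↥(V0 ⊓ centralizer
          ((B.map m : Subgroup (↥V ⋊[φ] (X ⧸ C'))) : Set (↥V ⋊[φ] (X ⧸ C')))) := by
      refine Nat.card_congr (Equiv.ofBijective
        (fun w => ⟨SemidirectProduct.inl ⟨w.1, w.2.1⟩, ⟨⟨_, rfl⟩, (hfixmem B _).mpr w.2.2⟩⟩) ?_)
      constructor
      · intro u v h
        have h1 := SemidirectProduct.inl_injective (congrArg Subtype.val h)
        exact Subtype.ext (congrArg Subtype.val h1 :)
      · rintro ⟨x, ⟨w, rfl⟩, hx⟩
        exact ⟨⟨w, w.2, (hfixmem B w).mp hx⟩, rfl⟩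
    rw [offMeasure, offMeasure, e1, e2, mul_assoc]
  let H := Y.map m
  have hf : H ⊓ centralizer (V0 : Set (↥V ⋊[φ] (X ⧸ C'))) = ⊥ := by
    rw [eq_bot_iff]
    rintro x ⟨⟨g, hg, rfl⟩, hx⟩
    have hgC : g ∈ C' := by
      intro w hw
      have h1 : Commute (SemidirectProduct.inl ⟨w, hw⟩ : ↥V ⋊[φ] (X ⧸ C'))
          (SemidirectProduct.inr (q g)) := hx _ ⟨_, rfl⟩
      have h2 := hconj g ⟨w, hw⟩
      rw [← h1.eq, mul_inv_cancel_right] at h2
      have h3 := congrArg (Subtype.val) (SemidirectProduct.inl_injective h2)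
      rw [MulAut.conjNormal_apply] at h3
      exact eq_mul_inv_iff_mul_eq.mp h3
    exact mem_bot.mpr (MonoidHom.mem_ker.mp (hkerm.symm ▸ hgC))
  have hS1 : centralizer (pPrimeCore 2 ↥H : Set ↥H) ≤ pPrimeCore 2 ↥H := by
    have hHq : H = (Y.map q).map SemidirectProduct.inr := (map_map Y _ _).symm
    set H0 := Y.map q
    have e : ↥H0 ≃* ↥H := (equivMapOfInjective H0 _ hinr).trans (MulEquiv.subgroupCongr hHq.symm)
    have hsepH : IsPSolvable 2 ↥H := Coprime23.isPSolvable_map e.toMonoidHom e.surjective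
      (isPSolvable_subgroup' (Coprime23.isPSolvable_map q hq hsep) H0)
    refine centralizer_pPrimeCore_le hsepH ?_
    haveI : H0.Normal := hYn.map q hq
    have h1 : pCore 2 ↥H0 = ⊥ :=
      LocalEvenA.pCore_subnormal_eq_bot (isSubnormal_of_normal H0) hO
    rw [← LocalEvenA.pCore_map_iso (p := 2) e, h1, Subgroup.map_bot]
  have hset := FFSetup.of_hyp hV0ea (fun x _ => hVn0 x) hf hS1
  -- offenders
  have hoff : ∀ (S : Sylow 2 X) (A : Subgroup X), IsMaxAbIn 0 (S : Subgroup X) A → A ≤ Y →
      A.map m ≤ H ∧ IsBestOffenderOn 2 V0 (A.map m) := by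
    intro S A hA hAY
    haveI := hA.2.1.1
    have hAH : A.map m ≤ H := map_mono hAY
    haveI : IsMulCommutative ↥(A.map m) := map_isMulCommutative _ _
    have hA2 : IsPGroup 2 ↥(A.map m) := (S.2.to_le hA.1).map m
    have hVS : V ≤ (S : Subgroup X) := hVF.trans (hFT S)
    have hbest : ∀ B : Subgroup (↥V ⋊[φ] (X ⧸ C')), B ≤ A.map m →
        offMeasure V0 B ≤ offMeasure V0 (A.map m) := by
      intro B hB
      set B' := B.comap m ⊓ A with hB'
      have hB'm : B'.map m = B := by
        refine le_antisymm ((map_mono inf_le_left).trans (map_comap_le _ _)) fun y hy => ?_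
        obtain ⟨a, ha, e⟩ := hB hy
        exact ⟨a, ⟨show m a ∈ B by rw [e]; exact hy, ha⟩, e⟩
      have hCB : C' ⊓ B' = C' ⊓ A := by
        refine le_antisymm (inf_le_inf_left _ inf_le_right) fun x hx => ⟨hx.1, ?_, hx.2⟩
        show m x ∈ B
        rw [MonoidHom.mem_ker.mp (hkerm.symm ▸ hx.1 : x ∈ m.ker)]
        exact one_mem _
      have h1 : offMeasure V B' ≤ offMeasure V A := by
        set W := V ⊓ centralizer (B' : Set X) with hW
        have hWB : W ≤ normalizer (B' : Set X) := inf_le_right.trans (centralizer_le_normalizer _)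
        have hle : B' ⊔ W ≤ centralizer ((B' ⊔ W : Subgroup X) : Set X) := by
          have h1 : B' ≤ centralizer (B' : Set X) := fun a ha => mem_centralizer_iff.mpr fun b hb =>
            congrArg Subtype.val (mul_comm' (⟨b, hb.2⟩ : A) ⟨a, ha.2⟩)
          have h2 : W ≤ centralizer (W : Set X) := fun a ha => mem_centralizer_iff.mpr fun b hb =>
            hab b hb.1.1 a ha.1.1
          have h3 : W ≤ centralizer (B' : Set X) := inf_le_right
          refine sup_le (le_centralizer_iff.mp (sup_le ?_ ?_)) (le_centralizer_iff.mp (sup_le ?_ ?_))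
          · exact h1
          · exact h3
          · exact le_centralizer_iff.mp h3
          · exact h2
        have habs : IsMulCommutative ↥(B' ⊔ W) :=
          ⟨⟨fun a b => Subtype.ext (mem_centralizer_iff.mp (hle b.2) a a.2)⟩⟩
        have hsup : Nat.card ↥(B' ⊔ W) ≤ Nat.card A :=
          hA.2.2 _ (sup_le (inf_le_right.trans hA.1) (inf_le_left.trans hVS))
            ⟨habs, fun a _ => pow_zero a⟩
        have hint : Nat.card ↥(B' ⊓ W) ≤ Nat.card ↥(V ⊓ centralizer (A : Set X) : Subgroup X) :=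
          card_le_of_le fun x hx => ⟨hx.2.1, mem_centralizer_iff.mpr fun a ha =>
            congrArg Subtype.val (mul_comm' (⟨a, ha⟩ : A) ⟨x, hx.1.2⟩)⟩
        have hprod := Basics.card_mul_card_eq_card_sup_mul_card_inf (N := B') (H := W) hWB
        unfold offMeasure
        rw [hprod]
        exact Nat.mul_le_mul hsup hint
      rw [hmeas, hmeas, hCB, hB'm] at h1
      exact Nat.le_of_mul_le_mul_left h1 Nat.card_pos
    refine ⟨hAH, hbest, ?_, fun x hx => ?_⟩
    · rw [Subgroup.commutator_eq_bot_iff_le_centralizer.mpr (Subgroup.le_centralizer _)]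
      exact bot_le
    · rw [sq_eq_one_of_abelian_offender hset hAH hA2 hbest x hx]
      exact one_mem _
  have hgen : H = ⨆ A : {A : Subgroup (↥V ⋊[φ] (X ⧸ C')) // A ≤ H ∧ IsBestOffenderOn 2 V0 A},
      (A : Subgroup (↥V ⋊[φ] (X ⧸ C'))) := by
    refine le_antisymm ?_ (iSup_le fun A => A.2.1)
    rw [map_le_iff_le_comap]
    refine hY.le.trans ((closure_le _).mpr ?_)
    intro y hy
    rw [Group.mem_conjugatesOfSet_iff] at hy
    obtain ⟨x, hx, hxy⟩ := hy
    obtain ⟨g, rfl⟩ := isConj_iff.mp hxy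
    have hinj : Set.InjOn (MulAut.conj g).toMonoidHom (T : Subgroup X) := (MulAut.conj g).injective.injOn
    have hmapJ := map_JAb (e := 0) (T : Subgroup X) (MulAut.conj g).toMonoidHom hinj
    have hJY : (JAb 0 (T : Subgroup X)).map (MulAut.conj g).toMonoidHom ≤ Y := by
      rintro _ ⟨j, hj, rfl⟩
      rw [JAb_zero] at hj
      exact hYn.conj_mem j (hY ▸ subset_normalClosure hj) g
    have hgx : g * x * g⁻¹ ∈ (JAb 0 (T : Subgroup X)).map (MulAut.conj g).toMonoidHom :=
      ⟨x, by rw [JAb_zero]; exact hx, rfl⟩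
    refine SetLike.mem_coe.mpr ?_
    revert hgx
    generalize g * x * g⁻¹ = z
    revert z
    rw [← SetLike.le_def]
    have hS : ∃ S : Sylow 2 X, (S : Subgroup X) = (T : Subgroup X).map (MulAut.conj g).toMonoidHom :=
      ⟨g • T, rfl⟩
    obtain ⟨S, hS⟩ := hS
    rw [hmapJ, ← hS]
    refine sSup_le fun A hA => ?_
    rw [← map_le_iff_le_comap]
    have hAY : A ≤ Y := (le_JAb hA).trans (by rw [hS, ← hmapJ]; exact hJY)
    exact le_iSup_of_le ⟨_, hoff S A hA hAY⟩ le_rfl
  obtain ⟨n, ⟨e⟩⟩ := exists_equiv_pi_s3 hset hgen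
  have hker : (m.comp Y.subtype).ker = C.subgroupOf Y := by
    rw [← MonoidHom.comap_ker, hkerm, hCV]; rfl
  have hrange : (m.comp Y.subtype).range = H := by
    rw [MonoidHom.range_comp, range_subtype]
  refine ⟨n, Nat.one_le_iff_ne_zero.mpr fun h0 => hYC ?_, ⟨?_⟩⟩
  · subst h0
    haveI : Subsingleton ↥H := e.toEquiv.subsingleton
    intro y hy
    rw [← hCV, ← hkerm, MonoidHom.mem_ker]
    exact congrArg Subtype.val (Subsingleton.elim (⟨m y, mem_map_of_mem m hy⟩ : H) 1)
  · exact ((QuotientGroup.quotientMulEquivOfEq hker.symm).trans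
      ((QuotientGroup.quotientKerEquivRange _).trans (MulEquiv.subgroupCongr hrange))).trans e

end Cfsg.Agent.Components.JClosure
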