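import Cfsg.Agent.Lib.Fusion.NormalizerStable
import Cfsg.Agent.Lib.Fusion.Alperin
import Cfsg.Agent.Lib.Basics.Cores
import Mathlib

/-!
p-stability of a saturated fusion system is detected in the normalizer systems of centric radical subgroups.
-/

set_option autoImplicit false

universe u

set_option maxHeartbeats 300000

namespace Cfsg.Agent.Components.StableRadical

open Cfsg Cfsg.Agent.Fusion
open Cfsg.FusionSystem (centralizerIn normalizerIn)

variable {Ω : Type u} [Group Ω] {S : Subgroup Ω} {p : ℕ} [Fact p.Prime]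

/-- The predicate is invariant under conjugation in the system. -/
theorem stablePred_of_conj [Finite S] (F : Cfsg.FusionSystem S) {Q Q' : Subgroup Ω} (h : F.IsConj Q Q')
    (hs : StablePred F p Q') : StablePred F p Q := by
  intro χ hχ hid
  obtain ⟨f, hf, hfQ⟩ := isConj_iff.mp h
  have := finite_of_le hf.le
  have := finite_of_le (isConj_le_right h)
  have := finite_mulAut Q
  have := finite_mulAut Q'
  have hmap := map_congr_autGroup hf hfQ
  refine mem_pCore_transport (MulAut.congr (isoEquiv hf hfQ)) (F.autGroup Q) (F.autGroup Q')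
    (F.autGroup Q) le_rfl hmap hχ (hs _ (hmap ▸ ⟨χ, hχ, rfl⟩) fun a => ?_)
  obtain ⟨b, rfl⟩ := (isoEquiv hf hfQ).surjective a
  have h1 := congrArg (isoEquiv hf hfQ) (hid b)
  simpa [MulAut.congr, map_mul, map_inv] using h1

/-- All automorphisms of `Q` extend to automorphisms of `R`. -/
def Good (F : Cfsg.FusionSystem S) (Q R : Subgroup Ω) : Prop :=
  Q ≤ R ∧ R ≤ S ∧ ∀ α ∈ F.autGroup Q, ∃ g, MapTo F R g ∧ img g R = R ∧ ∀ x ∈ Q, g x = autFun α x

theorem good_conj [Finite S] (F : Cfsg.FusionSystem S) {Q R : Subgroup Ω} (h : Good F Q R) {f : Ω → Ω}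
    (hf : MapTo F R f) : Good F (img f Q) (img f R) := by
  obtain ⟨hQR, hRS, hext⟩ := h
  refine ⟨img_mono hQR, hf.img_le, fun β hβ => ?_⟩
  have hfQ := hf.restrict hQR
  have := finite_of_le hf.img_le
  obtain ⟨α, hα, hαβ⟩ : ∃ α ∈ F.autGroup Q, MulAut.congr (isoEquiv hfQ rfl) α = β := by
    rw [← map_congr_autGroup hfQ rfl] at hβ
    obtain ⟨α, hα, rfl⟩ := hβ
    exact ⟨α, hα, rfl⟩
  obtain ⟨g, hg, hgR, hgα⟩ := hext α hα
  obtain ⟨fi, hfi, hfif, -, -⟩ := hf.exists_iso_inverse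
  have hfiR : ∀ y ∈ img f R, fi y ∈ R := fun y hy => by
    obtain ⟨x, hx, rfl⟩ := (hf.mem_img_iff le_rfl).mp hy
    rw [hfif x hx]; exact hx
  have hgmem : ∀ x ∈ R, g x ∈ R := fun x hx => by
    have hgx : g x ∈ img g R := mem_img_of_mem hx
    rwa [hgR] at hgx
  have hc := (hfi.comp hg hfiR).comp hf fun y hy => hgmem _ (hfiR y hy)
  refine ⟨_, hc, img_eq_self_of_forall hc fun y hy => mem_img_of_mem (hgmem _ (hfiR y hy)), fun y hy => ?_⟩
  obtain ⟨x, hx, rfl⟩ := (hf.mem_img_iff hQR).mp hy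
  rw [hfif x (hQR hx), hgα x hx, ← hαβ]
  exact (autFun_congr hfQ rfl α hx).symm

/-- A fully normalized good subgroup which is not centric radical can be enlarged. -/
theorem good_step [Finite S] (hS : IsPGroup p S) {F : Cfsg.FusionSystem S} (hF : F.IsSaturated p)
    {Q R : Subgroup Ω} (h : Good F Q R) (hn : F.IsFullyNormalized R)
    (hncr : ¬ (F.IsCentric R ∧ F.IsRadical p R)) :
    ∃ R2, R < R2 ∧ Good F Q R2 := by
  obtain ⟨hQR, hRS, hext⟩ := h
  have := finite_of_le hRS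
  have := finite_mulAut R
  have hrec := (isReceptive_iff.mp (isReceptive_of_isFullyNormalized hS hF hn)).2
  suffices key : ∃ R2, R < R2 ∧ R2 ≤ S ∧ ∀ g, ∀ hg : MapTo F R g, img g R = R → R2 ≤ extSub S hg ∧
      ∀ g2, MapTo F R2 g2 → (∀ x ∈ R, g2 x = g x) → ∀ z ∈ R2, g2 z ∈ R2 by
    obtain ⟨R2, hlt, hR2, hkey⟩ := key
    refine ⟨R2, hlt, hQR.trans hlt.le, hR2, fun α hα => ?_⟩
    obtain ⟨g, hg, hgR, hgα⟩ := hext α hα
    obtain ⟨hle, hmem⟩ := hkey g hg hgR
    obtain ⟨g2, hg2, hg2g⟩ := hrec R g hg hgR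
    have := finite_of_le hR2
    exact ⟨g2, hg2.restrict hle, img_eq_self_of_forall (hg2.restrict hle)
      (hmem g2 (hg2.restrict hle) hg2g), fun x hx => by rw [hg2g x (hQR hx), hgα x hx]⟩
  by_cases hc : F.IsCentric R
  · -- not radical
    have hr : ¬ F.IsRadical p R := fun hr => hncr ⟨hc, hr⟩
    obtain ⟨K, hK⟩ : ∃ K, K = (Cfsg.pCore p (F.autGroup R)).map (F.autGroup R).subtype := ⟨_, rfl⟩
    have hInnK : Cfsg.Inn R ≤ K := by
      intro α hα
      rw [hK]
      exact ⟨⟨α, inn_le_autGroup hRS hα⟩, le_pCore (normal_inn_subgroupOf F R)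
        ((isPGroup_inn (hS.to_le hRS)).comap_of_injective _ (Subgroup.subtype_injective _)) hα, rfl⟩
    have hKle : K ≤ autInducedBy S R := by
      obtain ⟨-, T, hT⟩ := isFullyAutomized_of_isFullyNormalized hS hF hn
      have h1 : Cfsg.pCore p (F.autGroup R) ≤ (T : Subgroup (F.autGroup R)) :=
        Cfsg.Agent.Basics.pCore_le_sylow p T
      rw [hT] at h1
      rw [hK]
      rintro _ ⟨α, hα, rfl⟩
      exact h1 hα
    have hKnorm : ∀ α ∈ F.autGroup R, ∀ γ ∈ K, α * γ * α⁻¹ ∈ K := by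
      intro α hα γ hγ
      rw [hK] at hγ ⊢
      obtain ⟨γ', hγ', rfl⟩ := hγ
      exact ⟨⟨α, hα⟩ * γ' * ⟨α, hα⟩⁻¹, Subgroup.Normal.conj_mem inferInstance _ hγ' _, rfl⟩
    obtain ⟨γ0, hγ0, hγ0I⟩ : ∃ γ ∈ K, γ ∉ Cfsg.Inn R := by
      by_contra hcon
      push Not at hcon
      exact hr ⟨hRS, hK ▸ le_antisymm hcon hInnK⟩
    let R2 : Subgroup Ω :=
      { carrier := {k | k ∈ normalizerIn S R ∧ ∃ γ ∈ K, ∀ x ∈ R, autFun γ x = cj k x}
        one_mem' := ⟨one_mem _, 1, one_mem _, fun x hx => by rw [autFun_one hx]; simp⟩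
        mul_mem' := by
          rintro a b ⟨ha, γ, hγ, hγa⟩ ⟨hb, δ, hδ, hδb⟩
          refine ⟨mul_mem ha hb, γ * δ, mul_mem hγ hδ, fun x hx => ?_⟩
          rw [autFun_mul _ _ hx, hγa _ (autFun_mem δ hx), hδb x hx, cj_mul]
        inv_mem' := by
          rintro a ⟨ha, γ, hγ, hγa⟩
          refine ⟨inv_mem ha, γ⁻¹, inv_mem hγ, fun x hx => ?_⟩
          have h1 := hγa _ (autFun_mem γ⁻¹ hx)
          rw [autFun_autFun_inv γ hx] at h1
          conv_rhs => rw [h1]
          rw [cj_inv_cancel] }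
    have hmemR2 : ∀ k, k ∈ R2 ↔ k ∈ normalizerIn S R ∧ ∃ γ ∈ K, ∀ x ∈ R, autFun γ x = cj k x :=
      fun k => Iff.rfl
    clear_value R2
    refine ⟨R2, ?_, fun k hk => normalizerIn_le ((hmemR2 k).1 hk).1, fun g hg hgR => ?_⟩
    · refine lt_of_le_of_ne (fun r hr' => (hmemR2 r).2 ⟨le_normalizerIn hRS hr', ?_⟩) fun heq => ?_
      · obtain ⟨γ, hγ⟩ := exists_conjAut (k := r) (Subgroup.le_normalizer hr')
        exact ⟨γ, hInnK (inn_eq_autInducedBy R ▸ mem_autInducedBy_iff_cj.mpr ⟨r, hr', hγ⟩), hγ⟩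
      · obtain ⟨k, hkS, hk⟩ := mem_autInducedBy_iff_cj.mp (hKle hγ0)
        have hkR : k ∈ R := by
          rw [heq]
          refine (hmemR2 k).2 ⟨mem_normalizerIn_of_forall hRS hkS fun y hy => ?_, γ0, hγ0, hk⟩
          rw [← cj_apply, ← hk y hy]
          exact autFun_mem γ0 hy
        exact hγ0I (inn_eq_autInducedBy R ▸ mem_autInducedBy_iff_cj.mpr ⟨k, hkR, hk⟩)
    have hα := autOf_mem hg hgR
    refine ⟨fun k hk => ?_, fun g2 hg2 hg2g k hk => ?_⟩
    · obtain ⟨hkN, γ, hγ, hγk⟩ := (hmemR2 k).1 hk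
      obtain ⟨h', hh', hx'⟩ := mem_autInducedBy_iff_cj.mp (hKle (hKnorm _ hα γ hγ))
      refine ⟨hkN, h', hh', fun x hx => ?_⟩
      have h1 := hx' _ (autFun_mem (autOf hg hgR) hx)
      rw [autFun_mul _ _ (autFun_mem (autOf hg hgR) hx), autFun_inv_autFun (autOf hg hgR) hx,
        autFun_mul _ _ hx, hγk x hx, autFun_autOf hg hgR hx, cj_apply,
        autFun_autOf hg hgR (conj_mem_of_mem_normalizerIn hkN hx)] at h1
      exact h1
    · obtain ⟨hkN, γ, hγ, hγk⟩ := (hmemR2 k).1 hk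
      have hRR2 : R ≤ R2 := fun r hr' => (hmemR2 r).2 ⟨le_normalizerIn hRS hr', by
        obtain ⟨γ, hγ⟩ := exists_conjAut (k := r) (Subgroup.le_normalizer hr')
        exact ⟨γ, hInnK (inn_eq_autInducedBy R ▸ mem_autInducedBy_iff_cj.mpr ⟨r, hr', hγ⟩), hγ⟩⟩
      have hN : g2 k ∈ normalizerIn S R := by
        have h1 := hg2.map_mem_normalizerIn hRR2 hk hkN
        rwa [img_congr hg2g, hgR] at h1
      refine (hmemR2 _).2 ⟨hN, _, hKnorm _ hα γ hγ, fun y hy => ?_⟩
      obtain ⟨x, hx, rfl⟩ := (hg.mem_img_iff le_rfl).mp (hgR.symm ▸ hy : y ∈ img g R)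
      have hkx := conj_mem_of_mem_normalizerIn hkN hx
      have hgxR : g x = autFun (autOf hg hgR) x := (autFun_autOf hg hgR hx).symm
      rw [hgxR, autFun_mul _ _ (autFun_mem (autOf hg hgR) hx), autFun_inv_autFun (autOf hg hgR) hx,
        autFun_mul _ _ hx, hγk x hx, cj_apply, autFun_autOf hg hgR hkx, autFun_autOf hg hgR hx, cj_apply,
        ← hg2g x hx, ← hg2g _ hkx]
      exact hg2.map_conj hk (hRR2 hx)
  · -- not centric
    have hcent : ¬ centralizerIn S R ≤ R := fun hle =>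
      hc (isCentric_of_isFullyCentralized (isFullyCentralized_of_isFullyNormalized hS hF hn) hle)
    refine ⟨R ⊔ centralizerIn S R, lt_of_le_of_ne le_sup_left fun he => hcent (le_sup_right.trans he.ge),
      sup_le hRS centralizerIn_le, fun g hg hgR => ⟨sup_le (le_extSub hg) (centralizerIn_le_extSub hg),
        fun g2 hg2 hg2g z hz => ?_⟩⟩
    have h1 : img g2 (R ⊔ centralizerIn S R) ≤ R ⊔ centralizerIn S R := by
      rw [hg2.img_sup le_sup_left le_sup_right, img_congr hg2g, hgR]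
      refine sup_le le_sup_left (le_trans (img_le_of_forall fun y hy => ?_) le_sup_right)
      have h2 := hg2.map_mem_centralizerIn (le_sup_left : R ≤ R ⊔ centralizerIn S R)
        (Subgroup.mem_sup_right hy) hy
      rwa [img_congr hg2g, hgR] at h2
    exact h1 (mem_img_of_mem hz)

theorem stable_iff_centric_radical [Finite S] (hS : IsPGroup p S) (F : Cfsg.FusionSystem S)
    (hF : F.IsSaturated p) :
    (∀ Q : Subgroup Ω, F.IsFullyNormalized Q → StablePred F p Q) ↔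
      ∀ R : Subgroup Ω, F.IsFullyNormalized R → F.IsCentric R → F.IsRadical p R →
        ∀ N : Cfsg.FusionSystem (normalizerIn S R), F.IsNormalizerSystem R N →
          ∀ Q : Subgroup Ω, N.IsFullyNormalized Q → StablePred N p Q := by
  constructor
  · intro h R _ _ _ N hN Q hQ
    exact stable_normalizer F h N (fun P φ hφ => (hN P ▸ hφ : φ ∈ F.normalizerHom R P).1)
      normalizerIn_le hQ.1
  intro h Q hQ
  classical
  have := finite_subgroups_le (S := S)
  have hne : {R : {R : Subgroup Ω // R ≤ S} | ∃ Q', F.IsConj Q Q' ∧ Good F Q' R.1}.Nonempty :=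
    ⟨⟨Q, hQ.1⟩, Q, isConj_refl hQ.1, le_rfl, hQ.1, fun α hα =>
      ⟨autFun α, mapTo_of_mem_autGroup hQ.1 hα, img_autFun α, fun _ _ => rfl⟩⟩
  obtain ⟨⟨R, hRS⟩, ⟨Q', hQQ', hgood⟩, hmax⟩ := (Set.toFinite _).exists_maximalFor
    (fun R : {R : Subgroup Ω // R ≤ S} => Nat.card R.1) _ hne
  obtain ⟨R', hRR', hR'⟩ := exists_isFullyNormalized (F := F) hRS
  obtain ⟨f, hf, hfR⟩ := isConj_iff.mp hRR'
  have hgood' : Good F (img f Q') R' := hfR ▸ good_conj F hgood hf
  have hQ'' : F.IsConj Q (img f Q') := isConj_trans hQQ' (hf.restrict hgood.1).isConj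
  obtain ⟨hc, hr⟩ : F.IsCentric R' ∧ F.IsRadical p R' := by
    by_contra hncr
    obtain ⟨R2, hlt, hgood2⟩ := good_step hS hF hgood' hR' hncr
    have := finite_of_le hgood2.2.1
    have h1 : Nat.card R' < Nat.card R2 :=
      lt_of_le_of_ne (Subgroup.card_le_of_le hlt.le) fun he =>
        hlt.ne (Subgroup.eq_of_le_of_card_ge hlt.le he.ge)
    have h3 : Nat.card R' = Nat.card R := isConj_card hRR'
    have h2 : Nat.card R ≤ Nat.card R2 := by omega
    have h4 : Nat.card R2 ≤ Nat.card R := hmax (j := ⟨R2, hgood2.2.1⟩) ⟨img f Q', hQ'', hgood2⟩ h2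
    omega
  refine stablePred_of_conj F hQ'' ?_
  obtain ⟨hle, -, hext⟩ := hgood'
  have hN := isNormalizerSystem_nSys F hR'.1
  have hQN : img f Q' ≤ normalizerIn S R' := hle.trans (le_normalizerIn hR'.1)
  have hsub : (nSys F hR'.1).IsSubsystemOf F := fun P φ hφ => (hN P ▸ hφ : φ ∈ F.normalizerHom R' P).1
  have he : (nSys F hR'.1).autGroup (img f Q') = F.autGroup (img f Q') := by
    refine le_antisymm (Subgroup.closure_mono fun _ ha => hsub _ ha) fun a ha => ?_
    obtain ⟨g, hg, hgR, hga⟩ := hext a ha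
    rw [mem_autGroup_iff hQN, mapTo_nSys_iff hN]
    exact ⟨hQN, fun x hx => hQN (autFun_mem a hx), g, by rwa [sup_eq_right.2 hle], hga, hgR⟩
  have hfinN : Finite (normalizerIn S R') := finite_of_le normalizerIn_le
  have hst := stable_normalizer (nSys F hR'.1) (h R' hR' hc hr _ hN) (nSys F hR'.1)
    (fun P φ hφ => hφ) le_rfl hQN
  intro χ hχ hid
  have h2 := hst χ (he.symm ▸ hχ) hid
  rwa [he] at h2

end Cfsg.Agent.Components.StableRadical
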