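import Cfsg.Agent.Lib.Fusion.Realized
import Cfsg.Agent.Lib.Fusion.Normal
import Cfsg.Agent.Lib.Invol.SylowGL2
import Cfsg.Agent.Lib.Invol.QuasiDihedral
import Cfsg.Agent.Lib.Invol.Dihedral
import Cfsg.Agent.Lib.Invol.Quaternion
import Cfsg.Agent.Lib.LocalEvenA.Core

/-!
Saturated systems over dihedral, semidihedral and quaternion groups in which the group is not normal,
from `GL_2(q)`, `q ≡ 3 (mod 4)`.
-/

set_option autoImplicit false
set_option linter.style.haveILetI false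

namespace Cfsg.Agent.Components.SupersolWitness

open Cfsg Cfsg.Agent.Fusion Cfsg.Agent.Invol

universe u

variable {Ω : Type u} [Group Ω] {S : Subgroup Ω}

/-- The system realized by an injective homomorphism. -/
noncomputable def realizedSys {G : Type*} [Group G] (ι : S →* G) (hι : Function.Injective ι) : FusionSystem S where
  Hom P := {φ | ∃ (hP : P ≤ S) (hφ : ∀ x : P, φ x ∈ S), ∃ g : G, ∀ x : P,
    ι ⟨φ x, hφ x⟩ = g * ι ⟨x, hP x.2⟩ * g⁻¹}
  le_of_mem := fun ⟨hP, hφ, _⟩ => ⟨hP, hφ⟩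
  injective_of_mem := by
    rintro P φ ⟨hP, hφ, g, hg⟩ a b hab
    have h1 : (⟨φ a, hφ a⟩ : S) = ⟨φ b, hφ b⟩ := Subtype.ext hab
    have h2 := congrArg ι h1
    rw [hg, hg, mul_left_inj, mul_right_inj] at h2
    exact Subtype.ext (congrArg Subtype.val (hι h2) : _)
  conj_mem := by
    intro P g hP hg
    refine ⟨hP, fun x => S.mul_mem (S.mul_mem hg (hP x.2)) (S.inv_mem hg), ι ⟨g, hg⟩, fun x => ?_⟩
    rw [← map_inv, ← map_mul, ← map_mul]
    rfl
  comp_mem := by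
    rintro P Q φ ψ ⟨hP, hφ, g, hg⟩ ⟨hQ, hψ, g', hg'⟩ h
    refine ⟨hP, fun x => hψ _, g' * g, fun x => ?_⟩
    refine (hg' ⟨φ x, h x⟩).trans ?_
    rw [show (⟨((⟨φ x, h x⟩ : Q) : Ω), hQ (h x)⟩ : S) = ⟨φ x, hφ x⟩ from rfl, hg]
    group
  inv_mem := by
    rintro P φ ⟨hP, hφ, g, hg⟩
    have hinj : Function.Injective φ := fun a b hab => by
      have h2 := congrArg ι (Subtype.ext hab : (⟨φ a, hφ a⟩ : S) = ⟨φ b, hφ b⟩)
      rw [hg, hg, mul_left_inj, mul_right_inj] at h2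
      exact Subtype.ext (congrArg Subtype.val (hι h2) : _)
    let e := MonoidHom.ofInjective hinj
    refine ⟨P.subtype.comp e.symm.toMonoidHom, ⟨?_, fun y => hP (e.symm y).2, g⁻¹, fun y => ?_⟩,
      fun x => ?_⟩
    · rintro _ ⟨x, rfl⟩; exact hφ x
    · obtain ⟨_, x, rfl⟩ := y
      have hx : e.symm ⟨φ x, ⟨x, rfl⟩⟩ = x := e.symm_apply_apply x
      show ι ⟨((e.symm ⟨φ x, ⟨x, rfl⟩⟩ : P) : Ω), _⟩ = g⁻¹ * ι ⟨φ x, _⟩ * g⁻¹⁻¹
      rw [hg]
      simp only [hx]
      group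
    · exact congrArg Subtype.val (e.symm_apply_apply x)

theorem isRealizedBy_realizedSys {G : Type*} [Group G] (ι : S →* G) (hι : Function.Injective ι) :
    (realizedSys ι hι).IsRealizedBy ι :=
  ⟨hι, fun P hP φ hφ => ⟨fun ⟨_, _, h⟩ => h, fun h => ⟨hP, hφ, h⟩⟩⟩

/-- A square conjugate to a non-square obstructs normality. -/
theorem exists_not_normal [Finite S] {p : ℕ} [Fact p.Prime] {G : Type*} [Group G] [Finite G] (T : Sylow p G)
    (e : S ≃* (T : Subgroup G)) (w : G) (y : G) (hw : w ∈ (T : Subgroup G)) (hy : y ∈ (T : Subgroup G))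
    (hconj : ∃ g : G, g * (w * w) * g⁻¹ = y) (hns : ∀ v ∈ (T : Subgroup G), v * v ≠ y) :
    ∃ F : FusionSystem S, F.IsSaturated p ∧ ¬ F.IsNormal S := by
  let ι : S →* G := (T : Subgroup G).subtype.comp e.toMonoidHom
  have hι : Function.Injective ι := (T : Subgroup G).subtype_injective.comp e.injective
  have hr := isRealizedBy_realizedSys ι hι
  have hT : (T : Subgroup G) = ι.range := by
    ext z
    exact ⟨fun hz => ⟨e.symm ⟨z, hz⟩, by simp [ι]⟩, by rintro ⟨s, rfl⟩; exact (e s).2⟩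
  refine ⟨_, IsRealizedBy.isSaturated hr T hT, fun hn => ?_⟩
  obtain ⟨g, hg⟩ := hconj
  set a : S := e.symm ⟨w, hw⟩
  have ha : ι a = w := by simp [ι, a]
  have hP : Subgroup.zpowers ((a : Ω) * a) ≤ S := Subgroup.zpowers_le.mpr (S.mul_mem a.2 a.2)
  have haa : th ι ((a : Ω) * a) = w * w := by
    rw [← Subgroup.coe_mul, th_coe, map_mul, ha]
  have hth : ∀ {u v : Ω}, u ∈ S → v ∈ S → th ι (u * v) = th ι u * th ι v := fun {u v} hu hv => by
    rw [show u * v = ((⟨u, hu⟩ * ⟨v, hv⟩ : S) : Ω) from rfl, th_coe, map_mul,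
      show th ι u = ι ⟨u, hu⟩ from th_coe ι ⟨u, hu⟩, show th ι v = ι ⟨v, hv⟩ from th_coe ι ⟨v, hv⟩]
  obtain ⟨f, hf, hfg⟩ := IsRealizedBy.exists_mapTo hr hP g fun x hx => by
    obtain ⟨i, rfl⟩ := hx
    show g * th ι (((a : Ω) * a) ^ i) * g⁻¹ ∈ ι.range
    rw [← Subgroup.coe_mul, ← Subgroup.coe_zpow, th_coe, map_zpow, ← conj_zpow, map_mul, ha, hg, ← hT]
    exact zpow_mem hy i
  obtain ⟨k, hk, hkf, -⟩ := (isNormal_iff.mp hn).2 _ f hf
  have haS : (a : Ω) ∈ Subgroup.zpowers ((a : Ω) * a) ⊔ S := Subgroup.mem_sup_right a.2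
  have hmem := hk.mem haS
  refine hns _ (hT ▸ th_mem_range ι (k a) : th ι (k a) ∈ (T : Subgroup G)) ?_
  rw [← hth hmem hmem, ← hk.map_mul haS haS, hkf _ (Subgroup.mem_zpowers _),
    hfg _ (Subgroup.mem_zpowers _), haa, hg]

theorem nonempty_qd_iso {A B : Type*} [Group A] [Group B] (D : QDData A) (E : QDData B) (hm : D.m = E.m) :
    Nonempty (A ≃* B) := by
  classical
  have hz : ∀ a b : ℤ, D.x ^ a = D.x ^ b ↔ E.x ^ a = E.x ^ b := fun a b => by
    rw [D.zpow_eq_iff, E.zpow_eq_iff, hm]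
  have hex : ∀ g : A, ∃ (i : ℤ) (b : Bool), g = D.x ^ i * (if b then D.y else 1) := fun g => by
    obtain ⟨i, h | h⟩ := D.repr_cases g
    exacts [⟨i, false, by simp [h]⟩, ⟨i, true, by simp [h]⟩]
  choose i b hib using hex
  let f : A → B := fun g => E.x ^ i g * (if b g then E.y else 1)
  have h0 : ∀ j : ℤ, f (D.x ^ j) = E.x ^ j := fun j => by
    have h := hib (D.x ^ j)
    cases hb : b (D.x ^ j) with
    | false => rw [hb] at h; simp only [Bool.false_eq_true, if_false, mul_one] at h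
               simp [f, hb, (hz _ _).mp h]
    | true => rw [hb, if_pos rfl] at h; exact absurd h (D.zpow_ne_mul_y _ _)
  have h1 : ∀ j : ℤ, f (D.x ^ j * D.y) = E.x ^ j * E.y := fun j => by
    have h := hib (D.x ^ j * D.y)
    cases hb : b (D.x ^ j * D.y) with
    | false => rw [hb] at h; simp only [Bool.false_eq_true, if_false, mul_one] at h
               exact absurd h.symm (D.zpow_ne_mul_y _ _)
    | true => rw [hb, if_pos rfl, mul_left_inj] at h
              simp [f, hb, (hz _ _).mp h]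
  have e1 : ∀ (D' : A) (i j : ℤ), D.x ^ i * D.y * D.x ^ j = D.x ^ (i + (2 * (D.m : ℤ) - 1) * j) * D.y :=
    fun _ i j => by rw [mul_assoc, D.y_mul_zpow, ← mul_assoc, ← zpow_add]
  have e2 : ∀ i j : ℤ, E.x ^ i * E.y * E.x ^ j = E.x ^ (i + (2 * (D.m : ℤ) - 1) * j) * E.y :=
    fun i j => by rw [mul_assoc, E.y_mul_zpow, ← mul_assoc, ← zpow_add, hm]
  have hDy : D.y * D.y = 1 := mul_self_of_orderOf_two D.ordy
  have hEy : E.y * E.y = 1 := mul_self_of_orderOf_two E.ordy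
  have hmul : ∀ g h, f (g * h) = f g * f h := fun g h => by
    obtain ⟨u, rfl | rfl⟩ := D.repr_cases g <;> obtain ⟨v, rfl | rfl⟩ := D.repr_cases h
    · rw [← zpow_add, h0, h0, h0, zpow_add]
    · rw [← mul_assoc, ← zpow_add, h1, h0, h1, zpow_add, mul_assoc]
    · rw [e1 D.x, h1, h1, h0, e2]
    · rw [← mul_assoc, e1 D.x, mul_assoc, hDy, mul_one, h0, h1, h1, ← mul_assoc, e2, mul_assoc, hEy, mul_one]
  haveI : Finite A := Nat.finite_of_card_ne_zero (by
    have := D.m_pos; rw [D.card_eq]; omega)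
  haveI : Finite B := Nat.finite_of_card_ne_zero (by
    have := E.m_pos; rw [E.card_eq]; omega)
  refine ⟨MulEquiv.ofBijective (MonoidHom.mk' f hmul) ?_⟩
  refine (Nat.bijective_iff_surjective_and_card _).mpr ⟨fun z => ?_, by rw [D.card_eq, E.card_eq, hm]⟩
  obtain ⟨j, rfl | rfl⟩ := E.repr_cases z
  exacts [⟨_, h0 j⟩, ⟨_, h1 j⟩]

theorem mem_zpowers_of_orderOf_two' {A : Type*} [Group A] {z v : A} (hz : orderOf z = 2)
    (h : v ∈ Subgroup.zpowers z) : v = 1 ∨ v = z := by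
  obtain ⟨i, rfl⟩ := Subgroup.mem_zpowers_iff.mp h
  rw [← zpow_mod_orderOf, hz]
  rcases Int.emod_two_eq_zero_or_one i with e | e
  · left; push_cast; rw [e, zpow_zero]
  · right; push_cast; rw [e, zpow_one]

section gl

variable {q : ℕ} [Fact q.Prime]

open scoped Matrix MatrixGroups

/-- Square roots of `-1` are conjugate by elements of determinant one. -/
theorem exists_conj_rot (hq : q % 4 = 3) (g : GL (Fin 2) (ZMod q)) (hg : g * g = -1) :
    ∃ h : GL (Fin 2) (ZMod q), Matrix.GeneralLinearGroup.det h = 1 ∧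
      g.1 * h.1 = h.1 * !![0, -1; 1, 0] := by
  set a := g.1 0 0 with ha
  set b := g.1 0 1 with hb
  set c := g.1 1 0 with hc
  set d := g.1 1 1 with hd
  have hm : g.1 * g.1 = -1 := by rw [← Units.val_mul, hg]; simp
  have h00 := congrFun (congrFun hm 0) 0
  have h10 := congrFun (congrFun hm 1) 0
  rw [Matrix.mul_apply, Fin.sum_univ_two, Matrix.neg_apply, Matrix.one_apply_eq] at h00
  rw [Matrix.mul_apply, Fin.sum_univ_two, Matrix.neg_apply, Matrix.one_apply_ne (by decide), neg_zero] at h10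
  rw [← ha, ← hb, ← hc] at h00
  rw [← ha, ← hc, ← hd] at h10
  have hc0 : c ≠ 0 := fun h => by
    refine ZMod.mod_four_ne_three_of_sq_eq_neg_one (y := a) ?_ hq
    rw [pow_two, ← h00, h]; ring
  obtain ⟨s, t, hst⟩ := ZMod.sq_add_sq q (c⁻¹)
  let M : Matrix (Fin 2) (Fin 2) (ZMod q) := !![s + a * t, -t + a * s; c * t, c * s]
  have hdet : M.det = 1 := by
    rw [Matrix.det_fin_two]
    simp [M]
    have : c * (s ^ 2 + t ^ 2) = 1 := by rw [hst, mul_inv_cancel₀ hc0]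
    linear_combination this
  let U : GL (Fin 2) (ZMod q) := Matrix.GeneralLinearGroup.mkOfDetNeZero M (by rw [hdet]; exact one_ne_zero)
  refine ⟨U, Units.ext (by simpa [U] using hdet), ?_⟩
  show g.1 * M = M * !![0, -1; 1, 0]
  ext i j
  fin_cases i <;> fin_cases j <;>
    simp [M, Matrix.mul_apply, Fin.sum_univ_two, ← ha, ← hb, ← hc, ← hd]
  · linear_combination t * h00
  · linear_combination s * h00
  · linear_combination t * h10
  · linear_combination s * h10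

theorem conj_of_sq_neg_one (hq : q % 4 = 3) (g g' : GL (Fin 2) (ZMod q)) (hg : g * g = -1)
    (hg' : g' * g' = -1) :
    ∃ u : GL (Fin 2) (ZMod q), Matrix.GeneralLinearGroup.det u = 1 ∧ u * g * u⁻¹ = g' := by
  obtain ⟨h, hd, he⟩ := exists_conj_rot hq g hg
  obtain ⟨h', hd', he'⟩ := exists_conj_rot hq g' hg'
  refine ⟨h' * h⁻¹, by rw [map_mul, map_inv, hd, hd', inv_one, one_mul], ?_⟩
  rw [mul_inv_eq_iff_eq_mul]
  have key : g' * h' * h⁻¹ = h' * h⁻¹ * g := by
    apply Units.ext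
    simp only [Units.val_mul]
    rw [he', mul_assoc, mul_assoc]
    congr 1
    have h2 : (h⁻¹ : GL (Fin 2) (ZMod q)).1 * g.1 * h.1 = !![0, -1; 1, 0] := by
      rw [mul_assoc, he, ← mul_assoc, Units.inv_mul, one_mul]
    rw [← h2, mul_assoc, mul_assoc, Units.mul_inv, mul_one]
  rw [← key, mul_assoc]

theorem det_eq_one_of_sq_neg_one (hq : q % 4 = 3) (g : GL (Fin 2) (ZMod q)) (hg : g * g = -1) :
    Matrix.GeneralLinearGroup.det g = 1 := by
  obtain ⟨h, hd, he⟩ := exists_conj_rot hq g hg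
  have := congrArg (Matrix.det : Matrix (Fin 2) (Fin 2) (ZMod q) → ZMod q) he
  rw [Matrix.det_mul, Matrix.det_mul, Matrix.det_fin_two_of] at this
  have hh : (h : Matrix (Fin 2) (Fin 2) (ZMod q)).det = 1 := congrArg Units.val hd
  rw [hh] at this
  exact Units.ext (by simpa using this)

theorem eq_of_involution_det (hq : q % 4 = 3) (g : GL (Fin 2) (ZMod q)) (hg : g * g = 1)
    (hd : Matrix.GeneralLinearGroup.det g = 1) : g = 1 ∨ g = -1 := by
  haveI : Fact (2 < q) := ⟨by have := (Fact.out : q.Prime).two_le; omega⟩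
  have h2 : (2 : ZMod q) ≠ 0 := by
    intro h
    have := (ZMod.natCast_eq_zero_iff 2 q).mp (by exact_mod_cast h) |>.trans dvd_rfl
    exact absurd (Nat.le_of_dvd two_pos this) (by have := (Fact.out : (2 < q)); omega)
  have hadj : g.1 = g.1.adjugate := by
    have h1 : g.1 * g.1 = 1 := by rw [← Units.val_mul, hg]; rfl
    have hdet : g.1.det = 1 := congrArg Units.val hd
    calc g.1 = g.1 * (g.1 * g.1.adjugate) := by rw [Matrix.mul_adjugate, hdet, one_smul, mul_one]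
      _ = g.1.adjugate := by rw [← mul_assoc, h1, one_mul]
  rw [Matrix.adjugate_fin_two] at hadj
  have e00 : g.1 0 0 = g.1 1 1 := by simpa using congrFun (congrFun hadj 0) 0
  have e01 : g.1 0 1 = 0 := by
    have h : g.1 0 1 = -g.1 0 1 := by simpa using congrFun (congrFun hadj 0) 1
    exact (mul_eq_zero.mp (show (2 : ZMod q) * g.1 0 1 = 0 by linear_combination h)).resolve_left h2
  have e10 : g.1 1 0 = 0 := by
    have h : g.1 1 0 = -g.1 1 0 := by simpa using congrFun (congrFun hadj 1) 0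
    exact (mul_eq_zero.mp (show (2 : ZMod q) * g.1 1 0 = 0 by linear_combination h)).resolve_left h2
  have hdet : g.1.det = 1 := congrArg Units.val hd
  rw [Matrix.det_fin_two, e01, e10, ← e00, mul_zero, sub_zero] at hdet
  rcases mul_self_eq_one_iff.mp hdet with h | h
  · left
    ext i j
    fin_cases i <;> fin_cases j <;> simp [h, e00 ▸ h, e01, e10]
  · right
    ext i j
    fin_cases i <;> fin_cases j <;> simp [h, e00 ▸ h, e01, e10]

end gl

/-- The group `GL_2(q)` with a Sylow subgroup of the given order. -/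
theorem exists_gl (t : ℕ) (ht : 2 ≤ t) : ∃ (q : ℕ) (_ : Fact q.Prime), q % 4 = 3 ∧
    ∃ (T : Sylow 2 (GL (Fin 2) (ZMod q))) (D : QDData (T : Subgroup (GL (Fin 2) (ZMod q)))),
      D.m = 2 ^ (t - 1) ∧ ((D.x ^ (2 * (D.m : ℤ)) : (T : Subgroup (GL (Fin 2) (ZMod q)))) : GL (Fin 2) (ZMod q)) = -1 := by
  have h2t : (2 : ℕ) ^ (t + 1) ≠ 0 := pow_ne_zero _ two_ne_zero
  have h4 : 4 ∣ 2 ^ t := by
    rw [show (4 : ℕ) = 2 ^ 2 from rfl]; exact pow_dvd_pow 2 ht
  have hpos : 4 ≤ 2 ^ t := Nat.le_of_dvd (by positivity) h4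
  have hcop : Nat.Coprime (2 ^ t - 1) (2 ^ (t + 1)) := Nat.Coprime.pow_right _ (Nat.coprime_two_right.mpr
    (by obtain ⟨r, hr⟩ := h4; exact ⟨2 * r - 1, by omega⟩))
  obtain ⟨q, -, hqp, hqm⟩ := Nat.forall_exists_prime_gt_and_modEq 0 h2t hcop
  haveI : Fact q.Prime := ⟨hqp⟩
  have hsucc : 2 ^ (t + 1) = 2 * 2 ^ t := pow_succ' 2 t
  have hq1 : q % 2 ^ (t + 1) = 2 ^ t - 1 := by
    rw [hqm]; exact Nat.mod_eq_of_lt (by omega)
  obtain ⟨s, hs⟩ : ∃ s, q + 1 = 2 ^ t * s ∧ Odd s := by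
    refine ⟨2 * (q / 2 ^ (t + 1)) + 1, ?_, ⟨_, rfl⟩⟩
    have := Nat.div_add_mod q (2 ^ (t + 1))
    rw [hq1, hsucc] at this
    rw [hsucc, Nat.mul_add, mul_one, ← mul_assoc, mul_comm (2 ^ t) 2]
    omega
  have hq4 : q % 4 = 3 := by
    obtain ⟨r, hr⟩ := h4
    have h := hs.1
    rw [hr, mul_assoc] at h
    omega
  refine ⟨q, ⟨hqp⟩, hq4, ?_⟩
  obtain ⟨v, hv⟩ : ∃ v, q = 4 * v + 3 := ⟨q / 4, by omega⟩
  have hcard : Nat.card (GL (Fin 2) (ZMod q)) = 2 ^ (t + 2) * (s * q * (2 * v + 1) * (2 * v + 1)) := by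
    rw [SylowGL2.card_GL2, ZMod.card, show q ^ 2 - 1 = (q + 1) * (q - 1) by
      rw [← Nat.sq_sub_sq, one_pow], show q ^ 2 - q = q * (q - 1) by rw [Nat.mul_sub, mul_one, pow_two],
      hs.1, show q - 1 = 2 * (2 * v + 1) by omega, pow_add]
    ring
  have hodd : Odd (s * q * (2 * v + 1) * (2 * v + 1)) :=
    ((hs.2.mul (by rw [hv]; exact ⟨2 * v + 1, by ring⟩)).mul ⟨v, rfl⟩).mul ⟨v, rfl⟩
  let T : Sylow 2 (GL (Fin 2) (ZMod q)) := default
  have hTc : Nat.card (T : Subgroup (GL (Fin 2) (ZMod q))) = 2 ^ (t + 2) := by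
    rw [T.card_eq_multiplicity, hcard, Nat.factorization_mul (pow_ne_zero _ two_ne_zero) hodd.pos.ne',
      Nat.Prime.factorization_pow Nat.prime_two, Finsupp.add_apply, Finsupp.single_eq_same,
      Nat.factorization_eq_zero_of_not_dvd hodd.not_two_dvd_nat, add_zero]
  obtain ⟨D⟩ := qd_exists (SylowGL2.quasiDihedral_GL2 (by rwa [ZMod.card]) T)
  have hm : D.m = 2 ^ (t - 1) := by
    have := D.card_eq
    rw [hTc, show t + 2 = t - 1 + 3 by omega, pow_add] at this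
    omega
  refine ⟨T, D, hm, ?_⟩
  haveI : Fact (2 < q) := ⟨by omega⟩
  have hne : (-1 : GL (Fin 2) (ZMod q)) ≠ 1 := fun h => by
    have h' : (-1 : Matrix (Fin 2) (Fin 2) (ZMod q)) = 1 := congrArg Units.val h
    have h'' := congrFun (congrFun h' 0) 0
    rw [Matrix.neg_apply, Matrix.one_apply_eq] at h''
    exact ZMod.neg_one_ne_one h''
  have hcen : ∀ g : GL (Fin 2) (ZMod q), g * (-1) = (-1) * g := fun g => by simp
  have hmemT : (-1 : GL (Fin 2) (ZMod q)) ∈ (T : Subgroup (GL (Fin 2) (ZMod q))) := by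
    haveI : (Subgroup.zpowers (-1 : GL (Fin 2) (ZMod q))).Normal := ⟨fun z hz g => by
      obtain ⟨i, rfl⟩ := hz
      rw [← conj_zpow, hcen g, mul_inv_cancel_right]
      exact Subgroup.zpow_mem_zpowers _ i⟩
    have hp : IsPGroup 2 (Subgroup.zpowers (-1 : GL (Fin 2) (ZMod q))) := IsPGroup.of_card (n := 1) (by
      rw [Nat.card_zpowers, pow_one]
      exact orderOf_eq_prime (by simp [pow_two]) hne)
    obtain ⟨Q, hQ⟩ := hp.exists_le_sylow
    obtain ⟨g, rfl⟩ := MulAction.exists_smul_eq (GL (Fin 2) (ZMod q)) T Q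
    have h := hQ (Subgroup.mem_zpowers (-1 : GL (Fin 2) (ZMod q)))
    rw [Sylow.coe_subgroup_smul, Subgroup.mem_pointwise_smul_iff_inv_smul_mem, ← map_inv, MulAut.smul_def,
      MulAut.conj_apply, hcen g⁻¹, mul_inv_cancel_right] at h
    exact h
  have hz : (⟨-1, hmemT⟩ : (T : Subgroup (GL (Fin 2) (ZMod q)))) ∈ Subgroup.center _ :=
    Subgroup.mem_center_iff.mpr fun g => Subtype.ext (hcen g)
  rw [D.center_eq] at hz
  rcases mem_zpowers_of_orderOf_two' D.orderOf_z hz with h | h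
  · exact absurd (congrArg Subtype.val h) hne
  · exact (congrArg Subtype.val h).symm

end Cfsg.Agent.Components.SupersolWitness
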