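import Cfsg.Agent.Lib.Components.MetacyclicLine
import Cfsg.Agent.Lib.Components.SupersolWitness
import Cfsg.Agent.Lib.Fusion.SolvableSystem
import Cfsg.Agent.Lib.Fusion.MetacyclicNormal
import Cfsg.Agent.S5234

/-!
Metacyclic `p`-groups of supersoluble type.
-/

set_option autoImplicit false
set_option linter.style.haveILetI false

namespace Cfsg.Agent.Components.SupersolMeta

open Cfsg Cfsg.Agent.Fusion Cfsg.Agent.Invol SupersolWitness
open scoped Matrix MatrixGroups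

universe u

variable {Ω : Type u} [Group Ω] {S : Subgroup Ω} {p : ℕ} [hp : Fact p.Prime]

/-- The excluded groups. -/
def Bad (p : ℕ) (W : Type*) [Group W] : Prop :=
  (∃ n : ℕ, 0 < n ∧ Nonempty (W ≃* Multiplicative (ZMod (p ^ n)) × Multiplicative (ZMod (p ^ n)))) ∨
    (p = 2 ∧ ((∃ n : ℕ, 2 ≤ n ∧ Nonempty (W ≃* DihedralGroup n)) ∨ Cfsg.IsQuasiDihedral W ∨
      (∃ n : ℕ, 2 ≤ n ∧ Nonempty (W ≃* QuaternionGroup n))))

theorem good_cases [Finite S] (hS : IsPGroup p S) (hm : Cfsg.IsMetacyclic S) (hb : ¬ Bad p S) :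
    (∀ F : Cfsg.FusionSystem S, F.IsSaturated p → F.IsNormal S) ∧
      ∀ H : Subgroup (MulAut S), (Nat.card H).Coprime p → IsMulCommutative H ∧ ∀ h ∈ H, h ^ (p - 1) = 1 := by
  have hsc : ∀ F : Cfsg.FusionSystem S, F.StronglyClosed S := fun F =>
    ⟨le_rfl, fun _ _ _ hφ x => (F.le_of_mem hφ).2 x⟩
  refine ⟨fun F hF => ?_, fun H hH => MetaLine.aut_abelian hS hm (fun h => hb (Or.inl h)) ?_ H hH⟩
  · by_cases hp2 : p = 2
    · subst hp2
      by_cases hab : ∀ x : S, ∀ y : S, x * y = y * x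
      · refine isNormal_of_abelian_stronglyClosed hS hF (hsc F) ?_
        rw [Subgroup.commutator_le]
        intro x hx y hy
        have := congrArg Subtype.val (hab ⟨x, hx⟩ ⟨y, hy⟩)
        rw [Subgroup.mem_bot, commutatorElement_eq_one_iff_commute]
        exact this
      have hcard : Nat.card S ≠ 0 := Nat.card_pos.ne'
      have hsmall : ∀ {W : Type} [Group W] (e : S ≃* W), (∀ x y : W, x * y = y * x) → False :=
        fun {W} _ e hc => hab fun x y => e.injective (by rw [map_mul, map_mul, hc])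
      refine isNormal_of_metacyclic_two hS hF (hsc F) hm ?_ ?_ fun h => hb (Or.inr ⟨rfl, Or.inr (Or.inl h)⟩)
      · rintro ⟨m, ⟨e⟩⟩
        match m, e with
        | 0, e => exact hcard ((Nat.card_congr e.toEquiv).trans (by rw [DihedralGroup.nat_card, mul_zero]))
        | 1, e => exact hsmall e (by decide)
        | m + 2, e => exact hb (Or.inr ⟨rfl, Or.inl ⟨m + 2, by omega, ⟨e⟩⟩⟩)
      · rintro ⟨m, ⟨e⟩⟩
        match m, e with
        | 0, e =>
          haveI := Finite.of_equiv _ e.toEquiv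
          haveI h0 : Finite (ZMod (2 * 0)) :=
            Finite.of_injective QuaternionGroup.a fun _ _ h => QuaternionGroup.a.inj h
          haveI : Finite ℤ := h0
          exact not_finite ℤ
        | 1, e => exact hsmall e (by decide)
        | m + 2, e => exact hb (Or.inr ⟨rfl, Or.inr (Or.inr ⟨m + 2, by omega, ⟨e⟩⟩)⟩)
    · exact Cfsg.Agent.S5234.result p hS F hF S (hsc F) hp2 hm
  · rintro ⟨rfl, h4, hna⟩
    obtain ⟨D⟩ := Invol.MaxClassTwo.exists_mcData hS hna h4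
    have hm2 := D.two_le
    rcases Invol.MaxClassTwo.iso_cases D with h | h | h
    · exact hb (Or.inr ⟨rfl, Or.inl ⟨2 ^ D.m, le_trans (by norm_num) (Nat.pow_le_pow_right two_pos
        (show 1 ≤ D.m by omega)), h⟩⟩)
    · exact hb (Or.inr ⟨rfl, Or.inr (Or.inr ⟨2 ^ (D.m - 1), le_trans (by norm_num)
        (Nat.pow_le_pow_right two_pos (show 1 ≤ D.m - 1 by omega)), h⟩)⟩)
    · exact hb (Or.inr ⟨rfl, Or.inr (Or.inl h)⟩)

omit hp in
/-- An automorphism group witnessing failure transports along isomorphisms. -/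
theorem exists_bad_aut {W : Type*} [Group W] (e : S ≃* W) (H : Subgroup (MulAut W))
    (hH : (Nat.card H).Coprime p) (hbad : (∃ x ∈ H, ∃ y ∈ H, x * y ≠ y * x) ∨ ∃ x ∈ H, x ^ (p - 1) ≠ 1) :
    ¬ ∀ H : Subgroup (MulAut S), (Nat.card H).Coprime p → IsMulCommutative H ∧ ∀ h ∈ H, h ^ (p - 1) = 1 := by
  intro hall
  set c := (MulAut.congr e.symm).toMonoidHom
  have hinj : Function.Injective c := (MulAut.congr e.symm).injective
  obtain ⟨hc, he⟩ := hall (H.map c) (by rw [Subgroup.card_map_of_injective hinj]; exact hH)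
  rcases hbad with ⟨x, hx, y, hy, hxy⟩ | ⟨x, hx, hxy⟩
  · refine hxy (hinj ?_)
    rw [map_mul, map_mul]
    exact congrArg Subtype.val (hc.is_comm.comm ⟨c x, x, hx, rfl⟩ ⟨c y, y, hy, rfl⟩)
  · exact hxy (hinj (by rw [map_pow, map_one]; exact he _ ⟨x, hx, rfl⟩))

section homocyclic

variable (q : ℕ)

local notation "C" => Multiplicative (ZMod q)

/-- Inversion of the first coordinate. -/
def invFst : MulAut (C × C) where
  toFun z := (z.1⁻¹, z.2)
  invFun z := (z.1⁻¹, z.2)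
  left_inv z := by simp
  right_inv z := by simp
  map_mul' x y := by ext <;> simp [mul_comm]

/-- Exchange of coordinates. -/
def swapC : MulAut (C × C) where
  toFun z := (z.2, z.1)
  invFun z := (z.2, z.1)
  left_inv _ := rfl
  right_inv _ := rfl
  map_mul' _ _ := rfl

theorem homocyclic_bad_odd (hp2 : p ≠ 2) (hq : 3 ≤ q) :
    ∃ H : Subgroup (MulAut (C × C)), (Nat.card H).Coprime p ∧ ∃ x ∈ H, ∃ y ∈ H, x * y ≠ y * x := by
  set s := swapC q
  set d := invFst q * swapC q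
  have hs : s * s = 1 := MulEquiv.ext fun ⟨_, _⟩ => rfl
  have hinv : s * d * s⁻¹ = d⁻¹ := by
    refine eq_inv_of_mul_eq_one_left ?_
    have e : (s⁻¹ : MulAut (C × C)) = s := inv_eq_of_mul_eq_one_left hs
    rw [e]
    refine MulEquiv.ext fun ⟨x, y⟩ => ?_
    simp [s, d, invFst, swapC, MulAut.mul_apply]
  have hd : d ^ 4 = 1 := MulEquiv.ext fun ⟨x, y⟩ => by
    simp [pow_succ, d, invFst, swapC, MulAut.mul_apply]
  obtain ⟨f, hr, hsr⟩ := exists_dihedralHom hs hinv 4 hd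
  refine ⟨f.range, ?_, s, ⟨DihedralGroup.sr ((0 : ℤ) : ZMod 4), by rw [hsr]; simp⟩, d,
    ⟨DihedralGroup.r ((1 : ℤ) : ZMod 4), by rw [hr]; simp⟩, fun h => ?_⟩
  · have h8 : Nat.card f.range ∣ 8 := by
      have := Subgroup.card_range_dvd f
      rwa [DihedralGroup.nat_card] at this
    exact Nat.Coprime.of_dvd_left h8 (by
      rw [show (8 : ℕ) = 2 ^ 3 from rfl]
      exact ((Nat.coprime_primes Nat.prime_two hp.out).mpr (Ne.symm hp2)).pow_left 3)
  · have h1 := congrArg Prod.fst (DFunLike.congr_fun h ((Multiplicative.ofAdd (1 : ZMod q), 1) : C × C))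
    simp [s, d, invFst, swapC, MulAut.mul_apply] at h1
    have h2 : ((2 : ℕ) : ZMod q) = 0 := by
      have h3 := congrArg Multiplicative.toAdd h1
      simp at h3
      push_cast
      linear_combination h3
    have := Nat.le_of_dvd two_pos ((ZMod.natCast_eq_zero_iff 2 q).mp h2)
    omega

/-- An automorphism of order three. -/
def rot : MulAut (C × C) where
  toFun z := (z.2, (z.1 * z.2)⁻¹)
  invFun z := ((z.1 * z.2)⁻¹, z.1)
  left_inv z := by ext <;> simp [mul_inv_rev, mul_comm, mul_left_comm]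
  right_inv z := by ext <;> simp [mul_inv_rev, mul_comm, mul_left_comm]
  map_mul' x y := by ext <;> simp [mul_inv_rev, mul_comm, mul_left_comm, mul_assoc] <;> abel

theorem homocyclic_bad_two (hq : 2 ≤ q) :
    ∃ H : Subgroup (MulAut (C × C)), (Nat.card H).Coprime 2 ∧ ∃ x ∈ H, x ^ (2 - 1) ≠ 1 := by
  refine ⟨Subgroup.zpowers (rot q), ?_, rot q, Subgroup.mem_zpowers _, fun h => ?_⟩
  · rw [Nat.card_zpowers]
    refine Nat.Coprime.of_dvd_left (orderOf_dvd_of_pow_eq_one (?_ : rot q ^ 3 = 1)) (by norm_num)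
    refine MulEquiv.ext fun z => ?_
    simp [pow_succ, MulAut.mul_apply, rot, mul_inv_rev]
  · haveI : Fact (1 < q) := ⟨hq⟩
    rw [pow_one] at h
    have h1 := congrArg Prod.fst (DFunLike.congr_fun h ((Multiplicative.ofAdd (1 : ZMod q), 1) : C × C))
    simp [rot] at h1
    exact one_ne_zero (ofAdd_eq_one.mp h1.symm)

end homocyclic

/-- A cyclic permutation of `i, j, k`. -/
def q8rot : QuaternionGroup 2 → QuaternionGroup 2
  | .a i => if i = 1 then .xa 0 else if i = 3 then .xa 2 else .a i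
  | .xa i => if i = 0 then .xa 3 else if i = 2 then .xa 1 else if i = 3 then .a 1 else .a 3

theorem q8rot_mul : ∀ x y, q8rot (x * y) = q8rot x * q8rot y := by decide

theorem q8rot_three : ∀ x, q8rot (q8rot (q8rot x)) = x := by decide

theorem q8_bad : ∃ H : Subgroup (MulAut (QuaternionGroup 2)), (Nat.card H).Coprime 2 ∧
    ∃ x ∈ H, x ^ (2 - 1) ≠ 1 := by
  let r : MulAut (QuaternionGroup 2) :=
    { toFun := q8rot, invFun := fun x => q8rot (q8rot x), left_inv := q8rot_three,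
      right_inv := q8rot_three, map_mul' := q8rot_mul }
  refine ⟨Subgroup.zpowers r, ?_, r, Subgroup.mem_zpowers _, fun h => ?_⟩
  · rw [Nat.card_zpowers]
    refine Nat.Coprime.of_dvd_left (orderOf_dvd_of_pow_eq_one (?_ : r ^ 3 = 1)) (by norm_num)
    exact MulEquiv.ext fun z => q8rot_three z
  · rw [pow_one] at h
    exact absurd (DFunLike.congr_fun h (QuaternionGroup.a 1)) (by decide)

section gl

variable {q : ℕ} [Fact q.Prime] {T : Sylow 2 (GL (Fin 2) (ZMod q))}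
  (D : QDData (T : Subgroup (GL (Fin 2) (ZMod q))))

/-- The facts used about the Sylow subgroup. -/
theorem gl_facts (hz : ((D.x ^ (2 * (D.m : ℤ)) : (T : Subgroup (GL (Fin 2) (ZMod q)))) : GL (Fin 2) (ZMod q)) = -1) :
    ((D.x ^ (D.m : ℤ) : (T : Subgroup (GL (Fin 2) (ZMod q)))) : GL (Fin 2) (ZMod q)) *
        ((D.x ^ (D.m : ℤ) : (T : Subgroup (GL (Fin 2) (ZMod q)))) : GL (Fin 2) (ZMod q)) = -1 ∧
      ((D.x * D.y : (T : Subgroup (GL (Fin 2) (ZMod q)))) : GL (Fin 2) (ZMod q)) *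
        ((D.x * D.y : (T : Subgroup (GL (Fin 2) (ZMod q)))) : GL (Fin 2) (ZMod q)) = -1 := by
  constructor
  · rw [← Subgroup.coe_mul, ← zpow_add, ← two_mul]
    exact hz
  · have h := D.sq_mul_y 1
    rw [zpow_one, mul_one] at h
    rw [← Subgroup.coe_mul, h]
    exact hz

theorem gl_nonsquare (v : (T : Subgroup (GL (Fin 2) (ZMod q)))) :
    v * v ∈ Subgroup.zpowers D.x ∧ D.x * D.y ∉ Subgroup.zpowers D.x := by
  refine ⟨(Subgroup.mul_self_mem_of_index_two D.zpowers_index v), fun h => ?_⟩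
  obtain ⟨i, hi⟩ := h
  exact D.zpow_ne_mul_y i 1 (by rw [zpow_one]; exact hi)

end gl

theorem witness_qd [Finite S] (h : Cfsg.IsQuasiDihedral S) :
    ∃ F : Cfsg.FusionSystem S, F.IsSaturated 2 ∧ ¬ F.IsNormal S := by
  haveI : Fact (Nat.Prime 2) := ⟨Nat.prime_two⟩
  obtain ⟨DS⟩ := qd_exists h
  obtain ⟨q, hq, hq4, T, D, hm, hz⟩ := exists_gl (DS.n - 1) (by have := DS.three_le; omega)
  obtain ⟨e⟩ := nonempty_qd_iso DS D (by rw [hm, DS.m_eq]; congr 1)
  obtain ⟨h1, h2⟩ := gl_facts D hz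
  obtain ⟨g, -, hg⟩ := conj_of_sq_neg_one hq4 _ _ h1 h2
  obtain ⟨r, hr⟩ := D.m_even
  refine exists_not_normal T e ((D.x ^ r : (T : Subgroup (GL (Fin 2) (ZMod q)))) : GL (Fin 2) (ZMod q))
    ((D.x * D.y : (T : Subgroup (GL (Fin 2) (ZMod q)))) : GL (Fin 2) (ZMod q)) (D.x ^ r).2 (D.x * D.y).2 ⟨g, ?_⟩ fun v hv he => ?_
  · rw [← Subgroup.coe_mul (x := D.x ^ r), ← zpow_add, ← two_mul, ← hr]; exact hg
  · obtain ⟨ha, hb⟩ := gl_nonsquare D ⟨v, hv⟩
    exact hb ((Subtype.ext he : (⟨v, hv⟩ * ⟨v, hv⟩ : (T : Subgroup (GL (Fin 2) (ZMod q)))) = D.x * D.y) ▸ ha)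

set_option maxHeartbeats 800000 in
theorem witness_dihedral [Finite S] (k : ℕ) (hk : 2 ≤ k) (eS : S ≃* DihedralGroup (2 ^ k)) :
    ∃ F : Cfsg.FusionSystem S, F.IsSaturated 2 ∧ ¬ F.IsNormal S := by
  haveI : Fact (Nat.Prime 2) := ⟨Nat.prime_two⟩
  obtain ⟨q, hq, hq4, T, D, hm, hz⟩ := exists_gl k hk
  set Z : Subgroup (GL (Fin 2) (ZMod q)) := Subgroup.zpowers (-1) with hZ
  haveI : Z.Normal := ⟨fun z hz' g => by
    obtain ⟨i, rfl⟩ := hz'
    rw [← conj_zpow, show g * (-1) = (-1) * g by simp, mul_inv_cancel_right]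
    exact Subgroup.zpow_mem_zpowers _ i⟩
  set π := QuotientGroup.mk' Z with hπ
  let T' : Sylow 2 (GL (Fin 2) (ZMod q) ⧸ Z) := T.mapSurjective (QuotientGroup.mk'_surjective Z)
  let X : GL (Fin 2) (ZMod q) := D.x
  let Y : GL (Fin 2) (ZMod q) := D.y
  have hX2m : X ^ (2 * (D.m : ℤ)) = -1 := by simpa [X] using hz
  have hZT : ∀ i : ℤ, X ^ i ∈ Z ↔ (2 * (D.m : ℤ)) ∣ i := fun i => by
    constructor
    · intro h
      obtain ⟨j, hj⟩ := Subgroup.mem_zpowers_iff.mp h
      rw [← hX2m, ← zpow_mul] at hj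
      have hj' : D.x ^ (2 * (D.m : ℤ) * j) = D.x ^ i := Subtype.ext (by simpa [X] using hj)
      have h4 := (D.zpow_eq_iff _ _).mp hj'
      have : (2 * (D.m : ℤ)) ∣ 2 * (D.m : ℤ) * j - i := dvd_trans ⟨2, by ring⟩ h4
      simpa using dvd_sub (Dvd.intro j rfl : (2 * (D.m : ℤ)) ∣ 2 * (D.m : ℤ) * j) this
    · rintro ⟨j, rfl⟩
      rw [zpow_mul, hX2m]
      exact Subgroup.zpow_mem_zpowers _ j
  have hYn : ∀ i : ℤ, X ^ i * Y ∉ Z := fun i h => by
    obtain ⟨j, hj⟩ := Subgroup.mem_zpowers_iff.mp h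
    rw [← hX2m, ← zpow_mul] at hj
    exact D.zpow_ne_mul_y _ _ (Subtype.ext (by simpa [X, Y] using hj) : D.x ^ (2 * (D.m : ℤ) * j) = D.x ^ i * D.y)
  have hy2 : π Y * π Y = 1 := by
    rw [← map_mul, show Y * Y = 1 from congrArg Subtype.val (mul_self_of_orderOf_two D.ordy), map_one]
  have hrel : π Y * π X * (π Y)⁻¹ = (π X)⁻¹ := by
    have h : Y * X * Y⁻¹ = X⁻¹ * -1 := by
      have h0 : Y * X * Y⁻¹ = X ^ (2 * (D.m : ℤ) - 1) := by simpa [X, Y] using congrArg Subtype.val D.rel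
      rw [h0, ← hX2m, zpow_sub, zpow_one]
      exact ((Commute.refl X).zpow_left _).inv_right.eq
    rw [← map_inv, ← map_mul, ← map_mul, h, map_mul,
      show π (-1) = 1 from (QuotientGroup.eq_one_iff _).mpr (Subgroup.mem_zpowers _), mul_one, map_inv]
  have hord : orderOf (π X) = 2 ^ k := by
    have h2m : (2 ^ k : ℕ) = 2 * D.m := by rw [hm, ← pow_succ']; congr 1; omega
    rw [h2m]
    refine Nat.dvd_antisymm (orderOf_dvd_of_pow_eq_one ?_) (Int.natCast_dvd_natCast.mp ?_)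
    · rw [← map_pow]
      exact (QuotientGroup.eq_one_iff _).mpr (by rw [← zpow_natCast]; exact (hZT _).mpr (by push_cast; rfl))
    · push_cast
      refine (hZT _).mp ?_
      rw [zpow_natCast]
      exact (QuotientGroup.eq_one_iff _).mp (by rw [← QuotientGroup.mk'_apply, map_pow]; exact pow_orderOf_eq_one _)
  have hYX : π Y ∉ Subgroup.zpowers (π X) := fun h => by
    obtain ⟨i, hi⟩ := Subgroup.mem_zpowers_iff.mp h
    refine hYn (-i) ((QuotientGroup.eq_one_iff _).mp ?_)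
    rw [← QuotientGroup.mk'_apply, map_mul, map_zpow, ← hi, zpow_neg, inv_mul_cancel]
  obtain ⟨eD⟩ := nonempty_dihedralEquiv hy2 hrel hYX
  rw [hord] at eD
  have hT' : (T' : Subgroup (GL (Fin 2) (ZMod q) ⧸ Z)) = (T : Subgroup (GL (Fin 2) (ZMod q))).map π :=
    Sylow.coe_mapSurjective (QuotientGroup.mk'_surjective Z) T
  have hgen : Subgroup.closure ({π Y, π X} : Set (GL (Fin 2) (ZMod q) ⧸ Z)) = (T' : Subgroup (GL (Fin 2) (ZMod q) ⧸ Z)) := by
    rw [hT']
    refine le_antisymm ((Subgroup.closure_le _).mpr ?_) ?_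
    · rintro z (rfl | rfl)
      exacts [Subgroup.mem_map_of_mem π (show Y ∈ (T : Subgroup (GL (Fin 2) (ZMod q))) from D.y.2),
        Subgroup.mem_map_of_mem π (show X ∈ (T : Subgroup (GL (Fin 2) (ZMod q))) from D.x.2)]
    · intro z hz'
      obtain ⟨g, hg, rfl⟩ := Subgroup.mem_map.mp hz'
      have hX' : π X ∈ Subgroup.closure ({π Y, π X} : Set _) :=
        Subgroup.subset_closure (k := ({π Y, π X} : Set _)) (Or.inr rfl)
      have hY' : π Y ∈ Subgroup.closure ({π Y, π X} : Set _) :=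
        Subgroup.subset_closure (k := ({π Y, π X} : Set _)) (Or.inl rfl)
      obtain ⟨i, h | h⟩ := D.repr_cases ⟨g, hg⟩
      · have e : g = X ^ i := by simpa [X] using congrArg Subtype.val h
        rw [e, map_zpow]
        exact Subgroup.zpow_mem _ hX' i
      · have e : g = X ^ i * Y := by simpa [X, Y] using congrArg Subtype.val h
        rw [e, map_mul, map_zpow]
        exact Subgroup.mul_mem _ (Subgroup.zpow_mem _ hX' i) hY'
  let e : S ≃* (T' : Subgroup (GL (Fin 2) (ZMod q) ⧸ Z)) := (eS.trans eD).trans (MulEquiv.subgroupCongr hgen)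
  obtain ⟨h1, h2⟩ := gl_facts D hz
  obtain ⟨g, -, hg⟩ := conj_of_sq_neg_one hq4 _ _ h1 h2
  obtain ⟨r, hr⟩ := D.m_even
  refine exists_not_normal T' e (π (X ^ r)) (π (X * Y)) (hT'.ge (Subgroup.mem_map_of_mem π (zpow_mem D.x.2 r)))
    (hT'.ge (Subgroup.mem_map_of_mem π (mul_mem D.x.2 D.y.2))) ⟨π g, ?_⟩ ?_
  · rw [← map_mul, ← map_inv, ← map_mul, ← map_mul]
    refine congrArg π ?_
    rw [← zpow_add, ← two_mul, ← hr]
    simpa [X, Y] using hg
  · intro w hw' he
    obtain ⟨v, hv, rfl⟩ := Subgroup.mem_map.mp (hT'.le hw')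
    obtain ⟨i, hi⟩ := Subgroup.mem_zpowers_iff.mp (gl_nonsquare D ⟨v, hv⟩).1
    have hi' : X ^ i = v * v := by simpa [X] using congrArg Subtype.val hi
    rw [← map_mul, ← hi', map_zpow, map_mul] at he
    refine hYX (Subgroup.mem_zpowers_iff.mpr ⟨i - 1, ?_⟩)
    rw [zpow_sub, zpow_one, he, mul_inv_eq_iff_eq_mul]
    have hc : π Y = (π X)⁻¹ * π X ^ i := by rw [he, inv_mul_cancel_left]
    conv_rhs => rw [hc, mul_assoc, ← zpow_add_one, add_comm, zpow_add, zpow_one, ← mul_assoc,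
      inv_mul_cancel, one_mul, he]

theorem witness_quaternion [Finite S] (k : ℕ) (hk : 2 ≤ k) (eS : S ≃* QuaternionGroup (2 ^ k)) :
    ∃ F : Cfsg.FusionSystem S, F.IsSaturated 2 ∧ ¬ F.IsNormal S := by
  haveI : Fact (Nat.Prime 2) := ⟨Nat.prime_two⟩
  obtain ⟨q, hq, hq4, T, D, hm, hz⟩ := exists_gl (k + 1) (by omega)
  rw [show k + 1 - 1 = k by omega] at hm
  set det := (Matrix.GeneralLinearGroup.det : GL (Fin 2) (ZMod q) →* (ZMod q)ˣ) with hdet
  obtain ⟨T', hT'⟩ := LocalEvenA.exists_sylow_subgroupOf_normal T det.ker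
  let X : GL (Fin 2) (ZMod q) := D.x
  let Y : GL (Fin 2) (ZMod q) := D.y
  obtain ⟨h1, h2⟩ := gl_facts D hz
  have hXY : det (X * Y) = 1 := det_eq_one_of_sq_neg_one hq4 _ (by simpa [X, Y] using h2)
  have hY : det Y ≠ 1 := fun h => by
    have hyy : Y * Y = 1 := congrArg Subtype.val (mul_self_of_orderOf_two D.ordy)
    rcases eq_of_involution_det hq4 Y hyy h with h' | h'
    · have : orderOf D.y = 1 := orderOf_eq_one_iff.mpr (Subtype.ext h')
      rw [D.ordy] at this; omega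
    · exact D.zpow_ne_mul_y (2 * (D.m : ℤ)) 0 (Subtype.ext (by rw [hz]; simp [← h', Y]))
  have hXsq : det (X * X) = 1 := by
    have hY2 : det Y * det Y = 1 := by
      rw [← map_mul, show Y * Y = 1 from congrArg Subtype.val (mul_self_of_orderOf_two D.ordy), map_one]
    rw [map_mul] at hXY ⊢
    rw [eq_inv_of_mul_eq_one_left hXY, ← mul_inv, hY2, inv_one]
  let d : det.ker := ⟨X * X, hXsq⟩
  let t : det.ker := ⟨X * Y, hXY⟩
  have hcoe : ∀ i : ℤ, ((d ^ i : det.ker) : GL (Fin 2) (ZMod q)) = ((D.x ^ (2 * i) : (T : Subgroup (GL (Fin 2) (ZMod q)))) : GL (Fin 2) (ZMod q)) := fun i => by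
    simp [d, X, zpow_mul, pow_two]
  have hrel : t * d * t⁻¹ = d⁻¹ := by
    refine Subtype.ext ?_
    have e : D.x * D.y * (D.x * D.x) * (D.x * D.y)⁻¹ = (D.x * D.x)⁻¹ := by
      have h := D.conj_y_zpow 2
      calc D.x * D.y * (D.x * D.x) * (D.x * D.y)⁻¹ = D.x * (D.y * D.x ^ (2 : ℤ) * D.y⁻¹) * D.x⁻¹ := by
            rw [zpow_two]; group
        _ = D.x ^ ((2 * (D.m : ℤ) - 1) * 2) := by rw [h]; group
        _ = D.x ^ (-2 : ℤ) := (D.zpow_eq_iff _ _).mpr ⟨1, by ring⟩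
        _ = (D.x * D.x)⁻¹ := by rw [zpow_neg, zpow_two]
    simpa [t, d, X, Y] using congrArg Subtype.val e
  have h2k : (2 * 2 ^ k : ℕ) = 2 * D.m := by rw [hm]
  have hord : orderOf d = 2 * 2 ^ k := by
    rw [h2k]
    refine Nat.dvd_antisymm (orderOf_dvd_of_pow_eq_one ?_) (Int.natCast_dvd_natCast.mp ?_)
    · refine Subtype.ext ?_
      rw [← zpow_natCast, hcoe, (D.zpow_eq_one_iff _).mpr ⟨1, by push_cast; ring⟩]
      rfl
    · have hone : ((d ^ (orderOf d : ℤ) : det.ker) : GL (Fin 2) (ZMod q)) = 1 := by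
        rw [zpow_natCast, pow_orderOf_eq_one]; rfl
      rw [hcoe] at hone
      have h4 := (D.zpow_eq_one_iff _).mp (Subtype.ext hone)
      push_cast
      exact (mul_dvd_mul_iff_left two_ne_zero).mp (by rwa [show (2 : ℤ) * (2 * D.m) = 4 * D.m by ring])
  have htd : t * t = d ^ (2 ^ k) := by
    refine Subtype.ext ?_
    rw [← zpow_natCast, hcoe, ← hm, hz]
    simpa [t, X, Y] using h2
  have htn : t ∉ Subgroup.zpowers d := fun h => by
    obtain ⟨i, hi⟩ := Subgroup.mem_zpowers_iff.mp h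
    refine D.zpow_ne_mul_y (2 * i) 1 (Subtype.ext ?_)
    rw [zpow_one, ← hcoe, hi]
    rfl
  obtain ⟨eQ⟩ := nonempty_quaternionEquiv hrel _ hord htd htn
  have hgen : Subgroup.closure ({t, d} : Set det.ker) = (T' : Subgroup det.ker) := by
    rw [hT']
    refine le_antisymm ((Subgroup.closure_le _).mpr ?_) ?_
    · rintro z (rfl | rfl)
      exacts [mul_mem D.x.2 D.y.2, mul_mem D.x.2 D.x.2]
    · rintro ⟨g, hgk⟩ hg
      rw [Subgroup.mem_subgroupOf] at hg
      have hpow : ∀ i : ℤ, det X ^ (2 * i) = 1 := fun i => by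
        rw [zpow_mul, zpow_two, ← map_mul, hXsq, one_zpow]
      obtain ⟨i, h | h⟩ := D.repr_cases ⟨g, hg⟩
      · have hgX : g = X ^ i := by simpa [X] using congrArg Subtype.val h
        rcases Int.even_or_odd' i with ⟨j, rfl | rfl⟩
        · rw [show (⟨g, hgk⟩ : det.ker) = d ^ j from Subtype.ext (by rw [hcoe]; simpa [X] using hgX)]
          exact zpow_mem (Subgroup.subset_closure (by simp)) j
        · exfalso
          have h1' : det g = 1 := hgk
          rw [hgX, map_zpow, zpow_add, hpow, one_mul, zpow_one] at h1'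
          rw [map_mul, h1', one_mul] at hXY
          exact hY hXY
      · have hgX : g = X ^ i * Y := by simpa [X, Y] using congrArg Subtype.val h
        rcases Int.even_or_odd' i with ⟨j, rfl | rfl⟩
        · exfalso
          have h1' : det g = 1 := hgk
          rw [hgX, map_mul, map_zpow, hpow, one_mul] at h1'
          exact hY h1'
        · rw [show (⟨g, hgk⟩ : det.ker) = d ^ j * t from Subtype.ext (hgX.trans (by
            rw [Subgroup.coe_mul, hcoe, zpow_add, zpow_one, mul_assoc]; simp [t, X, Y]))]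
          exact mul_mem (zpow_mem (Subgroup.subset_closure (by simp)) j) (Subgroup.subset_closure (by simp))
  let e : S ≃* (T' : Subgroup det.ker) := (eS.trans eQ).trans (MulEquiv.subgroupCongr hgen)
  obtain ⟨g, hgd, hg⟩ := conj_of_sq_neg_one hq4 _ _ h1 h2
  obtain ⟨r, hr⟩ : (4 : ℤ) ∣ (D.m : ℤ) := by
    rw [hm]; push_cast
    exact dvd_trans (by norm_num) (pow_dvd_pow 2 hk)
  refine exists_not_normal T' e (d ^ r) t (hgen ▸ zpow_mem (Subgroup.subset_closure (by simp)) r)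
    (hgen ▸ Subgroup.subset_closure (by simp)) ⟨⟨g, hgd⟩, Subtype.ext ?_⟩ fun v hv he => ?_
  · rw [← zpow_add]
    show g * ((d ^ (r + r) : det.ker) : GL (Fin 2) (ZMod q)) * g⁻¹ = X * Y
    rw [hcoe, show 2 * (r + r) = (D.m : ℤ) by rw [hr]; ring, hg]
    rfl
  · rw [hT', Subgroup.mem_subgroupOf] at hv
    obtain ⟨ha, hb⟩ := gl_nonsquare D ⟨(v : GL (Fin 2) (ZMod q)), hv⟩
    have he' : (⟨(v : GL (Fin 2) (ZMod q)), hv⟩ * ⟨(v : GL (Fin 2) (ZMod q)), hv⟩ : (T : Subgroup (GL (Fin 2) (ZMod q)))) = D.x * D.y :=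
      Subtype.ext (by simpa [t, X, Y] using congrArg Subtype.val he)
    exact hb (he' ▸ ha)

/-- `D_4` is a four group. -/
def d2fun : DihedralGroup (2 ^ 1) → Multiplicative (ZMod 2) × Multiplicative (ZMod 2)
  | .r i => (Multiplicative.ofAdd i, 1)
  | .sr i => (Multiplicative.ofAdd i, Multiplicative.ofAdd 1)

/-- Its inverse. -/
def d2inv (z : Multiplicative (ZMod 2) × Multiplicative (ZMod 2)) : DihedralGroup (2 ^ 1) :=
  if z.2 = 1 then .r z.1.toAdd else .sr z.1.toAdd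

theorem d2_left : ∀ x, d2inv (d2fun x) = x := by decide

theorem d2_right : ∀ x, d2fun (d2inv x) = x := by decide

theorem d2_mul : ∀ x y, d2fun (x * y) = d2fun x * d2fun y := by decide

theorem not_good [Finite S] (hS : IsPGroup p S) (hb : Bad p S) :
    ¬ ((∀ F : Cfsg.FusionSystem S, F.IsSaturated p → F.IsNormal S) ∧
      ∀ H : Subgroup (MulAut S), (Nat.card H).Coprime p → IsMulCommutative H ∧ ∀ h ∈ H, h ^ (p - 1) = 1) := by
  rintro ⟨hn, hH⟩
  rcases hb with ⟨n, hn0, ⟨e⟩⟩ | ⟨rfl, h⟩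
  · have hp2 := hp.out.two_le
    by_cases h2 : p = 2
    · subst h2
      obtain ⟨H, hc, hx⟩ := homocyclic_bad_two (2 ^ n) (le_trans (by norm_num) (Nat.pow_le_pow_right two_pos hn0))
      exact exists_bad_aut e H hc (Or.inr hx) hH
    · obtain ⟨H, hc, hx⟩ := homocyclic_bad_odd (p := p) (p ^ n) h2
        (le_trans (by omega : 3 ≤ p) (Nat.le_self_pow (by omega) p))
      exact exists_bad_aut e H hc (Or.inl hx) hH
  · have hnot : ∀ {F : Cfsg.FusionSystem S}, F.IsSaturated 2 ∧ ¬ F.IsNormal S → False :=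
      fun ⟨h1, h2⟩ => h2 (hn _ h1)
    obtain ⟨N, hN⟩ := hS.exists_card_eq
    rcases h with ⟨n, hn2, ⟨e⟩⟩ | h | ⟨n, hn2, ⟨e⟩⟩
    · have hc : 2 * n = 2 ^ N := by rw [← hN, Nat.card_congr e.toEquiv, DihedralGroup.nat_card]
      obtain ⟨k, -, rfl⟩ := (Nat.dvd_prime_pow Nat.prime_two).mp (Dvd.intro_left 2 hc)
      by_cases hk : 2 ≤ k
      · obtain ⟨F, hF⟩ := witness_dihedral k hk e; exact hnot hF
      · have hk1 : k = 1 := by
          by_contra hk'
          rw [show k = 0 by omega, pow_zero] at hn2; omega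
        subst hk1
        obtain ⟨H, hcH, hx⟩ := homocyclic_bad_two 2 le_rfl
        have hK : Nonempty (DihedralGroup (2 ^ 1) ≃* Multiplicative (ZMod 2) × Multiplicative (ZMod 2)) := by
          exact ⟨{ toFun := d2fun, invFun := d2inv, left_inv := d2_left, right_inv := d2_right, map_mul' := d2_mul }⟩
        exact exists_bad_aut (e.trans hK.some) H hcH (Or.inr hx) hH
    · obtain ⟨F, hF⟩ := witness_qd h; exact hnot hF
    · haveI : NeZero n := ⟨by omega⟩
      have hc : 4 * n = 2 ^ N := by rw [← hN, Nat.card_congr e.toEquiv, Nat.card_eq_fintype_card, QuaternionGroup.card]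
      obtain ⟨k, -, rfl⟩ := (Nat.dvd_prime_pow Nat.prime_two).mp (Dvd.intro_left 4 hc)
      by_cases hk : 2 ≤ k
      · obtain ⟨F, hF⟩ := witness_quaternion k hk e; exact hnot hF
      · have hk1 : k = 1 := by
          by_contra hk'
          rw [show k = 0 by omega, pow_zero] at hn2; omega
        subst hk1
        obtain ⟨H, hcH, hx⟩ := q8_bad
        exact exists_bad_aut e H hcH (Or.inr hx) hH

theorem main [Finite S] (hS : IsPGroup p S) (hm : Cfsg.IsMetacyclic S) :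
    (∀ F : Cfsg.FusionSystem S, F.IsSaturated p → (∃ (m : ℕ) (c : Fin (m + 1) → Subgroup Ω), c 0 = ⊥ ∧
      c (Fin.last m) = S ∧ (∀ i : Fin (m + 1), F.StronglyClosed (c i)) ∧
      ∀ i : Fin m, c i.castSucc ≤ c i.succ ∧ ∃ x ∈ S, c i.succ = c i.castSucc ⊔ Subgroup.zpowers x)) ↔
      ¬ Bad p S := by
  rw [Supersol.main hS]
  exact ⟨fun h hb => not_good hS hb h, good_cases hS hm⟩

end Cfsg.Agent.Components.SupersolMeta
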