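import Cfsg.Agent.Lib.Fusion.NormalCriteria
import Cfsg.Agent.Lib.Fusion.Saturation
import Cfsg.Agent.Lib.Fusion.Realized
import Mathlib

/-!
Supersoluble type: every saturated system has a strongly closed series with cyclic steps iff the group is
resistant and the p'-automorphism groups are abelian of exponent dividing p - 1.
-/

set_option autoImplicit false

universe u

namespace Cfsg.Agent.Components.Supersol

open Cfsg Cfsg.Agent.Fusion
open scoped Pointwise

variable {Ω : Type u} [Group Ω] {S : Subgroup Ω} {F : Cfsg.FusionSystem S} {p : ℕ}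

theorem inn_normal' (G : Type u) [Group G] : (Cfsg.Inn G).Normal :=
  ⟨by
    rintro _ ⟨g, rfl⟩ φ
    exact ⟨φ g, by ext x; simp⟩⟩

theorem eq_one_of_coprime {G : Type u} [Group G] {x : G} {a b : ℕ} (ha : x ^ a = 1) (hb : x ^ b = 1)
    (h : a.Coprime b) : x = 1 := by
  have h1 := pow_gcd_eq_one.2 ⟨ha, hb⟩
  rwa [show Nat.gcd a b = 1 from h, pow_one] at h1

/-- A series from `⊥` of strongly closed subgroups, centralised step by step by `S`. -/
def CReach (F : Cfsg.FusionSystem S) (C : Subgroup Ω) : Prop :=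
  ∃ (m : ℕ) (c : Fin (m + 1) → Subgroup Ω), c 0 = ⊥ ∧ c (Fin.last m) = C ∧ Monotone c ∧
    (∀ i : Fin m, F.StronglyClosed (c i.succ)) ∧
    ∀ i : Fin m, ∀ x ∈ c i.succ, ∀ k ∈ S, x⁻¹ * (k * x * k⁻¹) ∈ c i.castSucc

theorem CReach.step {C D : Subgroup Ω} (h : CReach F C) (hle : C ≤ D) (hD : F.StronglyClosed D)
    (hc : ∀ x ∈ D, ∀ k ∈ S, x⁻¹ * (k * x * k⁻¹) ∈ C) : CReach F D := by
  obtain ⟨m, c, h0, hl, hm, hsc, hst⟩ := h
  refine ⟨m + 1, Fin.snoc c D, ?_, Fin.snoc_last _ _, ?_, fun i => ?_, fun i => ?_⟩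
  · rw [show (0 : Fin (m + 2)) = (0 : Fin (m + 1)).castSucc from rfl, Fin.snoc_castSucc, h0]
  · refine Fin.monotone_iff_le_succ.mpr fun i => ?_
    induction i using Fin.lastCases with
    | last => rw [Fin.succ_last, Fin.snoc_last, Fin.snoc_castSucc, hl]; exact hle
    | cast i =>
      rw [Fin.succ_castSucc, Fin.snoc_castSucc, Fin.snoc_castSucc]
      exact hm (Fin.castSucc_le_succ i)
  · induction i using Fin.lastCases with
    | last => rw [Fin.succ_last, Fin.snoc_last]; exact hD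
    | cast i => rw [Fin.succ_castSucc, Fin.snoc_castSucc]; exact hsc i
  · induction i using Fin.lastCases with
    | last => rw [Fin.succ_last, Fin.snoc_last, Fin.snoc_castSucc, hl]; exact hc
    | cast i =>
      rw [Fin.succ_castSucc, Fin.snoc_castSucc, Fin.snoc_castSucc]
      exact hst i

/-- The step data of a cyclic series: normality in `S` and the generator description. -/
theorem mem_step {A B : Subgroup Ω} (hA : F.StronglyClosed A) {x : Ω} (hx : x ∈ S)
    (hB : B = A ⊔ Subgroup.zpowers x) {y : Ω} (hy : y ∈ B) : ∃ e : ℤ, (x ^ e)⁻¹ * y ∈ A := by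
  have hn : Subgroup.zpowers x ≤ Subgroup.normalizer (A : Set Ω) := by
    refine Subgroup.zpowers_le.2 (Subgroup.mem_normalizer_iff.2 fun z => ⟨fun hz => StronglyClosed.conj_mem hA hx hz, fun hz => ?_⟩)
    have h := StronglyClosed.conj_mem hA (inv_mem hx) hz
    simpa [mul_assoc] using h
  rw [hB, sup_comm] at hy
  have hy' : y ∈ ((Subgroup.zpowers x : Set Ω) * (A : Set Ω)) := by
    rw [← Subgroup.coe_mul_of_left_le_normalizer_right _ _ hn]; exact hy
  obtain ⟨_, ⟨e, rfl⟩, a, ha, rfl⟩ := hy'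
  exact ⟨e, by simpa using ha⟩

theorem isNormal_of_chain [Finite S] [Fact p.Prime] (hS : IsPGroup p S) (hF : F.IsSaturated p) {m : ℕ}
    (c : Fin (m + 1) → Subgroup Ω) (h0 : c 0 = ⊥) (hl : c (Fin.last m) = S)
    (hsc : ∀ i, F.StronglyClosed (c i))
    (hst : ∀ i : Fin m, c i.castSucc ≤ c i.succ ∧ ∃ x ∈ S, c i.succ = c i.castSucc ⊔ Subgroup.zpowers x) :
    F.IsNormal S := by
  suffices key : ∀ i, CReach F (c i) by
    obtain ⟨n, d, d0, dl, dm, dsc, dst⟩ := key (Fin.last m)
    rw [hl] at dl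
    exact isNormal_of_stronglyClosed_series hS hF d d0 dl dm dsc dst
  intro i
  induction i using Fin.induction with
  | zero =>
    exact ⟨0, fun _ => ⊥, rfl, h0.symm, monotone_const, fun j => j.elim0, fun j => j.elim0⟩
  | succ i ih =>
    obtain ⟨hle, x, hxS, hB⟩ := hst i
    obtain ⟨A, hA⟩ : ∃ A, A = c i.castSucc := ⟨_, rfl⟩
    obtain ⟨B, hB'⟩ : ∃ B, B = c i.succ := ⟨_, rfl⟩
    rw [← hA] at ih hle
    rw [← hA, ← hB'] at hB
    rw [← hB'] at hle ⊢
    have hAc : F.StronglyClosed A := hA ▸ hsc _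
    have hBc : F.StronglyClosed B := hB' ▸ hsc _
    have hnorm : ∀ s ∈ S, ∀ z ∈ A, s * z * s⁻¹ ∈ A := fun s hs z hz => StronglyClosed.conj_mem hAc hs hz
    have hdec : ∀ y ∈ B, ∃ e : ℤ, (x ^ e)⁻¹ * y ∈ A := fun y hy => mem_step hAc hxS hB hy
    -- `B / A` is abelian
    have hmul : ∀ (j : ℕ) (y z : Ω), y ∈ B → z ∈ B → (y * z) ^ j * ((y ^ j) * (z ^ j))⁻¹ ∈ A := by
      intro j y z hy hz
      haveI : (A.subgroupOf S).Normal := ⟨fun a ha g => by
        rw [Subgroup.mem_subgroupOf] at ha ⊢; exact hnorm g g.2 a ha⟩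
      let q : S →* S ⧸ A.subgroupOf S := QuotientGroup.mk' _
      have hz' : ∀ w, ∀ hw : w ∈ B, q ⟨w, hBc.1 hw⟩ ∈ Subgroup.zpowers (q ⟨x, hxS⟩) := by
        intro w hw
        obtain ⟨e, he⟩ := hdec w hw
        refine ⟨e, ?_⟩
        show q ⟨x, hxS⟩ ^ e = _
        rw [← map_zpow]
        refine QuotientGroup.eq.2 ?_
        rw [Subgroup.mem_subgroupOf]
        simpa using he
      obtain ⟨a, ha⟩ := hz' y hy
      obtain ⟨b, hb⟩ := hz' z hz
      have hc : Commute (q ⟨y, hBc.1 hy⟩) (q ⟨z, hBc.1 hz⟩) := by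
        rw [← ha, ← hb]; exact Commute.zpow_zpow (Commute.refl _) a b
      have h1 : q ((⟨y, hBc.1 hy⟩ * ⟨z, hBc.1 hz⟩) ^ j * ((⟨y, hBc.1 hy⟩ : S) ^ j * ⟨z, hBc.1 hz⟩ ^ j)⁻¹) = 1 := by
        rw [map_mul, map_pow, map_mul, map_inv, map_mul, map_pow, map_pow, hc.mul_pow, mul_inv_cancel]
      have h2 := (QuotientGroup.eq_one_iff _).1 h1
      rw [Subgroup.mem_subgroupOf] at h2
      simpa using h2
    -- the layers
    let T : ℕ → Subgroup Ω := fun j =>
      { carrier := {y | y ∈ B ∧ y ^ p ^ j ∈ A}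
        one_mem' := ⟨one_mem _, by rw [one_pow]; exact one_mem _⟩
        mul_mem' := fun {y z} hy hz => ⟨mul_mem hy.1 hz.1, by
          have h := mul_mem (hmul (p ^ j) y z hy.1 hz.1) (mul_mem hy.2 hz.2)
          simpa [mul_assoc] using h⟩
        inv_mem' := fun {y} hy => ⟨inv_mem hy.1, by rw [inv_pow]; exact inv_mem hy.2⟩ }
    have hT : ∀ j y, y ∈ T j ↔ y ∈ B ∧ y ^ p ^ j ∈ A := fun j y => Iff.rfl
    have hTA : ∀ j, A ≤ T j := fun j y hy => ⟨hle hy, pow_mem hy _⟩
    have hTc : ∀ j, F.StronglyClosed (T j) := by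
      intro j
      refine stronglyClosed_iff.mpr ⟨fun y hy => hBc.1 hy.1, fun R f hR hf y hy => ?_⟩
      refine ⟨StronglyClosed.map_mem hBc hf hy (hR hy).1, ?_⟩
      have hpow : ∀ n : ℕ, f (y ^ n) = f y ^ n := by
        intro n
        induction n with
        | zero => rw [pow_zero, pow_zero, hf.map_one]
        | succ n ihn => rw [pow_succ, pow_succ, hf.map_mul (pow_mem hy n) hy, ihn]
      rw [← hpow]
      exact StronglyClosed.map_mem hAc hf (pow_mem hy _) (hR hy).2
    have key : ∀ j, CReach F (T j) := by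
      intro j
      induction j with
      | zero =>
        have : T 0 = A := le_antisymm (fun y hy => by simpa using ((hT 0 y).1 hy).2) (hTA 0)
        rw [this]; exact ih
      | succ j ihj =>
        refine ihj.step (fun y hy => ⟨hy.1, by rw [pow_succ, pow_mul]; exact pow_mem hy.2 p⟩) (hTc _) ?_
        intro y hy k hk
        -- `k` induces a power map congruent to one modulo `p`
        haveI : (A.subgroupOf S).Normal := ⟨fun a ha g => by
          rw [Subgroup.mem_subgroupOf] at ha ⊢; exact hnorm g g.2 a ha⟩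
        let q : S →* S ⧸ A.subgroupOf S := QuotientGroup.mk' _
        have hqA : ∀ w : S, q w = 1 ↔ (w : Ω) ∈ A := fun w => by
          rw [show q w = (w : S ⧸ A.subgroupOf S) from rfl, QuotientGroup.eq_one_iff, Subgroup.mem_subgroupOf]
        obtain ⟨g, hg⟩ : ∃ g, g = q ⟨x, hxS⟩ := ⟨_, rfl⟩
        obtain ⟨kq, hkq⟩ : ∃ kq, kq = q ⟨k, hk⟩ := ⟨_, rfl⟩
        have hlift : ∀ w, ∀ hw : w ∈ B, ∃ e : ℤ, q ⟨w, hBc.1 hw⟩ = g ^ e := by
          intro w hw
          obtain ⟨e, he⟩ := hdec w hw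
          refine ⟨e, ?_⟩
          rw [hg, ← map_zpow]
          symm
          refine QuotientGroup.eq.2 ?_
          rw [Subgroup.mem_subgroupOf]
          simpa using he
        have hxB : x ∈ B := hB ▸ Subgroup.mem_sup_right (Subgroup.mem_zpowers x)
        obtain ⟨a, ha⟩ := hlift _ (StronglyClosed.conj_mem hBc hk hxB)
        have ha' : kq * g * kq⁻¹ = g ^ a := by
          rw [← ha, hkq, hg, ← map_inv, ← map_mul, ← map_mul]; rfl
        have hiter : ∀ n : ℕ, kq ^ n * g * (kq ^ n)⁻¹ = g ^ a ^ n := by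
          intro n
          induction n with
          | zero => simp
          | succ n ihn =>
            calc kq ^ (n + 1) * g * (kq ^ (n + 1))⁻¹ = kq * (kq ^ n * g * (kq ^ n)⁻¹) * kq⁻¹ := by
                  rw [pow_succ', mul_inv_rev]; simp only [mul_assoc]
              _ = (kq * g * kq⁻¹) ^ a ^ n := by rw [ihn, conj_zpow]
              _ = g ^ a ^ (n + 1) := by rw [ha', ← zpow_mul, pow_succ']
        obtain ⟨l, hl⟩ := hS ⟨k, hk⟩
        have hkl : kq ^ p ^ l = 1 := by rw [hkq, ← map_pow, hl, map_one]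
        have hg1 : g ^ (a ^ p ^ l - 1) = 1 := by
          have h := hiter (p ^ l)
          rw [hkl, one_mul, inv_one, mul_one] at h
          rw [zpow_sub, ← h, zpow_one, mul_inv_cancel]
        obtain ⟨e, he⟩ := hlift y hy.1
        -- the quotient element
        have hcong : ∀ (z : S ⧸ A.subgroupOf S), z ∈ Subgroup.zpowers g → z ^ p ^ (j + 1) = 1 →
            (z⁻¹ * (kq * z * kq⁻¹)) ^ p ^ j = 1 := by
          rintro _ ⟨b, rfl⟩ hz
          show ((g ^ b)⁻¹ * (kq * g ^ b * kq⁻¹)) ^ p ^ j = 1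
          rw [← conj_zpow, ha', ← zpow_mul, ← zpow_neg, ← zpow_add, ← zpow_natCast, ← zpow_mul]
          rw [← zpow_natCast, ← zpow_mul] at hz
          by_cases hgp : (p : ℤ) ∣ a - 1
          · obtain ⟨t, ht⟩ := hgp
            rw [show (-b + a * b) * (p ^ j : ℕ) = b * (p ^ (j + 1) : ℕ) * t by
              rw [show -b + a * b = (a - 1) * b by ring, ht]; push_cast; ring, zpow_mul, hz, one_zpow]
          · -- then `g` is trivial
            have hg2 : g = 1 := by
              obtain ⟨l', hl'⟩ := hS ⟨x, hxS⟩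
              have hgl : g ^ ((p ^ l' : ℕ) : ℤ) = 1 := by
                rw [zpow_natCast, hg, ← map_pow, hl', map_one]
              have hna : ¬ (p : ℤ) ∣ a ^ p ^ l - 1 := by
                intro hdvd
                apply hgp
                have h1 : ((a : ZMod p)) ^ p ^ l = 1 := by
                  have := (ZMod.intCast_zmod_eq_zero_iff_dvd _ p).2 hdvd
                  push_cast at this
                  exact sub_eq_zero.1 this
                rw [ZMod.pow_card_pow] at h1
                rw [← ZMod.intCast_zmod_eq_zero_iff_dvd]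
                push_cast
                rw [h1, sub_self]
              have hpr : Prime (p : ℤ) := Nat.prime_iff_prime_int.1 Fact.out
              have hcop : IsCoprime (a ^ p ^ l - 1) ((p ^ l' : ℕ) : ℤ) := by
                push_cast
                exact ((hpr.coprime_iff_not_dvd.2 hna).pow_left).symm
              obtain ⟨u, v, huv⟩ := hcop
              calc g = g ^ (u * (a ^ p ^ l - 1) + v * ((p ^ l' : ℕ) : ℤ)) := by rw [huv, zpow_one]
                _ = 1 := by
                  rw [zpow_add, mul_comm u, zpow_mul, hg1, one_zpow, one_mul, mul_comm v, zpow_mul, hgl, one_zpow]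
            rw [hg2, one_zpow]
        refine ⟨B.mul_mem (B.inv_mem hy.1) (StronglyClosed.conj_mem hBc hk hy.1), ?_⟩
        have h := hcong (q ⟨y, hBc.1 hy.1⟩) ⟨e, he.symm⟩ (by rw [← map_pow, hqA]; exact hy.2)
        rw [hkq, ← map_inv, ← map_inv, ← map_mul, ← map_mul, ← map_mul, ← map_pow, hqA] at h
        simpa using h
    obtain ⟨N, hN⟩ := IsPGroup.iff_card.1 hS
    have hTB : T N = B := le_antisymm (fun y hy => hy.1) fun y hy => ⟨hy, by
      have h1 : (⟨y, hBc.1 hy⟩ : S) ^ p ^ N = 1 := by rw [← hN, pow_card_eq_one']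
      have h2 : y ^ p ^ N = 1 := by simpa using congrArg Subtype.val h1
      rw [h2]; exact one_mem _⟩
    rw [← hTB]; exact key N

/-- The system generated by a group of automorphisms containing the inner ones. -/
def autSystem (A : Subgroup (MulAut S)) (hA : Cfsg.Inn S ≤ A) : Cfsg.FusionSystem S where
  Hom P := {φ | ∃ hP : P ≤ S, ∃ α ∈ A, ∀ x : P, φ x = ((α ⟨x, hP x.2⟩ : S) : Ω)}
  le_of_mem := by
    rintro P φ ⟨hP, α, -, h⟩
    exact ⟨hP, fun x => (h x).symm ▸ (α _).2⟩
  injective_of_mem := by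
    rintro P φ ⟨hP, α, -, h⟩ x y hxy
    rw [h, h] at hxy
    have h1 := α.injective (Subtype.ext hxy)
    exact Subtype.ext (congrArg (fun s : S => (s : Ω)) h1)
  conj_mem := by
    intro P g hP hg
    exact ⟨hP, MulAut.conj (⟨g, hg⟩ : S), hA ⟨⟨g, hg⟩, rfl⟩, fun x => rfl⟩
  comp_mem := by
    rintro P Q φ ψ ⟨hP, α, hα, hφ⟩ ⟨hQ, β, hβ, hψ⟩ h
    refine ⟨hP, β * α, mul_mem hβ hα, fun x => ?_⟩
    rw [MonoidHom.comp_apply, hψ, MulAut.mul_apply]
    exact congrArg (fun s : S => ((β s : S) : Ω)) (Subtype.ext (hφ x))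
  inv_mem := by
    rintro P φ ⟨hP, α, hα, hφ⟩
    have hr : φ.range ≤ S := by
      rintro _ ⟨x, rfl⟩; rw [hφ]; exact (α _).2
    refine ⟨S.subtype.comp (α⁻¹.toMonoidHom.comp (Subgroup.inclusion hr)),
      ⟨hr, α⁻¹, inv_mem hα, fun _ => rfl⟩, fun x => ?_⟩
    have e : (⟨φ x, hr ⟨x, rfl⟩⟩ : S) = α ⟨x, hP x.2⟩ := Subtype.ext (hφ x)
    show ((α⁻¹ (⟨φ x, hr ⟨x, rfl⟩⟩ : S) : S) : Ω) = x
    rw [e, MulAut.inv_apply_self]

theorem isSaturated_autSystem [Finite S] [Fact p.Prime] (hS : IsPGroup p S) (H : Subgroup (MulAut S))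
    (hH : (Nat.card H).Coprime p) : (autSystem (Cfsg.Inn S ⊔ H) le_sup_left).IsSaturated p := by
  haveI : Finite (MulAut S) := finite_mulAut S
  let act : H →* MulAut S := H.subtype
  haveI : Finite (S ⋊[act] H) := Finite.of_equiv _ SemidirectProduct.equivProd.symm
  have hcardT : Nat.card (SemidirectProduct.inl : S →* S ⋊[act] H).range = Nat.card S :=
    (Nat.card_congr (MonoidHom.ofInjective SemidirectProduct.inl_injective).toEquiv).symm
  have hTp : IsPGroup p (SemidirectProduct.inl : S →* S ⋊[act] H).range :=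
    hS.of_equiv (MonoidHom.ofInjective SemidirectProduct.inl_injective)
  have hidx : (SemidirectProduct.inl : S →* S ⋊[act] H).range.index = Nat.card H := by
    have h1 := Subgroup.card_mul_index (SemidirectProduct.inl : S →* S ⋊[act] H).range
    rw [hcardT, SemidirectProduct.card] at h1
    exact Nat.eq_of_mul_eq_mul_left Nat.card_pos h1
  have hnd : ¬ p ∣ Nat.card H := ((Fact.out : p.Prime).coprime_iff_not_dvd).1 hH.symm
  refine IsRealizedBy.isSaturated (ι := (SemidirectProduct.inl : S →* S ⋊[act] H)) ?_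
    (hTp.toSylow (by rw [hidx]; exact hnd)) rfl
  have key : ∀ (g : S ⋊[act] H) (s : S),
      g * SemidirectProduct.inl s * g⁻¹ = SemidirectProduct.inl ((MulAut.conj g.left * (g.right : MulAut S)) s) := by
    intro g s
    ext
    · simp [SemidirectProduct.mul_left, SemidirectProduct.inv_left, act, mul_assoc]
    · simp
  have hinn : (Cfsg.Inn S).Normal := inn_normal' S
  refine ⟨SemidirectProduct.inl_injective, fun P hP φ hφ => ⟨?_, ?_⟩⟩
  · rintro ⟨_, α, hα, h⟩
    rw [← SetLike.mem_coe, Subgroup.normal_mul] at hα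
    obtain ⟨_, ⟨s, rfl⟩, β, hβ, rfl⟩ := hα
    refine ⟨⟨s, ⟨β, hβ⟩⟩, fun x => ?_⟩
    rw [key]
    exact congrArg _ (Subtype.ext (h x))
  · rintro ⟨g, hg⟩
    refine ⟨hP, MulAut.conj g.left * (g.right : MulAut S), mul_mem (Subgroup.mem_sup_left ⟨g.left, rfl⟩)
      (Subgroup.mem_sup_right g.right.2), fun x => ?_⟩
    have h1 := hg x
    rw [key] at h1
    exact congrArg Subtype.val (SemidirectProduct.inl_injective h1)

theorem abelian_exponent_of_chains [Finite S] [Fact p.Prime] (hS : IsPGroup p S)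
    (hall : ∀ F : Cfsg.FusionSystem S, F.IsSaturated p → (∃ (m : ℕ) (c : Fin (m + 1) → Subgroup Ω),
      c 0 = ⊥ ∧ c (Fin.last m) = S ∧ (∀ i : Fin (m + 1), F.StronglyClosed (c i)) ∧
      ∀ i : Fin m, c i.castSucc ≤ c i.succ ∧ ∃ x ∈ S, c i.succ = c i.castSucc ⊔ Subgroup.zpowers x))
    (H : Subgroup (MulAut S)) (hH : (Nat.card H).Coprime p) :
    IsMulCommutative H ∧ ∀ h ∈ H, h ^ (p - 1) = 1 := by
  haveI : Finite (MulAut S) := finite_mulAut S
  have hp : p.Prime := Fact.out
  obtain ⟨m, c, h0, hl, hsc, hst⟩ := hall _ (isSaturated_autSystem hS H hH)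
  have hcS : ∀ i, c i ≤ S := fun i => (hsc i).1
  -- invariance
  have hinv : ∀ α ∈ H, ∀ i, ∀ x, ∀ hx : x ∈ c i, ((α ⟨x, hcS i hx⟩ : S) : Ω) ∈ c i := by
    intro α hα i x hx
    exact (hsc i).2 (c i) le_rfl (S.subtype.comp (α.toMonoidHom.comp (Subgroup.inclusion (hcS i))))
      ⟨hcS i, α, Subgroup.mem_sup_right hα, fun _ => rfl⟩ ⟨x, hx⟩
  -- an element stabilising the series is trivial
  have htriv : ∀ α ∈ H, (∀ i : Fin m, ∀ x, ∀ hx : x ∈ c i.succ,
      x⁻¹ * ((α ⟨x, hcS _ hx⟩ : S) : Ω) ∈ c i.castSucc) → α = 1 := by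
    intro α hα hstab
    let A : Subgroup (MulAut S) :=
      { carrier := {β | β ∈ H ∧ ∀ i : Fin m, ∀ x, ∀ hx : x ∈ c i.succ,
          x⁻¹ * ((β ⟨x, hcS _ hx⟩ : S) : Ω) ∈ c i.castSucc}
        one_mem' := ⟨one_mem _, fun i x hx => by simp⟩
        mul_mem' := by
          rintro a b ⟨ha, ha'⟩ ⟨hb, hb'⟩
          refine ⟨mul_mem ha hb, fun i x hx => ?_⟩
          have h1 := mul_mem (hb' i x hx) (ha' i _ (hinv b hb _ x hx))
          simpa [mul_assoc] using h1
        inv_mem' := by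
          rintro a ⟨ha, ha'⟩
          refine ⟨inv_mem ha, fun i x hx => ?_⟩
          have h2 := inv_mem (ha' i _ (hinv _ (inv_mem ha) _ x hx))
          simpa using h2 }
    have hpg : IsPGroup p A := isPGroup_stabilizer_series hS c h0 hl hcS A fun β hβ i x hx => by
      rw [autFun_apply β (hcS _ hx)]; exact hβ.2 i x hx
    obtain ⟨k, hk⟩ := hpg ⟨α, hα, hstab⟩
    have hk' : α ^ p ^ k = 1 := congrArg Subtype.val hk
    have h2 := orderOf_dvd_natCard (⟨α, hα⟩ : H)
    rw [Subgroup.orderOf_mk] at h2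
    exact eq_one_of_coprime hk' (orderOf_dvd_iff_pow_eq_one.1 h2) (Nat.Coprime.pow_left k hH.symm)
  -- in the step `i`, each element is a power map
  have hstep : ∀ i : Fin m, ∃ g : S, (g : Ω) ∈ c i.succ ∧
      (∀ x, x ∈ c i.succ → ∃ e : ℤ, ((g : Ω) ^ e)⁻¹ * x ∈ c i.castSucc) := by
    intro i
    obtain ⟨hle, x, hxS, hB⟩ := hst i
    exact ⟨⟨x, hxS⟩, hB ▸ Subgroup.mem_sup_right (Subgroup.mem_zpowers x),
      fun y hy => mem_step (hsc _) hxS hB hy⟩
  have hmod : ∀ (i : Fin m) (g : S), ∀ α ∈ H, ∀ e : ℤ, ∀ x : S, ((g : Ω) ^ e)⁻¹ * (x : Ω) ∈ c i.castSucc →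
      ((α g : S) : Ω) ^ (e : ℤ) * (((α x : S) : Ω))⁻¹ ∈ c i.castSucc := by
    intro i g α hα e x hx
    have h1 := hinv α hα _ _ hx
    have h2 : (⟨((g : Ω) ^ e)⁻¹ * (x : Ω), hcS _ hx⟩ : S) = (g ^ e)⁻¹ * x := Subtype.ext (by simp)
    rw [h2, map_mul, map_inv, map_zpow] at h1
    have h3 : ((α g : S) : Ω) ^ (e : ℤ) ∈ S := zpow_mem (α g).2 _
    have h4 : (((α g : S) : Ω) ^ (e : ℤ))⁻¹ * ((α x : S) : Ω) ∈ c i.castSucc := by simpa using h1
    have h5 := StronglyClosed.conj_mem (hsc i.castSucc) h3 (inv_mem h4)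
    simpa [mul_assoc] using h5
  refine ⟨⟨⟨fun α β => ?_⟩⟩, fun α hα => ?_⟩
  · -- commutators stabilise
    have h := htriv ((α : MulAut S) * β * ((β : MulAut S) * α)⁻¹)
      (mul_mem (mul_mem α.2 β.2) (inv_mem (mul_mem β.2 α.2))) ?_
    · exact Subtype.ext (mul_inv_eq_one.1 h)
    intro i x hx
    obtain ⟨g, hg, hgen⟩ := hstep i
    haveI : ((c i.castSucc).subgroupOf S).Normal := ⟨fun a ha s => by
      rw [Subgroup.mem_subgroupOf] at ha ⊢; exact StronglyClosed.conj_mem (hsc _) s.2 ha⟩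
    let q : S →* S ⧸ (c i.castSucc).subgroupOf S := QuotientGroup.mk' _
    have hq : ∀ a b : S, q a = q b ↔ (a : Ω)⁻¹ * b ∈ c i.castSucc := fun a b => by
      rw [show q a = (a : S ⧸ (c i.castSucc).subgroupOf S) from rfl,
        show q b = (b : S ⧸ (c i.castSucc).subgroupOf S) from rfl, QuotientGroup.eq, Subgroup.mem_subgroupOf]
      simp
    have hpm : ∀ γ ∈ H, ∃ a : ℤ, ∀ y : S, (y : Ω) ∈ c i.succ → q (γ y) = q y ^ a := by
      intro γ hγ
      obtain ⟨a, ha⟩ := hgen _ (hinv γ hγ _ _ hg)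
      refine ⟨a, fun y hy => ?_⟩
      obtain ⟨e, he⟩ := hgen y hy
      have h1 : q (γ g) = q g ^ a := by
        rw [← map_zpow]; exact ((hq _ _).2 (by simpa using ha)).symm
      have h2 : q y = q g ^ e := by
        rw [← map_zpow]; exact ((hq _ _).2 (by simpa using he)).symm
      have h3 : q (γ y) = q (γ g) ^ e := by
        have h := hmod i g γ hγ e y he
        rw [← map_zpow, hq]
        have h' := StronglyClosed.conj_mem (hsc i.castSucc) (inv_mem (γ y).2) h
        simpa [mul_assoc] using h'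
      rw [h3, h1, h2, ← zpow_mul, ← zpow_mul, mul_comm]
    obtain ⟨a, ha⟩ := hpm α α.2
    obtain ⟨b, hb⟩ := hpm β β.2
    obtain ⟨y, hy⟩ : ∃ y : S, y = ((β : MulAut S) * α)⁻¹ ⟨x, hcS _ hx⟩ := ⟨_, rfl⟩
    have hym : (y : Ω) ∈ c i.succ := hy ▸ hinv _ (inv_mem (mul_mem β.2 α.2)) _ _ hx
    have hxy : (⟨x, hcS _ hx⟩ : S) = (β : MulAut S) ((α : MulAut S) y) := by
      rw [hy, ← MulAut.mul_apply]; simp
    have h1 : q ((α : MulAut S) ((β : MulAut S) y)) = q ((β : MulAut S) ((α : MulAut S) y)) := by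
      rw [ha _ (hinv _ β.2 _ _ hym), hb y hym, hb _ (hinv _ α.2 _ _ hym), ha y hym, ← zpow_mul,
        ← zpow_mul, mul_comm]
    rw [← hxy] at h1
    have h2 := inv_mem ((hq _ _).1 h1)
    simpa [hy, MulAut.mul_apply, mul_assoc] using h2
  · -- exponent
    have hH1 : ∀ N : ℕ, α ^ ((p - 1) * p ^ N) = 1 → α ^ (p - 1) = 1 := by
      intro N h
      rw [pow_mul] at h
      have h2 := orderOf_dvd_natCard (⟨α ^ (p - 1), pow_mem hα _⟩ : H)
      rw [Subgroup.orderOf_mk] at h2
      exact eq_one_of_coprime h (orderOf_dvd_iff_pow_eq_one.1 h2) (Nat.Coprime.pow_left N hH.symm)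
    obtain ⟨N, hN⟩ := IsPGroup.iff_card.1 hS
    refine hH1 N (htriv _ (pow_mem hα _) fun i x hx => ?_)
    obtain ⟨g, hg, hgen⟩ := hstep i
    haveI : ((c i.castSucc).subgroupOf S).Normal := ⟨fun a ha s => by
      rw [Subgroup.mem_subgroupOf] at ha ⊢; exact StronglyClosed.conj_mem (hsc _) s.2 ha⟩
    let q : S →* S ⧸ (c i.castSucc).subgroupOf S := QuotientGroup.mk' _
    have hq : ∀ a b : S, q a = q b ↔ (a : Ω)⁻¹ * b ∈ c i.castSucc := fun a b => by
      rw [show q a = (a : S ⧸ (c i.castSucc).subgroupOf S) from rfl,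
        show q b = (b : S ⧸ (c i.castSucc).subgroupOf S) from rfl, QuotientGroup.eq, Subgroup.mem_subgroupOf]
      simp
    obtain ⟨a, ha⟩ := hgen _ (hinv α hα _ _ hg)
    have h1 : q (α g) = q g ^ a := by rw [← map_zpow]; exact ((hq _ _).2 (by simpa using ha)).symm
    have hg' : ∀ n : ℕ, q ((α ^ n) g) = q g ^ a ^ n := by
      intro n
      induction n with
      | zero => simp
      | succ n ihn =>
        rw [pow_succ' α, MulAut.mul_apply]
        have h3 : ((g : Ω) ^ (a ^ n))⁻¹ * (((α ^ n) g : S) : Ω) ∈ c i.castSucc := by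
          have h := (hq (g ^ (a ^ n)) ((α ^ n) g)).1 (by rw [map_zpow, ihn])
          simpa using h
        have h := hmod i g α hα _ _ h3
        have h' : q (α ((α ^ n) g)) = q (α g) ^ (a ^ n) := by
          rw [← map_zpow, hq]
          have h'' := StronglyClosed.conj_mem (hsc i.castSucc) (inv_mem (α ((α ^ n) g)).2) h
          simpa [mul_assoc] using h''
        rw [h', h1, ← zpow_mul, pow_succ']
    -- `q g` has `p`-power order
    obtain ⟨l, hl'⟩ : ∃ l, orderOf (q g) = p ^ l := by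
      obtain ⟨l, -, hl'⟩ := (Nat.dvd_prime_pow hp).1 ((orderOf_map_dvd q g).trans (hN ▸ orderOf_dvd_natCard g))
      exact ⟨l, hl'⟩
    have hfix : q ((α ^ ((p - 1) * p ^ N)) g) = q g := by
      rw [hg']
      rcases Nat.eq_zero_or_pos l with rfl | hl0
      · have : q g = 1 := orderOf_eq_one_iff.1 (by rw [hl', pow_zero])
        rw [this, one_zpow]
      conv_rhs => rw [← zpow_one (q g)]
      rw [zpow_eq_zpow_iff_modEq, hl', ← ZMod.intCast_eq_intCast_iff]
      push_cast
      have hu : IsUnit (a : ZMod (p ^ l)) := by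
        -- `a` is invertible as `α` is bijective
        obtain ⟨b, hb⟩ := hgen _ (hinv _ (inv_mem hα) _ _ hg)
        have hb' : q (α⁻¹ g) = q g ^ b := by rw [← map_zpow]; exact ((hq _ _).2 (by simpa using hb)).symm
        have h := hmod i g α hα b _ hb
        have h' : q (α (α⁻¹ g)) = q (α g) ^ b := by
          rw [← map_zpow, hq]
          have h'' := StronglyClosed.conj_mem (hsc i.castSucc) (inv_mem (α (α⁻¹ g)).2) h
          simpa [mul_assoc] using h''
        rw [MulAut.apply_inv_self, h1, ← zpow_mul] at h'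
        have h'' : q g ^ (1 : ℤ) = q g ^ (a * b) := by rw [zpow_one]; exact h'
        rw [zpow_eq_zpow_iff_modEq, hl', ← ZMod.intCast_eq_intCast_iff] at h''
        push_cast at h''
        exact IsUnit.of_mul_eq_one _ h''.symm
      obtain ⟨u, hu⟩ := hu
      rw [← hu, ← Units.val_pow_eq_pow_val]
      have hlN : l ≤ N := by
        by_contra hlt
        have h := (orderOf_map_dvd q g).trans (hN ▸ orderOf_dvd_natCard g)
        rw [hl'] at h
        exact hlt ((Nat.pow_dvd_pow_iff_le_right hp.one_lt).1 h)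
      have hdvd : (p ^ l).totient ∣ (p - 1) * p ^ N := by
        rw [Nat.totient_prime_pow hp hl0, mul_comm]
        exact mul_dvd_mul_left _ (pow_dvd_pow p (by omega))
      obtain ⟨t, ht⟩ := hdvd
      rw [ht, pow_mul, ZMod.pow_totient, one_pow, Units.val_one]
    obtain ⟨e, he⟩ := hgen x hx
    have h := hmod i g _ (pow_mem hα ((p - 1) * p ^ N)) e ⟨x, hcS _ hx⟩ he
    have h2 : q ((α ^ ((p - 1) * p ^ N)) ⟨x, hcS _ hx⟩) = q ⟨x, hcS _ hx⟩ := by
      have h3 : q ((α ^ ((p - 1) * p ^ N)) ⟨x, hcS _ hx⟩) = q ((α ^ ((p - 1) * p ^ N)) g) ^ e := by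
        rw [← map_zpow, hq]
        have h'' := StronglyClosed.conj_mem (hsc i.castSucc) (inv_mem ((α ^ ((p - 1) * p ^ N)) ⟨x, hcS _ hx⟩).2) h
        simpa [mul_assoc] using h''
      rw [h3, hfix, ← map_zpow, hq]
      simpa using he
    exact (hq _ _).1 h2.symm

/-- A common eigenvector for a commuting family of automorphisms of exponent dividing `p - 1`. -/
theorem exists_eigen {M : Type u} [CommGroup M] [Nontrivial M] [Fact p.Prime] (hM : ∀ v : M, v ^ p = 1)
    (H : Set (MulAut M)) (hfin : H.Finite) (hcomm : ∀ g ∈ H, ∀ h ∈ H, g * h = h * g)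
    (hexp : ∀ h ∈ H, h ^ (p - 1) = 1) :
    ∃ v : M, v ≠ 1 ∧ ∀ h ∈ H, ∃ n : ℕ, h v = v ^ n := by
  classical
  have hp : p.Prime := Fact.out
  have : ∀ s : Finset (MulAut M), (↑s : Set (MulAut M)) ⊆ H →
      ∃ v : M, v ≠ 1 ∧ ∀ h ∈ s, ∃ n : ℕ, h v = v ^ n := by
    intro s
    induction s using Finset.induction_on with
    | empty => intro _; obtain ⟨v, hv⟩ := exists_ne (1 : M); exact ⟨v, hv, fun h hh => absurd hh (Finset.notMem_empty h)⟩
    | @insert h s _ ih =>
      intro hsub
      rw [Finset.coe_insert, Set.insert_subset_iff] at hsub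
      obtain ⟨v, hv, hs⟩ := ih hsub.2
      let w : ZMod p → M := fun a => ∏ j ∈ Finset.range (p - 1), ((h ^ j) v) ^ ((a ^ j : ZMod p)).val
      have hzp : ∀ (x : M) (k l : ℕ), (k : ZMod p) = (l : ZMod p) → x ^ k = x ^ l := fun x k l hkl =>
        pow_eq_pow_iff_modEq.2 (((ZMod.natCast_eq_natCast_iff _ _ _).1 hkl).of_dvd (orderOf_dvd_of_pow_eq_one (hM x)))
      have hprod : ∏ a : ZMod p, w a = 1 := by
        rw [Finset.prod_comm]
        refine Finset.prod_eq_one fun j hj => ?_
        rw [Finset.prod_pow_eq_pow_sum, hzp _ _ 0 ?_, pow_zero]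
        push_cast
        simp only [ZMod.natCast_zmod_val]
        exact FiniteField.sum_pow_lt_card_sub_one (K := ZMod p) j (by rw [ZMod.card]; exact Finset.mem_range.1 hj)
      have hw0 : w 0 = v := by
        show ∏ j ∈ Finset.range (p - 1), _ = v
        rw [Finset.prod_eq_single 0]
        · haveI : Fact (1 < p) := ⟨hp.one_lt⟩
          simp [ZMod.val_one]
        · intro j _ hj; rw [zero_pow hj, ZMod.val_zero, pow_zero]
        · intro hh; exact absurd (Finset.mem_range.2 (by have := hp.two_le; omega)) hh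
      obtain ⟨a, ha, haw⟩ : ∃ a : ZMod p, a ≠ 0 ∧ w a ≠ 1 := by
        by_contra hc
        push Not at hc
        rw [Finset.prod_eq_single 0 (fun a _ ha => hc a ha) (fun hh => absurd (Finset.mem_univ _) hh), hw0] at hprod
        exact hv hprod
      refine ⟨w a, haw, fun g hg => ?_⟩
      rcases Finset.mem_insert.1 hg with rfl | hgs
      · -- eigen equation
        refine ⟨(a⁻¹).val, ?_⟩
        have h1 : g (w a) ^ a.val = w a := by
          have hsucc : g (w a) ^ a.val = ∏ j ∈ Finset.range (p - 1),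
              ((g ^ (j + 1)) v) ^ ((a ^ (j + 1) : ZMod p)).val := by
            show (g (∏ j ∈ Finset.range (p - 1), _)) ^ a.val = _
            rw [map_prod, ← Finset.prod_pow]
            refine Finset.prod_congr rfl fun j _ => ?_
            rw [map_pow, ← pow_mul, pow_succ' g, MulAut.mul_apply]
            refine hzp _ _ _ ?_
            push_cast
            simp only [ZMod.natCast_zmod_val, pow_succ]
          rw [hsucc]
          obtain ⟨m, hm⟩ : ∃ m, p - 1 = m + 1 := ⟨p - 2, by have := hp.two_le; omega⟩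
          show _ = ∏ j ∈ Finset.range (p - 1), _
          rw [hm, Finset.prod_range_succ, Finset.prod_range_succ' (fun j => ((g ^ j) v) ^ ((a ^ j : ZMod p)).val),
            ← hm, hexp g hsub.1, ZMod.pow_card_sub_one_eq_one ha, pow_zero, pow_zero]
        calc g (w a) = g (w a) ^ (a.val * (a⁻¹).val) := by
              conv_lhs => rw [← pow_one (g (w a))]
              refine hzp _ _ _ ?_
              push_cast
              simp only [ZMod.natCast_zmod_val, mul_inv_cancel₀ ha]
          _ = w a ^ (a⁻¹).val := by rw [pow_mul, h1]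
      · obtain ⟨n, hn⟩ := hs g hgs
        refine ⟨n, ?_⟩
        show g (∏ j ∈ Finset.range (p - 1), _) = (∏ j ∈ Finset.range (p - 1), _) ^ n
        rw [map_prod, ← Finset.prod_pow]
        refine Finset.prod_congr rfl fun j _ => ?_
        have hc : g * h ^ j = h ^ j * g := (Commute.pow_right (hcomm g (hsub.2 hgs) h hsub.1) j).eq
        rw [map_pow, ← MulAut.mul_apply, hc, MulAut.mul_apply, hn, map_pow, ← pow_mul, ← pow_mul, mul_comm]
  obtain ⟨v, hv, hn⟩ := this hfin.toFinset (by simp)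
  exact ⟨v, hv, fun h hh => hn h (hfin.mem_toFinset.2 hh)⟩

theorem chain_of_normal [Finite S] [Fact p.Prime] (hS : IsPGroup p S) (hF : F.IsSaturated p)
    (hn : F.IsNormal S)
    (hAut : ∀ H : Subgroup (MulAut S), (Nat.card H).Coprime p → IsMulCommutative H ∧ ∀ h ∈ H, h ^ (p - 1) = 1) :
    ∃ (m : ℕ) (c : Fin (m + 1) → Subgroup Ω), c 0 = ⊥ ∧ c (Fin.last m) = S ∧
      (∀ i : Fin (m + 1), F.StronglyClosed (c i)) ∧
      ∀ i : Fin m, c i.castSucc ≤ c i.succ ∧ ∃ x ∈ S, c i.succ = c i.castSucc ⊔ Subgroup.zpowers x := by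
  haveI : Finite (MulAut S) := finite_mulAut S
  have hp : p.Prime := Fact.out
  obtain ⟨A, hA⟩ : ∃ A, A = F.autGroup S := ⟨_, rfl⟩
  -- a complement to the inner automorphisms
  have hInnA : Cfsg.Inn S ≤ A := hA ▸ inn_le_autGroup le_rfl
  haveI : (Cfsg.Inn S).Normal := inn_normal' S
  haveI : ((Cfsg.Inn S).subgroupOf A).Normal := Subgroup.Normal.subgroupOf inferInstance A
  have hidx : ¬ p ∣ ((Cfsg.Inn S).subgroupOf A).index := by
    have h := ((isFullyAutomized_iff hS).1
      (isFullyAutomized_of_isFullyNormalized hS hF isFullyNormalized_top)).2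
    rwa [autInducedBy_self_eq_inn, ← hA] at h
  have hInnp : IsPGroup p (Cfsg.Inn S) := hS.of_surjective (MulAut.conj : S →* MulAut S).rangeRestrict
    (MulAut.conj : S →* MulAut S).rangeRestrict_surjective
  have hcop : (Nat.card ((Cfsg.Inn S).subgroupOf A)).Coprime ((Cfsg.Inn S).subgroupOf A).index := by
    obtain ⟨k, hk⟩ := IsPGroup.iff_card.1
      (hInnp.of_equiv (Subgroup.subgroupOfEquivOfLe hInnA).symm)
    rw [hk]
    exact Nat.Coprime.pow_left k (hp.coprime_iff_not_dvd.2 hidx)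
  obtain ⟨H0, hH0⟩ := Subgroup.exists_right_complement'_of_coprime hcop
  have hH0card : (Nat.card H0).Coprime p := by
    rw [← hH0.symm.index_eq_card]
    exact (hp.coprime_iff_not_dvd.2 hidx).symm
  obtain ⟨H, hHdef⟩ : ∃ H, H = H0.map A.subtype := ⟨_, rfl⟩
  have hHcard : (Nat.card H).Coprime p := by
    rw [hHdef, Subgroup.card_map_of_injective A.subtype_injective]; exact hH0card
  obtain ⟨hHc, hHexp⟩ := hAut H hHcard
  have hAdec : ∀ α ∈ A, ∃ s : S, ∃ h ∈ H, α = MulAut.conj s * h := by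
    intro α hα
    have hmem : (⟨α, hα⟩ : A) ∈ (((Cfsg.Inn S).subgroupOf A : Set A) * (H0 : Set A)) := by
      rw [← Subgroup.normal_mul, hH0.sup_eq_top]; trivial
    obtain ⟨i, hi, h, hh, he⟩ := hmem
    obtain ⟨s, hs⟩ := (Subgroup.mem_subgroupOf.1 hi)
    refine ⟨s, h, hHdef ▸ Subgroup.mem_map_of_mem _ hh, ?_⟩
    rw [hs]
    exact congrArg Subtype.val he.symm
  -- invariant subgroups are strongly closed
  have hsc : ∀ C : Subgroup S, C.Normal → (∀ h ∈ H, ∀ x ∈ C, h x ∈ C) → F.StronglyClosed (C.map S.subtype) := by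
    intro C hCn hCH
    refine stronglyClosed_iff.mpr ⟨Subgroup.map_subtype_le _, fun R f hR hf x hx => ?_⟩
    obtain ⟨g, hg, hgf, hgS⟩ := (isNormal_iff.mp hn).2 R f hf
    obtain ⟨y, hy, rfl⟩ := hR hx
    have hg' : MapTo F S g := hg.restrict le_sup_right
    refine ⟨autOf hg' hgS y, ?_, ?_⟩
    · obtain ⟨s, h, hh, he⟩ := hAdec _ (hA ▸ autOf_mem hg' hgS)
      rw [he, MulAut.mul_apply, MulAut.conj_apply]
      exact hCn.conj_mem _ (hCH h hh y hy) s
    · rw [← hgf _ hx]
      exact (autFun_apply (autOf hg' hgS) y.2).symm.trans (autFun_autOf hg' hgS y.2)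
  -- build the series from above a given subgroup
  have key : ∀ k : ℕ, ∀ C : Subgroup S, C.index = k → C.Normal → (∀ h ∈ H, ∀ x ∈ C, h x ∈ C) →
      ∃ (m : ℕ) (c : Fin (m + 1) → Subgroup Ω), c 0 = C.map S.subtype ∧ c (Fin.last m) = S ∧
        (∀ i : Fin (m + 1), F.StronglyClosed (c i)) ∧
        ∀ i : Fin m, c i.castSucc ≤ c i.succ ∧ ∃ x ∈ S, c i.succ = c i.castSucc ⊔ Subgroup.zpowers x := by
    intro k
    induction k using Nat.strong_induction_on with
    | _ k ih =>
      intro C hk hCn hCH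
      by_cases htop : C = ⊤
      · subst htop
        refine ⟨0, fun _ => S, ?_, rfl, fun _ => ⟨le_rfl, fun R hR φ hφ x => (F.le_of_mem hφ).2 x⟩, fun i => i.elim0⟩
        rw [← MonoidHom.range_eq_map, Subgroup.range_subtype]
      haveI := hCn
      obtain ⟨Q, hQ⟩ : ∃ q : S →* S ⧸ C, q = QuotientGroup.mk' C := ⟨_, rfl⟩
      have hQ1 : ∀ x, Q x = 1 ↔ x ∈ C := fun x => by rw [hQ]; exact QuotientGroup.eq_one_iff x
      haveI : Nontrivial (S ⧸ C) := QuotientGroup.nontrivial_iff.2 htop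
      have hQp : IsPGroup p (S ⧸ C) := hS.to_quotient C
      -- the elements of order `p` of the centre
      let M : Subgroup (S ⧸ C) :=
        { carrier := {z | (∀ w, w * z = z * w) ∧ z ^ p = 1}
          one_mem' := ⟨fun w => by simp, one_pow p⟩
          mul_mem' := fun {a b} ha hb => ⟨fun w => (Commute.mul_right (ha.1 w) (hb.1 w) : _), by
            rw [Commute.mul_pow (hb.1 a), ha.2, hb.2, one_mul]⟩
          inv_mem' := fun {a} ha => ⟨fun w => (Commute.inv_right (ha.1 w) : _), by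
            rw [inv_pow, ha.2, inv_one]⟩ }
      haveI : Nontrivial M := by
        haveI := hQp.center_nontrivial
        obtain ⟨⟨z, hz⟩, hz1⟩ := exists_ne (1 : Subgroup.center (S ⧸ C))
        have hz1' : z ≠ 1 := fun h => hz1 (Subtype.ext h)
        obtain ⟨l, hl⟩ := hQp z
        obtain ⟨j, -, hj⟩ := (Nat.dvd_prime_pow hp).1 (orderOf_dvd_of_pow_eq_one hl)
        have hj0 : j ≠ 0 := fun h => hz1' (orderOf_eq_one_iff.1 (by rw [hj, h, pow_zero]))
        refine ⟨⟨z ^ p ^ (j - 1), fun w => (Commute.pow_right (Subgroup.mem_center_iff.1 hz w) _ : _), ?_⟩, 1,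
          fun h => ?_⟩
        · rw [← pow_mul, ← pow_succ, show j - 1 + 1 = j by omega, ← hj, pow_orderOf_eq_one]
        · have h' : z ^ p ^ (j - 1) = 1 := congrArg Subtype.val h
          have h1 := Nat.le_of_dvd (pow_pos hp.pos _) (hj ▸ orderOf_dvd_of_pow_eq_one h')
          have h2 : p ^ (j - 1) < p ^ j := Nat.pow_lt_pow_right hp.one_lt (by omega)
          omega
      letI : CommGroup M := { (inferInstance : Group M) with mul_comm := fun a b => Subtype.ext (b.2.1 a) }
      -- the action of `H` on `M`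
      have hmapC : ∀ h ∈ H, C.map (h : MulAut S).toMonoidHom = C := by
        intro h hh
        apply le_antisymm
        · rintro _ ⟨x, hx, rfl⟩; exact hCH h hh x hx
        · intro x hx; exact ⟨h⁻¹ x, hCH _ (inv_mem hh) x hx, MulAut.apply_inv_self S h x⟩
      let ψ : H →* MulAut (S ⧸ C) :=
        { toFun := fun h => QuotientGroup.congr C C (h : MulAut S) (hmapC h h.2)
          map_one' := MulEquiv.ext fun x => by
            induction x using QuotientGroup.induction_on with
            | H x => simp [QuotientGroup.congr_mk]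
          map_mul' := fun g h => MulEquiv.ext fun x => by
            induction x using QuotientGroup.induction_on with
            | H x => rfl }
      have hMinv : ∀ (h : H) (z : S ⧸ C), z ∈ M → ψ h z ∈ M := fun h z hz => ⟨fun w => by
        obtain ⟨w', rfl⟩ := (ψ h).surjective w
        rw [← map_mul, hz.1 w', map_mul], by rw [← map_pow, hz.2, map_one]⟩
      let ψM : H →* MulAut M :=
        { toFun := fun h =>
            { toFun := fun z => ⟨ψ h z, hMinv h z z.2⟩
              invFun := fun z => ⟨ψ h⁻¹ z, hMinv h⁻¹ z z.2⟩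
              left_inv := fun z => Subtype.ext (show ψ h⁻¹ (ψ h (z : S ⧸ C)) = z by
                rw [← MulAut.mul_apply, ← map_mul, inv_mul_cancel, map_one, MulAut.one_apply])
              right_inv := fun z => Subtype.ext (show ψ h (ψ h⁻¹ (z : S ⧸ C)) = z by
                rw [← MulAut.mul_apply, ← map_mul, mul_inv_cancel, map_one, MulAut.one_apply])
              map_mul' := fun a b => Subtype.ext (map_mul (ψ h) (a : S ⧸ C) b) }
          map_one' := MulEquiv.ext fun z => Subtype.ext (by simp)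
          map_mul' := fun g h => MulEquiv.ext fun z => Subtype.ext (by simp) }
      obtain ⟨⟨v, hv⟩, hv1, heig⟩ := exists_eigen (p := p) (fun z : M => Subtype.ext z.2.2) (Set.range ψM)
        (Set.finite_range _) (by
          rintro _ ⟨g, rfl⟩ _ ⟨h, rfl⟩
          rw [← map_mul, ← map_mul, mul_comm' g h]) (by
          rintro _ ⟨h, rfl⟩
          rw [← map_pow, show h ^ (p - 1) = 1 from Subtype.ext (hHexp h h.2), map_one])
      obtain ⟨x, rfl⟩ : ∃ x, Q x = v := by rw [hQ]; exact QuotientGroup.mk'_surjective C v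
      have hxC : x ∉ C := fun h => hv1 (Subtype.ext ((hQ1 x).2 h))
      obtain ⟨D, hD⟩ : ∃ D, D = (Subgroup.zpowers (Q x)).comap Q := ⟨_, rfl⟩
      haveI : (Subgroup.zpowers (Q x)).Normal := ⟨fun z hz w => by
        obtain ⟨e, rfl⟩ := hz
        have h := Commute.zpow_right (hv.1 w : Commute w (Q x)) e
        show w * Q x ^ e * w⁻¹ ∈ _
        rw [h.eq, mul_inv_cancel_right]
        exact ⟨e, rfl⟩⟩
      have hDn : D.Normal := hD ▸ Subgroup.Normal.comap inferInstance Q
      have hCD : C ≤ D := fun z hz => by rw [hD, Subgroup.mem_comap, (hQ1 z).2 hz]; exact one_mem _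
      have hxD : x ∈ D := hD ▸ Subgroup.mem_zpowers (Q x)
      have hlt : D.index < k := hk ▸ Subgroup.index_strictAnti (lt_of_le_of_ne hCD fun h => hxC (h ▸ hxD))
      have hDH : ∀ h ∈ H, ∀ z ∈ D, h z ∈ D := by
        intro h hh z hz
        rw [hD, Subgroup.mem_comap] at hz ⊢
        obtain ⟨e, he⟩ := hz
        obtain ⟨n, hn'⟩ := heig (ψM ⟨h, hh⟩) ⟨_, rfl⟩
        have h1 : ψ ⟨h, hh⟩ (Q x) = Q x ^ n := congrArg Subtype.val hn'
        have h2 : Q (h z) = ψ ⟨h, hh⟩ (Q z) := by rw [hQ]; rfl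
        rw [h2, ← he]
        show ψ ⟨h, hh⟩ (Q x ^ e) ∈ _
        rw [map_zpow, h1]
        exact zpow_mem (pow_mem (Subgroup.mem_zpowers _) _) _
      obtain ⟨m, c, h0, hl, hc, hst⟩ := ih D.index hlt D rfl hDn hDH
      refine ⟨m + 1, Fin.cons (C.map S.subtype) c, rfl, by rw [← Fin.succ_last, Fin.cons_succ, hl], ?_, ?_⟩
      · exact Fin.cases (hsc C hCn hCH) hc
      · refine Fin.cases ?_ fun j => ?_
        · rw [Fin.cons_succ, h0]
          refine ⟨Subgroup.map_mono hCD, x, x.2, ?_⟩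
          show D.map S.subtype = C.map S.subtype ⊔ Subgroup.zpowers (x : Ω)
          rw [show Subgroup.zpowers (x : Ω) = (Subgroup.zpowers x).map S.subtype from (MonoidHom.map_zpowers S.subtype x).symm,
            ← Subgroup.map_sup]
          congr 1
          apply le_antisymm
          · intro z hz
            rw [hD, Subgroup.mem_comap] at hz
            obtain ⟨e, he⟩ := hz
            have hze : z * (x ^ e)⁻¹ ∈ C := (hQ1 _).1 (by
              rw [map_mul, map_inv, map_zpow]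
              rw [← show Q x ^ e = Q z from he, mul_inv_cancel])
            have := Subgroup.mul_mem_sup hze (zpow_mem (Subgroup.mem_zpowers x) e)
            simpa using this
          · exact sup_le hCD (Subgroup.zpowers_le.2 hxD)
        · rw [← Fin.succ_castSucc, Fin.cons_succ, Fin.cons_succ]
          exact hst j
  obtain ⟨m, c, h0, hl, hc, hst⟩ := key _ ⊥ rfl inferInstance fun h _ x hx => by
    rw [Subgroup.mem_bot.1 hx, map_one]; exact one_mem _
  exact ⟨m, c, by rw [h0, Subgroup.map_bot], hl, hc, hst⟩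

theorem main [Finite S] [Fact p.Prime] (hS : IsPGroup p S) :
    (∀ F : Cfsg.FusionSystem S, F.IsSaturated p → (∃ (m : ℕ) (c : Fin (m + 1) → Subgroup Ω), c 0 = ⊥ ∧
      c (Fin.last m) = S ∧ (∀ i : Fin (m + 1), F.StronglyClosed (c i)) ∧
      ∀ i : Fin m, c i.castSucc ≤ c i.succ ∧ ∃ x ∈ S, c i.succ = c i.castSucc ⊔ Subgroup.zpowers x)) ↔
    (∀ F : Cfsg.FusionSystem S, F.IsSaturated p → F.IsNormal S) ∧
      ∀ H : Subgroup (MulAut ↥S), (Nat.card ↥H).Coprime p → IsMulCommutative ↥H ∧ ∀ h ∈ H, h ^ (p - 1) = 1 := by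
  refine ⟨fun hall => ⟨fun F hF => ?_, fun H hH => abelian_exponent_of_chains hS hall H hH⟩,
    fun h F hF => chain_of_normal hS hF (h.1 F hF) h.2⟩
  obtain ⟨m, c, h0, hl, hsc, hst⟩ := hall F hF
  exact isNormal_of_chain hS hF c h0 hl hsc hst

end Cfsg.Agent.Components.Supersol
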