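import Cfsg.Prelude.Def_SylowControl
import Cfsg.Prelude.Def_SylowChains
import Cfsg.Agent.Lib.LocalEvenB.Basic
import Mathlib

/-!
Chains of Sylow subgroups linked through members of a family (control of Sylow intersections).
-/

set_option autoImplicit false
set_option linter.all false

namespace Cfsg.Agent.Components.SylowControl

open Cfsg.Agent.LocalEvenB

variable {G : Type*} [Group G] [Finite G] {p : ℕ} [Fact p.Prime]

abbrev Cm (g : G) (H : Subgroup G) : Subgroup G := H.map (MulAut.conj g).toMonoidHom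

theorem coe_smul (g : G) (S : Sylow p G) :
    ((g • S : Sylow p G) : Subgroup G) = Cm g (S : Subgroup G) := Sylow.coe_subgroup_smul

theorem conjRight_sylow (g : G) (S : Sylow p G) :
    Cfsg.subgroupConjRight g (S : Subgroup G) = ((g⁻¹ • S : Sylow p G) : Subgroup G) :=
  (coe_smul g⁻¹ S).symm

/-- One link of a chain. -/
def Lk (𝓕 : Set (Subgroup G)) (D : Subgroup G) (c c' : Sylow p G) : Prop :=
  ∃ (X : Subgroup G) (x : G), X ∈ Cfsg.sylowMembers p 𝓕 (c : Subgroup G) ∧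
    X ∈ Cfsg.sylowMembers p 𝓕 (c' : Subgroup G) ∧ x ∈ X ∧ x • c = c' ∧ D ≤ (c' : Subgroup G) ⊓ X

/-- Connectedness by links. -/
def Conn (𝓕 : Set (Subgroup G)) (D : Subgroup G) : Sylow p G → Sylow p G → Prop :=
  Relation.ReflTransGen (Lk 𝓕 D)

theorem Lk.mono {𝓕 𝓖 : Set (Subgroup G)} {D E : Subgroup G} (h : 𝓕 ⊆ 𝓖) (hDE : D ≤ E) {c c' : Sylow p G}
    (hl : Lk 𝓕 E c c') : Lk 𝓖 D c c' := by
  obtain ⟨X, x, h1, h2, h3, h4, h5⟩ := hl
  exact ⟨X, x, ⟨h h1.1, h1.2⟩, ⟨h h2.1, h2.2⟩, h3, h4, hDE.trans h5⟩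

theorem Conn.mono {𝓕 𝓖 : Set (Subgroup G)} {D E : Subgroup G} (h : 𝓕 ⊆ 𝓖) (hDE : D ≤ E) {c c' : Sylow p G}
    (hl : Conn 𝓕 E c c') : Conn 𝓖 D c c' :=
  Relation.ReflTransGen.mono (fun _ _ hh => Lk.mono h hDE hh) _ _ hl

theorem member_map {G' : Type*} [Group G'] [Finite G'] (φ : G →* G') (hφ : Function.Injective φ)
    {𝓕' : Set (Subgroup G')} {A X : Subgroup G} (hA : IsPGroup p A) (hXF : X.map φ ∈ 𝓕')
    (hX : ∃ P : Sylow p ↥X, (P : Subgroup ↥X).map X.subtype = A ⊓ X) :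
    X.map φ ∈ Cfsg.sylowMembers p 𝓕' (A.map φ) := by
  obtain ⟨P, hP⟩ := hX
  refine ⟨hXF, ?_⟩
  have heq : A.map φ ⊓ X.map φ = (A ⊓ X).map φ := (Subgroup.map_inf A X φ hφ).symm
  have hidx : ¬ p ∣ ((A.map φ ⊓ X.map φ).subgroupOf (X.map φ)).index := by
    rw [← Subgroup.relIndex, heq, Subgroup.relIndex_map_map_of_injective _ _ hφ, ← hP, Subgroup.relIndex,
      Subgroup.subgroupOf, Subgroup.comap_map_eq_self_of_injective X.subtype_injective]
    exact P.not_dvd_index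
  have hpg : IsPGroup p ↥((A.map φ ⊓ X.map φ).subgroupOf (X.map φ)) :=
    ((hA.map φ).to_le inf_le_left).comap_subtype
  exact ⟨hpg.toSylow hidx, Subgroup.map_subgroupOf_eq_of_le inf_le_right⟩

theorem member_conj {𝓕 : Set (Subgroup G)} (g : G) (h𝓕 : ∀ X ∈ 𝓕, Cm g X ∈ 𝓕) {c : Sylow p G}
    {X : Subgroup G} (hX : X ∈ Cfsg.sylowMembers p 𝓕 (c : Subgroup G)) :
    Cm g X ∈ Cfsg.sylowMembers p 𝓕 ((g • c : Sylow p G) : Subgroup G) := by
  rw [coe_smul]
  exact member_map _ (MulAut.conj g).injective c.isPGroup' (h𝓕 X hX.1) hX.2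

theorem member_of_le {𝓕 : Set (Subgroup G)} {X : Subgroup G} (hX : X ∈ 𝓕) {c : Sylow p G}
    (hc : (c : Subgroup G) ≤ X) : X ∈ Cfsg.sylowMembers p 𝓕 (c : Subgroup G) :=
  ⟨hX, c.subtype hc, by rw [Sylow.coe_subtype, Subgroup.map_subgroupOf_eq_of_le hc, inf_eq_left.mpr hc]⟩

/-- If `X` contains a Sylow subgroup of `G` then a Sylow meeting `X` in a Sylow of `X` lies in `X`. -/
theorem le_of_mem {𝓕 : Set (Subgroup G)} {X : Subgroup G} {P c : Sylow p G} (hP : (P : Subgroup G) ≤ X)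
    (hc : X ∈ Cfsg.sylowMembers p 𝓕 (c : Subgroup G)) : (c : Subgroup G) ≤ X := by
  obtain ⟨-, Q, hQ⟩ := hc
  have h1 : Nat.card ↥((c : Subgroup G) ⊓ X) = Nat.card (c : Subgroup G) := by
    rw [← hQ, Subgroup.card_map_of_injective X.subtype_injective, ← Nat.card_congr (Sylow.equiv (P.subtype hP) Q).toEquiv,
      Sylow.coe_subtype, Nat.card_congr (Subgroup.subgroupOfEquivOfLe hP).toEquiv]
    exact Nat.card_congr (Sylow.equiv P c).toEquiv
  exact inf_eq_left.mp (Subgroup.eq_of_le_of_card_ge inf_le_left h1.ge)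

theorem Conn.conj {𝓕 : Set (Subgroup G)} (g : G) (h𝓕 : ∀ X ∈ 𝓕, Cm g X ∈ 𝓕) {D : Subgroup G}
    {c c' : Sylow p G} (h : Conn 𝓕 D c c') : Conn 𝓕 (Cm g D) (g • c) (g • c') := by
  induction h with
  | refl => exact Relation.ReflTransGen.refl
  | tail _ hl ih =>
    refine ih.tail ?_
    obtain ⟨X, x, h1, h2, h3, h4, h5⟩ := hl
    refine ⟨Cm g X, g * x * g⁻¹, member_conj g h𝓕 h1, member_conj g h𝓕 h2, conjMap_apply_mem h3, ?_, ?_⟩
    · rw [← h4, mul_smul, mul_smul, inv_smul_smul]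
    · rw [coe_smul, ← Subgroup.map_inf _ _ _ (MulAut.conj g).injective]
      exact Subgroup.map_mono h5

theorem le_right {𝓕 : Set (Subgroup G)} {D : Subgroup G} {c c' : Sylow p G} (h : Conn 𝓕 D c c')
    (hc : D ≤ (c : Subgroup G)) : D ≤ (c' : Subgroup G) := by
  rcases Relation.ReflTransGen.cases_tail h with h | ⟨b, -, hl⟩
  · rw [h]; exact hc
  · obtain ⟨X, x, -, -, -, -, h5⟩ := hl
    exact h5.trans inf_le_left

theorem controls_iff {𝓕 : Set (Subgroup G)} : Cfsg.ControlsSylowIntersections p 𝓕 ↔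
    ∀ S T : Sylow p G, S ≠ T → (S : Subgroup G) ⊓ (T : Subgroup G) ≠ ⊥ →
      Conn 𝓕 ((S : Subgroup G) ⊓ (T : Subgroup G)) S T := by
  constructor
  · intro h S T hne hD
    obtain ⟨n, c, X, x, h0, hn, hs⟩ := h S T hne hD
    have : ∀ i, Conn 𝓕 ((S : Subgroup G) ⊓ (T : Subgroup G)) S (c i) := by
      intro i
      induction i using Fin.induction with
      | zero => rw [h0]; exact Relation.ReflTransGen.refl
      | succ i ih =>
        obtain ⟨h1, h2, h3, h4, h5⟩ := hs i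
        refine ih.tail ⟨X i, x i, h1, h2, h3, ?_, h5⟩
        rw [conjRight_sylow] at h4
        rw [← Sylow.ext h4, smul_inv_smul]
    have h' := this (Fin.last n)
    rwa [hn] at h'
  · intro h S T hne hD
    have := h S T hne hD
    suffices ∀ c', Conn 𝓕 ((S : Subgroup G) ⊓ (T : Subgroup G)) S c' →
        ∃ (n : ℕ) (c : Fin (n + 1) → Sylow p G) (X : Fin n → Subgroup G) (x : Fin n → G),
          c 0 = S ∧ c (Fin.last n) = c' ∧ ∀ i : Fin n,
            X i ∈ Cfsg.sylowMembers p 𝓕 (c i.castSucc : Subgroup G) ∧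
            X i ∈ Cfsg.sylowMembers p 𝓕 (c i.succ : Subgroup G) ∧ x i ∈ X i ∧
            Cfsg.subgroupConjRight (x i) (c i.succ : Subgroup G) = (c i.castSucc : Subgroup G) ∧
            (S : Subgroup G) ⊓ (T : Subgroup G) ≤ (c i.succ : Subgroup G) ⊓ X i from this T (h S T hne hD)
    intro c' hc'
    induction hc' with
    | refl => exact ⟨0, fun _ => S, Fin.elim0, Fin.elim0, rfl, rfl, fun i => i.elim0⟩
    | @tail b c' _ hl ih =>
      obtain ⟨n, c, X, x, h0, hn, hs⟩ := ih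
      obtain ⟨Y, y, h1, h2, h3, h4, h5⟩ := hl
      refine ⟨n + 1, Fin.snoc c c', Fin.snoc X Y, Fin.snoc x y, ?_, Fin.snoc_last _ _, fun i => ?_⟩
      · rw [← Fin.castSucc_zero, Fin.snoc_castSucc, h0]
      · induction i using Fin.lastCases with
        | last =>
          rw [Fin.succ_last, Fin.snoc_last, Fin.snoc_castSucc, Fin.snoc_last, Fin.snoc_last, hn]
          refine ⟨h1, h2, h3, ?_, h5⟩
          rw [conjRight_sylow, ← h4, inv_smul_smul]
        | cast j =>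
          rw [Fin.succ_castSucc, Fin.snoc_castSucc, Fin.snoc_castSucc, Fin.snoc_castSucc, Fin.snoc_castSucc]
          exact hs j

theorem inter_chain {𝓕 : Set (Subgroup G)} (h : Cfsg.ControlsSylowIntersections p 𝓕) {D : Subgroup G}
    (hD : D ≠ ⊥) {S T : Sylow p G} (hS : D ≤ (S : Subgroup G)) (hT : D ≤ (T : Subgroup G)) :
    Conn 𝓕 D S T := by
  rcases eq_or_ne S T with rfl | hne
  · exact Relation.ReflTransGen.refl
  · exact (controls_iff.mp h S T hne fun h0 => hD (le_bot_iff.mp (h0 ▸ le_inf hS hT))).mono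
      subset_rfl (le_inf hS hT)

/-- The members of the functor family of `⊤`. -/
theorem mem_functorFamily_top (f : Subgroup G → Set (Subgroup G)) (c : Sylow p G) {F : Subgroup G}
    (hF : F ∈ f (c : Subgroup G)) : Subgroup.normalizer (F : Set G) ∈ Cfsg.functorFamily p f ⊤ := by
  refine ⟨c.subtype le_top, F, ?_, (top_inf_eq _).symm⟩
  rwa [Sylow.coe_subtype, Subgroup.map_subgroupOf_eq_of_le le_top]

theorem functorFamily_top_conj {f : Subgroup G → Set (Subgroup G)} (hf : Cfsg.IsNormalizerFunctor p f)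
    (g : G) : ∀ X ∈ Cfsg.functorFamily p f ⊤, Cm g X ∈ Cfsg.functorFamily p f ⊤ := by
  rintro X ⟨P, F, hF, rfl⟩
  have hP : IsPGroup p ↥((P : Subgroup ↥(⊤ : Subgroup G)).map (⊤ : Subgroup G).subtype) := P.isPGroup'.map _
  obtain ⟨c, hc⟩ : ∃ c : Sylow p G, (c : Subgroup G) = (P : Subgroup ↥(⊤ : Subgroup G)).map (⊤ : Subgroup G).subtype := by
    obtain ⟨c, hc⟩ := hP.exists_le_sylow
    refine ⟨c, (Subgroup.eq_of_le_of_card_ge hc ?_).symm⟩
    rw [Subgroup.card_map_of_injective (Subgroup.subtype_injective _),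
      ← Nat.card_congr (Sylow.equiv (c.subtype le_top) P).toEquiv, Sylow.coe_subtype,
      Nat.card_congr (Subgroup.subgroupOfEquivOfLe le_top).toEquiv]
  rw [← hc] at hF hP
  have hF' : Cm g F ∈ f ((g • c : Sylow p G) : Subgroup G) := by
    rw [coe_smul, show f (Cm g (c : Subgroup G)) = _ from (hf _ hP).2 g]
    exact ⟨F, hF, rfl⟩
  have := mem_functorFamily_top f (g • c) hF'
  rw [top_inf_eq]
  convert this using 1
  rw [Cm, Subgroup.map_equiv_normalizer_eq]

/-- A step inside `M` through the normalizer of a member. -/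
def StepM (f : Subgroup G → Set (Subgroup G)) (M D : Subgroup G) (R R' : Sylow p ↥M) : Prop :=
  ∃ (P : Sylow p ↥M) (F : Subgroup G), ∃ x ∈ M ⊓ Subgroup.normalizer (F : Set G),
    F ∈ f ((P : Subgroup ↥M).map M.subtype) ∧
    (P : Subgroup ↥M).map M.subtype ≤ Subgroup.normalizer (F : Set G) ∧
    (R : Subgroup ↥M).map M.subtype ≤ Subgroup.normalizer (F : Set G) ∧
    (R' : Subgroup ↥M).map M.subtype ≤ Subgroup.normalizer (F : Set G) ∧
    Cm x ((R : Subgroup ↥M).map M.subtype) = (R' : Subgroup ↥M).map M.subtype ∧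
    D ≤ (R' : Subgroup ↥M).map M.subtype

theorem regular_steps {f : Subgroup G → Set (Subgroup G)} (hf : Cfsg.IsNormalizerFunctor p f)
    {M D : Subgroup G} (hreg : Cfsg.IsFunctorRegular p f M) (hD : D ≠ ⊥) {R₁ R₂ : Sylow p ↥M}
    (h1 : D ≤ (R₁ : Subgroup ↥M).map M.subtype) (h2 : D ≤ (R₂ : Subgroup ↥M).map M.subtype) :
    Relation.ReflTransGen (StepM f M D) R₁ R₂ := by
  have hDM : D ≤ M := h1.trans (Subgroup.map_subtype_le _)
  have e : (D.subgroupOf M).map M.subtype = D := Subgroup.map_subgroupOf_eq_of_le hDM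
  have hle : ∀ R : Sylow p ↥M, D ≤ (R : Subgroup ↥M).map M.subtype → D.subgroupOf M ≤ (R : Subgroup ↥M) :=
    fun R h => by
      have := Subgroup.comap_mono (f := M.subtype) h
      rwa [Subgroup.comap_map_eq_self_of_injective M.subtype_injective] at this
  have hD' : D.subgroupOf M ≠ ⊥ := fun h => hD (by rw [← e, h, Subgroup.map_bot])
  refine Relation.ReflTransGen.mono ?_ _ _ (inter_chain hreg hD' (hle R₁ h1) (hle R₂ h2))
  rintro R R' ⟨X, x, hR, hR', hx, hxR, hDR⟩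
  obtain ⟨Y, ⟨P, F, hF, rfl⟩, rfl⟩ := hR.1
  have hPF : (P : Subgroup ↥M).map M.subtype ≤ Subgroup.normalizer (F : Set G) :=
    Subgroup.le_normalizer.trans ((hf _ (P.isPGroup'.map _)).1 F hF).2
  have hPX : (P : Subgroup ↥M) ≤ (M ⊓ Subgroup.normalizer (F : Set G)).subgroupOf M := fun y hy =>
    Subgroup.mem_subgroupOf.mpr ⟨y.2, hPF ⟨y, hy, rfl⟩⟩
  have hle' : ∀ Q : Sylow p ↥M, (Q : Subgroup ↥M) ≤ (M ⊓ Subgroup.normalizer (F : Set G)).subgroupOf M →
      (Q : Subgroup ↥M).map M.subtype ≤ Subgroup.normalizer (F : Set G) := fun Q h y ⟨z, hz, hzy⟩ =>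
    hzy ▸ (Subgroup.mem_subgroupOf.mp (h hz)).2
  refine ⟨P, F, x, Subgroup.mem_subgroupOf.mp hx, hF, hPF, hle' R (le_of_mem hPX hR),
    hle' R' (le_of_mem hPX hR'), ?_, ?_⟩
  · rw [← hxR, coe_smul, Cm, Cm, Subgroup.map_map, Subgroup.map_map]
    congr 1
  · rw [← e]
    exact Subgroup.map_mono (hDR.trans inf_le_left)

/-- A step whose Sylow subgroups are Sylow in `G` gives a link. -/
theorem lk_of_step {f : Subgroup G → Set (Subgroup G)} {F : Subgroup G} {P c c' : Sylow p G} {x : G}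
    (hF : F ∈ f (P : Subgroup G)) (hc : (c : Subgroup G) ≤ Subgroup.normalizer (F : Set G))
    (hc' : (c' : Subgroup G) ≤ Subgroup.normalizer (F : Set G)) (hx : x ∈ Subgroup.normalizer (F : Set G))
    (hxc : Cm x (c : Subgroup G) = (c' : Subgroup G)) {D : Subgroup G} (hD : D ≤ (c' : Subgroup G)) :
    Lk (Cfsg.functorFamily p f ⊤) D c c' :=
  ⟨_, x, member_of_le (mem_functorFamily_top f P hF) hc, member_of_le (mem_functorFamily_top f P hF) hc',
    hx, Sylow.ext (by rw [coe_smul, hxc]), le_inf hD (hD.trans hc')⟩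

theorem regular_top_of_controls {f : Subgroup G → Set (Subgroup G)}
    (h : Cfsg.ControlsSylowIntersections p (Cfsg.functorFamily p f ⊤)) :
    Cfsg.IsFunctorRegular p f (⊤ : Subgroup G) := by
  refine controls_iff.mpr fun S T hne hD => ?_
  let φ : G →* ↥(⊤ : Subgroup G) := Subgroup.topEquiv.symm.toMonoidHom
  have hφ : Function.Injective φ := Subgroup.topEquiv.symm.injective
  have hmap : ∀ X : Subgroup G, X.map φ = X.subgroupOf ⊤ := fun X => by
    ext y
    refine ⟨?_, fun hy => ⟨y, hy, Subgroup.topEquiv.symm_apply_apply y⟩⟩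
    rintro ⟨z, hz, rfl⟩
    exact hz
  obtain ⟨S', hS'⟩ : ∃ S' : Sylow p G, (S' : Subgroup G).map φ = S :=
    ⟨S.comapOfInjective φ hφ (fun y _ => ⟨(y : G), rfl⟩),
      Subgroup.map_comap_eq_self_of_surjective (f := φ) Subgroup.topEquiv.symm.surjective (S : Subgroup ↥(⊤ : Subgroup G))⟩
  obtain ⟨T', hT'⟩ : ∃ T' : Sylow p G, (T' : Subgroup G).map φ = T :=
    ⟨T.comapOfInjective φ hφ (fun y _ => ⟨(y : G), rfl⟩),
      Subgroup.map_comap_eq_self_of_surjective (f := φ) Subgroup.topEquiv.symm.surjective (T : Subgroup ↥(⊤ : Subgroup G))⟩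
  have hne' : S' ≠ T' := fun e => hne (Sylow.ext (by rw [← hS', ← hT', e]))
  have hD' : (S' : Subgroup G) ⊓ (T' : Subgroup G) ≠ ⊥ := fun e => hD (by
    rw [← hS', ← hT', ← Subgroup.map_inf _ _ _ hφ, e, Subgroup.map_bot])
  have hc := controls_iff.mp h S' T' hne' hD'
  suffices ∀ U : Sylow p G, Conn (Cfsg.functorFamily p f ⊤) ((S' : Subgroup G) ⊓ T') S' U →
      ∀ U' : Sylow p ↥(⊤ : Subgroup G), (U : Subgroup G).map φ = U' →
      Conn ((fun X : Subgroup G => X.subgroupOf ⊤) '' Cfsg.functorFamily p f ⊤)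
        ((S : Subgroup ↥(⊤ : Subgroup G)) ⊓ T) S U' from this T' hc T hT'
  intro U hU
  induction hU with
  | refl =>
    intro U' hU'
    rw [show U' = S from Sylow.ext (hU'.symm.trans hS')]
    exact Relation.ReflTransGen.refl
  | @tail b c' _ hl ih =>
    intro U' hU'
    obtain ⟨X, x, h1, h2, h3, h4, h5⟩ := hl
    obtain ⟨B, hB⟩ : ∃ B : Sylow p ↥(⊤ : Subgroup G), (b : Subgroup G).map φ = B :=
      ⟨b.subtype le_top, (hmap _).trans (Sylow.coe_subtype _ _).symm⟩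
    refine (ih B hB).tail ⟨X.map φ, φ x, ?_, ?_, Subgroup.mem_map_of_mem φ h3, ?_, ?_⟩
    · rw [← hB]
      exact member_map φ hφ b.isPGroup' ⟨X, h1.1, (hmap X).symm⟩ h1.2
    · rw [← hU']
      exact member_map φ hφ c'.isPGroup' ⟨X, h2.1, (hmap X).symm⟩ h2.2
    · refine Sylow.ext ?_
      rw [coe_smul, ← hB, ← hU', ← h4, coe_smul, Cm, Cm, Subgroup.map_map, Subgroup.map_map]
      congr 1
    · rw [← hS', ← hT', ← hU', ← Subgroup.map_inf _ _ _ hφ, ← Subgroup.map_inf _ _ _ hφ]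
      exact Subgroup.map_mono h5

end Cfsg.Agent.Components.SylowControl
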