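import Cfsg.Agent.Lib.Components.CompAction2

/-!
# An unbalanced component in a core-free subgroup
-/

set_option autoImplicit false
set_option linter.unusedSectionVars false
set_option linter.style.haveILetI false

namespace Cfsg.Agent.Components

open scoped commutatorElement
open Subgroup Cfsg

variable {G : Type*} [Group G] [Finite G] {p : ℕ} [hp : Fact p.Prime]

theorem le_normalizer_coreOf (K : Subgroup G) :
    normalizer (K : Set G) ≤ normalizer ((Cfsg.pPrimeCore p ↥K).map K.subtype : Set G) := by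
  intro g hg
  apply mem_normalizer_of_map_conj_eq
  let e : ↥K ≃* ↥K := ((MulAut.conj g).subgroupMap K).trans
    (MulEquiv.subgroupCongr (map_conj_eq_of_mem_normalizer hg))
  conv_rhs => rw [← map_pPrimeCore_equiv e, map_map]
  rw [map_map]
  rfl

theorem eq_bot_of_centralizes_fStar (hO : Cfsg.pPrimeCore p G = ⊥) {X : Subgroup G}
    (hXE : X ≤ centralizer (Cfsg.layer G : Set G))
    (hXC : X ≤ centralizer (Cfsg.pCore p G : Set G)) (hXc : (Nat.card ↥X).Coprime p) : X = ⊥ := by
  have hXF : X ≤ centralizer (Cfsg.generalizedFittingSubgroup G : Set G) := by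
    rw [le_centralizer_iff, Cfsg.generalizedFittingSubgroup]
    refine sup_le (le_centralizer_iff.mp hXE) ?_
    rw [fitting_eq_pCore_of_core_eq_bot hO]
    exact le_centralizer_iff.mp hXC
  have h1 : X ≤ Cfsg.pCore p G := by
    intro v hv
    have hvF := centralizer_fStar_le (hXF hv)
    rw [Cfsg.generalizedFittingSubgroup] at hvF
    have hv' : v ∈ ((Cfsg.layer G ⊔ Cfsg.fittingSubgroup G : Subgroup G) : Set G) := hvF
    rw [coe_mul_of_right_le_normalizer_left _ _ le_normalizer_of_normal] at hv'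
    obtain ⟨e, he, f, hf, rfl⟩ := hv'
    have heC : e ∈ centralizer (Cfsg.layer G : Set G) := by
      simpa using mul_mem (hXE hv) (inv_mem (fitting_le_centralizer_layer hf))
    rw [← fitting_eq_pCore_of_core_eq_bot hO]
    exact mul_mem (layer_inf_centralizer_le_fitting ⟨he, heC⟩) hf
  obtain ⟨j, hj⟩ := ((isPGroup_pCore (G := G) (p := p)).to_le h1).exists_card_eq
  refine eq_bot_of_card_eq _ ?_
  rw [hj] at hXc ⊢
  exact Nat.eq_one_of_dvd_coprimes (Nat.Coprime.pow_right j hXc) dvd_rfl dvd_rfl

theorem component_le_of_solvable_quotient {N : Subgroup G} [N.Normal] {L : Subgroup G}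
    (hL : Cfsg.IsComponent L) [Group.IsSolvable (G ⧸ N)] : L ≤ N := by
  rcases component_le_or_commute hL (isSubnormal_of_normal N) with h | h
  · exact h
  intro x hx
  rw [← QuotientGroup.eq_one_iff (N := N)]
  by_contra hne
  have hperfL : ⁅L, L⁆ = L := isComponent_commutator_eq_self hL
  haveI : Group.IsPerfect ↥(L.map (QuotientGroup.mk' N)) := by
    rw [Subgroup.isPerfect_iff, ← map_commutator, hperfL]
  haveI : Nontrivial ↥(L.map (QuotientGroup.mk' N)) := by
    rw [nontrivial_iff_ne_bot]
    intro hb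
    exact hne (mem_bot.mp (hb ▸ mem_map_of_mem (QuotientGroup.mk' N) hx))
  exact Group.IsPerfect.not_isSolvable ↥(L.map (QuotientGroup.mk' N)) inferInstance

theorem exists_unbalanced_component (H : Subgroup G) (hO : Cfsg.oddCore ↥H = ⊥) (t : G)
    (ht : orderOf t = 2) (htH : t ∈ normalizer (H : Set G)) (Y : Subgroup G) (hY1 : Y ≠ ⊥)
    (hY : Y ≤ (Cfsg.oddCore ↥(H ⊓ centralizer ({t} : Set G))).map
      (H ⊓ centralizer ({t} : Set G)).subtype) :
    ∃ E : Subgroup ↥H, Cfsg.IsComponent E ∧
      (E.map H.subtype).map (MulAut.conj t).toMonoidHom = E.map H.subtype ∧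
      Y ≤ normalizer ((E.map H.subtype : Subgroup G) : Set G) ∧
      ¬ (t ∈ centralizer ((E.map H.subtype : Subgroup G) : Set G)) ∧
      ¬ (Y ≤ centralizer ((E.map H.subtype : Subgroup G) : Set G)) := by
  haveI : Fact (Nat.Prime 2) := ⟨Nat.prime_two⟩
  set M := H ⊔ zpowers t with hM
  have hHM : H ≤ M := le_sup_left
  have htM : t ∈ M := mem_sup_right (mem_zpowers t)
  set H' := H.subgroupOf M with hH'
  haveI : H'.Normal := normal_subgroupOf_of_le_normalizer (sup_le le_normalizer (zpowers_le.mpr htH))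
  set t' : ↥M := ⟨t, htM⟩ with ht'
  have hord : orderOf t' = 2 := by rw [← Subgroup.orderOf_coe]; exact ht
  have hYH : Y ≤ H := (hY.trans (map_subtype_le _)).trans inf_le_left
  -- the quotient by `H` is a 2-group
  have hq : IsPGroup 2 (↥M ⧸ H') := by
    intro q
    obtain ⟨⟨m, hm⟩, rfl⟩ := QuotientGroup.mk'_surjective _ q
    have hm' : m ∈ ((H ⊔ zpowers t : Subgroup G) : Set G) := hm
    rw [coe_mul_of_right_le_normalizer_left _ _ (zpowers_le.mpr htH)] at hm'
    obtain ⟨h, hh, w, hw, rfl⟩ := hm'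
    refine ⟨1, ?_⟩
    have hwM : w ∈ M := mem_sup_right hw
    rw [show (⟨h * w, hm⟩ : ↥M) = ⟨h, hHM hh⟩ * ⟨w, hwM⟩ from rfl, map_mul,
      show QuotientGroup.mk' H' (⟨h, hHM hh⟩ : ↥M) = 1 from (QuotientGroup.eq_one_iff _).mpr hh,
      one_mul, ← map_pow]
    refine (QuotientGroup.eq_one_iff _).mpr ?_
    obtain ⟨i, rfl⟩ := mem_zpowers_iff.mp hw
    show ((⟨t ^ i, hwM⟩ : ↥M) ^ 2 ^ 1 : ↥M).1 ∈ H
    rw [SubmonoidClass.coe_pow, pow_one, ← zpow_natCast (t ^ i) 2, ← zpow_mul, mul_comm, zpow_mul,
      zpow_natCast, ← ht, pow_orderOf_eq_one, one_zpow]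
    exact one_mem H
  -- `O(M) = 1`
  have hOM : Cfsg.pPrimeCore 2 ↥M = ⊥ := by
    have hle : Cfsg.pPrimeCore 2 ↥M ≤ H' := by
      intro x hx
      rw [← QuotientGroup.eq_one_iff (N := H')]
      obtain ⟨k, hk⟩ := hq (QuotientGroup.mk' H' x)
      refine eq_one_of_pow_prime_pow_of_coprime (pPrimeCore_coprime (G := ↥M) (p := 2)) hk ?_
      change QuotientGroup.mk' H' x ^ _ = 1
      rw [← map_pow, show x ^ Nat.card ↥(Cfsg.pPrimeCore 2 ↥M) = 1 from
        congrArg Subtype.val (pow_card_eq_one' (x := (⟨x, hx⟩ : ↥(Cfsg.pPrimeCore 2 ↥M)))), map_one]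
    have h1 := map_subtype_pPrimeCore_of_subnormal (p := 2) (isSubnormal_of_normal H')
    rw [inf_eq_left.mpr hle] at h1
    rw [← h1, Subgroup.map_eq_bot_iff_of_injective _ H'.subtype_injective,
      ← map_pPrimeCore_equiv (subgroupOfEquivOfLe hHM).symm]
    rw [Subgroup.map_eq_bot_iff_of_injective _ (MulEquiv.injective _)]
    exact hO
  set Y' := Y.subgroupOf M with hY'
  set C := H ⊓ centralizer ({t} : Set G) with hC
  set S := (Cfsg.oddCore ↥C).map C.subtype with hS
  have hYX : Y' ≤ Cfsg.centralizerPPrimeCore 2 t' := by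
    have hSC : S.subgroupOf M ≤ centralizer ({t'} : Set ↥M) := fun s hs =>
      mem_centralizer_singleton_iff.mpr (Subtype.ext
        (mem_centralizer_singleton_iff.mp ((map_subtype_le _ hs : (s : G) ∈ C).2)))
    have hn : centralizer ({t'} : Set ↥M) ≤ normalizer (S.subgroupOf M : Set ↥M) := by
      intro m hm
      have hmC : (m : G) ∈ normalizer (C : Set G) := by
        apply mem_normalizer_of_map_conj_eq
        rw [hC, Subgroup.map_inf _ _ _ (MulAut.conj (m : G)).injective,
          map_conj_eq_of_mem_normalizer (sup_le le_normalizer (zpowers_le.mpr htH) m.2),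
          map_conj_eq_of_mem_normalizer (le_normalizer (mem_centralizer_singleton_iff.mpr
            (congrArg Subtype.val (mem_centralizer_singleton_iff.mp hm))))]
      rw [mem_normalizer_iff]
      intro y
      exact mem_normalizer_iff.mp (le_normalizer_coreOf C hmC) (y : G)
    have h1 : (S.subgroupOf M).subgroupOf (centralizer ({t'} : Set ↥M)) ≤
        Cfsg.pPrimeCore 2 ↥(centralizer ({t'} : Set ↥M)) := by
      refine le_pPrimeCore (normal_subgroupOf_of_le_normalizer hn) ?_
      rw [Nat.card_congr (subgroupOfEquivOfLe hSC).toEquiv,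
        ← card_map_of_injective (K := S.subgroupOf M) M.subtype_injective, subgroupOf_map_subtype]
      refine Nat.Coprime.coprime_dvd_left (card_dvd_of_le inf_le_left) ?_
      rw [hS, card_map_of_injective C.subtype_injective]
      exact pPrimeCore_coprime
    have h2 := Subgroup.map_mono (f := (centralizer ({t'} : Set ↥M)).subtype) h1
    rw [map_subgroupOf_eq_of_le hSC] at h2
    have h3 : Y' ≤ S.subgroupOf M := fun y hy => hY hy
    exact h3.trans h2
  have hYc : (Nat.card ↥Y').Coprime 2 :=
    (centralizerPPrimeCore_coprime (p := 2) t').coprime_dvd_left (card_dvd_of_le hYX)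
  have hY'1 : Y' ≠ ⊥ := fun h => hY1 (by
    rw [← map_subgroupOf_eq_of_le (hYH.trans hHM), ← hY', h, Subgroup.map_bot])
  have htp : IsPGroup 2 ↥(zpowers t') := isPGroup_zpowers_of_pow_eq_one (k := 1)
    (by rw [pow_one, ← hord, pow_orderOf_eq_one])
  have hYC : Y' ≤ centralizer (Cfsg.pCore 2 ↥M : Set ↥M) :=
    hYX.trans ((centralizerPPrimeCore_le_lstar t').trans (lstar_normalizer_le_centralizer_pCore htp))
  obtain ⟨L, hL, hLt, hLY⟩ : ∃ L : Subgroup ↥M, Cfsg.IsComponent L ∧ ⁅L, zpowers t'⁆ = L ∧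
      ¬ Y' ≤ centralizer (L : Set ↥M) := by
    by_contra hc
    push Not at hc
    refine hY'1 (eq_bot_of_centralizes_fStar hOM ?_ hYC hYc)
    rw [le_centralizer_iff, layer_le_iff]
    intro L hL
    by_cases hne : ⁅L, zpowers t'⁆ = L
    · exact le_centralizer_iff.mp (hc L hL hne)
    · exact commutator_eq_bot_iff_le_centralizer.mp (le_bot_iff.mp
        ((commutator_mono le_rfl hYX).trans
          (component_commute_centralizerPPrimeCore hOM hord hL hne).le))
  haveI : Group.IsSolvable (↥M ⧸ H') := by haveI := hq.isNilpotent; infer_instance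
  have hLH : L ≤ H' := component_le_of_solvable_quotient hL
  set E := (L.subgroupOf H').map (subgroupOfEquivOfLe hHM).toMonoidHom with hE
  have hEmap : E.map H.subtype = L.map M.subtype := by
    rw [hE, map_map]
    conv_rhs => rw [← map_subgroupOf_eq_of_le hLH, map_map]
    rfl
  have htn : t' ∈ normalizer (L : Set ↥M) := by
    have h1 := normalizer_commutator_ge_right L (zpowers t')
    rw [hLt] at h1
    exact h1 (mem_zpowers t')
  refine ⟨E, isComponent_map_equiv _ (isComponent_subgroupOf hL hLH), ?_, ?_, ?_, ?_⟩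
  · rw [hEmap]
    conv_rhs => rw [← map_conj_eq_of_mem_normalizer htn, map_map]
    rw [map_map]
    rfl
  · rw [hEmap]
    intro y hy
    have h1 : (⟨y, hYH.trans hHM hy⟩ : ↥M) ∈ normalizer (L : Set ↥M) :=
      lstar_normalizer_le_normalizer_component hOM hL htp (centralizerPPrimeCore_le_lstar t' (hYX hy))
    apply mem_normalizer_of_map_conj_eq
    conv_rhs => rw [← map_conj_eq_of_mem_normalizer h1, map_map]
    rw [map_map]
    rfl
  · rw [hEmap]
    intro h
    refine isComponent_ne_bot hL ?_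
    rw [← hLt, commutator_eq_bot_iff_le_centralizer, le_centralizer_iff]
    exact zpowers_le.mpr (mem_centralizer_iff.mpr fun l hl =>
      Subtype.ext (mem_centralizer_iff.mp h _ (mem_map_of_mem M.subtype hl)))
  · rw [hEmap]
    intro h
    exact hLY fun y hy => mem_centralizer_iff.mpr fun l hl =>
      Subtype.ext (mem_centralizer_iff.mp (h hy) _ (mem_map_of_mem M.subtype hl))

end Cfsg.Agent.Components
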