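import Cfsg.Agent.Lib.Components.PPrimeCore
import Cfsg.Agent.Lib.Components.Unbalanced
import Cfsg.Agent.Lib.ConjFunctor.Basic
import Cfsg.Agent.Lib.Invol.ZStarCons
import Cfsg.Agent.Lib.InvChar.BrauerSuzuki

/-!
# Perfect groups centralizing a Sylow 2-subgroup of a normal subgroup

If `K` is normal in the finite group `G`, `S` is a Sylow 2-subgroup of `K` and `L` is a perfect
subgroup centralizing `S`, then each 2-element of `L` centralizes `K` modulo `O(K)`. (A consequence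
of the Z* theorem; a variant of a theorem of Glauberman.)
-/

set_option autoImplicit false
set_option linter.unusedSectionVars false
set_option linter.style.haveILetI false

namespace Cfsg.Agent.Components

open scoped commutatorElement
open Subgroup Cfsg ConjFunctor

universe u

variable {G : Type u} [Group G] [Finite G]

local instance : Fact (Nat.Prime 2) := ⟨Nat.prime_two⟩

/-- Modulo its odd core a group with a central Sylow 2-subgroup is covered by that subgroup. -/
theorem exists_core_mul_of_central_sylow {C Z : Subgroup G} (hZ : IsSylIn 2 Z C)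
    (hc : C ≤ centralizer (Z : Set G)) {x : G} (hx : x ∈ C) :
    ∃ k ∈ (Cfsg.pPrimeCore 2 ↥C).map C.subtype, ∃ z ∈ Z, k * z = x := by
  let P : Sylow 2 ↥C := (hZ.2.1.comap_subtype (K := C)).toSylow hZ.2.2
  have hP : ∀ y : ↥C, y ∈ (P : Subgroup ↥C) ↔ (y : G) ∈ Z := fun y => Iff.rfl
  have hnc : normalizer ((P : Subgroup ↥C) : Set ↥C) ≤ centralizer ((P : Subgroup ↥C) : Set ↥C) :=
    fun g _ => mem_centralizer_iff.mpr fun y hy =>
      Subtype.ext (mem_centralizer_iff.mp (hc g.2) (y : G) ((hP y).mp hy))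
  set f := MonoidHom.transferSylow P hnc
  have hcompl : f.ker.IsComplement' (P : Subgroup ↥C) :=
    MonoidHom.ker_transferSylow_isComplement' P hnc
  have hk : f.ker ≤ Cfsg.pPrimeCore 2 ↥C := by
    refine le_pPrimeCore (MonoidHom.normal_ker f) ?_
    rw [Nat.coprime_comm, Nat.prime_two.coprime_iff_not_dvd]
    exact MonoidHom.not_dvd_card_ker_transferSylow P hnc
  have hmem : (⟨x, hx⟩ : ↥C) ∈ ((f.ker ⊔ (P : Subgroup ↥C) : Subgroup ↥C) : Set ↥C) := by
    rw [hcompl.sup_eq_top]; exact mem_top _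
  rw [coe_mul_of_right_le_normalizer_left _ _ le_normalizer_of_normal] at hmem
  obtain ⟨k, hk', z, hz, h⟩ := hmem
  exact ⟨k, mem_map_of_mem _ (hk hk'), z, (hP z).mp hz, congrArg Subtype.val h⟩

/-- A perfect group centralizing a central Sylow 2-subgroup of `C` has commutators in `O(C)` with
every element having commutators in `C`. -/
theorem commutator_mem_core_of_perfect {C L Z : Subgroup G} (hZ : IsSylIn 2 Z C)
    (hcz : C ≤ centralizer (Z : Set G)) (hLZ : L ≤ centralizer (Z : Set G))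
    (hLC : L ≤ normalizer (C : Set G)) (hL : commutator ↥L = ⊤) {n : G}
    (hn : ∀ l ∈ L, ⁅l, n⁆ ∈ C) {l : G} (hl : l ∈ L) :
    ⁅l, n⁆ ∈ (Cfsg.pPrimeCore 2 ↥C).map C.subtype := by
  set O := Cfsg.pPrimeCore 2 ↥C
  -- `L` acts trivially on `C / O(C)`
  have hact : ∀ a ∈ L, ∀ c ∈ C, a * c * a⁻¹ * c⁻¹ ∈ O.map C.subtype := by
    intro a ha c hc
    obtain ⟨k, hk, z, hz, rfl⟩ := exists_core_mul_of_central_sylow hZ hcz hc
    have h1 : a * z = z * a := (mem_centralizer_iff.mp (hLZ ha) z hz).symm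
    have h2 : a * (k * z) * a⁻¹ * (k * z)⁻¹ = a * k * a⁻¹ * k⁻¹ := by
      calc a * (k * z) * a⁻¹ * (k * z)⁻¹ = a * k * a⁻¹ * (a * z) * a⁻¹ * (z⁻¹ * k⁻¹) := by group
        _ = a * k * a⁻¹ * (z * a) * a⁻¹ * (z⁻¹ * k⁻¹) := by rw [h1]
        _ = a * k * a⁻¹ * k⁻¹ := by group
    rw [h2]
    exact mul_mem ((mem_normalizer_iff.mp (le_normalizer_coreOf C (hLC ha)) k).mp hk) (inv_mem hk)
  set π := QuotientGroup.mk' O
  have hcomm : ∀ a b : ↥C ⧸ O, a * b = b * a := by
    intro a b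
    obtain ⟨a, rfl⟩ := QuotientGroup.mk'_surjective _ a
    obtain ⟨b, rfl⟩ := QuotientGroup.mk'_surjective _ b
    obtain ⟨_, ⟨k, hk, rfl⟩, z, hz, hab⟩ := exists_core_mul_of_central_sylow hZ hcz a.2
    have ha : a = k * ⟨z, hZ.1 hz⟩ := Subtype.ext hab.symm
    have hk1 : π k = 1 := (QuotientGroup.eq_one_iff k).mpr hk
    rw [ha, map_mul, hk1, one_mul, ← map_mul, ← map_mul]
    congr 1
    exact Subtype.ext (mem_centralizer_iff.mp (hcz b.2) z hz)
  let f : ↥L →* ↥C ⧸ O :=
    MonoidHom.mk' (fun a => π ⟨⁅(a : G), n⁆, hn a a.2⟩) (fun a b => by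
      obtain ⟨o, ho, hoe⟩ := hact a a.2 _ (hn b b.2)
      have hoe' : (o : G) = (a : G) * ⁅(b : G), n⁆ * (a : G)⁻¹ * ⁅(b : G), n⁆⁻¹ := hoe
      have e : (⟨⁅((a * b : ↥L) : G), n⁆, hn _ (a * b).2⟩ : ↥C) =
          o * (⟨⁅(b : G), n⁆, hn b b.2⟩ * ⟨⁅(a : G), n⁆, hn a a.2⟩) := by
        refine Subtype.ext ?_
        simp only [Subgroup.coe_mul, hoe', commutatorElement_def]
        group
      have ho1 : π o = 1 := (QuotientGroup.eq_one_iff o).mpr ho
      show π _ = π _ * π _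
      rw [e, map_mul, ho1, one_mul, map_mul, hcomm])
  have hker : commutator ↥L ≤ f.ker := by
    rw [_root_.commutator_def, commutator_le]
    intro a _ b _
    rw [MonoidHom.mem_ker, map_commutatorElement, commutatorElement_eq_one_iff_mul_comm]
    exact hcomm _ _
  have h1 : f ⟨l, hl⟩ = 1 := MonoidHom.mem_ker.mp (hker (hL ▸ mem_top _))
  exact mem_map_of_mem C.subtype ((QuotientGroup.eq_one_iff (N := O) _).mp h1)

section fix

variable {K R : Subgroup G} [K.Normal] {u : G}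

/-- The conditions under which `u` is weakly closed in the Sylow 2-subgroup `R`. -/
structure FixHyp (K R : Subgroup G) (u : G) : Prop where
  sylow : IsSylIn 2 R ⊤
  mem : u ∈ R
  central : R ≤ centralizer ({u} : Set G)
  cover : ∀ g : G, ∃ k ∈ K, ∃ i : ℤ, k * u ^ i = g
  key : ∀ Q₀ : Subgroup G, Q₀ ≤ R ⊓ K → ∀ Z : Subgroup G,
    IsSylIn 2 Z (K ⊓ centralizer (Q₀ : Set G)) → Z ≤ Q₀ →
    ∀ n ∈ K, n ∈ normalizer (Q₀ : Set G) → ∃ m : ℕ, m.Coprime 2 ∧ ⁅u, n⁆ ^ m = 1

variable (h : FixHyp K R u)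

include h in
theorem FixHyp.u_comm {r : G} (hr : r ∈ R) : Commute u r :=
  (mem_centralizer_singleton_iff.mp (h.central hr)).symm

include h in
theorem FixHyp.isPGroup : IsPGroup 2 R := h.sylow.2.1

/-- Conjugating a normalized group. -/
theorem cj_centralizer_of_mem {U : Subgroup G} {x : G} (hx : x ∈ normalizer (U : Set G)) :
    cj x (centralizer (U : Set G)) = centralizer (U : Set G) := by
  rw [cj_eq_iff]
  exact normalizer_le_normalizer_centralizer U hx

/-- If a conjugate of a 2-subgroup of `C` by a normalizing element lies in `R`, `R ⊓ C` is a Sylow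
subgroup of `C`. -/
theorem isSylIn_inf_of_conj {C : Subgroup G} (hR : IsPGroup 2 R)
    (hconj : ∀ W : Subgroup G, IsPGroup 2 W → R ⊓ C ≤ W → W ≤ C →
      ∃ x ∈ normalizer (C : Set G), cj x W ≤ R) : IsSylIn 2 (R ⊓ C) C := by
  obtain ⟨W, hW, hle⟩ := exists_isSylIn_ge (p := 2) (inf_le_right : R ⊓ C ≤ C) hR.to_inf_left
  obtain ⟨x, hx, hxR⟩ := hconj W hW.2.1 hle hW.1
  have h1 : cj x W ≤ R ⊓ C := le_inf hxR ((cj_le_cj.mpr hW.1).trans (cj_eq_iff.mpr hx).le)
  have h2 : R ⊓ C = W := by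
    refine eq_of_le_of_card_ge hle ?_
    rw [← cj_card x W]
    exact card_le_of_le h1
  rw [h2]
  exact hW

include h in
/-- The step at a fully normalized subgroup containing its centralizer in `R`. -/
theorem FixHyp.centric_step {U : Subgroup G} (hU : IsFN 2 R U)
    (hC : R ⊓ centralizer (U : Set G) ≤ U) {b x : G} (hb : b ∈ zpowers u)
    (hx : x ∈ normalizer (U : Set G)) : x * b * x⁻¹ = b := by
  have hUR : U ≤ R := hU.1
  have hRp := h.isPGroup
  have huU : u ∈ U := hC ⟨h.mem, mem_centralizer_iff.mpr fun y hy => (h.u_comm (hUR hy)).eq.symm⟩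
  set Q₀ := U ⊓ K with hQ₀
  have hUdec : ∀ v ∈ U, ∃ q ∈ Q₀, ∃ i : ℤ, q * u ^ i = v := by
    intro v hv
    obtain ⟨k, hk, i, rfl⟩ := h.cover v
    refine ⟨k, ⟨?_, hk⟩, i, rfl⟩
    simpa using mul_mem hv (inv_mem (zpow_mem huU i))
  have hNQ : normalizer (U : Set G) ≤ normalizer (Q₀ : Set G) := by
    intro g hg
    rw [← cj_eq_iff, hQ₀, cj_inf, cj_eq_iff.mpr hg, cj_eq_iff.mpr (le_normalizer_of_normal (mem_top g))]
  -- elements of `R` centralizing `Q₀` centralize `U`
  have hW : R ⊓ centralizer (Q₀ : Set G) ≤ U := by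
    rintro r ⟨hr, hrc⟩
    refine hC ⟨hr, mem_centralizer_iff.mpr fun v hv => ?_⟩
    obtain ⟨q, hq, i, rfl⟩ := hUdec v hv
    have h1 : q * r = r * q := mem_centralizer_iff.mp hrc q hq
    have h2 : u ^ i * r = r * u ^ i := ((h.u_comm hr).zpow_left i).eq
    rw [mul_assoc, h2, ← mul_assoc, h1, mul_assoc]
  have hWsyl : IsSylIn 2 (R ⊓ centralizer (Q₀ : Set G)) (centralizer (Q₀ : Set G)) := by
    obtain ⟨W, hWs, hle⟩ := exists_isSylIn_ge (p := 2)
      (inf_le_right : R ⊓ centralizer (Q₀ : Set G) ≤ _) hRp.to_inf_left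
    suffices heq : nS W (R ⊓ centralizer (Q₀ : Set G)) = R ⊓ centralizer (Q₀ : Set G) by
      rw [eq_of_nS_eq hWs.2.1 hle heq]; exact hWs
    set V := R ⊓ centralizer (Q₀ : Set G) with hV
    have hVN : nS W V ≤ normalizer (U : Set G) := by
      intro w hw
      have hwc := hWs.1 hw.1
      refine mem_normalizer_of_conj_le ?_
      rintro _ ⟨v, hv, rfl⟩
      obtain ⟨q, hq, i, rfl⟩ := hUdec v hv
      have huV : u ∈ V := ⟨h.mem, mem_centralizer_iff.mpr fun y hy => (h.u_comm (hUR hy.1)).eq.symm⟩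
      have h1 : w * u ^ i * w⁻¹ ∈ U :=
        hW ((mem_normalizer_iff.mp hw.2 _).mp (zpow_mem huV i))
      have h2 : w * q * w⁻¹ = q := by
        rw [← mem_centralizer_iff.mp hwc q hq, mul_inv_cancel_right]
      have h3 := mul_mem hq.1 h1
      rw [show (MulAut.conj w).toMonoidHom (q * u ^ i) = w * q * w⁻¹ * (w * u ^ i * w⁻¹) by
        simp only [MulEquiv.coe_toMonoidHom, MulAut.conj_apply]; group, h2]
      exact h3
    obtain ⟨m, hm, hmle⟩ := exists_conj_le_of_isSylIn (hU.sylIn hRp) hVN hWs.2.1.to_inf_left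
    refine (eq_of_le_of_card_ge (le_nS hle) ?_).symm
    rw [← cj_card m (nS W V)]
    refine card_le_of_le (le_inf (hmle.trans inf_le_left) ?_)
    calc cj m (nS W V) ≤ cj m (centralizer (Q₀ : Set G)) := cj_le_cj.mpr (inf_le_left.trans hWs.1)
      _ = _ := cj_centralizer_of_mem (hNQ hm)
  have hZ : IsSylIn 2 (R ⊓ (K ⊓ centralizer (Q₀ : Set G))) (K ⊓ centralizer (Q₀ : Set G)) := by
    refine isSylIn_inf_of_conj hRp fun W hWp _ hWle => ?_
    obtain ⟨c, hc, hcle⟩ := exists_conj_le_of_isSylIn hWsyl (hWle.trans inf_le_right) hWp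
    refine ⟨c, ?_, hcle.trans inf_le_left⟩
    rw [← cj_eq_iff, cj_inf, cj_eq_iff.mpr (le_normalizer_of_normal (mem_top c)),
      cj_eq_iff.mpr (le_normalizer hc)]
  have hZle : R ⊓ (K ⊓ centralizer (Q₀ : Set G)) ≤ Q₀ := fun z hz =>
    ⟨hW ⟨hz.1, hz.2.2⟩, hz.2.1⟩
  obtain ⟨k, hk, i, rfl⟩ := h.cover x
  have hkN : k ∈ normalizer (U : Set G) := by
    simpa using mul_mem hx (inv_mem (le_normalizer (zpow_mem huU i)))
  obtain ⟨m, hm, hm1⟩ := h.key Q₀ (inf_le_inf_right K hUR) _ hZ hZle k hk (hNQ hkN)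
  have hmem : ⁅u, k⁆ ∈ U := by
    have h1 : k * u⁻¹ * k⁻¹ ∈ U := (mem_normalizer_iff.mp hkN _).mp (inv_mem huU)
    simpa [commutatorElement_def, mul_assoc] using mul_mem huU h1
  obtain ⟨j, hj⟩ := (hRp.to_le hUR) ⟨_, hmem⟩
  have h1 : ⁅u, k⁆ = 1 :=
    eq_one_of_pow_prime_pow_of_coprime hm (k := j) (congrArg Subtype.val hj) hm1
  have hku : Commute u k := commutatorElement_eq_one_iff_mul_comm.mp h1
  obtain ⟨e, rfl⟩ := mem_zpowers_iff.mp hb
  have h2 : Commute (k * u ^ i) (u ^ e) :=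
    ((hku.zpow_left e).symm).mul_left ((Commute.refl u).zpow_zpow i e)
  rw [h2.eq, mul_inv_cancel_right]

include h in
/-- `u` and its powers are weakly closed in `R`. -/
theorem FixHyp.fix {b : G} (hb : b ∈ zpowers u) :
    ∀ n : ℕ, ∀ V : Subgroup G, V ≤ R → Nat.card R ≤ Nat.card V + n → b ∈ V →
      ∀ x : G, cj x V ≤ R → x * b * x⁻¹ = b := by
  intro n
  induction n using Nat.strong_induction_on with
  | _ n ih =>
  intro V hV hn hbV x hx
  have hRp := h.isPGroup
  let S : Sylow 2 G := hRp.toSylow (by rw [← relIndex_top_right]; exact h.sylow.2.2)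
  have hbigger : ∀ V' : Subgroup G, V' ≤ R → Nat.card V < Nat.card V' → b ∈ V' →
      ∀ y : G, cj y V' ≤ R → y * b * y⁻¹ = b := by
    intro V' hV' hlt hb' y hy
    have := card_le_of_le hV'
    exact ih (Nat.card R - Nat.card V') (by omega) V' hV' (by omega) hb' y hy
  have hN : ∀ U : Subgroup G, IsFN 2 R U → Nat.card U = Nat.card V → b ∈ U →
      ∀ y ∈ normalizer (U : Set G), y * b * y⁻¹ = b := by
    intro U hU hUc hbU y hy
    by_cases hC : R ⊓ centralizer (U : Set G) ≤ U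
    · exact h.centric_step hU hC hb hy
    set Y := R ⊓ centralizer (U : Set G) with hY
    have hYs : IsSylIn 2 Y (centralizer (U : Set G)) := by
      refine isSylIn_inf_of_conj hRp fun W hWp _ hWC => ?_
      obtain ⟨m, hm, hle⟩ := exists_conj_le_of_isSylIn (hU.sylIn hRp)
        (hWC.trans (centralizer_le_normalizer _)) hWp
      exact ⟨m, normalizer_le_normalizer_centralizer U hm, hle.trans inf_le_left⟩
    have h1 := isSylIn_map hYs y
    rw [cj_centralizer_of_mem hy] at h1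
    obtain ⟨c, hc, hce⟩ := isSylIn_conj hYs h1
    have hQ : cj (c * y) (U ⊔ Y) ≤ R := by
      have e1 : cj (c * y) U = U :=
        cj_eq_iff.mpr (mul_mem (centralizer_le_normalizer _ hc) hy)
      have e2 : cj (c * y) Y = Y := by rw [cj_mul, hce]
      have e3 : cj (c * y) (U ⊔ Y) = cj (c * y) U ⊔ cj (c * y) Y := Subgroup.map_sup _ _ _
      rw [e3, e1, e2]
      exact sup_le hU.1 inf_le_left
    have hlt : Nat.card V < Nat.card (U ⊔ Y : Subgroup G) := by
      rw [← hUc]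
      refine lt_of_le_of_ne (card_le_of_le le_sup_left) fun e => hC ?_
      rw [eq_of_le_of_card_ge (le_sup_left : U ≤ U ⊔ Y) e.ge]
      exact le_sup_right
    have h2 := hbigger _ (sup_le hU.1 inf_le_left) hlt (mem_sup_left hbU) _ hQ
    have h3 : y * b * y⁻¹ ∈ U := (mem_normalizer_iff.mp hy b).mp hbU
    have h4 : (y * b * y⁻¹) * c = c * (y * b * y⁻¹) := mem_centralizer_iff.mp hc _ h3
    calc y * b * y⁻¹ = (y * b * y⁻¹) * c * c⁻¹ := by group
      _ = c * (y * b * y⁻¹) * c⁻¹ := by rw [h4]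
      _ = c * y * b * (c * y)⁻¹ := by group
      _ = b := h2
  by_cases hVR : V = R
  · subst hVR
    have hxe : cj x V = V := eq_of_le_of_card_ge hx (by rw [cj_card])
    refine hN V ⟨le_rfl, ?_⟩ rfl hbV x (cj_eq_iff.mp hxe)
    rw [show nS V V = V from le_antisymm inf_le_left (le_inf le_rfl le_normalizer)]
    intro hd
    exact h.sylow.2.2 (hd.trans (by
      rw [relIndex_top_right, ← relIndex_mul_index (le_normalizer (H := V))]
      exact dvd_mul_right _ _))
  have hVlt : Nat.card V < Nat.card (nS R V : Subgroup G) :=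
    lt_of_le_of_ne (card_le_of_le (le_nS hV)) fun e =>
      (lt_nS hRp hV hVR).ne (eq_of_le_of_card_ge (le_nS hV) e.ge)
  obtain ⟨a, ha⟩ := exists_isFN S hV
  have ha' : IsFN 2 R (cj a V) := ha
  set U := cj a V with hUdef
  obtain ⟨m, hm, hm1, hm2⟩ := exists_conj_nS hRp ha' a rfl
  have hxVR : cj x V ≠ R := fun e => hVR (eq_of_le_of_card_ge hV (by rw [← e, cj_card]))
  obtain ⟨m', hm', hm'1, hm'2⟩ := exists_conj_nS hRp ha' (a * x⁻¹) (T := cj x V)
    (by rw [← cj_mul, inv_mul_cancel_right])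
  set z := m' * (a * x⁻¹)
  have h1 := hbigger _ inf_le_left hVlt (le_nS hV hbV) _ (hm2.trans inf_le_left)
  have hbU : b ∈ U := by rw [← h1, ← hm1]; exact conj_mem_cj hbV
  have hy : z * x * (m * a)⁻¹ ∈ normalizer (U : Set G) := by
    have e : z * x * (m * a)⁻¹ = m' * m⁻¹ := by simp [z, mul_assoc]
    rw [e]; exact mul_mem hm' (inv_mem hm)
  have h2 := hN U ha' (cj_card a V) hbU _ hy
  have h3 : z * (x * b * x⁻¹) * z⁻¹ = b := by
    calc z * (x * b * x⁻¹) * z⁻¹ = z * x * (m * a)⁻¹ * ((m * a) * b * (m * a)⁻¹) *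
          (z * x * (m * a)⁻¹)⁻¹ := by group
      _ = b := by rw [h1]; exact h2
  set V'' := cj z (nS R (cj x V)) with hV''
  have hlt : Nat.card V < Nat.card V'' := by
    rw [hV'', cj_card, ← cj_card x V]
    exact lt_of_le_of_ne (card_le_of_le (le_nS hx)) fun e =>
      (lt_nS hRp hx hxVR).ne (eq_of_le_of_card_ge (le_nS hx) e.ge)
  have hb'' : b ∈ V'' := by
    rw [← h3]; exact conj_mem_cj (le_nS hx (conj_mem_cj hbV))
  have h4 := hbigger V'' (hm'2.trans inf_le_left) hlt hb'' z⁻¹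
    (by rw [hV'', cj_inv_cj]; exact inf_le_left)
  rw [inv_inv] at h4
  calc x * b * x⁻¹ = z⁻¹ * (z * (x * b * x⁻¹) * z⁻¹) * z := by group
    _ = z⁻¹ * b * z := by rw [h3]
    _ = b := h4

include h in
theorem FixHyp.commutator_mem_oddCore (g : G) : u * g * u⁻¹ * g⁻¹ ∈ Cfsg.oddCore G := by
  let P : Sylow 2 G := h.isPGroup.toSylow (by rw [← relIndex_top_right]; exact h.sylow.2.2)
  refine Invol.central_mod_oddCore InvChar.zstarHyp P (show u ∈ P from h.mem) (fun b hb y hy => ?_) g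
  refine h.fix hb (Nat.card R) (zpowers b)
    (zpowers_le.mpr ((zpowers_le.mpr h.mem) hb)) (Nat.le_add_left _ _) (mem_zpowers b) y ?_
  rintro _ ⟨v, hv, rfl⟩
  obtain ⟨i, rfl⟩ := mem_zpowers_iff.mp hv
  rw [map_zpow]
  exact zpow_mem (show y * b * y⁻¹ ∈ R from hy) i

end fix

/-- Main lemma: a 2-element of a perfect group centralizing a Sylow 2-subgroup of the normal
subgroup `K` centralizes `K` modulo `O(K)`. -/
theorem commutator_mem_core_of_centralizes_sylow {K S L : Subgroup G} [K.Normal]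
    (hS : IsSylIn 2 S K) (hLS : L ≤ centralizer (S : Set G)) (hL : commutator ↥L = ⊤) {u : G}
    (hu : u ∈ L) {j : ℕ} (huj : u ^ 2 ^ j = 1) {k : G} (hk : k ∈ K) :
    ⁅u, k⁆ ∈ Cfsg.pPrimeCore 2 G := by
  set H := K ⊔ zpowers u with hH
  have hKH : K ≤ H := le_sup_left
  have huH : u ∈ H := mem_sup_right (mem_zpowers u)
  set R := S ⊔ zpowers u with hR
  have huS : zpowers u ≤ normalizer (S : Set G) :=
    (zpowers_le.mpr (hLS hu)).trans (centralizer_le_normalizer _)
  have hRp : IsPGroup 2 R := by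
    refine IsPGroup.to_sup_of_normal_left' hS.2.1 ?_ huS
    intro x
    obtain ⟨i, hi⟩ := mem_zpowers_iff.mp x.2
    exact ⟨j, Subtype.ext (by
      rw [SubmonoidClass.coe_pow, ← hi, ← zpow_natCast, ← zpow_mul, mul_comm, zpow_mul,
        zpow_natCast, huj, one_zpow, OneMemClass.coe_one])⟩
  have hRH : R ≤ H := sup_le (hS.1.trans hKH) le_sup_right
  have hcov : ∀ g ∈ H, ∃ x ∈ K, ∃ i : ℤ, x * u ^ i = g := by
    intro g hg
    rw [hH, ← SetLike.mem_coe, normal_mul] at hg
    obtain ⟨x, hx, _, ⟨i, rfl⟩, rfl⟩ := hg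
    exact ⟨x, hx, i, rfl⟩
  have hRsyl : IsSylIn 2 R H := by
    obtain ⟨T, hT, hle⟩ := exists_isSylIn_ge (p := 2) hRH hRp
    suffices T = R from this ▸ hT
    refine le_antisymm (fun x hx => ?_) hle
    obtain ⟨y, hy, i, rfl⟩ := hcov x (hT.1 hx)
    have hy' : y ∈ T := by
      simpa using mul_mem hx (inv_mem (zpow_mem (hle (mem_sup_right (mem_zpowers u))) i))
    have e : T ⊓ K = S := eq_of_isSylIn_of_le hS (le_inf (le_sup_left.trans hle) hS.1) inf_le_right
      hT.2.1.to_inf_left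
    exact mul_mem (mem_sup_left (e.le ⟨hy', hy⟩)) (mem_sup_right (zpow_mem (mem_zpowers u) i))
  set ι := H.subtype with hι
  have hιi : Function.Injective ι := H.subtype_injective
  haveI : (K.subgroupOf H).Normal := inferInstance
  have hmapK : (K.subgroupOf H).map ι = K := map_subgroupOf_eq_of_le hKH
  have hmapR : (R.subgroupOf H).map ι = R := map_subgroupOf_eq_of_le hRH
  have hfix : FixHyp (K.subgroupOf H) (R.subgroupOf H) (⟨u, huH⟩ : ↥H) := by
    refine ⟨⟨le_top, hRsyl.2.1.comap_subtype, ?_⟩, mem_sup_right (mem_zpowers u), fun r hr => ?_,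
      fun g => ?_, fun Q₀ hQ₀ Z hZ hZQ n hn hnQ => ?_⟩
    · rw [relIndex_top_right]; exact hRsyl.2.2
    · have hc : R ≤ centralizer ({u} : Set G) := by
        refine sup_le (fun s hs => ?_) (zpowers_le.mpr (mem_centralizer_singleton_iff.mpr rfl))
        exact mem_centralizer_singleton_iff.mpr (mem_centralizer_iff.mp (hLS hu) s hs)
      exact mem_centralizer_singleton_iff.mpr (Subtype.ext (mem_centralizer_singleton_iff.mp (hc hr)))
    · obtain ⟨x, hx, i, hi⟩ := hcov g g.2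
      exact ⟨⟨x, hKH hx⟩, hx, i, Subtype.ext (by simpa using hi)⟩
    · set Q := Q₀.map ι with hQ
      set C := K ⊓ centralizer (Q : Set G) with hC
      have hQS : Q ≤ S := by
        have h1 : Q ≤ R ⊓ K := by
          refine (Subgroup.map_mono hQ₀).trans ?_
          rw [Subgroup.map_inf _ _ _ hιi, hmapK, hmapR]
        exact h1.trans
          (eq_of_isSylIn_of_le hS (le_inf le_sup_left hS.1) inf_le_right hRp.to_inf_left).le
      have hmapC : ((K.subgroupOf H) ⊓ centralizer (Q₀ : Set ↥H)).map ι = C := by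
        ext g
        constructor
        · rintro ⟨y, ⟨hy, hyc⟩, rfl⟩
          refine ⟨hy, mem_centralizer_iff.mpr ?_⟩
          rintro _ ⟨q, hq, rfl⟩
          exact congrArg Subtype.val (mem_centralizer_iff.mp hyc q hq)
        · rintro ⟨hg, hgc⟩
          exact ⟨⟨g, hKH hg⟩, ⟨hg, mem_centralizer_iff.mpr fun q hq =>
            Subtype.ext (mem_centralizer_iff.mp hgc q (mem_map_of_mem ι hq))⟩, rfl⟩
      have hZs : IsSylIn 2 (Z.map ι) C := by
        rw [← hmapC]
        exact ⟨Subgroup.map_mono hZ.1, hZ.2.1.map _, by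
          rw [relIndex_map_map_of_injective _ _ hιi]; exact hZ.2.2⟩
      have hnQ' : (n : G) ∈ normalizer (Q : Set G) := le_normalizer_map ι ⟨n, hnQ, rfl⟩
      have hcz : C ≤ centralizer (Z.map ι : Set G) :=
        fun c hc => centralizer_le (Subgroup.map_mono hZQ) hc.2
      have hLZ : L ≤ centralizer (Z.map ι : Set G) :=
        hLS.trans (centralizer_le ((Subgroup.map_mono hZQ).trans hQS))
      have hLQ : L ≤ centralizer (Q : Set G) := hLS.trans (centralizer_le hQS)
      have hLC : L ≤ normalizer (C : Set G) := fun g hg => by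
        rw [← cj_eq_iff, hC, cj_inf, cj_eq_iff.mpr (le_normalizer_of_normal (mem_top g)),
          cj_centralizer_of_mem (centralizer_le_normalizer _ (hLQ hg))]
      have hmem : ∀ l ∈ L, ⁅l, (n : G)⁆ ∈ C := fun l hl => by
        refine ⟨?_, ?_⟩
        · rw [commutatorElement_def]
          exact K.mul_mem ((inferInstance : K.Normal).conj_mem (n : G) hn l) (K.inv_mem (show (n : G) ∈ K from hn))
        · have hl' := hLQ hl
          have h2 : (n : G) * l⁻¹ * (n : G)⁻¹ ∈ centralizer (Q : Set G) :=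
            (mem_normalizer_iff.mp (normalizer_le_normalizer_centralizer Q hnQ') _).mp (inv_mem hl')
          simpa [commutatorElement_def, mul_assoc] using mul_mem hl' h2
      obtain ⟨o, ho, hoe⟩ := commutator_mem_core_of_perfect hZs hcz hLZ hLC hL hmem hu
      refine ⟨Nat.card (Cfsg.pPrimeCore 2 ↥C), pPrimeCore_coprime, Subtype.ext ?_⟩
      have h1 : o ^ Nat.card (Cfsg.pPrimeCore 2 ↥C) = 1 :=
        congrArg Subtype.val (pow_card_eq_one' (x := (⟨o, ho⟩ : ↥(Cfsg.pPrimeCore 2 ↥C))))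
      have h2 := congrArg C.subtype h1
      rw [map_pow, hoe, map_one] at h2
      simpa [commutatorElement_def] using h2
  -- back to `K`
  set N := (Cfsg.oddCore ↥H).map ι with hN
  have h1 : ⁅u, k⁆ ∈ N ⊓ K := by
    refine ⟨?_, ?_⟩
    · exact ⟨_, hfix.commutator_mem_oddCore ⟨k, hKH hk⟩, by simp [ι, commutatorElement_def]⟩
    · rw [commutatorElement_def]
      exact K.mul_mem ((inferInstance : K.Normal).conj_mem k hk u) (K.inv_mem hk)
  have hKsn : K.IsSubnormal := isSubnormal_of_normal K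
  have hNK : ((N ⊓ K).subgroupOf K).Normal := by
    refine normal_subgroupOf_of_le_normalizer fun g hg => ?_
    have e1 : cj g K = K := cj_eq_iff.mpr (le_normalizer hg)
    have e2 : cj g N = N := cj_eq_iff.mpr (le_normalizer_coreOf H (le_normalizer (hKH hg)))
    rw [← cj_eq_iff, cj_inf, e1, e2]
  have h2 : (N ⊓ K).subgroupOf K ≤ Cfsg.pPrimeCore 2 ↥K := by
    refine le_pPrimeCore hNK ?_
    rw [← card_map_of_injective (K := (N ⊓ K).subgroupOf K) K.subtype_injective,
      map_subgroupOf_eq_of_le inf_le_right]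
    refine Nat.Coprime.coprime_dvd_left (card_dvd_of_le inf_le_left) ?_
    rw [hN, card_map_of_injective hιi]
    exact pPrimeCore_coprime
  have h3 : (⟨⁅u, k⁆, h1.2⟩ : ↥K) ∈ Cfsg.pPrimeCore 2 ↥K := h2 h1
  have h4 : ⁅u, k⁆ ∈ (Cfsg.pPrimeCore 2 ↥K).map K.subtype := ⟨_, h3, rfl⟩
  rw [map_subtype_pPrimeCore_of_subnormal hKsn] at h4
  exact h4.1

end Cfsg.Agent.Components
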