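import Cfsg.Agent.Lib.Components.Signalizer
import Cfsg.Agent.Lib.Components.FStar2
import Cfsg.Agent.Lib.Basics.Schmidt
import Cfsg.Agent.Lib.Invol.Dihedral

/-!
# Thompson's dihedral lemma
-/

set_option autoImplicit false
set_option linter.unusedSectionVars false
set_option linter.style.haveILetI false

namespace Cfsg.Agent.Components

open scoped commutatorElement
open Subgroup Cfsg

variable {G : Type*} [Group G] [Finite G]

theorem mem_or_mul_mem {A B : Subgroup G} (hA : Cfsg.IsElementaryAbelian 2 A) (hB : B ≤ A)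
    (hi : B.relIndex A ≤ 2) {a u : G} (ha : a ∈ A) (haB : a ∉ B) (hu : u ∈ A) :
    u ∈ B ∨ a * u ∈ B := by
  have h2 : (B.subgroupOf A).index = 2 := by
    have h0 : (B.subgroupOf A).index ≠ 0 := Subgroup.index_ne_zero_of_finite
    have h1 : (B.subgroupOf A).index ≠ 1 := fun h => haB (relIndex_eq_one.mp h ha)
    have : (B.subgroupOf A).index ≤ 2 := hi
    omega
  by_cases hub : u ∈ B
  · exact Or.inl hub
  · right
    have h := (mul_mem_iff_of_index_two h2 (a := (⟨a, ha⟩ : ↥A)) (b := ⟨u, hu⟩)).mpr
      ⟨fun h => absurd h haB, fun h => absurd h hub⟩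
    exact h

theorem exists_inverted {A F : Subgroup G} (hA : Cfsg.IsElementaryAbelian 2 A)
    (hF : Odd (Nat.card ↥F)) (hAF : A ≤ normalizer (F : Set G)) {a : G} (ha : a ∈ A)
    (hane : a ∉ centralizer (F : Set G)) :
    ∃ B : Subgroup G, B ≤ A ∧ B.relIndex A ≤ 2 ∧ a ∉ B ∧
      ∃ x ∈ F ⊓ centralizer (B : Set G), x ≠ 1 ∧ a * x * a = x⁻¹ := by
  haveI : Fact (Nat.Prime 2) := ⟨Nat.prime_two⟩
  have h2 : ¬ 2 ∣ Nat.card ↥F := fun h => (Nat.not_even_iff_odd.mpr hF) (even_iff_two_dvd.mpr h)
  have haa : a * a = 1 := by rw [← sq]; exact hA.2 a ha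
  obtain ⟨B, c, hc, hca⟩ : ∃ B : {B : Subgroup G // B ≤ A ∧ B.relIndex A ≤ 2},
      ∃ c ∈ F ⊓ centralizer ((B : Subgroup G) : Set G), a * c ≠ c * a := by
    by_contra h
    push Not at h
    refine hane ?_
    have h1 : F ≤ centralizer ({a} : Set G) :=
      (le_iSup_centralizer_index_le hA h2 hAF).trans (iSup_le fun B c hc => by
        rw [mem_centralizer_singleton_iff]; exact (h B c hc).symm)
    exact mem_centralizer_iff.mpr fun f hf => mem_centralizer_singleton_iff.mp (h1 hf)
  refine ⟨B, B.2.1, B.2.2, fun hab => hca (mem_centralizer_iff.mp hc.2 a hab),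
    c⁻¹ * (a * c * a), ⟨F.mul_mem (F.inv_mem hc.1) ?_, ?_⟩, ?_, ?_⟩
  · have := (mem_normalizer_iff.mp (hAF ha) c).mp hc.1
    rwa [inv_eq_of_mul_eq_one_right haa] at this
  · change c⁻¹ * (a * c * a) ∈ centralizer ((B : Subgroup G) : Set G)
    rw [mem_centralizer_iff]
    intro b hb
    have h1 : Commute b c := mem_centralizer_iff.mp hc.2 b hb
    have h3 : Commute b a := elementary_comm hA (B.2.1 hb) ha
    exact (h1.inv_right.mul_right ((h3.mul_right h1).mul_right h3)).eq
  · intro h
    rw [inv_mul_eq_one] at h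
    apply hca
    conv_lhs => rw [h]
    rw [← mul_assoc, ← mul_assoc, haa, one_mul]
  · have e : (c⁻¹ * (a * c * a))⁻¹ = a⁻¹ * c⁻¹ * a⁻¹ * c := by group
    rw [e, inv_eq_of_mul_eq_one_right haa]
    calc a * (c⁻¹ * (a * c * a)) * a = a * c⁻¹ * a * c * (a * a) := by group
      _ = a * c⁻¹ * a * c := by rw [haa, mul_one]

theorem eq_one_of_odd_self_inv {F : Subgroup G} (hF : Odd (Nat.card ↥F)) {x : G} (hx : x ∈ F)
    (h : x = x⁻¹) : x = 1 := by
  have h2 : orderOf x ∣ 2 := orderOf_dvd_of_pow_eq_one (by rw [sq]; exact mul_eq_one_iff_eq_inv.mpr h)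
  have h3 : orderOf x ∣ Nat.card ↥F := Subgroup.orderOf_dvd_natCard F hx
  exact orderOf_eq_one_iff.mp (Nat.eq_one_of_dvd_coprimes (Nat.coprime_two_left.mpr hF) h2 h3)

/-- An element of `A` centralizing `C_F(x)` centralizes the nilpotent group `F`. -/
theorem centralizes_of_centralizes_selfCentralizing {A F D₀ : Subgroup G} (hn : Group.IsNilpotent ↥F)
    (hD₀ : D₀ ≤ F) (hC : F ⊓ centralizer (D₀ : Set G) ≤ D₀) (hA : Cfsg.IsElementaryAbelian 2 A)
    (hF : Odd (Nat.card ↥F)) (hAF : A ≤ normalizer (F : Set G)) {b : G} (hb : b ∈ A)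
    (hbD : D₀ ≤ centralizer ({b} : Set G)) : F ≤ centralizer ({b} : Set G) := by
  haveI : Fact (Nat.Prime 2) := ⟨Nat.prime_two⟩
  haveI := hn
  set D := F ⊓ centralizer ({b} : Set G) with hD
  by_contra hne
  have hlt : D.subgroupOf F < ⊤ := lt_top_iff_ne_top.mpr fun e =>
    hne ((subgroupOf_eq_top.mp e).trans inf_le_right)
  obtain ⟨y, hy, hy'⟩ := SetLike.exists_of_lt (Group.normalizerCondition_of_isNilpotent (G := ↥F) _ hlt)
  set N := normalizer (D : Set G) ⊓ F with hN
  have hbD' : zpowers b ≤ centralizer (D : Set G) := zpowers_le.mpr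
    (mem_centralizer_iff.mpr fun d hd => mem_centralizer_singleton_iff.mp hd.2)
  have hbN : zpowers b ≤ normalizer (N : Set G) := zpowers_le.mpr (by
    apply mem_normalizer_of_map_conj_eq
    rw [hN, Subgroup.map_inf _ _ _ (MulAut.conj b).injective,
      map_conj_eq_of_mem_normalizer (le_normalizer
        (centralizer_le_normalizer _ (hbD' (mem_zpowers b)))),
      map_conj_eq_of_mem_normalizer (hAF hb)])
  have hND : ⁅D, N⁆ ≤ D := le_normalizer_iff_commutator_le_left.mp inf_le_left
  have h0 : ⁅D, zpowers b⁆ = ⊥ := by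
    rw [commutator_comm, commutator_eq_bot_iff_le_centralizer]; exact hbD'
  have h1 : ⁅⁅N, zpowers b⁆, D⁆ = ⊥ := by
    refine commutator_commutator_eq_bot_of_rotate ?_ ?_
    · rw [commutator_comm (zpowers b) D, h0, commutator_bot_left]
    · exact le_bot_iff.mp ((commutator_mono hND le_rfl).trans h0.le)
  have hle : ⁅N, zpowers b⁆ ≤ D := by
    refine le_trans (le_inf ?_ (commutator_eq_bot_iff_le_centralizer.mp h1)) ((inf_le_inf_left F
      (centralizer_le (SetLike.coe_subset_coe.mpr (le_inf hD₀ hbD : D₀ ≤ D)))).trans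
        (hC.trans (le_inf hD₀ hbD)))
    exact (le_normalizer_iff_commutator_le_left.mp hbN).trans inf_le_right
  have h2 : N ≤ centralizer (zpowers b : Set G) := by
    refine le_centralizer_iff.mp
      (Basics.le_centralizer_of_commutator_commutator_eq_bot (zpowers b) N hbN ?_ ?_ ?_)
    · exact coprime_of_not_dvd ((elementary_isPGroup hA).to_le (zpowers_le.mpr hb))
        (not_dvd_of_le inf_le_right fun h => (Nat.not_even_iff_odd.mpr hF) (even_iff_two_dvd.mpr h))
    · exact Or.inl (Basics.isSolvable_of_le (zpowers_le.mpr hb) (haveI := hA.1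
        isSolvable_of_comm fun u v => IsMulCommutative.is_comm.comm u v))
    · exact le_bot_iff.mp ((commutator_mono hle le_rfl).trans h0.le)
  rw [← subgroupOf_normalizer_eq inf_le_left] at hy
  refine hy' ⟨y.2, ?_⟩
  change (y : G) ∈ centralizer ({b} : Set G)
  rw [mem_centralizer_singleton_iff]
  exact (mem_centralizer_iff.mp (h2 ⟨hy, y.2⟩) b (mem_zpowers b)).symm

theorem thompson_dihedral_family (n : ℕ) : ∀ (F A : Subgroup G), Nat.card ↥F + Nat.card ↥A = n →
    Group.IsNilpotent ↥F → Odd (Nat.card ↥F) → Cfsg.IsElementaryAbelian 2 A →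
    A ≤ normalizer (F : Set G) → A ⊓ centralizer (F : Set G) = ⊥ →
    ∀ d, Nat.card ↥A = 2 ^ d → ∃ a x : Fin d → G, (∀ i, a i ∈ A ∧ a i ≠ 1 ∧ x i ∈ F ∧ x i ≠ 1 ∧
        a i * x i * a i = (x i)⁻¹) ∧ A = ⨆ i, zpowers (a i) ∧
      ∀ i j, i ≠ j → Commute (a i) (x j) ∧ Commute (x i) (x j) := by
  induction n using Nat.strong_induction_on with
  | _ n ih =>
  intro F A hn hFn hFo hA hAF hfaith d hd
  subst hn
  haveI : Fact (Nat.Prime 2) := ⟨Nat.prime_two⟩
  match d, hd with
  | 0, hd =>
    refine ⟨Fin.elim0, Fin.elim0, fun i => i.elim0, ?_, fun i => i.elim0⟩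
    rw [iSup_of_empty]
    exact eq_bot_of_card_eq _ (by simpa using hd)
  | d + 1, hd =>
  -- the extension step
  have step : ∀ (B F' : Subgroup G) (a x : G), B ≤ A → B.relIndex A ≤ 2 → a ∈ A → a ∉ B →
      x ∈ F → x ≠ 1 → x ∈ centralizer (B : Set G) → a * x * a = x⁻¹ → F' ≤ F →
      A ≤ normalizer (F' : Set G) → F' ≤ centralizer ({a} : Set G) → F' ≤ centralizer ({x} : Set G) →
      B ⊓ centralizer (F' : Set G) = ⊥ → ∃ a x : Fin (d + 1) → G, (∀ i, a i ∈ A ∧ a i ≠ 1 ∧ x i ∈ F ∧
        x i ≠ 1 ∧ a i * x i * a i = (x i)⁻¹) ∧ A = ⨆ i, zpowers (a i) ∧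
      ∀ i j, i ≠ j → Commute (a i) (x j) ∧ Commute (x i) (x j) := by
    intro B F' a x hB hi ha haB hx hx1 hxB hinv hF' hAF' hF'a hF'x hBf
    have hrel : B.relIndex A = 2 := by
      have h0 : B.relIndex A ≠ 0 := Subgroup.index_ne_zero_of_finite (H := B.subgroupOf A)
      have h1 : B.relIndex A ≠ 1 := fun h => haB (relIndex_eq_one.mp h ha)
      omega
    have hBc : Nat.card ↥B = 2 ^ d := by
      have h := relIndex_mul_relIndex ⊥ B A bot_le hB
      rw [relIndex_bot_left, relIndex_bot_left, hrel, hd, pow_succ] at h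
      omega
    haveI := hFn
    obtain ⟨as, xs, hprop, hgen, hcomm⟩ := ih (Nat.card ↥F' + Nat.card ↥B) (by
      have := Subgroup.card_le_of_le hF'
      have := pow_pos (show 0 < 2 by norm_num) d
      rw [hd, hBc, pow_succ]; omega) F' B rfl
      (Basics.isNilpotent_of_le' hF' hFn) (hFo.of_dvd_nat (card_dvd_of_le hF'))
      (elementary_mono hA hB) (hB.trans hAF') hBf d hBc
    refine ⟨Fin.cons a as, Fin.cons x xs, fun i => ?_, ?_, fun i j hij => ?_⟩
    · refine Fin.cases ?_ (fun i => ?_) i
      · exact ⟨ha, fun h => haB (by have h' : a = 1 := h; rw [h']; exact one_mem B), hx, hx1, hinv⟩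
      · obtain ⟨h1, h2, h3, h4, h5⟩ := hprop i
        exact ⟨hB h1, h2, hF' h3, h4, h5⟩
    · apply le_antisymm
      · intro u hu
        have ha' : a ∈ ⨆ i, zpowers ((Fin.cons a as : Fin (d + 1) → G) i) :=
          le_iSup (fun i => zpowers ((Fin.cons a as : Fin (d + 1) → G) i)) 0 (mem_zpowers _)
        have hB' : B ≤ ⨆ i, zpowers ((Fin.cons a as : Fin (d + 1) → G) i) :=
          hgen ▸ iSup_le fun i => le_iSup_of_le i.succ (by simp)
        rcases mem_or_mul_mem hA hB hi ha haB hu with h | h
        · exact hB' h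
        · simpa using mul_mem (inv_mem ha') (hB' h)
      · refine iSup_le fun i => zpowers_le.mpr ?_
        refine Fin.cases ha (fun i => hB (hprop i).1) i
    · induction i using Fin.cases with
      | zero =>
        induction j using Fin.cases with
        | zero => exact absurd rfl hij
        | succ j =>
          simp only [Fin.cons_zero, Fin.cons_succ]
          exact ⟨(mem_centralizer_singleton_iff.mp (hF'a (hprop j).2.2.1)).symm,
            (mem_centralizer_singleton_iff.mp (hF'x (hprop j).2.2.1)).symm⟩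
      | succ i =>
        induction j using Fin.cases with
        | zero =>
          simp only [Fin.cons_zero, Fin.cons_succ]
          exact ⟨mem_centralizer_iff.mp hxB _ (hprop i).1,
            mem_centralizer_singleton_iff.mp (hF'x (hprop i).2.2.1)⟩
        | succ j =>
          simp only [Fin.cons_succ]
          exact hcomm i j fun h => hij (congrArg Fin.succ h)
  have hAne : ∀ a ∈ A, a ≠ 1 → a ∉ centralizer (F : Set G) := fun a ha ha1 h =>
    ha1 (mem_bot.mp (hfaith ▸ mem_inf.mpr ⟨ha, h⟩))
  obtain ⟨a₀, ha₀, ha₀1⟩ := elementary_exists_ne_one (p := 2) (B := A)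
    (hd ▸ Nat.le_self_pow (by omega) 2)
  by_cases hab : F ≤ centralizer (F : Set G)
  · -- abelian case
    obtain ⟨a, ⟨ha, ha1⟩, hmax⟩ := (Set.toFinite {a : G | a ∈ A ∧ a ≠ 1}).exists_maximalFor
      (fun a => F ⊓ centralizer ({a} : Set G)) _ ⟨a₀, ha₀, ha₀1⟩
    obtain ⟨B, hB, hi, haB, x, hx, hx1, hinv⟩ := exists_inverted hA hFo hAF ha (hAne a ha ha1)
    refine step B (F ⊓ centralizer {a}) a x hB hi ha haB hx.1 hx1 hx.2 hinv inf_le_left ?_
      inf_le_right ?_ ?_
    · intro u hu
      apply mem_normalizer_of_map_conj_eq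
      rw [Subgroup.map_inf _ _ _ (MulAut.conj u).injective, map_conj_eq_of_mem_normalizer (hAF hu),
        map_conj_eq_of_mem_normalizer (le_normalizer (zpowers_le_centralizer_self hA ha hu))]
    · intro f hf
      rw [mem_centralizer_singleton_iff]
      exact (mem_centralizer_iff.mp (hab hx.1) f hf.1)
    · refine eq_bot_iff.mpr fun b hb => mem_bot.mpr ?_
      obtain ⟨hbB, hbC⟩ := hb
      by_contra hb1
      have hle : F ⊓ centralizer ({a} : Set G) ≤ F ⊓ centralizer ({b} : Set G) :=
        le_inf inf_le_left fun f hf => mem_centralizer_singleton_iff.mpr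
          (mem_centralizer_iff.mp hbC f hf)
      have hge := hmax ⟨hB hbB, hb1⟩ hle
      have hall : F ≤ centralizer ({a * b} : Set G) := by
        refine (le_iSup_centralizer_index_le hA (fun h => (Nat.not_even_iff_odd.mpr hFo)
          (even_iff_two_dvd.mpr h)) hAF).trans (iSup_le fun C f hf => ?_)
        rw [mem_centralizer_singleton_iff]
        by_cases haC : a ∈ (C : Subgroup G)
        · have h1 : f ∈ F ⊓ centralizer ({a} : Set G) := ⟨hf.1, mem_centralizer_singleton_iff.mpr
            (mem_centralizer_iff.mp hf.2 a haC).symm⟩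
          exact ((show Commute f a from mem_centralizer_singleton_iff.mp h1.2).mul_right
            (show Commute f b from mem_centralizer_singleton_iff.mp (hle h1).2)).eq
        · rcases mem_or_mul_mem hA C.2.1 C.2.2 ha haC (hB hbB) with hbC' | hbC'
          · have h1 : f ∈ F ⊓ centralizer ({b} : Set G) := ⟨hf.1, mem_centralizer_singleton_iff.mpr
              (mem_centralizer_iff.mp hf.2 b hbC').symm⟩
            exact ((show Commute f a from mem_centralizer_singleton_iff.mp (hge h1).2).mul_right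
              (show Commute f b from mem_centralizer_singleton_iff.mp h1.2)).eq
          · exact (mem_centralizer_iff.mp hf.2 _ hbC').symm
      have h1 : a * b = 1 := by
        by_contra h
        exact hAne _ (mul_mem ha (hB hbB)) h
          (mem_centralizer_iff.mpr fun f hf => mem_centralizer_singleton_iff.mp (hall hf))
      refine haB ?_
      have : a = b⁻¹ := eq_inv_of_mul_eq_one_left h1
      rw [this]; exact inv_mem hbB
  · set Z := F ⊓ centralizer (F : Set G) with hZ
    have hAZ : A ≤ normalizer (Z : Set G) := by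
      intro u hu
      apply mem_normalizer_of_map_conj_eq
      rw [hZ, Subgroup.map_inf _ _ _ (MulAut.conj u).injective, map_conj_eq_of_mem_normalizer (hAF hu),
        map_conj_eq_of_mem_normalizer]
      -- the centralizer of `F` is normalized
      rw [mem_normalizer_iff]
      have key : ∀ v ∈ A, ∀ z ∈ centralizer (F : Set G), v * z * v⁻¹ ∈ centralizer (F : Set G) := by
        intro v hv z hz
        rw [mem_centralizer_iff]
        intro f hf
        have := mem_centralizer_iff.mp hz _ ((mem_normalizer_iff.mp (hAF (inv_mem hv)) f).mp hf)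
        simp only [inv_inv] at this
        calc f * (v * z * v⁻¹) = v * (v⁻¹ * f * v * z) * v⁻¹ := by group
          _ = v * (z * (v⁻¹ * f * v)) * v⁻¹ := by rw [this]
          _ = v * z * v⁻¹ * f := by group
      intro z
      refine ⟨key u hu z, fun hz => ?_⟩
      have := key u⁻¹ (inv_mem hu) _ hz
      simpa [mul_assoc] using this
    have hZlt : Nat.card ↥Z < Nat.card ↥F :=
      Basics.card_lt_of_lt (lt_of_le_of_ne inf_le_left fun e => hab (inf_eq_left.mp e))
    by_cases hZf : A ⊓ centralizer (Z : Set G) = ⊥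
    · obtain ⟨as, xs, hp, hg, hc⟩ := ih (Nat.card ↥Z + Nat.card ↥A) (by omega) Z A rfl
        (Basics.isNilpotent_of_le' inf_le_left hFn) (hFo.of_dvd_nat (card_dvd_of_le inf_le_left))
        hA hAZ hZf (d + 1) hd
      exact ⟨as, xs, fun i => ⟨(hp i).1, (hp i).2.1, (hp i).2.2.1.1, (hp i).2.2.2⟩, hg, hc⟩
    · obtain ⟨⟨a, ha, haZ⟩, ha1⟩ := ne_bot_iff_exists_ne_one.mp hZf
      have ha1' : a ≠ 1 := fun h => ha1 (Subtype.ext h)
      obtain ⟨B, hB, hi, haB, x, hx, hx1, hinv⟩ := exists_inverted hA hFo hAF ha (hAne a ha ha1')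
      have hxZ : x ∉ Z := by
        intro h
        refine hx1 (eq_one_of_odd_self_inv hFo hx.1 ?_)
        rw [← hinv, mul_assoc, (mem_centralizer_iff.mp haZ x h), ← mul_assoc,
          show a * a = 1 by rw [← sq]; exact hA.2 a ha, one_mul]
      set F' := F ⊓ centralizer ({x} : Set G) with hF'
      have hAF' : A ≤ normalizer (F' : Set G) := by
        intro u hu
        apply mem_normalizer_of_map_conj_eq
        have hux : u * x * u⁻¹ = x ∨ u * x * u⁻¹ = x⁻¹ := by
          rcases mem_or_mul_mem hA hB hi ha haB hu with h | h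
          · left; rw [mem_centralizer_iff.mp hx.2 u h, mul_inv_cancel_right]
          · right
            have haa : a * a = 1 := by rw [← sq]; exact hA.2 a ha
            have h1 : (a * u) * x * (a * u)⁻¹ = x := by
              rw [mem_centralizer_iff.mp hx.2 _ h, mul_inv_cancel_right]
            rw [← hinv]
            calc u * x * u⁻¹ = (a * a) * u * x * u⁻¹ * (a⁻¹ * a) := by rw [haa]; group
              _ = a * ((a * u) * x * (a * u)⁻¹) * a := by group
              _ = a * x * a := by rw [h1]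
        have hC : (centralizer ({x} : Set G)).map (MulAut.conj u).toMonoidHom ≤
            centralizer ({x} : Set G) := by
          rintro _ ⟨z, hz, rfl⟩
          have hz' : Commute z x := mem_centralizer_singleton_iff.mp hz
          rw [mem_centralizer_singleton_iff]
          change u * z * u⁻¹ * x = x * (u * z * u⁻¹)
          rcases hux with h | h
          · calc u * z * u⁻¹ * x = u * z * u⁻¹ * (u * x * u⁻¹) := by rw [h]
              _ = u * (z * x) * u⁻¹ := by group
              _ = u * (x * z) * u⁻¹ := by rw [hz'.eq]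
              _ = (u * x * u⁻¹) * (u * z * u⁻¹) := by group
              _ = _ := by rw [h]
          · have hx' : u * x⁻¹ * u⁻¹ = x := by
              rw [show u * x⁻¹ * u⁻¹ = (u * x * u⁻¹)⁻¹ by group, h, inv_inv]
            calc u * z * u⁻¹ * x = u * z * u⁻¹ * (u * x⁻¹ * u⁻¹) := by rw [hx']
              _ = u * (z * x⁻¹) * u⁻¹ := by group
              _ = u * (x⁻¹ * z) * u⁻¹ := by rw [hz'.inv_right.eq]
              _ = (u * x⁻¹ * u⁻¹) * (u * z * u⁻¹) := by group
              _ = _ := by rw [hx']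
        rw [hF', Subgroup.map_inf _ _ _ (MulAut.conj u).injective,
          map_conj_eq_of_mem_normalizer (hAF hu), eq_of_le_of_card_ge hC (by
            rw [card_map_of_injective (MulAut.conj u).injective])]
      have hxF' : x ∈ F' := ⟨hx.1, mem_centralizer_singleton_iff.mpr rfl⟩
      have hkey : ∀ b ∈ A, F' ≤ centralizer ({b} : Set G) → b ≠ 1 → b ∉ B := by
        intro b hb hbF hb1 hbB
        refine hAne b hb hb1 (mem_centralizer_iff.mpr fun f hf => mem_centralizer_singleton_iff.mp
          (centralizes_of_centralizes_selfCentralizing hFn inf_le_left ?_ hA hFo hAF hb hbF hf))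
        refine le_inf inf_le_left fun f hf => ?_
        rw [mem_centralizer_singleton_iff]
        exact (mem_centralizer_iff.mp hf.2 x hxF').symm
      by_cases hK : A ⊓ centralizer (F' : Set G) = ⊥
      · have hlt : Nat.card ↥F' < Nat.card ↥F :=
          Basics.card_lt_of_lt (lt_of_le_of_ne inf_le_left fun e => hxZ ⟨hx.1,
            mem_centralizer_iff.mpr fun f hf => mem_centralizer_singleton_iff.mp
              ((inf_eq_left.mp e) hf)⟩)
        obtain ⟨as, xs, hp, hg, hc⟩ := ih (Nat.card ↥F' + Nat.card ↥A) (by omega) F' A rfl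
          (Basics.isNilpotent_of_le' inf_le_left hFn) (hFo.of_dvd_nat (card_dvd_of_le inf_le_left))
          hA hAF' hK (d + 1) hd
        exact ⟨as, xs, fun i => ⟨(hp i).1, (hp i).2.1, (hp i).2.2.1.1, (hp i).2.2.2⟩, hg, hc⟩
      · obtain ⟨⟨a', ha', ha'F⟩, ha'1⟩ := ne_bot_iff_exists_ne_one.mp hK
        have ha'1' : a' ≠ 1 := fun h => ha'1 (Subtype.ext h)
        have ha'C : F' ≤ centralizer ({a'} : Set G) := fun f hf =>
          mem_centralizer_singleton_iff.mpr (mem_centralizer_iff.mp ha'F f hf)
        have ha'B := hkey a' ha' ha'C ha'1'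
        have hinv' : a' * x * a' = x⁻¹ := by
          rcases mem_or_mul_mem hA hB hi ha haB ha' with h | h
          · exact absurd h ha'B
          have haa : a * a = 1 := by rw [← sq]; exact hA.2 a ha
          have h1 : Commute (a * a') x := mem_centralizer_iff.mp hx.2 _ h
          have hbb : (a * a') * (a * a') = 1 := by rw [← sq]; exact hA.2 _ (mul_mem ha ha')
          have hca : Commute a (a * a') := (Commute.refl a).mul_right (elementary_comm hA ha ha')
          have e1 : a * (a * a') = a' := by rw [← mul_assoc, haa, one_mul]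
          have e2 : a * a' * a = a' := hca.eq.symm.trans e1
          calc a' * x * a' = (a * (a * a')) * x * ((a * a') * a) := by rw [e1, e2]
            _ = a * (((a * a') * x) * (a * a')) * a := by group
            _ = a * (x * ((a * a') * (a * a'))) * a := by rw [h1.eq]; group
            _ = x⁻¹ := by rw [hbb, mul_one, hinv]
        refine step B F' a' x hB hi ha' ha'B hx.1 hx1 hx.2 hinv' inf_le_left hAF' ha'C
          inf_le_right ?_
        refine eq_bot_iff.mpr fun b hb => mem_bot.mpr ?_
        by_contra hb1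
        exact hkey b (hB hb.1) (fun f hf => mem_centralizer_singleton_iff.mpr
          (mem_centralizer_iff.mp hb.2 f hf)) hb1 hb.1

theorem thompson_dihedral (L A : Subgroup G) (hLs : Group.IsSolvable ↥L)
    (hLodd : Odd (Nat.card ↥L)) (hA : Cfsg.IsElementaryAbelian 2 A) (d : ℕ)
    (hAd : Nat.card ↥A = 2 ^ d) (hAL : A ≤ normalizer (L : Set G))
    (hfaith : A ⊓ centralizer (L : Set G) = ⊥) :
    ∃ (Ai : Fin d → Subgroup G) (Li : Fin d → Subgroup G) (n : Fin d → ℕ),
      (∀ i, Ai i ≤ A ∧ Nat.card ↥(Ai i) = 2 ∧ Li i ≤ L ∧ Odd (n i) ∧ 3 ≤ n i ∧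
        Nonempty (↥(Ai i ⊔ Li i) ≃* DihedralGroup (n i))) ∧ (⨆ i, Ai i) = A ∧
      ∀ i j, i ≠ j → ∀ x ∈ Ai i ⊔ Li i, ∀ y ∈ Ai j ⊔ Li j, x * y = y * x := by
  haveI : Fact (Nat.Prime 2) := ⟨Nat.prime_two⟩
  haveI := hLs
  set F := (Cfsg.fittingSubgroup ↥L).map L.subtype with hF
  have hFL : F ≤ L := map_subtype_le _
  have hAF : A ≤ normalizer (F : Set G) := by
    intro a ha
    apply mem_normalizer_of_map_conj_eq
    let e : ↥L ≃* ↥L := ((MulAut.conj a).subgroupMap L).trans
      (MulEquiv.subgroupCongr (map_conj_eq_of_mem_normalizer (hAL ha)))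
    conv_rhs => rw [hF, ← map_fitting_equiv e, map_map]
    rw [hF, map_map]
    rfl
  have hFn : Group.IsNilpotent ↥F := map_nilpotent fitting_isNilpotent _
  have hfF : A ⊓ centralizer (F : Set G) = ⊥ := by
    refine eq_bot_iff.mpr fun a ha => ?_
    rw [← hfaith]
    refine ⟨ha.1, ?_⟩
    -- `[L, a]` lies in `C_L(F) ≤ F`
    have hCF : L ⊓ centralizer (F : Set G) ≤ F := by
      intro l hl
      refine ⟨⟨l, hl.1⟩, ?_, rfl⟩
      haveI : (centralizer (Cfsg.fittingSubgroup ↥L : Set ↥L)).Normal := normal_centralizer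
      refine solvable_subnormal_centralizing_fitting_le
        (N := centralizer (Cfsg.fittingSubgroup ↥L : Set ↥L)) (isSubnormal_of_normal _)
        inferInstance le_rfl ?_
      rw [mem_centralizer_iff]
      intro f hf
      exact Subtype.ext (mem_centralizer_iff.mp hl.2 _ (mem_map_of_mem L.subtype hf))
    have hz : zpowers a ≤ centralizer (F : Set G) := zpowers_le.mpr ha.2
    have hzn : zpowers a ≤ normalizer (L : Set G) := zpowers_le.mpr (hAL ha.1)
    have hLF : L ≤ normalizer (F : Set G) := by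
      have := le_normalizer_map (H := Cfsg.fittingSubgroup ↥L) L.subtype
      rwa [normalizer_eq_top, ← MonoidHom.range_eq_map, range_subtype] at this
    have h1 : ⁅L, zpowers a⁆ ≤ L ⊓ centralizer (F : Set G) := by
      refine le_inf (le_normalizer_iff_commutator_le_left.mp hzn) ?_
      rw [← commutator_eq_bot_iff_le_centralizer]
      refine commutator_commutator_eq_bot_of_rotate ?_ ?_
      · rw [show ⁅zpowers a, F⁆ = ⊥ from commutator_eq_bot_iff_le_centralizer.mpr hz,
          commutator_bot_left]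
      · refine le_bot_iff.mp ((commutator_mono (le_normalizer_iff_commutator_le_left.mp hLF)
          le_rfl).trans ?_)
        rw [commutator_comm, commutator_eq_bot_iff_le_centralizer.mpr hz]
    have h2 : ⁅⁅L, zpowers a⁆, zpowers a⁆ = ⊥ := by
      refine le_bot_iff.mp ((commutator_mono (h1.trans hCF) le_rfl).trans ?_)
      rw [commutator_comm, commutator_eq_bot_iff_le_centralizer.mpr hz]
    have h3 := Basics.le_centralizer_of_commutator_commutator_eq_bot (zpowers a) L hzn
      (coprime_of_not_dvd ((elementary_isPGroup hA).to_le (zpowers_le.mpr ha.1))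
        fun h => (Nat.not_even_iff_odd.mpr hLodd) (even_iff_two_dvd.mpr h))
      (Or.inr hLs) h2
    exact h3 (mem_zpowers a)
  obtain ⟨a, x, hp, hgen, hcomm⟩ := thompson_dihedral_family _ F A rfl hFn
    (hLodd.of_dvd_nat (card_dvd_of_le hFL)) hA hAF hfF d hAd
  refine ⟨fun i => zpowers (a i), fun i => zpowers (x i), fun i => orderOf (x i), fun i => ?_,
    hgen.symm, fun i j hij u hu v hv => ?_⟩
  · obtain ⟨h1, h2, h3, h4, h5⟩ := hp i
    have haa : a i * a i = 1 := by rw [← sq]; exact hA.2 _ h1
    have hodd : Odd (orderOf (x i)) :=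
      hLodd.of_dvd_nat (Subgroup.orderOf_dvd_natCard L (hFL h3))
    refine ⟨zpowers_le.mpr h1, ?_, zpowers_le.mpr (hFL h3), hodd, ?_, ?_⟩
    · rw [Nat.card_zpowers]; exact orderOf_eq_prime (hA.2 _ h1) h2
    · have h6 : orderOf (x i) ≠ 1 := fun h => h4 (orderOf_eq_one_iff.mp h)
      obtain ⟨k, hk⟩ := hodd
      show 3 ≤ orderOf (x i)
      omega
    · obtain ⟨e⟩ := Invol.nonempty_dihedralEquiv haa
        (show a i * x i * (a i)⁻¹ = (x i)⁻¹ by rw [inv_eq_of_mul_eq_one_right haa]; exact h5)
        (fun h => h2 (orderOf_eq_one_iff.mp (Nat.eq_one_of_dvd_coprimes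
          (Nat.coprime_two_left.mpr hodd) (orderOf_dvd_of_pow_eq_one (hA.2 _ h1))
          (by simpa [Nat.card_zpowers] using Subgroup.orderOf_dvd_natCard (zpowers (x i)) h))))
      refine ⟨(e.trans (MulEquiv.subgroupCongr ?_)).symm⟩
      rw [show ({a i, x i} : Set G) = {a i} ∪ {x i} from rfl, Subgroup.closure_union]
      simp only [zpowers_eq_closure]
  · have hcc : ∀ (s t : Set G), (∀ u ∈ s, ∀ v ∈ t, u * v = v * u) →
        ∀ u ∈ closure s, ∀ v ∈ closure t, u * v = v * u := by
      intro s t h u hu v hv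
      have h1 : closure s ≤ centralizer t := (closure_le _).mpr fun u hu =>
        mem_centralizer_iff.mpr fun v hv => (h u hu v hv).symm
      have h2 : closure t ≤ centralizer (closure s : Set G) := (closure_le _).mpr fun v hv =>
        mem_centralizer_iff.mpr fun u hu => (mem_centralizer_iff.mp (h1 hu) v hv).symm
      exact mem_centralizer_iff.mp (h2 hv) u hu
    have e : ∀ i, zpowers (a i) ⊔ zpowers (x i) = closure ({a i} ∪ {x i}) := fun i => by
      rw [Subgroup.closure_union, zpowers_eq_closure, zpowers_eq_closure]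
    rw [e] at hu hv
    refine hcc _ _ ?_ u hu v hv
    rintro u (rfl | rfl) v (rfl | rfl)
    · exact (elementary_comm hA (hp i).1 (hp j).1).eq
    · exact (hcomm i j hij).1.eq
    · exact (hcomm j i hij.symm).1.eq.symm
    · exact (hcomm i j hij).2.eq

end Cfsg.Agent.Components
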